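import Mathlib
import Cfsg.Agent.Lib.Blocks.Orthogonality
import Cfsg.Agent.Lib.Blocks.Defect

/-!
# Characters of full degree at `p` vanish on `p`-singular elements
-/

namespace Cfsg.Agent.BlockCharsA.DefectZeroVanish

open Cfsg.Agent.Blocks Cfsg.Agent.Characters
open scoped ComplexConjugate

/-- Every prime has a modular ideal. -/
theorem exists_modular {p : ℕ} (hp : p.Prime) : ∃ M : Ideal Cfsg.AlgInt, Cfsg.IsPModular p M := by
  obtain ⟨M, hM, hle⟩ := Ideal.exists_le_maximal (Ideal.span {(p : Cfsg.AlgInt)}) (by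
    rw [Ne, Ideal.span_singleton_eq_top]
    intro hu
    obtain ⟨u, hu⟩ := hu.exists_left_inv
    have hu' : (u : ℂ) * (p : ℂ) = 1 := by
      simpa using congrArg (fun z : Cfsg.AlgInt => (z : ℂ)) hu
    have hint : IsIntegral ℤ (algebraMap ℚ ℂ (p : ℚ)⁻¹) := by
      rw [map_inv₀, map_natCast, ← eq_inv_of_mul_eq_one_left hu']
      exact u.2
    obtain ⟨z, hz⟩ := IsIntegrallyClosed.isIntegral_iff.1
      ((isIntegral_algebraMap_iff (algebraMap ℚ ℂ).injective).1 hint)
    have h1 : (z : ℤ) * (p : ℤ) = 1 := by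
      have : (z : ℚ) * (p : ℚ) = 1 := by
        rw [show (z : ℚ) = algebraMap ℤ ℚ z from rfl, hz,
          inv_mul_cancel₀ (Nat.cast_ne_zero.2 hp.ne_zero)]
      exact_mod_cast this
    have := Int.eq_one_of_mul_eq_one_left (by omega) h1
    have := hp.two_le
    omega)
  exact ⟨M, hp, hM, hle (Ideal.subset_span rfl)⟩

variable {G : Type*} [Group G] [Finite G] {p : ℕ}

/-- A character of full degree at `p` vanishes at the `p`-singular elements. -/
theorem eq_zero_of_singular (hp : p.Prime) (χ : Cfsg.IrrCharacter G)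
    (hχ : p ^ (Nat.card G).factorization p ∣ Cfsg.charDegree (χ : G → ℂ)) {g : G}
    (hg : p ∣ orderOf g) : (χ : G → ℂ) g = 0 := by
  classical
  haveI := Fintype.ofFinite (Cfsg.IrrCharacter G)
  obtain ⟨M, hM⟩ := exists_modular hp
  have hcoef : ∀ x : G, Cfsg.blockCoeff ({χ} : Set (Cfsg.IrrCharacter G)) x =
      ((Cfsg.charDegree (χ : G → ℂ) : ℕ) : ℂ) / (Nat.card G : ℂ) * conj ((χ : G → ℂ) x) := by
    intro x
    rw [blockCoeff_eq_sum, charDegree_cast, Finset.sum_eq_single χ (fun ψ _ hne => by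
      rw [if_neg]; simpa using hne) (by simp), if_pos (Set.mem_singleton χ)]
    ring
  have hint : IntEl M (blockIdem ({χ} : Set (Cfsg.IrrCharacter G))) := fun x => by
    rw [coeff_blockIdem, hcoef]
    exact ring_mul hM (ring_natCast_div hM Nat.card_pos.ne'
      ((hp.pow_dvd_iff_le_factorization (charDegree_pos χ).ne').1 hχ)) (irr_conj_ring hM χ x)
  have h := blockCoeff_eq_zero_of_singular hM hint hg
  rw [hcoef, mul_eq_zero] at h
  refine (map_eq_zero (starRingEnd ℂ)).1 (h.resolve_left ?_)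
  exact div_ne_zero (Nat.cast_ne_zero.2 (charDegree_pos χ).ne') (Nat.cast_ne_zero.2 Nat.card_pos.ne')

end Cfsg.Agent.BlockCharsA.DefectZeroVanish
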