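import Mathlib
import Cfsg.Agent.Lib.Blocks.Block
import Cfsg.Agent.Lib.Blocks.PGroupSum
import Cfsg.Agent.Lib.CharTheory.Clifford

/-!
# Central elements supported on a normal subgroup; blocks and normal `p`-subgroups
-/

set_option linter.style.haveILetI false

namespace Cfsg.Agent.BlockCharsA.NormalSupport

open Cfsg.Agent.Blocks Cfsg.Agent.Characters
open scoped ComplexConjugate

variable {G : Type*} [Group G] [Finite G] {p : ℕ} {M : Ideal Cfsg.AlgInt}

/-- The element of the group algebra of `G` given by one of a subgroup. -/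
noncomputable def push (H : Subgroup G) (z : MonoidAlgebra ℂ H) : MonoidAlgebra ℂ G :=
  ofFun fun g => by classical exact if h : g ∈ H then z.coeff ⟨g, h⟩ else 0

/-- The truncation of an element of the group algebra of `G` to a subgroup. -/
noncomputable def res (H : Subgroup G) (z : MonoidAlgebra ℂ G) : MonoidAlgebra ℂ H :=
  ofFun fun h : H => z.coeff h

variable {H : Subgroup G}

theorem coeff_res (z : MonoidAlgebra ℂ G) (h : H) : (res H z).coeff h = z.coeff h := by
  simp [res]

theorem coeff_push_mem (z : MonoidAlgebra ℂ H) {g : G} (hg : g ∈ H) :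
    (push H z).coeff g = z.coeff ⟨g, hg⟩ := by simp [push, hg]

theorem coeff_push_coe (z : MonoidAlgebra ℂ H) (h : H) : (push H z).coeff h = z.coeff h :=
  coeff_push_mem z h.2

theorem coeff_push_notMem (z : MonoidAlgebra ℂ H) {g : G} (hg : g ∉ H) :
    (push H z).coeff g = 0 := by simp [push, hg]

theorem res_push (z : MonoidAlgebra ℂ H) : res H (push H z) = z :=
  el_ext fun h => by rw [coeff_res, coeff_push_coe]

theorem push_res {z : MonoidAlgebra ℂ G} (hz : ∀ g ∉ H, z.coeff g = 0) : push H (res H z) = z :=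
  el_ext fun g => by
    by_cases hg : g ∈ H
    · rw [coeff_push_mem _ hg, coeff_res]
    · rw [coeff_push_notMem _ hg, hz g hg]

theorem push_one : push H (1 : MonoidAlgebra ℂ H) = 1 :=
  el_ext fun g => by
    classical
    by_cases hg : g ∈ H
    · rw [coeff_push_mem _ hg, MonoidAlgebra.one_def, MonoidAlgebra.one_def,
        MonoidAlgebra.coeff_single, MonoidAlgebra.coeff_single, Finsupp.single_apply,
        Finsupp.single_apply]
      exact if_congr ⟨fun h => congrArg Subtype.val h, fun h => Subtype.ext h⟩ rfl rfl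
    · rw [coeff_push_notMem _ hg, MonoidAlgebra.one_def, MonoidAlgebra.coeff_single,
        Finsupp.single_apply, if_neg]
      exact fun h => hg (h ▸ H.one_mem)

theorem push_mul (x y : MonoidAlgebra ℂ H) : push H (x * y) = push H x * push H y := by
  classical
  haveI := Fintype.ofFinite G
  refine el_ext fun g => ?_
  rw [coeff_mul' (push H x)]
  rw [← Finset.sum_subset (Finset.subset_univ (Finset.univ.filter (· ∈ H))) fun h _ hh => by
    rw [coeff_push_notMem x (by simpa using hh), zero_mul]]
  by_cases hg : g ∈ H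
  · rw [coeff_push_mem _ hg, coeff_mul', Finset.sum_subtype (Finset.univ.filter (· ∈ H))
      (p := (· ∈ H)) (fun u => by simp)]
    refine Finset.sum_congr rfl fun h _ => ?_
    rw [coeff_push_coe, coeff_push_mem _ (H.mul_mem (H.inv_mem h.2) hg)]
    rfl
  · rw [coeff_push_notMem _ hg]
    refine (Finset.sum_eq_zero fun h hh => ?_).symm
    rw [coeff_push_notMem y, mul_zero]
    intro h'
    exact hg (by simpa using H.mul_mem (Finset.mem_filter.1 hh).2 h')

theorem push_injective : Function.Injective (push H) := fun x y h => by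
  rw [← res_push x, h, res_push]

theorem intEl_push (hM : Cfsg.IsPModular p M) {z : MonoidAlgebra ℂ H} (hz : IntEl M z) :
    IntEl M (push H z) := fun g => by
  by_cases hg : g ∈ H
  · rw [coeff_push_mem _ hg]; exact hz _
  · rw [coeff_push_notMem _ hg]; exact ring_zero hM

theorem intEl_res {z : MonoidAlgebra ℂ G} (hz : IntEl M z) : IntEl M (res H z) := fun h => by
  rw [coeff_res]; exact hz _

theorem central_res {z : MonoidAlgebra ℂ G} (hz : IsCentralEl z) :
    IsCentralEl (res H z) := fun g h => by
  rw [coeff_res, coeff_res]; exact hz g h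

/-! ### Constituents over a normal subgroup -/

variable {N : Subgroup G} [hN : N.Normal]

/-- Invariance of an element of the group algebra of a normal subgroup under the whole group. -/
def IsInvEl (z : MonoidAlgebra ℂ N) : Prop :=
  ∀ (g : G) (n : N), z.coeff ⟨g * n * g⁻¹, hN.conj_mem n n.2 g⟩ = z.coeff n

theorem isInvEl_res {z : MonoidAlgebra ℂ G} (hz : IsCentralEl z) :
    IsInvEl (res N z) := fun g n => by rw [coeff_res, coeff_res]; exact hz n g

theorem central_of_isInvEl {z : MonoidAlgebra ℂ N} (hz : IsInvEl z) : IsCentralEl z :=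
  fun g h => hz h g

theorem central_push {z : MonoidAlgebra ℂ N} (hz : IsInvEl z) : IsCentralEl (push N z) := by
  intro g h
  by_cases hg : g ∈ N
  · rw [coeff_push_mem _ hg, coeff_push_mem _ (hN.conj_mem g hg h)]
    exact hz h ⟨g, hg⟩
  · rw [coeff_push_notMem _ hg, coeff_push_notMem]
    intro h'
    exact hg (by simpa [mul_assoc] using hN.conj_mem _ h' h⁻¹)

omit hN in
/-- A scalar comparison on a constituent. -/
theorem evalChar_push [Fintype N] (χ : G → ℂ) (z : MonoidAlgebra ℂ N) :
    evalChar χ (push N z) = ∑ n : N, z.coeff n * χ n := by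
  classical
  haveI := Fintype.ofFinite G
  rw [evalChar_eq_sum, ← Finset.sum_subset (Finset.subset_univ (Finset.univ.filter (· ∈ N)))
    fun h _ hh => by rw [coeff_push_notMem z (by simpa using hh), zero_mul],
    Finset.sum_subtype (Finset.univ.filter (· ∈ N)) (p := (· ∈ N)) (fun u => by simp)]
  exact Finset.sum_congr rfl fun h _ => by rw [coeff_push_coe]

theorem omega_push_eq [Fintype N] (χ : Cfsg.IrrCharacter G) (θ : Cfsg.IrrCharacter N)
    (h : Cfsg.classInner (fun n : N => (χ : G → ℂ) n) (θ : N → ℂ) ≠ 0) {z : MonoidAlgebra ℂ N}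
    (hz : IsInvEl z) :
    omega (χ : G → ℂ) (push N z) = omega (θ : N → ℂ) z := by
  classical
  haveI := Fintype.ofFinite (Cfsg.IrrCharacter N)
  set c := omega (θ : N → ℂ) z
  -- test against the primitive idempotent of `θ`
  set e : MonoidAlgebra ℂ N := fourier fun ψ => if ψ = θ then 1 else 0
  have hev : ∀ w : MonoidAlgebra ℂ N, IsCentralEl w → evalChar (χ : G → ℂ) (push N w) =
      ∑ ψ : Cfsg.IrrCharacter N, Cfsg.classInner (fun n : N => (χ : G → ℂ) n) (ψ : N → ℂ) *
        ((ψ : N → ℂ) 1 * omega (ψ : N → ℂ) w) := by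
    intro w _
    rw [evalChar_push]
    have hexp := classFun_eq_sum (char_isClassFunction
      (isCharacter_restrict N (irr_isCharacter χ)))
    conv_lhs =>
      arg 2
      intro n
      rw [show (χ : G → ℂ) (n : G) = (fun n : N => (χ : G → ℂ) n) n from rfl, hexp]
    simp only [Finset.sum_apply, Pi.smul_apply, smul_eq_mul, Finset.mul_sum]
    rw [Finset.sum_comm]
    refine Finset.sum_congr rfl fun ψ _ => ?_
    rw [omega, mul_div_cancel₀ _ (irr_one_ne_zero ψ.2), evalChar_eq_sum, Finset.mul_sum]
    exact Finset.sum_congr rfl fun n _ => by ring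
  have hz' := central_of_isInvEl hz
  have he : IsCentralEl e := central_fourier _
  have h1 := evalChar_central_mul χ (central_push hz) (push N e)
  rw [← push_mul, hev _ (central_mul hz' he), hev _ he] at h1
  have hsum : ∀ w : MonoidAlgebra ℂ N, IsCentralEl w →
      ∑ ψ : Cfsg.IrrCharacter N, Cfsg.classInner (fun n : N => (χ : G → ℂ) n) (ψ : N → ℂ) *
        ((ψ : N → ℂ) 1 * omega (ψ : N → ℂ) (w * e)) =
      Cfsg.classInner (fun n : N => (χ : G → ℂ) n) (θ : N → ℂ) * (θ : N → ℂ) 1 *
        omega (θ : N → ℂ) w := by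
    intro w hw
    rw [Finset.sum_eq_single θ (fun ψ _ hne => by
      rw [omega_mul ψ hw, omega_fourier, if_neg hne]; ring) (by simp),
      omega_mul θ hw, omega_fourier, if_pos rfl]
    ring
  rw [hsum z hz', show e = 1 * e from (one_mul e).symm, hsum 1 central_one,
    omega_one (irr_one_ne_zero θ.2), mul_one, mul_comm] at h1
  exact (mul_right_cancel₀ (mul_ne_zero h (irr_one_ne_zero θ.2)) h1).symm

theorem exists_under [Fintype N] (χ : Cfsg.IrrCharacter G) :
    ∃ θ : Cfsg.IrrCharacter N,
      Cfsg.classInner (fun n : N => (χ : G → ℂ) n) (θ : N → ℂ) ≠ 0 := by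
  classical
  haveI := Fintype.ofFinite (Cfsg.IrrCharacter N)
  by_contra hne
  push Not at hne
  have hexp := classFun_eq_sum (char_isClassFunction
    (isCharacter_restrict N (irr_isCharacter χ)))
  refine irr_one_ne_zero χ.2 ?_
  have := congrFun hexp 1
  simpa [hne] using this

theorem exists_over [Fintype G] [Fintype N] (θ : Cfsg.IrrCharacter N) :
    ∃ χ : Cfsg.IrrCharacter G,
      Cfsg.classInner (fun n : N => (χ : G → ℂ) n) (θ : N → ℂ) ≠ 0 := by
  classical
  haveI := Fintype.ofFinite (Cfsg.IrrCharacter G)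
  by_contra hne
  push Not at hne
  have hcl := indFun_isClassFunction N (θ : N → ℂ)
  have h0 : Cfsg.indFun N (θ : N → ℂ) = 0 := by
    rw [classFun_eq_sum hcl]
    refine Finset.sum_eq_zero fun χ _ => ?_
    rw [frobenius_reciprocity N (θ : N → ℂ) (irr_isClassFunction χ), classInner_conj_symm,
      hne χ, map_zero, zero_smul]
  have h1 := CharTheory.Clifford.card_mul_indFun_coe N (θ : N → ℂ) 1
  rw [h0] at h1
  simp [CharTheory.Clifford.conjBy_at_one, irr_one_ne_zero θ.2] at h1

/-- An idempotent among the invariant elements is given by a set of characters. -/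
theorem exists_blockIdem_eq {z : MonoidAlgebra ℂ G} (hz : IsCentralEl z) (h : z * z = z) :
    ∃ A : Set (Cfsg.IrrCharacter G), z = blockIdem A ∧
      ∀ χ : Cfsg.IrrCharacter G, χ ∈ A ↔ omega (χ : G → ℂ) z = 1 := by
  classical
  refine ⟨{χ | omega (χ : G → ℂ) z = 1}, central_omega_ext hz (central_blockIdem _) fun χ => ?_,
    fun χ => Iff.rfl⟩
  have h2 := omega_mul χ hz z
  rw [h] at h2
  rw [omega_blockIdem]
  by_cases h1 : omega (χ : G → ℂ) z = 1
  · rw [if_pos (show χ ∈ {χ : Cfsg.IrrCharacter G | omega (χ : G → ℂ) z = 1} from h1), h1]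
  · rw [if_neg (show χ ∉ {χ : Cfsg.IrrCharacter G | omega (χ : G → ℂ) z = 1} from h1)]
    by_contra h0
    exact h1 (mul_right_cancel₀ h0 (h2.symm.trans (one_mul _).symm))

theorem omega_idem {z : MonoidAlgebra ℂ G} (hz : IsCentralEl z) (h : z * z = z)
    (χ : Cfsg.IrrCharacter G) : omega (χ : G → ℂ) z = 0 ∨ omega (χ : G → ℂ) z = 1 := by
  classical
  obtain ⟨A, hA, -⟩ := exists_blockIdem_eq hz h
  rw [hA, omega_blockIdem]
  by_cases hc : χ ∈ A <;> simp [hc]

/-! ### Normal `p`-subgroups -/

theorem omega_classSum_ideal (hM : Cfsg.IsPModular p M) {Q : Subgroup G} [Q.Normal]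
    (hQ : IsPGroup p Q) (χ : Cfsg.IrrCharacter G) {g : G}
    (hg : g ∉ Subgroup.centralizer (Q : Set G)) :
    Cfsg.MemLocalIdeal M (omega (χ : G → ℂ) (classSum g)) := by
  haveI := fact_prime_of_pm hM
  haveI hC : (Subgroup.centralizer (Q : Set G)).Normal := inferInstance
  obtain ⟨n, hn0, hn⟩ := exists_pow_classSumInt_dvd hQ (g := g) fun x hx hxC => hg (by
    obtain ⟨c, hc⟩ := isConj_iff.1 hx
    rw [show g = c⁻¹ * x * c⁻¹⁻¹ by rw [← hc]; group]
    exact hC.conj_mem x hxC c⁻¹)
  have hz := central_classSum g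
  have hid : IdealEl M (classSum g ^ n) := fun x => by
    rw [← classSum_eq_map, ← map_pow, MonoidAlgebra.coeff_mapRingHom]
    simpa using (ideal_intCast_iff hM _).2 (hn x)
  refine ideal_of_pow hM ?_ (n := n) ?_
  · rw [omega_classSum (irr_isClassFunction χ)]; exact centralChar_ring hM χ g
  · rw [← omega_pow χ hz]
    exact omega_ideal hM χ (central_pow hz n) hid

/-- Modulo the local ideal only the part on the centraliser of a normal `p`-subgroup matters. -/
theorem omega_cong_res (hM : Cfsg.IsPModular p M) {Q : Subgroup G} [Q.Normal]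
    (hQ : IsPGroup p Q) (hNQ : Subgroup.centralizer (Q : Set G) ≤ N) (χ : Cfsg.IrrCharacter G)
    {z : MonoidAlgebra ℂ G} (hz : IsCentralEl z) (hi : IntEl M z) :
    Cong M (omega (χ : G → ℂ) z) (omega (χ : G → ℂ) (push N (res N z))) := by
  haveI := Fintype.ofFinite (ConjClasses G)
  set w := z - push N (res N z) with hw
  have hwc : IsCentralEl w := central_sub hz (central_push (isInvEl_res hz))
  have hwi : IntEl M w := intEl_sub hM hi (intEl_push hM (intEl_res hi))
  have h : Cfsg.MemLocalIdeal M (omega (χ : G → ℂ) w) := by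
    rw [central_eq_sum hwc, omega_sum]
    refine ideal_sum hM fun C _ => ?_
    rw [omega_smul]
    by_cases hC : C.out ∈ Subgroup.centralizer (Q : Set G)
    · have : w.coeff C.out = 0 := by
        rw [hw, MonoidAlgebra.coeff_sub, Finsupp.sub_apply, coeff_push_mem _ (hNQ hC), coeff_res,
          sub_self]
      rw [this, zero_mul]; exact ideal_zero hM
    · exact ideal_mul_left hM (hwi _) (omega_classSum_ideal hM hQ χ hC)
  unfold Cong
  rwa [← omega_sub]

/-- The block idempotent is supported on the centraliser of a normal `p`-subgroup. -/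
theorem blockCoeff_eq_zero (hM : Cfsg.IsPModular p M) {Q : Subgroup G} [Q.Normal]
    (hQ : IsPGroup p Q) (hNQ : Subgroup.centralizer (Q : Set G) ≤ N)
    {B : Set (Cfsg.IrrCharacter G)} (hB : Cfsg.IsPBlock M B) {g : G} (hg : g ∉ N) :
    Cfsg.blockCoeff B g = 0 := by
  classical
  haveI := Fintype.ofFinite G
  haveI := Fintype.ofFinite N
  set z := res N (blockIdem B)
  have hzi : IsInvEl z := isInvEl_res (central_blockIdem B)
  have hiz : IntEl M z := intEl_res (intEl_blockIdem hM hB)
  have hval : ∀ (χ : Cfsg.IrrCharacter G) (θ : Cfsg.IrrCharacter N),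
      Cfsg.classInner (fun n : N => (χ : G → ℂ) n) (θ : N → ℂ) ≠ 0 →
      Cong M (omega (θ : N → ℂ) z) (if χ ∈ B then 1 else 0) := by
    intro χ θ h
    rw [← omega_push_eq χ θ h hzi, ← omega_blockIdem]
    exact cong_symm hM (omega_cong_res hM hQ hNQ χ (central_blockIdem B) (intEl_blockIdem hM hB))
  set A : Set (Cfsg.IrrCharacter N) := {θ | Cong M (omega (θ : N → ℂ) z) 1} with hA
  have hAint : IntEl M (blockIdem A) := by
    refine intEl_blockIdem_of_approx hM (central_of_isInvEl hzi) hiz (fun θ h => h) fun θ h => ?_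
    obtain ⟨χ, hχ⟩ := exists_over θ
    have := hval χ θ hχ
    split_ifs at this
    · exact absurd this h
    · exact this
  have hAinv : IsInvEl (blockIdem A) := by
    intro g' n
    haveI := Fintype.ofFinite (Cfsg.IrrCharacter N)
    simp only [coeff_blockIdem, blockCoeff_eq_sum]
    congr 1
    have hinj : Function.Injective fun θ : Cfsg.IrrCharacter N =>
        (⟨CharTheory.Clifford.conjBy N g' (θ : N → ℂ),
          CharTheory.Clifford.isIrrCharacter_conjBy N g' θ.2⟩ : Cfsg.IrrCharacter N) :=
      fun a b e => Subtype.ext (CharTheory.Clifford.conjBy_injective N g'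
        (congrArg Subtype.val e))
    refine Fintype.sum_bijective _ (Finite.injective_iff_bijective.1 hinj) _ _ fun θ => ?_
    have h1 : omega (CharTheory.Clifford.conjBy N g' (θ : N → ℂ)) z = omega (θ : N → ℂ) z := by
      rw [omega, omega, CharTheory.Clifford.conjBy_at_one]
      congr 1
      rw [evalChar_eq_sum, evalChar_eq_sum]
      refine Fintype.sum_equiv (MulAut.conjNormal g' : N ≃* N).toEquiv _ _ fun m => ?_
      show z.coeff m * CharTheory.Clifford.conjBy N g' (θ : N → ℂ) m = _
      rw [CharTheory.Clifford.conjBy_apply, ← hzi g' m]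
      have e : (MulAut.conjNormal g' : N ≃* N).toEquiv m =
          ⟨g' * m * g'⁻¹, hN.conj_mem m m.2 g'⟩ := Subtype.ext (by simp)
      rw [e]
    simp only [A, Set.mem_ofPred_eq, h1, CharTheory.Clifford.conjBy_at_one]
    simp only [CharTheory.Clifford.conjBy_apply]
  have hEq : blockIdem B = push N (blockIdem A) := by
    refine central_omega_ext (central_blockIdem B) (central_push hAinv) fun χ => ?_
    obtain ⟨θ, hθ⟩ := exists_under (N := N) χ
    rw [omega_push_eq χ θ hθ hAinv, omega_blockIdem, omega_blockIdem]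
    have h1 := hval χ θ hθ
    by_cases hχ : χ ∈ B
    · rw [if_pos hχ] at h1 ⊢
      rw [if_pos (show θ ∈ A from h1)]
    · rw [if_neg hχ] at h1 ⊢
      rw [if_neg]
      exact fun h2 : Cong M _ 1 => not_cong_zero_one hM (cong_trans hM (cong_symm hM h1) h2)
  rw [← coeff_blockIdem, hEq, coeff_push_notMem _ hg]

/-- A normal `p`-subgroup containing its centraliser forces a single block. -/
theorem sameBlock_of_selfCentralizing (hM : Cfsg.IsPModular p M) {Q : Subgroup G} [Q.Normal]
    (hQ : IsPGroup p Q) (hC : Subgroup.centralizer (Q : Set G) ≤ Q)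
    (χ ψ : Cfsg.IrrCharacter G) : Cfsg.SameBlock M (χ : G → ℂ) (ψ : G → ℂ) := by
  rw [sameBlock_iff_omega hM]
  intro z hz hi
  set C := Subgroup.centralizer (Q : Set G)
  haveI := Fintype.ofFinite C
  haveI hCn : C.Normal := inferInstance
  have key : ∀ χ : Cfsg.IrrCharacter G, Cong M (omega (χ : G → ℂ) z) (∑ x : C, z.coeff (x : G)) := by
    intro χ
    obtain ⟨θ, hθ⟩ := exists_under (N := C) χ
    refine cong_trans hM (omega_cong_res (N := C) hM hQ le_rfl χ hz hi) ?_
    rw [omega_push_eq χ θ hθ (isInvEl_res hz)]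
    conv_lhs => rw [eq_sum_single (res C z), omega_sum]
    refine cong_sum hM fun x _ => ?_
    rw [show MonoidAlgebra.single x ((res C z).coeff x) =
        (res C z).coeff x • MonoidAlgebra.single x (1 : ℂ) by simp, omega_smul, coeff_res]
    have hxc : IsCentralEl (MonoidAlgebra.single x (1 : ℂ)) := by
      intro a b
      have : b * a * b⁻¹ = a := by
        rw [mul_inv_eq_iff_eq_mul]
        exact Subtype.ext (a.2 _ (hC b.2))
      rw [this]
    haveI := fact_prime_of_pm hM
    obtain ⟨k, hk⟩ := IsPGroup.iff_orderOf.1 (hQ.to_le hC) x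
    have hpow : omega (θ : C → ℂ) (MonoidAlgebra.single x (1 : ℂ)) ^ p ^ k = 1 := by
      rw [← omega_pow θ hxc, MonoidAlgebra.single_pow, one_pow, ← hk, pow_orderOf_eq_one,
        ← MonoidAlgebra.one_def, omega_one (irr_one_ne_zero θ.2)]
    have := cong_mul_left hM (hi x) (cong_one_of_pow_prime_pow hM hpow)
    rwa [mul_one] at this
  exact cong_trans hM (key χ) (cong_symm hM (key ψ))

end Cfsg.Agent.BlockCharsA.NormalSupport
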