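import Mathlib
import Cfsg.Agent.BlockCharsA.NormalSupport
import Cfsg.Prelude.Def_BlockLocal
import Cfsg.Agent.Lib.Blocks.Covering
import Cfsg.Agent.Lib.Blocks.Defect
import Cfsg.Agent.Lib.Blocks.MaximalCovering

/-!
# Defect groups of covering blocks

For a block `B` of `G` covering a block `c` of a normal subgroup `N`, a defect group `P` of `B`
meets `N` in a defect group of some conjugate of `c`. One inclusion is the Brauer map on the
idempotents; for the other one, `e = e_B e_c` is graded by `G / N`, and if all products of its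
homogeneous parts with homogeneous elements fell into the radical of the block algebra of `c` it
would be nilpotent.
-/

set_option linter.style.haveILetI false
set_option linter.unusedSectionVars false

namespace Cfsg.Agent.BlockCharsA.CoveringDefect

open Cfsg.Agent.Blocks Cfsg.Agent.Characters Cfsg.Agent.CharTheory
open Cfsg.Agent.BlockCharsA.NormalSupport

universe u

variable {G : Type u} [Group G] [Finite G] {N : Subgroup G} [hN : N.Normal] {p : ℕ}
  {M : Ideal Cfsg.AlgInt}

/-! ### Homogeneous parts -/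

/-- The support lies in one coset. -/
def Supp (k : G ⧸ N) (z : MonoidAlgebra ℂ G) : Prop :=
  ∀ h : G, (h : G ⧸ N) ≠ k → z.coeff h = 0

/-- Invariance under conjugation by `N`. -/
def NInv (N : Subgroup G) (z : MonoidAlgebra ℂ G) : Prop :=
  ∀ u ∈ N, ∀ g : G, z.coeff (u * g * u⁻¹) = z.coeff g

/-- The part on one coset. -/
noncomputable def part (k : G ⧸ N) (z : MonoidAlgebra ℂ G) : MonoidAlgebra ℂ G :=
  ofFun fun h => by classical exact if (h : G ⧸ N) = k then z.coeff h else 0

theorem coeff_part (k : G ⧸ N) (z : MonoidAlgebra ℂ G) (h : G) [Decidable ((h : G ⧸ N) = k)] :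
    (part k z).coeff h = if (h : G ⧸ N) = k then z.coeff h else 0 := by
  simp only [part, coeff_ofFun]
  congr

theorem supp_part (k : G ⧸ N) (z : MonoidAlgebra ℂ G) : Supp k (part k z) := fun h hh => by
  classical
  rw [coeff_part, if_neg hh]

theorem sum_part [Fintype (G ⧸ N)] (z : MonoidAlgebra ℂ G) : ∑ k : G ⧸ N, part k z = z := by
  classical
  refine el_ext fun h => ?_
  simp [MonoidAlgebra.coeff_sum, Finsupp.finsetSum_apply, coeff_part]

theorem intEl_part (hM : Cfsg.IsPModular p M) (k : G ⧸ N) {z : MonoidAlgebra ℂ G}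
    (hz : IntEl M z) : IntEl M (part k z) := fun h => by
  classical
  rw [coeff_part]
  split
  · exact hz h
  · exact ring_zero hM

theorem mk_conj_of_mem {u : G} (hu : u ∈ N) (g : G) :
    ((u * g * u⁻¹ : G) : G ⧸ N) = (g : G ⧸ N) := by
  rw [QuotientGroup.mk_mul, QuotientGroup.mk_mul, (QuotientGroup.eq_one_iff u).2 hu,
    (QuotientGroup.eq_one_iff u⁻¹).2 (inv_mem hu), one_mul, mul_one]

theorem nInv_part (k : G ⧸ N) {z : MonoidAlgebra ℂ G} (hz : NInv N z) : NInv N (part k z) := by
  classical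
  intro u hu g
  rw [coeff_part, coeff_part, mk_conj_of_mem hu, hz u hu]

theorem nInv_mul {x y : MonoidAlgebra ℂ G} (hx : NInv N x) (hy : NInv N y) : NInv N (x * y) := by
  classical
  haveI := Fintype.ofFinite G
  intro u hu g
  rw [coeff_mul', coeff_mul']
  refine Fintype.sum_equiv (MulAut.conj u⁻¹).toEquiv _ _ fun h => ?_
  simp only [MulEquiv.toEquiv_eq_coe, MulEquiv.coe_toEquiv, MulAut.conj_apply, inv_inv]
  have h1 := hx u⁻¹ (inv_mem hu) h
  have h2 := hy u⁻¹ (inv_mem hu) (h⁻¹ * (u * g * u⁻¹))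
  rw [inv_inv] at h1 h2
  rw [h1, show (u⁻¹ * h * u)⁻¹ * g = u⁻¹ * (h⁻¹ * (u * g * u⁻¹)) * u by group, h2]

theorem nInv_of_central {z : MonoidAlgebra ℂ G} (hz : IsCentralEl z) : NInv N z :=
  fun u _ g => hz g u

theorem nInv_push {w : MonoidAlgebra ℂ N} (hw : IsCentralEl w) : NInv N (push N w) := by
  intro u hu g
  by_cases hg : g ∈ N
  · rw [coeff_push_mem _ (hN.conj_mem g hg u), coeff_push_mem _ hg]
    exact hw ⟨g, hg⟩ ⟨u, hu⟩
  · rw [coeff_push_notMem _ hg, coeff_push_notMem]
    intro h'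
    exact hg (by simpa [mul_assoc] using hN.conj_mem _ h' u⁻¹)

theorem supp_push (w : MonoidAlgebra ℂ N) : Supp (1 : G ⧸ N) (push N w) := fun h hh =>
  coeff_push_notMem _ fun hm => hh ((QuotientGroup.eq_one_iff h).2 hm)

theorem supp_mul {k l : G ⧸ N} {x y : MonoidAlgebra ℂ G} (hx : Supp k x) (hy : Supp l y) :
    Supp (k * l) (x * y) := by
  classical
  haveI := Fintype.ofFinite G
  intro h hh
  rw [coeff_mul']
  refine Finset.sum_eq_zero fun a _ => ?_
  by_cases ha : (a : G ⧸ N) = k
  · rw [hy (a⁻¹ * h) (fun e => hh ?_), mul_zero]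
    rw [← ha, ← e, ← QuotientGroup.mk_mul, mul_inv_cancel_left]
  · rw [hx a ha, zero_mul]

theorem central_res_of_nInv {z : MonoidAlgebra ℂ G} (hz : NInv N z) :
    IsCentralEl (res N z) := fun g h => by
  rw [coeff_res, coeff_res]; exact hz h h.2 g

theorem push_res_of_supp {z : MonoidAlgebra ℂ G} (hz : Supp (1 : G ⧸ N) z) :
    push N (res N z) = z :=
  push_res fun g hg => hz g fun e => hg ((QuotientGroup.eq_one_iff g).1 e)

/-- Only one part of the left factor meets the subgroup. -/
theorem res_mul_supp [Fintype (G ⧸ N)] {k : G ⧸ N} (x : MonoidAlgebra ℂ G)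
    {y : MonoidAlgebra ℂ G} (hy : Supp k y) : res N (x * y) = res N (part k⁻¹ x * y) := by
  classical
  refine el_ext fun n => ?_
  rw [coeff_res, coeff_res]
  conv_lhs => rw [← sum_part (N := N) x, Finset.sum_mul, MonoidAlgebra.coeff_sum,
    Finsupp.finsetSum_apply]
  refine Finset.sum_eq_single k⁻¹ (fun l _ hl => ?_) (by simp)
  refine supp_mul (supp_part l x) hy n fun e => hl ?_
  rw [(QuotientGroup.eq_one_iff (n : G)).2 n.2] at e
  exact eq_inv_of_mul_eq_one_left e.symm

theorem part_mul_push (k : G ⧸ N) (x : MonoidAlgebra ℂ G) (w : MonoidAlgebra ℂ N) :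
    part k x * push N w = part k (x * push N w) := by
  classical
  haveI := Fintype.ofFinite G
  refine el_ext fun h => ?_
  rw [coeff_part, coeff_mul', coeff_mul']
  have key : ∀ a : G, (push N w).coeff (a⁻¹ * h) ≠ 0 → (a : G ⧸ N) = (h : G ⧸ N) := fun a ha => by
    rw [QuotientGroup.eq]
    by_contra hn
    exact ha (coeff_push_notMem _ hn)
  by_cases hh : (h : G ⧸ N) = k
  · rw [if_pos hh]
    refine Finset.sum_congr rfl fun a _ => ?_
    by_cases ha : (push N w).coeff (a⁻¹ * h) = 0
    · rw [ha, mul_zero, mul_zero]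
    · rw [coeff_part, if_pos ((key a ha).trans hh)]
  · rw [if_neg hh]
    refine Finset.sum_eq_zero fun a _ => ?_
    by_cases ha : (push N w).coeff (a⁻¹ * h) = 0
    · rw [ha, mul_zero]
    · rw [coeff_part, if_neg (fun e => hh ((key a ha).symm.trans e)), zero_mul]

theorem push_mul_part (k : G ⧸ N) (w : MonoidAlgebra ℂ N) (x : MonoidAlgebra ℂ G) :
    push N w * part k x = part k (push N w * x) := by
  classical
  haveI := Fintype.ofFinite G
  refine el_ext fun h => ?_
  rw [coeff_part, coeff_mul', coeff_mul']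
  have key : ∀ a : G, (push N w).coeff a ≠ 0 → ((a⁻¹ * h : G) : G ⧸ N) = (h : G ⧸ N) := fun a ha => by
    have hm : a ∈ N := by
      by_contra hn
      exact ha (coeff_push_notMem _ hn)
    rw [QuotientGroup.mk_mul, QuotientGroup.mk_inv, (QuotientGroup.eq_one_iff a).2 hm, inv_one,
      one_mul]
  by_cases hh : (h : G ⧸ N) = k
  · rw [if_pos hh]
    refine Finset.sum_congr rfl fun a _ => ?_
    by_cases ha : (push N w).coeff a = 0
    · rw [ha, zero_mul, zero_mul]
    · rw [coeff_part, if_pos ((key a ha).trans hh)]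
  · rw [if_neg hh]
    refine Finset.sum_eq_zero fun a _ => ?_
    by_cases ha : (push N w).coeff a = 0
    · rw [ha, zero_mul]
    · rw [coeff_part, if_neg (fun e => hh ((key a ha).symm.trans e)), mul_zero]

/-- Conjugating an element of the group algebra of `N`. -/
noncomputable def conjEl (g : G) (w : MonoidAlgebra ℂ N) : MonoidAlgebra ℂ N :=
  ofFun fun n => w.coeff ⟨g⁻¹ * n * g, by simpa using hN.conj_mem n n.2 g⁻¹⟩

theorem central_conjEl (g : G) {w : MonoidAlgebra ℂ N} (hw : IsCentralEl w) :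
    IsCentralEl (conjEl g w) := fun a b => by
  simp only [conjEl, coeff_ofFun]
  refine Eq.trans ?_ (hw ⟨g⁻¹ * a * g, by simpa using hN.conj_mem a a.2 g⁻¹⟩
    ⟨g⁻¹ * b * g, by simpa using hN.conj_mem b b.2 g⁻¹⟩)
  exact congrArg _ (Subtype.ext (by push_cast; group))

theorem intEl_conjEl (g : G) {w : MonoidAlgebra ℂ N} (hw : IntEl M w) : IntEl M (conjEl g w) :=
  fun n => by simp only [conjEl, coeff_ofFun]; exact hw _

/-- Moving an element of the centre of the group algebra of `N` across a coset. -/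
theorem supp_mul_push {g : G} {r : MonoidAlgebra ℂ G} (hr : Supp (g : G ⧸ N) r)
    {w : MonoidAlgebra ℂ N} (hw : IsCentralEl w) :
    r * push N w = push N (conjEl g w) * r := by
  classical
  haveI := Fintype.ofFinite G
  refine el_ext fun h => ?_
  rw [coeff_mul', coeff_mul']
  refine Fintype.sum_equiv ((Equiv.inv G).trans (Equiv.mulLeft h)) _ _ fun a => ?_
  simp only [Equiv.trans_apply, Equiv.inv_apply, Equiv.coe_mulLeft]
  rw [show (h * a⁻¹)⁻¹ * h = a by group, mul_comm]
  by_cases ha : (a : G ⧸ N) = (g : G ⧸ N)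
  swap
  · rw [hr a ha, mul_zero, mul_zero]
  congr 1
  have hm : g⁻¹ * a ∈ N := QuotientGroup.eq.1 ha.symm
  by_cases hN' : a⁻¹ * h ∈ N
  · have h2 : h * a⁻¹ ∈ N := by simpa [mul_assoc] using hN.conj_mem _ hN' a
    rw [coeff_push_mem _ hN', coeff_push_mem _ h2]
    simp only [conjEl, coeff_ofFun]
    refine Eq.trans (hw ⟨a⁻¹ * h, hN'⟩ ⟨g⁻¹ * a, hm⟩).symm ?_
    refine congrArg _ (Subtype.ext ?_)
    push_cast
    group
  · have h2 : h * a⁻¹ ∉ N := fun e => hN' (by simpa [mul_assoc] using hN.conj_mem _ e a⁻¹)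
    rw [coeff_push_notMem _ hN', coeff_push_notMem _ h2]

theorem omega_conjEl [Fintype N] (θ : Cfsg.IrrCharacter N) (g : G) (w : MonoidAlgebra ℂ N) :
    omega (θ : N → ℂ) (conjEl g w) = omega (conjIrr g θ : N → ℂ) w := by
  rw [omega, omega, evalChar_eq_sum, evalChar_eq_sum, coe_conjIrr, Clifford.conjBy_at_one]
  congr 1
  refine Fintype.sum_equiv (MulAut.conjNormal g⁻¹ : N ≃* N).toEquiv _ _ fun n => ?_
  simp only [MulEquiv.toEquiv_eq_coe, MulEquiv.coe_toEquiv, conjEl, coeff_ofFun,
    Clifford.conjBy_apply]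
  congr 2
  · exact Subtype.ext (by simp [mul_assoc])
  · exact congrArg _ (Subtype.ext (by simp [mul_assoc]))

/-! ### Nilpotency -/

variable {c : Set (Cfsg.IrrCharacter N)} {B : Set (Cfsg.IrrCharacter G)}

/-- The product of the idempotent of `B` with that of `c`. -/
noncomputable def mix (B : Set (Cfsg.IrrCharacter G)) (c : Set (Cfsg.IrrCharacter N)) :
    MonoidAlgebra ℂ G :=
  blockIdem B * push N (blockIdem c)

theorem idealEl_push (hM : Cfsg.IsPModular p M) {w : MonoidAlgebra ℂ N} (hw : IdealEl M w) :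
    IdealEl M (push N w) := fun g => by
  by_cases hg : g ∈ N
  · rw [coeff_push_mem _ hg]; exact hw _
  · rw [coeff_push_notMem _ hg]; exact ideal_zero hM

theorem intEl_mix (hM : Cfsg.IsPModular p M) (hB : Cfsg.IsPBlock M B) (hc : Cfsg.IsPBlock M c) :
    IntEl M (mix B c) :=
  intEl_mul hM (intEl_blockIdem hM hB) (intEl_push hM (intEl_blockIdem hM hc))

theorem nInv_mix : NInv N (mix B c) :=
  nInv_mul (nInv_of_central (central_blockIdem B)) (nInv_push (central_blockIdem c))

theorem mix_mul_idem : mix B c * push N (blockIdem c) = mix B c := by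
  rw [mix, mul_assoc, ← push_mul, blockIdem_mul_self]

theorem idem_mul_mix : push N (blockIdem c) * mix B c = mix B c := by
  rw [mix, ← mul_assoc, ← (central_commute (central_blockIdem B) _).eq, mul_assoc, ← push_mul,
    blockIdem_mul_self]

theorem mix_comm {w : MonoidAlgebra ℂ N} (hw : IsCentralEl w) :
    mix B c * push N w = push N w * mix B c := by
  rw [mix, mul_assoc, ← push_mul, (central_commute (central_blockIdem c) w).eq, push_mul,
    ← mul_assoc, (central_commute (central_blockIdem B) (push N w)).eq, mul_assoc]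

theorem mix_idem : mix B c * mix B c = mix B c := by
  nth_rw 2 [mix]
  rw [← mul_assoc, ← (central_commute (central_blockIdem B) (mix B c)).eq, mix, ← mul_assoc,
    blockIdem_mul_self, mul_assoc, ← push_mul, blockIdem_mul_self]

theorem mix_pow : ∀ n : ℕ, mix B c ^ (n + 1) = mix B c := by
  intro n
  induction n with
  | zero => rw [zero_add, pow_one]
  | succ k ih => rw [pow_succ, ih, mix_idem]

/-- A left annihilator of the radical of the block algebra of `c` not killing `e_B e_c`. -/
theorem exists_annihilator (hM : Cfsg.IsPModular p M) (hB : Cfsg.IsPBlock M B)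
    (hc : Cfsg.IsPBlock M c) {θ : Cfsg.IrrCharacter N} (hθ : θ ∈ c)
    (hne : ¬ IdealEl M (mix B c)) :
    ∃ x : MonoidAlgebra ℂ G, IntEl M x ∧ ¬ IdealEl M (x * mix B c) ∧
      ∀ w : MonoidAlgebra ℂ N, IsCentralEl w → IntEl M w →
        Cfsg.MemLocalIdeal M (omega (θ : N → ℂ) w) → IdealEl M (x * push N w) := by
  classical
  haveI := Fintype.ofFinite (ConjClasses N)
  set b := blockIdem c with hb
  have hbc : IsCentralEl b := central_blockIdem c
  have hbi : IntEl M b := intEl_blockIdem hM hc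
  set lam : ConjClasses N → ℂ := fun C => omega (θ : N → ℂ) (classSum (Quotient.out C)) with hlam
  have hlr : ∀ C, Cfsg.MemLocalRing M (lam C) := fun C =>
    omega_ring hM θ (central_classSum _) (intEl_classSum hM _)
  set z : ConjClasses N → MonoidAlgebra ℂ N :=
    fun C => classSum (Quotient.out C) - lam C • 1 with hz
  have hzc : ∀ C, IsCentralEl (z C) := fun C =>
    central_sub (central_classSum _) (central_smul _ central_one)
  have hzi : ∀ C, IntEl M (z C) := fun C =>
    intEl_sub hM (intEl_classSum hM _) (intEl_smul hM (hlr C) (intEl_one hM))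
  have hnil : ∀ C, ∃ n, IdealEl M ((b * z C) ^ n) := fun C => by
    obtain ⟨n, hn⟩ := exists_pow_mul_blockIdem hM hc hθ (hzc C) (hzi C) (by
      rw [hz, omega_sub, omega_smul, omega_one (irr_one_ne_zero θ.2), mul_one, sub_self]
      exact ideal_zero hM)
    exact ⟨n, hn n le_rfl⟩
  have hei := intEl_mix hM hB hc
  have hiter : ∀ s : Finset (ConjClasses N), ∃ u : MonoidAlgebra ℂ N, IsCentralEl u ∧ IntEl M u ∧
      ¬ IdealEl M (push N u * mix B c) ∧
      ∀ C ∈ s, IdealEl M (push N u * mix B c * push N (b * z C)) := by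
    intro s
    induction s using Finset.induction with
    | empty => exact ⟨1, central_one, intEl_one hM, by rwa [push_one, one_mul], by simp⟩
    | @insert C s _ ih =>
      obtain ⟨u, huc, hui, hu, hus⟩ := ih
      have hyc := central_mul hbc (hzc C)
      have hyi := intEl_mul hM hbi (hzi C)
      obtain ⟨n, hn⟩ := hnil C
      have hex : ∃ m, IdealEl M (push N (u * (b * z C) ^ m) * mix B c) := ⟨n,
        idealEl_mul_right hM (idealEl_push hM (idealEl_mul_left hM hui hn)) hei⟩
      obtain ⟨m, hm⟩ : ∃ m, Nat.find hex = m + 1 := by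
        refine Nat.exists_eq_succ_of_ne_zero fun h0 => hu ?_
        have h1 := Nat.find_spec hex
        rwa [h0, pow_zero, mul_one] at h1
      refine ⟨u * (b * z C) ^ m, central_mul huc (central_pow hyc m),
        intEl_mul hM hui (intEl_pow hM hyi m), Nat.find_min hex (by omega), fun D hD => ?_⟩
      rcases Finset.mem_insert.1 hD with rfl | hD
      · have h1 := Nat.find_spec hex
        rw [hm, pow_succ, ← mul_assoc, push_mul] at h1
        rw [mul_assoc, mix_comm hyc, ← mul_assoc]
        exact h1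
      · rw [(central_commute huc ((b * z C) ^ m)).eq, push_mul, mul_assoc, mul_assoc,
          ← mul_assoc (push N u)]
        exact idealEl_mul_left hM (intEl_push hM (intEl_pow hM hyi m)) (hus D hD)
  obtain ⟨u, -, hui, hu, hus⟩ := hiter Finset.univ
  set x := push N u * mix B c with hx
  have hxi : IntEl M x := intEl_mul hM (intEl_push hM hui) hei
  have hxb : x * push N b = x := by rw [hx, mul_assoc, mix_mul_idem]
  refine ⟨x, hxi, ?_, fun w hw hwi hwω => ?_⟩
  · rwa [hx, mul_assoc, mix_idem]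
  have hexp : b * w = (∑ C : ConjClasses N, w.coeff (Quotient.out C) • (b * z C)) +
      omega (θ : N → ℂ) w • b := by
    have hω : omega (θ : N → ℂ) w =
        ∑ C : ConjClasses N, w.coeff (Quotient.out C) * lam C := by
      conv_lhs => rw [central_eq_sum hw]
      rw [omega_sum]
      exact Finset.sum_congr rfl fun C _ => omega_smul _ _ _
    conv_lhs => rw [central_eq_sum hw, Finset.mul_sum]
    rw [hω, Finset.sum_smul, ← Finset.sum_add_distrib]
    refine Finset.sum_congr rfl fun C _ => ?_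
    rw [hz, mul_sub, mul_smul_comm, mul_smul_comm, mul_one, smul_sub, smul_smul]
    abel
  have hpush_add : ∀ a a' : MonoidAlgebra ℂ N, push N (a + a') = push N a + push N a' :=
    fun a a' => el_ext fun g => by
      by_cases hg : g ∈ N
      · simp [coeff_push_mem _ hg]
      · simp [coeff_push_notMem _ hg]
  have hpush_smul : ∀ (r : ℂ) (a : MonoidAlgebra ℂ N), push N (r • a) = r • push N a :=
    fun r a => el_ext fun g => by
      by_cases hg : g ∈ N
      · simp [coeff_push_mem _ hg]
      · simp [coeff_push_notMem _ hg]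
  have hpush_sum : push N (∑ C : ConjClasses N, w.coeff (Quotient.out C) • (b * z C)) =
      ∑ C : ConjClasses N, push N (w.coeff (Quotient.out C) • (b * z C)) :=
    map_sum (AddMonoidHom.mk' (push N) hpush_add) _ _
  rw [← hxb, mul_assoc, ← push_mul, hexp, hpush_add, mul_add, hpush_sum, Finset.mul_sum]
  refine idealEl_add hM (fun g => ?_) ?_
  · rw [MonoidAlgebra.coeff_sum, Finsupp.finsetSum_apply]
    refine ideal_sum hM fun C _ => ?_
    rw [hpush_smul, mul_smul_comm, MonoidAlgebra.coeff_smul, Finsupp.smul_apply, smul_eq_mul]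
    exact ideal_mul_left hM (hwi _) (hus C (Finset.mem_univ C) g)
  · rw [hpush_smul, mul_smul_comm]
    intro g
    rw [MonoidAlgebra.coeff_smul, Finsupp.smul_apply, smul_eq_mul]
    exact ideal_mul_right hM hwω (intEl_mul hM hxi (intEl_push hM hbi) g)

/-- An element of one coset times a radical element of the block algebra is killed. -/
theorem move (hM : Cfsg.IsPModular p M) [Fintype N] (hc : Cfsg.IsPBlock M c)
    {θ : Cfsg.IrrCharacter N} (hθ : θ ∈ c) {x r : MonoidAlgebra ℂ G}
    (hx : ∀ w : MonoidAlgebra ℂ N, IsCentralEl w → IntEl M w →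
        Cfsg.MemLocalIdeal M (omega (θ : N → ℂ) w) → IdealEl M (x * push N w))
    {k : G ⧸ N} (hr : Supp k r) (hri : IntEl M r) (hr1 : push N (blockIdem c) * r = r)
    (hr2 : r * push N (blockIdem c) = r)
    {w : MonoidAlgebra ℂ N} (hw : IsCentralEl w) (hwi : IntEl M w)
    (hwω : Cfsg.MemLocalIdeal M (omega (θ : N → ℂ) w)) : IdealEl M (x * (r * push N w)) := by
  classical
  obtain ⟨g, rfl⟩ := QuotientGroup.mk_surjective k
  by_cases hg : conjIrr g θ ∈ c
  · rw [supp_mul_push hr hw, ← mul_assoc]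
    refine idealEl_mul_right hM (hx _ (central_conjEl g hw) (intEl_conjEl g hwi) ?_) hri
    rw [omega_conjEl]
    exact (ideal_iff_of_cong hM (omega_cong_of_mem hM hc hg hθ hw hwi)).2 hwω
  · have h0 : blockIdem c * conjEl g (blockIdem c) = 0 := by
      refine central_omega_ext (central_mul (central_blockIdem c)
        (central_conjEl g (central_blockIdem c))) central_zero fun η => ?_
      rw [omega_mul η (central_blockIdem c), omega_conjEl, omega_zero]
      by_cases hη : η ∈ c
      · rw [omega_blockIdem_notMem (ψ := conjIrr g η) ?_, mul_zero]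
        exact fun h => hg (mem_of_sameBlock hM hc h
          (sameBlock_conjIrr g (sameBlock_of_mem hM hc hη hθ)))
      · rw [omega_blockIdem_notMem hη, zero_mul]
    have hzero : r = 0 := by
      rw [← hr1, ← hr2, supp_mul_push hr (central_blockIdem c), ← mul_assoc, ← push_mul, h0,
        show push N (0 : MonoidAlgebra ℂ N) = 0 from el_ext fun h => by
          by_cases hh : h ∈ N
          · simp [coeff_push_mem _ hh]
          · simp [coeff_push_notMem _ hh], zero_mul]
    rw [hzero, zero_mul, mul_zero]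
    exact idealEl_zero hM

/-- Some product of `e_B e_c` with a homogeneous element has a unit central character at `c`. -/
theorem exists_unit_product (hM : Cfsg.IsPModular p M) [Fintype N] (hB : Cfsg.IsPBlock M B)
    (hc : Cfsg.IsPBlock M c) {θ : Cfsg.IrrCharacter N} (hθ : θ ∈ c)
    (hne : ¬ IdealEl M (mix B c)) :
    ∃ s : MonoidAlgebra ℂ G, NInv N s ∧ IntEl M s ∧
      ¬ Cfsg.MemLocalIdeal M (omega (θ : N → ℂ) (res N (mix B c * s))) := by
  classical
  haveI := Fintype.ofFinite (G ⧸ N)
  by_contra hcon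
  have H : ∀ s, NInv N s → IntEl M s →
      Cfsg.MemLocalIdeal M (omega (θ : N → ℂ) (res N (mix B c * s))) := fun s h1 h2 => by
    by_contra h3; exact hcon ⟨s, h1, h2, h3⟩
  obtain ⟨x, hxi, hxe, hx⟩ := exists_annihilator hM hB hc hθ hne
  set e := mix B c
  have hei : IntEl M e := intEl_mix hM hB hc
  have hen : NInv N e := nInv_mix
  have hstep : ∀ {k : G ⧸ N} {r : MonoidAlgebra ℂ G}, Supp k r → IntEl M r →
      push N (blockIdem c) * r = r → r * push N (blockIdem c) = r →
      ∀ (l : G ⧸ N) (s : MonoidAlgebra ℂ G), Supp l⁻¹ s → NInv N s → IntEl M s →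
      IdealEl M (x * (r * (part l e * s))) := by
    intro k r hr hri hr1 hr2 l s hs hsn hsi
    have hsupp : Supp (1 : G ⧸ N) (part l e * s) := by
      simpa using supp_mul (supp_part l e) hs
    rw [← push_res_of_supp hsupp]
    refine move hM hc hθ hx hr hri hr1 hr2 (central_res_of_nInv (nInv_mul (nInv_part l hen) hsn))
      (intEl_res (intEl_mul hM (intEl_part hM l hei) hsi)) ?_
    have h := res_mul_supp (N := N) e hs
    rw [inv_inv] at h
    rw [← h]
    exact H s hsn hsi
  have hclaim : ∀ (n : ℕ) (g : G ⧸ N) (D : Finset (G ⧸ N)) (r : MonoidAlgebra ℂ G),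
      Fintype.card (G ⧸ N) ≤ D.card + n → g ∉ D → Supp g r → IntEl M r →
      push N (blockIdem c) * r = r → r * push N (blockIdem c) = r →
      (∀ h ∈ D, ∀ s, Supp (g⁻¹ * h) s → NInv N s → IntEl M s → IdealEl M (x * (r * s))) →
      IdealEl M (x * (r * e ^ n)) := by
    intro n
    induction n with
    | zero =>
      intro g D r hcard hg
      exact absurd (Finset.card_lt_univ_of_notMem hg) (by omega)
    | succ n ih =>
      intro g D r hcard hg hr hri hr1 hr2 hD
      have hsplit : x * (r * e ^ (n + 1)) = ∑ k : G ⧸ N, x * (r * part k e * e ^ n) := by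
        rw [pow_succ']
        conv_lhs => rw [← sum_part (N := N) e]
        rw [Finset.sum_mul, Finset.mul_sum, Finset.mul_sum]
        refine Finset.sum_congr rfl fun k _ => ?_
        rw [sum_part, mul_assoc r]
      rw [hsplit]
      intro y
      rw [MonoidAlgebra.coeff_sum, Finsupp.finsetSum_apply]
      refine ideal_sum hM fun k _ => ?_
      revert y
      by_cases hk1 : k = 1
      · subst hk1
        rw [← mul_assoc]
        refine idealEl_mul_right hM ?_ (intEl_pow hM hei n)
        have h := hstep hr hri hr1 hr2 1 1 (by rw [inv_one, ← push_one (H := N)]; exact supp_push 1)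
          (nInv_of_central central_one) (intEl_one hM)
        rwa [mul_one] at h
      by_cases hkD : g * k ∈ D
      · rw [← mul_assoc]
        refine idealEl_mul_right hM ?_ (intEl_pow hM hei n)
        exact hD _ hkD _ (by rw [inv_mul_cancel_left]; exact supp_part k e) (nInv_part k hen)
          (intEl_part hM k hei)
      refine ih (g * k) (insert g D) (r * part k e) ?_ ?_ (supp_mul hr (supp_part k e))
        (intEl_mul hM hri (intEl_part hM k hei)) ?_ ?_ ?_
      · rw [Finset.card_insert_of_notMem hg]; omega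
      · simp only [Finset.mem_insert, mul_eq_left, not_or]
        exact ⟨hk1, hkD⟩
      · rw [← mul_assoc, hr1]
      · rw [mul_assoc, part_mul_push, mix_mul_idem]
      · intro h hh s hs hsn hsi
        rw [mul_assoc r]
        rcases Finset.mem_insert.1 hh with rfl | hh
        · refine hstep hr hri hr1 hr2 k s ?_ hsn hsi
          simpa [mul_assoc] using hs
        · refine hD h hh _ ?_ (nInv_mul (nInv_part k hen) hsn)
            (intEl_mul hM (intEl_part hM k hei) hsi)
          have h1 := supp_mul (supp_part k e) hs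
          rwa [mul_inv_rev, ← mul_assoc, ← mul_assoc, mul_inv_cancel, one_mul] at h1
  have hbb : push N (blockIdem c) * push N (blockIdem c) = push N (blockIdem c) := by
    rw [← push_mul, blockIdem_mul_self]
  have h := hclaim (Fintype.card (G ⧸ N)) 1 ∅ (push N (blockIdem c)) (by simp) (by simp)
    (supp_push _) (intEl_push hM (intEl_blockIdem hM hc)) hbb hbb (by simp)
  obtain ⟨m, hm⟩ := Nat.exists_eq_succ_of_ne_zero (Fintype.card_ne_zero (α := G ⧸ N))
  rw [hm, mix_pow, idem_mul_mix] at h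
  exact hxe h

/-! ### The two inclusions -/

/-- A defect group of `c` lies in a defect group of `B` when `e_B e_c` is not zero mod `p`. -/
theorem le_defect (hM : Cfsg.IsPModular p M) [Fintype N] (hB : Cfsg.IsPBlock M B)
    (hc : Cfsg.IsPBlock M c) (hne : ¬ IdealEl M (mix B c)) {P : Subgroup G}
    (hP : Cfsg.IsDefectGroup p M B P) {Q : Subgroup N} (hQ : Cfsg.IsDefectGroup p M c Q) :
    ∃ x : G, Q.map N.subtype ≤ P.map (MulAut.conj x).toMonoidHom := by
  classical
  haveI := Fintype.ofFinite G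
  haveI := fact_prime_of_pm hM
  obtain ⟨θ, hθ⟩ := block_nonempty hM hc
  set Q' := Q.map N.subtype
  have hQ'p : IsPGroup p Q' := (isPGroup_defect hQ).map _
  have hQ'N : Q' ≤ N := Subgroup.map_subtype_le Q
  obtain ⟨n₀, hn₀, hs⟩ := isDefectGroup_iff.1 hQ
  have hn₀Q : (n₀ : G) ∈ Subgroup.centralizer (Q' : Set G) :=
    Subgroup.mem_centralizer_iff.2 fun q hq => by
      obtain ⟨q', hq', rfl⟩ := Subgroup.mem_map.1 hq
      exact congrArg Subtype.val (Subgroup.mem_centralizer_iff.1 (isSylCent_mem hs) q' hq')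
  by_contra hno
  have hnull : ∀ z ∈ Subgroup.centralizer (Q' : Set G),
      Cfsg.MemLocalIdeal M ((blockIdem B).coeff z) := fun z hz => by
    by_contra hne'
    rw [coeff_blockIdem] at hne'
    exact hno (le_defect_of_coeff hM hB hP hne' hQ'p hz)
  have hprod : ∀ a a' : MonoidAlgebra ℂ G, IntEl M a → IntEl M a' → NInv N a → NInv N a' →
      ((∀ z ∈ Subgroup.centralizer (Q' : Set G), Cfsg.MemLocalIdeal M (a.coeff z)) ∨
        ∀ z ∈ Subgroup.centralizer (Q' : Set G), Cfsg.MemLocalIdeal M (a'.coeff z)) →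
      ∀ z ∈ Subgroup.centralizer (Q' : Set G), Cfsg.MemLocalIdeal M ((a * a').coeff z) := by
    intro a a' ha ha' hna hna' hor z hz
    rw [ideal_iff_of_cong hM (cong_coeff_mul_centralizer hM hQ'p ha ha'
      (fun u hu => hna u (hQ'N hu)) (fun u hu => hna' u (hQ'N hu)) hz)]
    refine ideal_sum hM fun h hh => ?_
    have hh' := (Finset.mem_filter.1 hh).2
    rcases hor with h1 | h1
    · exact ideal_mul_right hM (h1 h hh') (ha' _)
    · exact ideal_mul_left hM (ha _) (h1 _ (mul_mem (inv_mem hh') hz))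
  obtain ⟨s, hsn, hsi, hω⟩ := exists_unit_product hM hB hc hθ hne
  set b := blockIdem c
  have hbc : IsCentralEl b := central_blockIdem c
  have hbi : IntEl M b := intEl_blockIdem hM hc
  set W := res N (mix B c * s)
  have hWc : IsCentralEl W := central_res_of_nInv (nInv_mul nInv_mix hsn)
  have hei := intEl_mix hM hB hc
  have hWi : IntEl M W := intEl_res (intEl_mul hM hei hsi)
  set μ := (omega (θ : N → ℂ) W)⁻¹
  have hμ : Cfsg.MemLocalRing M μ := ring_inv hM (omega_ring hM θ hWc hWi) hω
  have hWμ : IsCentralEl (μ • W) := central_smul _ hWc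
  have hWμi : IntEl M (μ • W) := intEl_smul hM hμ hWi
  obtain ⟨n, hn⟩ := exists_pow_mul_blockIdem hM hc hθ (central_sub central_one hWμ)
    (intEl_sub hM (intEl_one hM) hWμi) (by
      rw [omega_sub, omega_smul, omega_one (irr_one_ne_zero θ.2)]
      simp [μ, ne_zero_of_not_ideal hM hω, ideal_zero hM])
  obtain ⟨t, ht, hte⟩ := sub_pow_eq_one_sub_mul (μ • W) (n + 1)
  obtain ⟨htc, hti⟩ := defect_aux_closure hM hWμ hWμi ht
  have h1 := hn (n + 1) (by omega)
  have hbpow : ∀ k, b ^ (k + 1) = b := fun k => by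
    induction k with
    | zero => rw [zero_add, pow_one]
    | succ k ih => rw [pow_succ, ih, blockIdem_mul_self]
  rw [(central_commute hbc _).mul_pow, hbpow, hte, mul_sub, mul_one] at h1
  -- the coefficient at the defect class of `c`
  have hWnull : ∀ z ∈ Subgroup.centralizer (Q' : Set G),
      Cfsg.MemLocalIdeal M ((push N W).coeff z) := by
    intro z hz
    by_cases hzN : z ∈ N
    · rw [coeff_push_mem _ hzN, coeff_res]
      exact hprod _ _ hei hsi nInv_mix hsn (Or.inl (hprod _ _ (intEl_blockIdem hM hB)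
        (intEl_push hM hbi) (nInv_of_central (central_blockIdem B)) (nInv_push hbc)
        (Or.inl hnull))) z hz
    · rw [coeff_push_notMem _ hzN]; exact ideal_zero hM
  have h2 := h1 n₀
  have h3 : Cfsg.MemLocalIdeal M ((push N (b * (μ • W * t))).coeff n₀) := by
    rw [show b * (μ • W * t) = W * (μ • (b * t)) by
      rw [smul_mul_assoc, mul_smul_comm, mul_smul_comm, ← mul_assoc, (central_commute hbc W).eq,
        mul_assoc], push_mul]
    exact hprod _ _ (intEl_push hM hWi) (intEl_push hM (intEl_smul hM hμ (intEl_mul hM hbi hti)))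
      (nInv_push hWc) (nInv_push (central_smul _ (central_mul hbc htc))) (Or.inl hWnull) _ hn₀Q
  rw [coeff_push_coe] at h3
  rw [MonoidAlgebra.coeff_sub, Finsupp.sub_apply] at h2
  refine hn₀.2.1 ?_
  rw [← coeff_blockIdem]
  exact (ideal_iff_of_cong hM (show Cong M _ _ from h2)).2 h3

/-- The characters of `N` some conjugate of which lies in `c`. -/
def orbitSet (c : Set (Cfsg.IrrCharacter N)) : Set (Cfsg.IrrCharacter N) :=
  {η | ∃ g : G, conjIrr g η ∈ c}

theorem orbitSet_inv (g : G) {η : Cfsg.IrrCharacter N} (h : η ∈ orbitSet c) :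
    conjIrr g η ∈ orbitSet c := by
  obtain ⟨a, ha⟩ := h
  exact ⟨g⁻¹ * a, by rwa [conjIrr_conjIrr, mul_inv_cancel_left]⟩

theorem orbitSet_closed (hM : Cfsg.IsPModular p M) (hc : Cfsg.IsPBlock M c)
    {η η' : Cfsg.IrrCharacter N} (h : η ∈ orbitSet c)
    (hs : Cfsg.SameBlock M (η : N → ℂ) (η' : N → ℂ)) : η' ∈ orbitSet c := by
  obtain ⟨a, ha⟩ := h
  exact ⟨a, mem_of_sameBlock hM hc ha (sameBlock_conjIrr a hs)⟩

/-- A block inside the orbit of `c` is a conjugate of `c`. -/
theorem exists_conj_eq (hM : Cfsg.IsPModular p M) (hc : Cfsg.IsPBlock M c)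
    {c' : Set (Cfsg.IrrCharacter N)} (hc' : Cfsg.IsPBlock M c') (hsub : c' ⊆ orbitSet c) :
    ∃ g : G, ∀ η, η ∈ c' ↔ conjIrr g η ∈ c := by
  obtain ⟨η₀, hη₀⟩ := block_nonempty hM hc'
  obtain ⟨g, hg⟩ := hsub hη₀
  refine ⟨g, fun η => ⟨fun h => mem_of_sameBlock hM hc hg
    (sameBlock_conjIrr g (sameBlock_of_mem hM hc' hη₀ h)), fun h => ?_⟩⟩
  have h1 := sameBlock_conjIrr g⁻¹ (sameBlock_of_mem hM hc hg h)
  rw [conjIrr_conjIrr, conjIrr_conjIrr, mul_inv_cancel, conjIrr_one, conjIrr_one] at h1
  exact mem_of_sameBlock hM hc' hη₀ h1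

theorem blockCoeff_conj [Fintype N] {A A' : Set (Cfsg.IrrCharacter N)} (g : G)
    (h : ∀ η, η ∈ A' ↔ conjIrr g η ∈ A) (n : N) :
    Cfsg.blockCoeff A' n =
      Cfsg.blockCoeff A ⟨g⁻¹ * n * g, by simpa using hN.conj_mem n n.2 g⁻¹⟩ := by
  classical
  haveI := Fintype.ofFinite (Cfsg.IrrCharacter N)
  simp only [blockCoeff_eq_sum]
  congr 1
  have hinj : Function.Injective (conjIrr (N := N) g) := fun a b e =>
    Subtype.ext (Clifford.conjBy_injective N g (congrArg Subtype.val e))
  refine Fintype.sum_bijective _ (Finite.injective_iff_bijective.1 hinj) _ _ fun θ => ?_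
  simp only [h θ, coe_conjIrr, Clifford.conjBy_apply]
  refine if_congr Iff.rfl ?_ rfl
  congr 2
  · exact congrArg _ (Subtype.ext (by simp))
  · exact congrArg _ (Subtype.ext (by simp [mul_assoc]))

open scoped Classical in
theorem blockIdem_eq_sum (hM : Cfsg.IsPModular p M) {A : Set (Cfsg.IrrCharacter N)}
    [Fintype {B : Set (Cfsg.IrrCharacter N) // Cfsg.IsPBlock M B}]
    (hA : ∀ η ∈ A, ∀ η' : Cfsg.IrrCharacter N,
      Cfsg.SameBlock M (η : N → ℂ) (η' : N → ℂ) → η' ∈ A) :
    blockIdem A = ∑ b : {B : Set (Cfsg.IrrCharacter N) // Cfsg.IsPBlock M B},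
      if b.1 ⊆ A then blockIdem b.1 else 0 := by
  refine central_omega_ext (central_blockIdem A) (central_sum fun b _ => ?_) fun χ => ?_
  · split
    · exact central_blockIdem _
    · exact central_zero
  rw [omega_sum, Finset.sum_eq_single (⟨_, isPBlock_blockOf M χ⟩ :
      {B : Set (Cfsg.IrrCharacter N) // Cfsg.IsPBlock M B})]
  · by_cases h : χ ∈ A
    · rw [if_pos (show Cfsg.blockOf M (χ : N → ℂ) ⊆ A from fun ψ hψ => hA χ h ψ hψ),
        omega_blockIdem_mem h, omega_blockIdem_mem (mem_blockOf_self hM χ)]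
    · rw [if_neg fun hs => h (hs (mem_blockOf_self hM χ)), omega_blockIdem_notMem h, omega_zero]
  · intro b _ hne
    split
    · exact omega_blockIdem_notMem fun hχ => hne (Subtype.ext (block_eq_blockOf hM b.2 hχ))
    · exact omega_zero _
  · simp

/-- The data at a defect class. -/
theorem covering_data (hM : Cfsg.IsPModular p M) [Fintype N] (hB : Cfsg.IsPBlock M B)
    (hc : Cfsg.IsPBlock M c)
    (hcov : ∃ χ ∈ B, ∃ θ ∈ c, Cfsg.classInner (fun n : N => (χ : G → ℂ) n) (θ : N → ℂ) ≠ 0)
    {P : Subgroup G} (hP : Cfsg.IsDefectGroup p M B P) :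
    ¬ IdealEl M (mix B c) ∧
      ∃ a : N, (a : G) ∈ Subgroup.centralizer (P : Set G) ∧
        ¬ Cfsg.MemLocalIdeal M (Cfsg.blockCoeff (orbitSet (G := G) c) a) := by
  classical
  haveI := Fintype.ofFinite G
  haveI := fact_prime_of_pm hM
  haveI := Fintype.ofFinite {B : Set (Cfsg.IrrCharacter N) // Cfsg.IsPBlock M B}
  obtain ⟨χ, hχ, θ, hθ, hχθ⟩ := hcov
  set A := orbitSet (G := G) c
  have hAcl : ∀ η ∈ A, ∀ η' : Cfsg.IrrCharacter N,
      Cfsg.SameBlock M (η : N → ℂ) (η' : N → ℂ) → η' ∈ A := fun η h η' hs =>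
    orbitSet_closed hM hc h hs
  have hAi : IntEl M (blockIdem A) := intEl_blockIdem_of_closed hM hAcl
  have hAinv : IsInvEl (blockIdem A) := isInvEl_blockIdem fun g η h => orbitSet_inv g h
  have hBA : blockIdem B * push N (blockIdem A) = blockIdem B := by
    refine central_omega_ext (central_mul (central_blockIdem B) (central_push hAinv))
      (central_blockIdem B) fun ψ => ?_
    rw [omega_mul ψ (central_blockIdem B)]
    by_cases hψ : ψ ∈ B
    · obtain ⟨η, hη⟩ := exists_under (N := N) ψ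
      obtain ⟨g, hg⟩ := constituents_conj_block hM (sameBlock_of_mem hM hB hψ hχ) hη hχθ
      rw [omega_push_eq ψ η hη hAinv, omega_blockIdem_mem hψ,
        omega_blockIdem_mem (A := A) ⟨g, mem_of_sameBlock hM hc hθ (sameBlock_symm hM hg)⟩, mul_one]
    · rw [omega_blockIdem_notMem hψ, zero_mul]
  obtain ⟨g₀, hg₀, hs⟩ := isDefectGroup_iff.1 hP
  have hu : ¬ Cfsg.MemLocalIdeal M ((blockIdem B * push N (blockIdem A)).coeff g₀) := by
    rw [hBA, coeff_blockIdem]; exact hg₀.2.1
  constructor
  · intro hI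
    apply hu
    rw [blockIdem_eq_sum hM hAcl, coeff_mul']
    have hpc : ∀ h : G, (push N (∑ b : {B : Set (Cfsg.IrrCharacter N) // Cfsg.IsPBlock M B},
        if b.1 ⊆ A then blockIdem b.1 else 0)).coeff h =
        ∑ b : {B : Set (Cfsg.IrrCharacter N) // Cfsg.IsPBlock M B},
          (push N (if b.1 ⊆ A then blockIdem b.1 else 0)).coeff h := fun h => by
      by_cases hh : h ∈ N
      · simp [coeff_push_mem _ hh, MonoidAlgebra.coeff_sum, Finsupp.finsetSum_apply]
      · simp [coeff_push_notMem _ hh]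
    simp only [hpc, Finset.mul_sum]
    rw [Finset.sum_comm]
    refine ideal_sum hM fun b _ => ?_
    by_cases hb : b.1 ⊆ A
    swap
    · refine (ideal_sum hM fun h _ => ?_)
      rw [if_neg hb]
      refine ideal_mul_left hM (intEl_blockIdem hM hB h) ?_
      by_cases hh : h⁻¹ * g₀ ∈ N
      · rw [coeff_push_mem _ hh]; simpa using ideal_zero hM
      · rw [coeff_push_notMem _ hh]; exact ideal_zero hM
    rw [if_pos hb]
    obtain ⟨g, hg⟩ := exists_conj_eq hM hc b.2 hb
    have hI' := hI (g⁻¹ * g₀ * g)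
    rw [mix, coeff_mul'] at hI'
    convert hI' using 1
    refine Fintype.sum_equiv (MulAut.conj g⁻¹).toEquiv _ _ fun h => ?_
    simp only [MulEquiv.toEquiv_eq_coe, MulEquiv.coe_toEquiv, MulAut.conj_apply, inv_inv]
    congr 1
    · have h1 := central_blockIdem B h g⁻¹
      rw [inv_inv] at h1
      exact h1.symm
    · rw [show (g⁻¹ * h * g)⁻¹ * (g⁻¹ * g₀ * g) = g⁻¹ * (h⁻¹ * g₀) * g by group]
      by_cases hh : h⁻¹ * g₀ ∈ N
      · rw [coeff_push_mem _ hh, coeff_push_mem _ (by simpa using hN.conj_mem _ hh g⁻¹),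
          coeff_blockIdem, coeff_blockIdem, blockCoeff_conj g hg]
      · rw [coeff_push_notMem _ hh, coeff_push_notMem]
        intro hm
        exact hh (by simpa [mul_assoc] using hN.conj_mem _ hm g)
  · obtain ⟨-, a, ha, hau⟩ := exists_of_coeff_mul_notIdeal hM (isSylCent_isPGroup hs)
      (central_blockIdem B) (central_push hAinv) (intEl_blockIdem hM hB) (intEl_push hM hAi)
      (isSylCent_mem hs) hu
    have haN : a ∈ N := by
      by_contra h
      exact hau (by rw [coeff_push_notMem _ h]; exact ideal_zero hM)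
    refine ⟨⟨a, haN⟩, ha, ?_⟩
    rw [coeff_push_mem _ haN, coeff_blockIdem] at hau
    exact hau

/-- For a covered block with a unit coefficient on `C_N(P)`, `P ⊓ N` is a defect group. -/
theorem defect_of_coeff (hM : Cfsg.IsPModular p M) [Fintype N] (hB : Cfsg.IsPBlock M B)
    (hc : Cfsg.IsPBlock M c) (hne : ¬ IdealEl M (mix B c)) {P : Subgroup G}
    (hP : Cfsg.IsDefectGroup p M B P) {a : N} (ha : (a : G) ∈ Subgroup.centralizer (P : Set G))
    (hau : ¬ Cfsg.MemLocalIdeal M (Cfsg.blockCoeff c a)) :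
    Cfsg.IsDefectGroup p M c ((P ⊓ N).subgroupOf N) := by
  haveI := fact_prime_of_pm hM
  obtain ⟨Q, hQ⟩ := exists_defectGroup hM hc
  set R := (P ⊓ N).subgroupOf N
  have hRp : IsPGroup p R :=
    ((isPGroup_defect hP).to_le inf_le_left).comap_subtype
  obtain ⟨m, hm⟩ := le_defect_of_coeff hM hc hQ hau hRp
    (Subgroup.mem_centralizer_iff.2 fun r hr => Subtype.ext
      (Subgroup.mem_centralizer_iff.1 ha r (Subgroup.mem_inf.1 hr).1))
  obtain ⟨x, hx⟩ := le_defect hM hB hc hne hP hQ
  have hcard : Nat.card (Q.map (MulAut.conj m).toMonoidHom) ≤ Nat.card R := by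
    rw [card_map_conj, Nat.card_congr (Subgroup.subgroupOfEquivOfLe inf_le_right).toEquiv]
    calc Nat.card Q = Nat.card (Q.map N.subtype) :=
          (Subgroup.card_map_of_injective N.subtype_injective).symm
      _ ≤ Nat.card ((P.map (MulAut.conj x).toMonoidHom ⊓ N : Subgroup G)) :=
          Subgroup.card_le_of_le (le_inf hx (Subgroup.map_subtype_le Q))
      _ = Nat.card ((P ⊓ N : Subgroup G).map (MulAut.conj x).toMonoidHom) := by
          rw [Subgroup.map_inf _ _ _ (MulAut.conj x).injective, map_conj_eq_self (N := N) x]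
      _ = _ := card_map_conj _ _
  rw [eq_of_le_of_card_le hm hcard]
  exact defectGroup_conj hM hQ m
where
  map_conj_eq_self {N : Subgroup G} [hN : N.Normal] (x : G) :
      N.map (MulAut.conj x).toMonoidHom = N := by
    refine le_antisymm ?_ fun n hn => ⟨x⁻¹ * n * x, by simpa using hN.conj_mem n hn x⁻¹, by
      simp [mul_assoc]⟩
    rintro _ ⟨n, hn, rfl⟩
    exact hN.conj_mem n hn x

/-- Some conjugate of `c` has defect group `P ⊓ N`. -/
theorem exists_conj_defect (hM : Cfsg.IsPModular p M) [Fintype N] (hB : Cfsg.IsPBlock M B)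
    (hc : Cfsg.IsPBlock M c)
    (hcov : ∃ χ ∈ B, ∃ θ ∈ c, Cfsg.classInner (fun n : N => (χ : G → ℂ) n) (θ : N → ℂ) ≠ 0)
    {P : Subgroup G} (hP : Cfsg.IsDefectGroup p M B P) :
    ∃ (c' : Set (Cfsg.IrrCharacter N)) (g : G), Cfsg.IsPBlock M c' ∧
      (∀ η, η ∈ c' ↔ conjIrr g η ∈ c) ∧
      (∃ χ ∈ B, ∃ θ ∈ c', Cfsg.classInner (fun n : N => (χ : G → ℂ) n) (θ : N → ℂ) ≠ 0) ∧
      Cfsg.IsDefectGroup p M c' ((P ⊓ N).subgroupOf N) ∧
      ∀ x ∈ P, Cfsg.StabilizesBlock N c' x := by
  classical
  haveI := fact_prime_of_pm hM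
  haveI := Fintype.ofFinite {B : Set (Cfsg.IrrCharacter N) // Cfsg.IsPBlock M B}
  obtain ⟨-, a, ha, hau⟩ := covering_data hM hB hc hcov hP
  have hAcl : ∀ η ∈ orbitSet (G := G) c, ∀ η' : Cfsg.IrrCharacter N,
      Cfsg.SameBlock M (η : N → ℂ) (η' : N → ℂ) → η' ∈ orbitSet (G := G) c :=
    fun η h η' hs => orbitSet_closed hM hc h hs
  rw [← coeff_blockIdem, blockIdem_eq_sum hM hAcl, MonoidAlgebra.coeff_sum,
    Finsupp.finsetSum_apply] at hau
  -- `P` permutes the blocks
  let Bl := {B : Set (Cfsg.IrrCharacter N) // Cfsg.IsPBlock M B}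
  let act : P → Bl → Bl := fun u b => ⟨{η | conjIrr (u : G) η ∈ b.1}, by
    obtain ⟨η₀, hη₀⟩ := block_nonempty hM b.2
    refine ⟨conjIrr (u : G)⁻¹ η₀, Set.ext fun η => ⟨fun h => ?_, fun h => ?_⟩⟩
    · have h1 := sameBlock_conjIrr (u : G)⁻¹ (sameBlock_of_mem hM b.2 hη₀ h)
      rw [conjIrr_conjIrr (u : G)⁻¹ (u : G) η, mul_inv_cancel, conjIrr_one] at h1
      exact h1
    · have h1 := sameBlock_conjIrr (u : G) h
      rw [conjIrr_conjIrr, inv_mul_cancel, conjIrr_one] at h1
      exact mem_of_sameBlock hM b.2 hη₀ h1⟩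
  letI : MulAction P Bl :=
    { smul := act
      one_smul := fun b => Subtype.ext (Set.ext fun η => by
        show conjIrr ((1 : P) : G) η ∈ b.1 ↔ η ∈ b.1
        rw [OneMemClass.coe_one, conjIrr_one])
      mul_smul := fun u v b => Subtype.ext (Set.ext fun η => by
        show conjIrr ((u * v : P) : G) η ∈ b.1 ↔ conjIrr (v : G) (conjIrr (u : G) η) ∈ b.1
        rw [conjIrr_conjIrr, Subgroup.coe_mul]) }
  have hcong := cong_sum_fixed hM (isPGroup_defect hP) (X := Bl)
    (fun b => (if b.1 ⊆ orbitSet (G := G) c then blockIdem b.1 else 0).coeff a)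
    (fun b => by
      split
      · exact intEl_blockIdem hM b.2 a
      · simpa using ring_zero hM)
    (fun u b => by
      have hmem : ∀ η, η ∈ (u • b : Bl).1 ↔ conjIrr (u : G) η ∈ b.1 := fun η => Iff.rfl
      have hsub : (u • b : Bl).1 ⊆ orbitSet (G := G) c ↔ b.1 ⊆ orbitSet (G := G) c := by
        refine ⟨fun h η hη => ?_, fun h η hη => ?_⟩
        · have h1 := orbitSet_inv (c := c) (u : G) (h ((hmem (conjIrr (u : G)⁻¹ η)).2 (by
            rwa [conjIrr_conjIrr, inv_mul_cancel, conjIrr_one])))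
          rwa [conjIrr_conjIrr, inv_mul_cancel, conjIrr_one] at h1
        · have h1 := orbitSet_inv (c := c) (u : G)⁻¹ (h ((hmem η).1 hη))
          rwa [conjIrr_conjIrr, mul_inv_cancel, conjIrr_one] at h1
      by_cases h : b.1 ⊆ orbitSet (G := G) c
      · rw [if_pos h, if_pos (hsub.2 h), coeff_blockIdem, coeff_blockIdem,
          blockCoeff_conj (u : G) hmem]
        refine congrArg _ (Subtype.ext ?_)
        have := Subgroup.mem_centralizer_iff.1 ha u u.2
        show (u : G)⁻¹ * a * u = a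
        rw [mul_assoc, ← this, inv_mul_cancel_left]
      · rw [if_neg h, if_neg fun h' => h (hsub.1 h')])
    (Finset.univ.filter fun b => ∀ u : P, u • b = b) (fun b => by simp)
  rw [ideal_iff_of_cong hM hcong] at hau
  obtain ⟨b, hb, hbu⟩ : ∃ b ∈ Finset.univ.filter (fun b : Bl => ∀ u : P, u • b = b),
      ¬ Cfsg.MemLocalIdeal M ((if b.1 ⊆ orbitSet (G := G) c then blockIdem b.1 else 0).coeff a) := by
    by_contra hno
    push Not at hno
    exact hau (ideal_sum hM hno)
  have hsub : b.1 ⊆ orbitSet (G := G) c := by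
    by_contra h
    rw [if_neg h] at hbu
    exact hbu (by simpa using ideal_zero hM)
  rw [if_pos hsub, coeff_blockIdem] at hbu
  obtain ⟨g, hg⟩ := exists_conj_eq hM hc b.2 hsub
  have hcov' : ∃ χ ∈ B, ∃ θ ∈ b.1,
      Cfsg.classInner (fun n : N => (χ : G → ℂ) n) (θ : N → ℂ) ≠ 0 := by
    obtain ⟨χ, hχ, θ, hθ, h⟩ := hcov
    refine ⟨χ, hχ, conjIrr g⁻¹ θ, (hg _).2 ?_, by rwa [constituent_conjIrr]⟩
    rwa [conjIrr_conjIrr, inv_mul_cancel, conjIrr_one]
  refine ⟨b.1, g, b.2, hg, hcov', defect_of_coeff hM hB b.2 (covering_data hM hB b.2 hcov' hP).1 hP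
    ha hbu, fun x hx => ⟨?_, fun η hη => ?_⟩⟩
  · rw [Subgroup.normalizer_eq_top]; trivial
  · refine ⟨conjIrr x⁻¹ η, ?_, fun k k' hk => ?_⟩
    · rw [← (Finset.mem_filter.1 hb).2 ⟨x, hx⟩]
      show conjIrr x (conjIrr x⁻¹ η) ∈ b.1
      rwa [conjIrr_conjIrr, inv_mul_cancel, conjIrr_one]
    · show Clifford.conjBy N x⁻¹ (η : N → ℂ) k' = _
      rw [Clifford.conjBy_apply]
      exact congrArg _ (Subtype.ext (by simp [hk, mul_assoc]))

end Cfsg.Agent.BlockCharsA.CoveringDefect
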