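import Mathlib
import Cfsg.Prelude.Def_BlockRank
import Cfsg.Agent.Lib.Blocks.Defect
import Cfsg.Agent.Lib.Blocks.RegularSum
import Cfsg.Agent.Lib.CharTheory.BrauerInduction
import Cfsg.Agent.BlockCharsA.NormalSupport

/-!
# The `p`-regular part of a character

`p ^ a` times the restriction of a character to the `p`-regular elements (extended by zero) is a
generalized character; its coefficient at `ξ`, divided by `ξ 1`, is a local integer which modulo
the local ideal depends only on the block of `ξ`, and detects height zero.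
-/

set_option linter.style.haveILetI false

namespace Cfsg.Agent.BlockCharsA.RegularPart

open Cfsg.Agent.Blocks Cfsg.Agent.Characters Cfsg.Agent.CharTheory
open scoped ComplexConjugate

variable {G : Type*} [Group G] {p : ℕ} {M : Ideal Cfsg.AlgInt}

/-- `c` times the regular part of `χ`. -/
noncomputable def hat (p : ℕ) (c : ℂ) (χ : G → ℂ) : G → ℂ :=
  fun x => if p ∣ orderOf x then 0 else c * χ x

theorem orderOf_conj' (g h : G) : orderOf (h * g * h⁻¹) = orderOf g := by
  simpa using orderOf_injective (MulAut.conj h).toMonoidHom (MulAut.conj h).injective g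

theorem hat_isClassFunction {c : ℂ} {χ : G → ℂ} (hχ : Cfsg.IsClassFunction G χ) :
    Cfsg.IsClassFunction G (hat p c χ) := fun g h => by
  simp only [hat, orderOf_conj', hχ g h]

theorem hat_eq_smul (c : ℂ) (χ : G → ℂ) : hat p c χ = c • hat p 1 χ := by
  funext x; simp [hat]

theorem pRegularPart_eq (χ : G → ℂ) (x : G) : Cfsg.pRegularPart p χ x = hat p 1 χ x := by
  by_cases h : p ∣ orderOf x <;> simp [Cfsg.pRegularPart, Cfsg.IsPRegular, hat, h]

variable [Finite G]

/-- In an elementary group the regular elements form a normal subgroup of `p`-power index. -/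
theorem exists_regular_subgroup (hp : p.Prime) {q : ℕ} (hq : q.Prime)
    (hE : Cfsg.IsElementary q G) :
    ∃ R : Subgroup G, R.Normal ∧ (∀ g, g ∈ R ↔ ¬ p ∣ orderOf g) ∧
      ∃ t, R.index = p ^ t ∧ t ≤ (Nat.card G).factorization p := by
  obtain ⟨x, hx, hcop, k, hk⟩ := hE
  haveI := Fact.mk hp
  haveI hCn : (Subgroup.zpowers x).Normal := ⟨fun y hy g => by
    obtain ⟨i, rfl⟩ := Subgroup.mem_zpowers_iff.1 hy
    rw [(Subgroup.mem_center_iff.1 (Subgroup.zpow_mem _ hx i) g), mul_inv_cancel_right]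
    exact hy⟩
  have hmk : ∀ g : G, g ^ q ^ k ∈ Subgroup.zpowers x := fun g => by
    rw [← hk]; exact Subgroup.pow_index_mem _ g
  suffices h : ∃ R : Subgroup G, R.Normal ∧ ∀ g, g ∈ R ↔ ¬ p ∣ orderOf g by
    obtain ⟨R, hRn, hR⟩ := h
    have hq' : IsPGroup p (G ⧸ R) := by
      rw [isPGroup_iff_pow_pow_eq_one]
      intro y
      obtain ⟨g, rfl⟩ := QuotientGroup.mk_surjective y
      refine ⟨(orderOf g).factorization p, ?_⟩
      rw [← QuotientGroup.mk_pow, QuotientGroup.eq_one_iff, hR, orderOf_pow_of_dvd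
        (pow_ne_zero _ hp.ne_zero) (Nat.ordProj_dvd _ _)]
      exact Nat.not_dvd_ordCompl hp (orderOf_pos g).ne'
    obtain ⟨t, ht⟩ := hq'.exists_card_eq
    refine ⟨R, hRn, hR, t, ht, (hp.pow_dvd_iff_le_factorization Nat.card_pos.ne').1 ?_⟩
    rw [← ht]
    exact R.index_dvd_card
  rcases eq_or_ne q p with rfl | hqp
  · refine ⟨Subgroup.zpowers x, hCn, fun g => ⟨fun hg hd => ?_, fun hg => ?_⟩⟩
    · have : orderOf g ∣ orderOf x := by
        rw [← Nat.card_zpowers x]; exact (Subgroup.zpowers x).orderOf_dvd_natCard hg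
      exact (hp.coprime_iff_not_dvd.1 hcop.symm) (hd.trans this)
    · obtain ⟨m, hm⟩ := exists_pow_eq_self_of_coprime
        (show (q ^ k).Coprime (orderOf g) from
          Nat.Coprime.pow_left k (hp.coprime_iff_not_dvd.2 hg))
      rw [← hm]
      exact Subgroup.pow_mem _ (hmk g) m
  · set Z := Subgroup.center G
    obtain ⟨j, -, hj⟩ := (Nat.dvd_prime_pow hq).1
      (hk ▸ Subgroup.index_dvd_of_le (Subgroup.zpowers_le.2 hx) :
        Z.index ∣ q ^ k)
    let R₀ : Subgroup Z :=
      { carrier := {z | ¬ p ∣ orderOf z}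
        one_mem' := by simp [hp.ne_one]
        mul_mem' := fun {a b} ha hb h => by
          rcases hp.dvd_mul.1 (h.trans
            (((show Commute a b from Subtype.ext (Subgroup.mem_center_iff.1 b.2 (a : G))).orderOf_mul_dvd_lcm).trans (Nat.lcm_dvd_mul _ _))) with h1 | h1
          · exact ha h1
          · exact hb h1
        inv_mem' := fun {a} ha => by simpa using ha }
    refine ⟨R₀.comap (MonoidHom.transferCenterPow G), ?_, fun g => ?_⟩
    · haveI : R₀.Normal := ⟨fun n hn g => by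
        rwa [show g * n = n * g from Subtype.ext (Subgroup.mem_center_iff.1 n.2 (g : G)), mul_inv_cancel_right]⟩
      exact inferInstance
    · show ¬ p ∣ orderOf (MonoidHom.transferCenterPow G g) ↔ _
      rw [← Subgroup.orderOf_coe, MonoidHom.transferCenterPow_apply, hj, not_iff_not]
      refine ⟨fun h => h.trans (orderOf_pow_dvd _), fun h => ?_⟩
      have hd : orderOf g ∣ q ^ j * orderOf (g ^ q ^ j) := by
        rw [orderOf_dvd_iff_pow_eq_one, pow_mul, pow_orderOf_eq_one]
      rcases hp.dvd_mul.1 (h.trans hd) with h1 | h1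
      · exact absurd ((Nat.prime_dvd_prime_iff_eq hp hq).1 (hp.dvd_of_dvd_pow h1)).symm hqp
      · exact h1

/-- `p ^ a` times the regular part of a character is a generalized character. -/
theorem isGen_hat [Fintype G] (hp : p.Prime) {χ : G → ℂ} (hχ : Cfsg.IsCharacter G χ) :
    Cfsg.IsGeneralizedCharacter G
      (hat p ((p ^ (Nat.card G).factorization p : ℕ) : ℂ) χ) := by
  refine BrauerInduction.isGen_of_elementary (hat_isClassFunction (char_isClassFunction hχ))
    fun E q hq hE => ?_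
  letI : Fintype E := Fintype.ofFinite E
  obtain ⟨R, hRn, hR, t, ht, hta⟩ := exists_regular_subgroup (G := E) hp hq hE
  haveI := hRn
  haveI : Fintype R := Fintype.ofFinite R
  set χE : E → ℂ := fun e => χ e
  have hχE : Cfsg.IsCharacter E χE := isCharacter_restrict E hχ
  have hta' : t ≤ (Nat.card G).factorization p :=
    hta.trans ((Nat.factorization_le_iff_dvd Nat.card_pos.ne' Nat.card_pos.ne').2
      (Subgroup.card_subgroup_dvd_card E) p)
  have heq : (fun e : E => hat p ((p ^ (Nat.card G).factorization p : ℕ) : ℂ) χ e) =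
      (((p ^ ((Nat.card G).factorization p - t) : ℕ) : ℤ) : ℂ) •
        Cfsg.indFun R (fun r : R => χE r) := by
    funext e
    rw [Pi.smul_apply, smul_eq_mul, Int.cast_natCast]
    by_cases he : p ∣ orderOf e
    · rw [Clifford.indFun_of_notMem R _ (fun h => (hR e).1 h he), mul_zero, hat,
        if_pos (by rwa [Subgroup.orderOf_coe])]
    · rw [hat, if_neg (by rwa [Subgroup.orderOf_coe]),
        show Cfsg.indFun R (fun r : R => χE r) e = (R.index : ℂ) * χE e from
          Clifford.indFun_coe_of_invariant R (fun g => Clifford.conjBy_restrict R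
            (char_isClassFunction hχE) g) ⟨e, (hR e).2 he⟩, ht, ← mul_assoc, ← Nat.cast_mul,
        ← pow_add, Nat.sub_add_cancel hta']
  rw [heq]
  exact isGen_intSmul (isGen_of_isCharacter (isCharacter_indFun R (isCharacter_restrict R hχE))) _

/-- The central element attached to the regular part of a character. -/
noncomputable def regEl (p : ℕ) (χ : G → ℂ) : MonoidAlgebra ℂ G :=
  ofFun fun x => if p ∣ orderOf x then 0 else χ x⁻¹

theorem central_regEl {χ : G → ℂ} (hχ : Cfsg.IsClassFunction G χ) :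
    IsCentralEl (regEl p χ) :=
  central_ofFun fun g h => by
    simp only [orderOf_conj']
    rw [show (h * g * h⁻¹)⁻¹ = h * g⁻¹ * h⁻¹ by group, hχ]

theorem coeff_regEl (χ : G → ℂ) (x : G) :
    (regEl p χ).coeff x = if p ∣ orderOf x then 0 else χ x⁻¹ := by simp [regEl]

theorem intEl_regEl (hM : Cfsg.IsPModular p M) {χ : G → ℂ} (hχ : Cfsg.IsCharacter G χ) :
    IntEl M (regEl p χ) := fun x => by
  rw [coeff_regEl]
  split
  · exact ring_zero hM
  · exact ring_of_isIntegral hM (char_value_isIntegral hχ _)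

theorem classInner_hat [Fintype G] (c : ℂ) (χ : G → ℂ) (ξ : Cfsg.IrrCharacter G) :
    Cfsg.classInner (hat p c χ) (ξ : G → ℂ) =
      c / (Nat.card G : ℂ) * ((ξ : G → ℂ) 1 * omega (ξ : G → ℂ) (regEl p χ)) := by
  classical
  rw [omega, mul_div_cancel₀ _ (irr_one_ne_zero ξ.2), evalChar_eq_sum, classInner_def,
    Finset.mul_sum, Finset.mul_sum]
  refine Fintype.sum_equiv (Equiv.inv G) _ _ fun x => ?_
  simp only [Equiv.inv_apply, coeff_regEl, orderOf_inv, inv_inv, hat]
  split
  · simp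
  · rw [char_inv (irr_isCharacter ξ)]; ring

/-- An integer with local quotient by a power of `p` is divisible by it. -/
theorem dvd_of_div_ring (hM : Cfsg.IsPModular p M) : ∀ {v : ℕ} {z : ℤ},
    Cfsg.MemLocalRing M ((z : ℂ) / (p : ℂ) ^ v) → (p : ℤ) ^ v ∣ z := by
  intro v
  induction v with
  | zero => intro z _; simp
  | succ v ih =>
    intro z hz
    have hp0 : (p : ℂ) ≠ 0 := Nat.cast_ne_zero.2 hM.1.ne_zero
    have h1 : Cfsg.MemLocalIdeal M (z : ℂ) := by
      have := ideal_mul_left hM hz (ideal_pow hM (ideal_p hM) v.succ_ne_zero)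
      rwa [div_mul_cancel₀ _ (pow_ne_zero _ hp0)] at this
    obtain ⟨w, rfl⟩ := (ideal_intCast_iff hM z).1 h1
    rw [pow_succ']
    refine mul_dvd_mul_left _ (ih ?_)
    convert hz using 1
    push_cast
    rw [pow_succ']
    field_simp

omit [Finite G] in
/-- An integer quotient by a natural number is a unit exactly for equal valuations. -/
theorem unit_div_iff (hM : Cfsg.IsPModular p M) (z : ℤ) {m : ℕ} (hm : m ≠ 0)
    (hr : Cfsg.MemLocalRing M ((z : ℂ) / (m : ℂ))) :
    ¬ Cfsg.MemLocalIdeal M ((z : ℂ) / (m : ℂ)) ↔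
      z ≠ 0 ∧ padicValInt p z = m.factorization p := by
  rw [padicValInt, ← Nat.factorization_def _ hM.1]
  rcases eq_or_ne z 0 with rfl | hz
  · simp [ideal_zero hM]
  have hn : z.natAbs ≠ 0 := Int.natAbs_ne_zero.2 hz
  have hiff : (Cfsg.MemLocalIdeal M ((z : ℂ) / (m : ℂ)) ↔
      Cfsg.MemLocalIdeal M ((z.natAbs : ℂ) / (m : ℂ))) ∧
      Cfsg.MemLocalRing M ((z.natAbs : ℂ) / (m : ℂ)) := by
    rcases z.natAbs_eq with h | h
    · rw [h, Int.natAbs_natCast]
      rw [h, Int.cast_natCast] at hr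
      exact ⟨by rw [Int.cast_natCast], hr⟩
    · rw [h, Int.natAbs_neg, Int.natAbs_natCast, Int.cast_neg, Int.cast_natCast, neg_div]
      rw [h, Int.cast_neg, Int.cast_natCast, neg_div] at hr
      exact ⟨⟨fun i => by simpa using ideal_neg hM i, ideal_neg hM⟩,
        by simpa using ring_neg hM hr⟩
  rw [hiff.1]
  refine ⟨fun h => ⟨hz, ?_⟩, fun h => not_ideal_natCast_div hM hn hm h.2.symm⟩
  rcases lt_trichotomy (z.natAbs.factorization p) (m.factorization p) with h1 | h1 | h1
  · exfalso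
    have h2 := ideal_mul_right hM (ideal_natCast_div hM hn h1) hiff.2
    rw [div_mul_div_comm, mul_comm (m : ℂ), div_self (mul_ne_zero (Nat.cast_ne_zero.2 hn)
      (Nat.cast_ne_zero.2 hm))] at h2
    exact not_ideal_one hM h2
  · exact h1
  · exact absurd (ideal_natCast_div hM hm h1) h

/-- The coefficient divided by the degree. -/
noncomputable def ratio (p : ℕ) (χ : G → ℂ) (ξ : G → ℂ) : ℂ :=
  ((p ^ (Nat.card G).factorization p : ℕ) : ℂ) / (Nat.card G : ℂ) * omega ξ (regEl p χ)

theorem card_unit (hM : Cfsg.IsPModular p M) :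
    Cfsg.MemLocalRing M (((p ^ (Nat.card G).factorization p : ℕ) : ℂ) / (Nat.card G : ℂ)) :=
  ring_natCast_div hM Nat.card_pos.ne' (by rw [hM.1.factorization_pow, Finsupp.single_eq_same])

theorem ratio_ring (hM : Cfsg.IsPModular p M) (χ ξ : Cfsg.IrrCharacter G) :
    Cfsg.MemLocalRing M (ratio p (χ : G → ℂ) (ξ : G → ℂ)) :=
  ring_mul hM (card_unit hM)
    (omega_ring hM ξ (central_regEl (irr_isClassFunction χ)) (intEl_regEl hM (irr_isCharacter χ)))

theorem ratio_cong (hM : Cfsg.IsPModular p M) {B : Set (Cfsg.IrrCharacter G)}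
    (hB : Cfsg.IsPBlock M B) (χ : Cfsg.IrrCharacter G) {ξ ψ : Cfsg.IrrCharacter G}
    (hξ : ξ ∈ B) (hψ : ψ ∈ B) :
    Cong M (ratio p (χ : G → ℂ) (ξ : G → ℂ)) (ratio p (χ : G → ℂ) (ψ : G → ℂ)) :=
  cong_mul_left hM (card_unit hM) (omega_cong_of_mem hM hB hξ hψ
    (central_regEl (irr_isClassFunction χ)) (intEl_regEl hM (irr_isCharacter χ)))

/-- The coefficient is an integer, divisible by the `p`-part of the degree. -/
theorem exists_coeff [Fintype G] (hM : Cfsg.IsPModular p M) (χ ξ : Cfsg.IrrCharacter G) :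
    ∃ z : ℤ, Cfsg.classInner (hat p ((p ^ (Nat.card G).factorization p : ℕ) : ℂ) (χ : G → ℂ))
        (ξ : G → ℂ) = (z : ℂ) ∧
      (z : ℂ) = (Cfsg.charDegree (ξ : G → ℂ) : ℂ) * ratio p (χ : G → ℂ) (ξ : G → ℂ) ∧
      (p : ℤ) ^ (Cfsg.charDegree (ξ : G → ℂ)).factorization p ∣ z := by
  obtain ⟨z, hz⟩ := classInner_gen_int (isGen_hat hM.1 (irr_isCharacter χ))
    (isGen_of_isCharacter (irr_isCharacter ξ))
  have hz' : (z : ℂ) = (Cfsg.charDegree (ξ : G → ℂ) : ℂ) * ratio p (χ : G → ℂ) (ξ : G → ℂ) := by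
    rw [← hz, classInner_hat, ratio, charDegree_cast]; ring
  refine ⟨z, hz, hz', dvd_of_div_ring hM ?_⟩
  obtain ⟨u, -, hu⟩ := exists_natCast_eq_pow_mul hM (charDegree_pos ξ).ne'
  have hp0 : (p : ℂ) ≠ 0 := Nat.cast_ne_zero.2 hM.1.ne_zero
  rw [hz', hu, mul_assoc, mul_div_cancel_left₀ _ (pow_ne_zero _ hp0)]
  exact ring_mul hM (ring_natCast hM u) (ratio_ring hM χ ξ)

theorem ratio_eq_zero [Fintype G] (hM : Cfsg.IsPModular p M) {χ ξ : Cfsg.IrrCharacter G}
    (h : ¬ Cfsg.SameBlock M (χ : G → ℂ) (ξ : G → ℂ)) :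
    Cfsg.classInner (hat p ((p ^ (Nat.card G).factorization p : ℕ) : ℂ) (χ : G → ℂ))
      (ξ : G → ℂ) = 0 := by
  classical
  have h0 := regSum_eq_zero_of_not_sameBlock hM h
  rw [regSum_eq_sum] at h0
  rw [classInner_def]
  refine mul_eq_zero_of_right _ ?_
  rw [← mul_zero ((p ^ (Nat.card G).factorization p : ℕ) : ℂ), ← h0, Finset.mul_sum]
  refine Finset.sum_congr rfl fun x _ => ?_
  by_cases hx : p ∣ orderOf x
  · simp [hat, hx]
  · simp [hat, hx, mul_assoc]

theorem ratio_symm [Fintype G] (χ ξ : Cfsg.IrrCharacter G) :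
    (ξ : G → ℂ) 1 * ratio p (χ : G → ℂ) (ξ : G → ℂ) =
      (χ : G → ℂ) 1 * ratio p (ξ : G → ℂ) (χ : G → ℂ) := by
  have h : ∀ a b : Cfsg.IrrCharacter G, (b : G → ℂ) 1 * omega (b : G → ℂ) (regEl p (a : G → ℂ)) =
      ∑ x : G, if p ∣ orderOf x then 0 else (a : G → ℂ) x⁻¹ * (b : G → ℂ) x := fun a b => by
    rw [omega, mul_div_cancel₀ _ (irr_one_ne_zero b.2), evalChar_eq_sum]
    exact Finset.sum_congr rfl fun x _ => by rw [coeff_regEl]; split <;> simp
  simp only [ratio]
  rw [mul_left_comm, h χ ξ, mul_left_comm ((χ : G → ℂ) 1), h ξ χ]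
  congr 1
  refine Fintype.sum_equiv (Equiv.inv G) _ _ fun x => ?_
  simp [mul_comm]

open scoped Classical in
/-- The ratio is a unit exactly for characters of height zero. -/
theorem ratio_unit_iff [Fintype G] (hM : Cfsg.IsPModular p M) {B : Set (Cfsg.IrrCharacter G)}
    (hB : Cfsg.IsPBlock M B) {χ ξ : Cfsg.IrrCharacter G} (hχ : χ ∈ B) (hξ : ξ ∈ B) :
    ¬ Cfsg.MemLocalIdeal M (ratio p (χ : G → ℂ) (ξ : G → ℂ)) ↔
      Cfsg.blockHeight p B (χ : G → ℂ) = 0 := by
  haveI := fact_prime_of_pm hM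
  haveI := Fintype.ofFinite (Cfsg.IrrCharacter G)
  rw [ideal_iff_of_cong hM (ratio_cong hM hB χ hξ hχ)]
  obtain ⟨ψ, hψ, hψh⟩ := exists_height_zero hM hB
  have hfχ := degree_factorization_eq hM hB hχ
  have hfψ := degree_factorization_eq hM hB hψ
  set a := (Nat.card G).factorization p with ha
  set d := Cfsg.blockDefect p B
  constructor
  · intro hu
    by_contra hh
    apply hu
    rw [ideal_iff_of_cong hM (ratio_cong hM hB χ hχ hψ)]
    have heq : ratio p (χ : G → ℂ) (ψ : G → ℂ) = ((Cfsg.charDegree (χ : G → ℂ) : ℕ) : ℂ) /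
        ((Cfsg.charDegree (ψ : G → ℂ) : ℕ) : ℂ) * ratio p (ψ : G → ℂ) (χ : G → ℂ) := by
      rw [div_mul_eq_mul_div, eq_div_iff (Nat.cast_ne_zero.2 (charDegree_pos ψ).ne'),
        charDegree_cast, charDegree_cast, mul_comm, ratio_symm]
    rw [heq]
    exact ideal_mul_right hM (ideal_natCast_div hM (charDegree_pos ψ).ne' (by omega))
      (ratio_ring hM ψ χ)
  · intro hh hi
    obtain ⟨P⟩ : Nonempty (Sylow p G) := inferInstance
    haveI : Fintype (P : Subgroup G) := Fintype.ofFinite _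
    set c : Cfsg.IrrCharacter G → ℂ := fun θ => if θ ∈ B then
      ((Cfsg.charDegree (θ : G → ℂ) : ℕ) : ℂ) / ((p ^ (a - d) : ℕ) : ℂ) *
        ratio p (χ : G → ℂ) (θ : G → ℂ) else 0 with hc
    have hfpow : ∀ n, (p ^ n).factorization p = n := fun n => by
      rw [hM.1.factorization_pow, Finsupp.single_eq_same]
    have hcideal : ∀ θ, Cfsg.MemLocalIdeal M (c θ) := fun θ => by
      simp only [c]
      split_ifs with hθ
      · have := degree_factorization_eq hM hB hθ
        exact ideal_mul_left hM (ring_natCast_div hM (pow_ne_zero _ hM.1.ne_zero)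
          (by rw [hfpow]; omega)) ((ideal_iff_of_cong hM (ratio_cong hM hB χ hθ hχ)).2 hi)
      · exact ideal_zero hM
    have hexp : ∀ t : G, ∑ θ : Cfsg.IrrCharacter G, c θ * (θ : G → ℂ) t =
        hat p ((p ^ a : ℕ) : ℂ) (χ : G → ℂ) t / ((p ^ (a - d) : ℕ) : ℂ) := by
      intro t
      have h1 := congrFun (classFun_eq_sum (hat_isClassFunction (p := p)
        (c := ((p ^ a : ℕ) : ℂ)) (irr_isClassFunction χ))) t
      rw [h1]
      simp only [Finset.sum_apply, Pi.smul_apply, smul_eq_mul, Finset.sum_div]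
      refine Finset.sum_congr rfl fun θ _ => ?_
      simp only [c]
      by_cases hθ : θ ∈ B
      · rw [if_pos hθ, ha, classInner_hat, ratio, charDegree_cast]; ring
      · rw [if_neg hθ, ha, ratio_eq_zero hM fun e => hθ (mem_of_sameBlock hM hB hχ e)]; simp
    have h1 : ∑ t : (P : Subgroup G), ∑ θ : Cfsg.IrrCharacter G, c θ * (θ : G → ℂ) t =
        ((p ^ a : ℕ) : ℂ) * (χ : G → ℂ) 1 / ((p ^ (a - d) : ℕ) : ℂ) := by
      simp only [hexp]
      rw [Finset.sum_eq_single (1 : (P : Subgroup G))]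
      · simp [hat, hM.1.ne_one]
      · intro t _ ht
        obtain ⟨i, hi⟩ := IsPGroup.iff_orderOf.1 P.2 t
        have : p ∣ orderOf (t : G) := by
          rw [Subgroup.orderOf_coe, hi]
          rcases Nat.eq_zero_or_pos i with rfl | hpos
          · exact absurd (orderOf_eq_one_iff.1 (by rw [hi, pow_zero])) ht
          · exact dvd_pow_self p hpos.ne'
        simp only [hat, if_pos this, zero_div]
      · simp
    have h2 : Cfsg.MemLocalIdeal M
        (((Cfsg.charDegree (χ : G → ℂ) : ℕ) : ℂ) / ((p ^ (a - d) : ℕ) : ℂ)) := by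
      have : ((Cfsg.charDegree (χ : G → ℂ) : ℕ) : ℂ) / ((p ^ (a - d) : ℕ) : ℂ) =
          ∑ θ : Cfsg.IrrCharacter G, c θ *
            ((Nat.card (P : Subgroup G) : ℂ)⁻¹ * ∑ t : (P : Subgroup G), (θ : G → ℂ) t) := by
        calc _ = (Nat.card (P : Subgroup G) : ℂ)⁻¹ *
              (((p ^ a : ℕ) : ℂ) * (χ : G → ℂ) 1 / ((p ^ (a - d) : ℕ) : ℂ)) := by
              rw [P.card_eq_multiplicity, ← ha, charDegree_cast, mul_div_assoc,
                inv_mul_cancel_left₀ (natCast_p_pow_ne_zero hM a)]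
          _ = _ := by
              rw [← h1, Finset.sum_comm, Finset.mul_sum]
              refine Finset.sum_congr rfl fun θ _ => ?_
              rw [← Finset.mul_sum]; ring
      rw [this]
      refine ideal_sum hM fun θ _ => ideal_mul_right hM (hcideal θ) (ring_of_isIntegral hM ?_)
      have := avg_coset_isIntegral (D := (P : Subgroup G)) (y := 1) (by simp) (irr_isCharacter θ)
      simpa only [one_mul] using this
    refine not_ideal_natCast_div hM (charDegree_pos χ).ne' (pow_ne_zero _ hM.1.ne_zero) ?_ h2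
    rw [hfpow]; omega

open scoped Classical in
/-- Summation over a subgroup against a central element, by classes of the whole group. -/
theorem omega_res_eq_sum [Fintype (ConjClasses G)] (H : Subgroup G) {ψ : H → ℂ}
    {z : MonoidAlgebra ℂ G} (hz : IsCentralEl z) :
    omega ψ (NormalSupport.res H z) =
      ∑ C : ConjClasses G, z.coeff C.out * Cfsg.inducedCentralChar H ψ C.out := by
  haveI := Fintype.ofFinite H
  rw [omega, evalChar_eq_sum, Finset.sum_div]
  have hind : ∀ g : G, Cfsg.inducedCentralChar H ψ g =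
      ∑ h : H, if IsConj g (h : G) then ψ h / ψ 1 else 0 := fun g => by
    rw [Cfsg.inducedCentralChar, finsum_mem_def, finsum_eq_sum_of_fintype]
    refine Finset.sum_congr rfl fun h _ => ?_
    simp only [Set.indicator_apply, Set.mem_ofPred_eq]
  simp only [NormalSupport.coeff_res, hind, Finset.mul_sum]
  rw [Finset.sum_comm]
  refine Finset.sum_congr rfl fun h _ => ?_
  rw [Finset.sum_eq_single (ConjClasses.mk (h : G))]
  · have hc : IsConj (ConjClasses.mk (h : G)).out (h : G) :=
      ConjClasses.mk_eq_mk_iff_isConj.1 (Quotient.out_eq _)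
    rw [if_pos hc, central_isConj hz hc, mul_div_assoc]
  · intro C _ hne
    rw [if_neg, mul_zero]
    exact fun hc => hne ((Quotient.out_eq C).symm.trans (ConjClasses.mk_eq_mk_iff_isConj.2 hc))
  · simp

theorem omega_res_cong (hM : Cfsg.IsPModular p M) {H : Subgroup G}
    {b : Set (Cfsg.IrrCharacter H)} {B₀ : Set (Cfsg.IrrCharacter G)}
    (hind : Cfsg.IsInducedBlock M H b B₀) {ψ : Cfsg.IrrCharacter H} (hψ : ψ ∈ b)
    {χ : Cfsg.IrrCharacter G} (hχ : χ ∈ B₀) {z : MonoidAlgebra ℂ G} (hz : IsCentralEl z)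
    (hi : IntEl M z) :
    Cong M (omega (ψ : H → ℂ) (NormalSupport.res H z)) (omega (χ : G → ℂ) z) := by
  classical
  haveI := Fintype.ofFinite (ConjClasses G)
  rw [omega_res_eq_sum H hz]
  conv_rhs => rw [central_eq_sum hz, omega_sum]
  refine cong_sum hM fun C _ => ?_
  rw [omega_smul, omega_classSum (irr_isClassFunction χ)]
  exact cong_mul_left hM (hi _) (hind.2.2 ψ hψ χ hχ C.out)

end Cfsg.Agent.BlockCharsA.RegularPart
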