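import Mathlib
import Cfsg.Agent.BlockCharsA.DefectZeroVanish
import Cfsg.Agent.BlockCharsA.NormalSupport
import Cfsg.Agent.Lib.Characters.Normal
import Cfsg.Agent.S0887

/-!
# Brauer pairs with a weight
-/

set_option linter.style.haveILetI false
set_option linter.unusedSectionVars false

namespace Cfsg.Agent.BlockCharsA.Weight

open Cfsg.Agent.Blocks Cfsg.Agent.Characters
open scoped ComplexConjugate

variable {G : Type*} [Group G] [Finite G] {p : ℕ} {M : Ideal Cfsg.AlgInt}

theorem factorization_card_quotient (Z : Subgroup G) (p : ℕ) :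
    (Nat.card (G ⧸ Z)).factorization p + (Nat.card Z).factorization p =
      (Nat.card G).factorization p := by
  rw [Subgroup.card_eq_card_quotient_mul_card_subgroup Z,
    Nat.factorization_mul Nat.card_pos.ne' Nat.card_pos.ne', Finsupp.add_apply]

theorem value_mul_central (χ : Cfsg.IrrCharacter G) {t : G} (ht : ∀ x : G, Commute t x) (g : G) :
    (χ : G → ℂ) (t * g) = (χ : G → ℂ) t / (χ : G → ℂ) 1 * (χ : G → ℂ) g := by
  classical
  have hz : IsCentralEl (MonoidAlgebra.single t (1 : ℂ)) := fun x h => by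
    rw [MonoidAlgebra.coeff_single, Finsupp.single_apply, Finsupp.single_apply]
    refine if_congr ⟨fun e => ?_, fun e => ?_⟩ rfl rfl
    · have : x = h⁻¹ * t * h := by rw [e]; group
      rw [this, mul_assoc, (ht h).eq, inv_mul_cancel_left]
    · rw [← e, ← (ht h).eq, mul_inv_cancel_right]
  have h := evalChar_central_mul χ hz (MonoidAlgebra.single g (1 : ℂ))
  rw [MonoidAlgebra.single_mul_single, one_mul, evalChar_single, evalChar_single, omega,
    evalChar_single, one_mul, one_mul, one_mul] at h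
  exact h

/-- A character of maximal degree trivial on a central `p`-subgroup vanishes off `Z` times the
`p`-regular elements. -/
theorem exists_regular_of_ne_zero (hp : p.Prime) {Z : Subgroup G} [Z.Normal]
    (θ : Cfsg.IrrCharacter G) (hker : ∀ t ∈ Z, (θ : G → ℂ) t = (θ : G → ℂ) 1)
    (hdeg : (Nat.card G).factorization p ≤
      (Cfsg.charDegree (θ : G → ℂ)).factorization p + (Nat.card Z).factorization p)
    {g : G} (hg : (θ : G → ℂ) g ≠ 0) :
    ∃ y t, ¬ p ∣ orderOf y ∧ t ∈ Z ∧ y * t = g := by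
  obtain ⟨φ, -, hφ, hirr⟩ := exists_deflate_quotient Z (irr_isCharacter θ) hker
  have hd : Cfsg.charDegree (θ : G → ℂ) = Cfsg.charDegree φ := by
    rw [Cfsg.charDegree, Cfsg.charDegree, ← hφ 1, QuotientGroup.mk_one]
  have hns : ¬ p ∣ orderOf (g : G ⧸ Z) := fun h => hg (by
    rw [← hφ g]
    refine DefectZeroVanish.eq_zero_of_singular hp ⟨φ, hirr θ.2⟩ ?_ h
    rw [hp.pow_dvd_iff_le_factorization (charDegree_pos _).ne']
    show _ ≤ (Cfsg.charDegree φ).factorization p
    rw [← hd]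
    have := factorization_card_quotient Z p
    omega)
  obtain ⟨x, y, hxy, hc, ⟨k, hk⟩, hy⟩ := exists_ppart hp g
  refine ⟨y, x, hy, ?_, by rw [← hxy, hc.eq]⟩
  have hox : orderOf (x : G ⧸ Z) ∣ p ^ k :=
    hk ▸ orderOf_map_dvd (QuotientGroup.mk' Z) x
  have hoy : orderOf (y : G ⧸ Z) ∣ orderOf y := orderOf_map_dvd (QuotientGroup.mk' Z) y
  have hcop : (orderOf (x : G ⧸ Z)).Coprime (orderOf (y : G ⧸ Z)) :=
    (Nat.Coprime.pow_left k ((hp.coprime_iff_not_dvd.2 hy))).coprime_dvd_left hox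
      |>.coprime_dvd_right hoy
  have hmul := (show Commute (x : G ⧸ Z) (y : G ⧸ Z) from
    hc.map (QuotientGroup.mk' Z)).orderOf_mul_eq_mul_orderOf_of_coprime hcop
  rw [← QuotientGroup.mk_mul, hxy] at hmul
  obtain ⟨j, -, hj⟩ := (Nat.dvd_prime_pow hp).1 hox
  rw [← QuotientGroup.eq_one_iff, ← orderOf_eq_one_iff, hj]
  rcases Nat.eq_zero_or_pos j with rfl | hj0
  · exact pow_zero p
  · exact absurd (hmul ▸ (hj ▸ dvd_pow_self p hj0.ne').mul_right _) hns

theorem one_of_regular (hM : Cfsg.IsPModular p M) {Z : Subgroup G} (hZp : IsPGroup p Z)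
    (hZc : ∀ t ∈ Z, ∀ x : G, Commute t x) {t y : G} (ht : t ∈ Z) (hy : ¬ p ∣ orderOf y)
    (hyt : ¬ p ∣ orderOf (y * t)) : t = 1 := by
  haveI := fact_prime_of_pm hM
  obtain ⟨k, hk⟩ := IsPGroup.iff_orderOf.1 hZp ⟨t, ht⟩
  rw [Subgroup.orderOf_mk] at hk
  have h := ppart_unique hM.1 (x := t) (x' := 1) (g := y * t)
    ⟨y, (hZc t ht y).eq, hZc t ht y, ⟨k, hk⟩, hy⟩ (isPPart_one hM.1 hyt)
  exact h

open scoped Classical in
/-- Inner products on the regular elements with a character of maximal degree trivial on a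
central `p`-subgroup. -/
theorem regSum_trivial [Fintype G] (hM : Cfsg.IsPModular p M) {Z : Subgroup G} [Z.Normal]
    (hZp : IsPGroup p Z) (hZc : ∀ t ∈ Z, ∀ x : G, Commute t x)
    {θ : Cfsg.IrrCharacter G} (hker : ∀ t ∈ Z, (θ : G → ℂ) t = (θ : G → ℂ) 1)
    (hdeg : (Nat.card G).factorization p ≤
      (Cfsg.charDegree (θ : G → ℂ)).factorization p + (Nat.card Z).factorization p)
    {θ' : Cfsg.IrrCharacter G}
    (hker' : ∀ t ∈ Z, (θ' : G → ℂ) t = (θ' : G → ℂ) 1) :
    (Nat.card Z : ℂ) * ∑ y : G, (if ¬ p ∣ orderOf y then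
      (θ' : G → ℂ) y * conj ((θ : G → ℂ) y) else 0) =
    (Nat.card G : ℂ) * (if θ' = θ then 1 else 0) := by
  classical
  haveI := Fintype.ofFinite (Cfsg.IrrCharacter G)
  have hone : ∀ {t y : G}, t ∈ Z → ¬ p ∣ orderOf y → ¬ p ∣ orderOf (y * t) → t = 1 :=
    fun ht hy h => one_of_regular hM hZp hZc ht hy h
  haveI := Fintype.ofFinite Z
  rw [← classInner_irr θ' θ, classInner_def, ← mul_assoc, mul_inv_cancel₀ natCard_ne_zero, one_mul,
    ← Finset.sum_filter, Finset.mul_sum]
  have hinv : ∀ (y : G) (t : G), t ∈ Z → (θ' : G → ℂ) (y * t) * conj ((θ : G → ℂ) (y * t)) =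
      (θ' : G → ℂ) y * conj ((θ : G → ℂ) y) := fun y t ht => by
    rw [← (hZc t ht y).eq, char_mul_of_eq_one (irr_isCharacter θ) (hker t ht),
      char_mul_of_eq_one (irr_isCharacter θ') (hker' t ht)]
  set R := Finset.univ.filter fun y : G => ¬ p ∣ orderOf y
  have hinj : Set.InjOn (fun yt : G × Z => yt.1 * (yt.2 : G)) (R ×ˢ Finset.univ : Finset (G × Z)) := by
    intro a ha b hb h
    have ha' := (Finset.mem_filter.1 (Finset.mem_product.1 ha).1).2
    have hb' := (Finset.mem_filter.1 (Finset.mem_product.1 hb).1).2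
    have e : a.1 * ((a.2 * b.2⁻¹ : Z) : G) = b.1 := by
      simp only at h
      rw [Subgroup.coe_mul, ← mul_assoc, h, Subgroup.coe_inv, mul_inv_cancel_right]
    have h1 := hone (a.2 * b.2⁻¹).2 ha' (e.symm ▸ hb')
    rw [h1, mul_one] at e
    exact Prod.ext e (mul_inv_eq_one.1 (Subtype.ext h1))
  have h2 : ∑ v ∈ (R ×ˢ Finset.univ : Finset (G × Z)).image (fun yt => yt.1 * (yt.2 : G)),
      (θ' : G → ℂ) v * conj ((θ : G → ℂ) v) =
      ∑ v : G, (θ' : G → ℂ) v * conj ((θ : G → ℂ) v) := by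
    refine Finset.sum_subset (Finset.subset_univ _) fun v _ hv => ?_
    by_contra hne
    obtain ⟨y, t, hy, ht, hyt⟩ := exists_regular_of_ne_zero hM.1 θ hker hdeg (g := v)
      (fun h => hne (by rw [h, map_zero, mul_zero]))
    exact hv (Finset.mem_image.2 ⟨(y, ⟨t, ht⟩),
      Finset.mem_product.2 ⟨Finset.mem_filter.2 ⟨Finset.mem_univ _, hy⟩, Finset.mem_univ _⟩, hyt⟩)
  rw [← h2, Finset.sum_image hinj, Finset.sum_product]
  refine Finset.sum_congr rfl fun y _ => ?_
  rw [Finset.sum_congr rfl fun (t : Z) _ => hinv y t t.2, Finset.sum_const, Finset.card_univ,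
    ← Nat.card_eq_fintype_card, nsmul_eq_mul]

/-- The only member of the block trivial on `Z`. -/
theorem only_trivial (hM : Cfsg.IsPModular p M) {e : Set (Cfsg.IrrCharacter G)}
    (he : Cfsg.IsPBlock M e) {Z : Subgroup G} [Z.Normal] (hZp : IsPGroup p Z)
    (hZc : ∀ t ∈ Z, ∀ x : G, Commute t x)
    {θ : Cfsg.IrrCharacter G} (hθ : θ ∈ e) (hker : ∀ t ∈ Z, (θ : G → ℂ) t = (θ : G → ℂ) 1)
    (hdeg : (Nat.card G).factorization p ≤
      (Cfsg.charDegree (θ : G → ℂ)).factorization p + (Nat.card Z).factorization p) :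
    ∀ θ' ∈ e, (∀ t ∈ Z, (θ' : G → ℂ) t = (θ' : G → ℂ) 1) → θ' = θ := by
  classical
  haveI := Fintype.ofFinite G
  set c : ℂ := ((Cfsg.charDegree (θ : G → ℂ) * Nat.card Z : ℕ) : ℂ) / ((Nat.card G : ℕ) : ℂ) with hc
  have hcr : Cfsg.MemLocalRing M c := ring_natCast_div hM Nat.card_pos.ne' (by
    rw [Nat.factorization_mul (charDegree_pos θ).ne' Nat.card_pos.ne', Finsupp.add_apply]
    exact hdeg)
  have hS := fun (θ' : Cfsg.IrrCharacter G) (h : ∀ t ∈ Z, (θ' : G → ℂ) t = (θ' : G → ℂ) 1) =>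
    regSum_trivial hM hZp hZc hker hdeg h
  set z : MonoidAlgebra ℂ G :=
    ofFun (fun y => if ¬ p ∣ orderOf y then c * conj ((θ : G → ℂ) y) else 0) with hz
  have hzc : IsCentralEl z := central_ofFun fun y h => by
    have e : orderOf (h * y * h⁻¹) = orderOf y := (MulAut.conj h).orderOf_eq y
    show (if ¬ p ∣ orderOf (h * y * h⁻¹) then c * conj ((θ : G → ℂ) (h * y * h⁻¹)) else 0) = _
    rw [e, irr_isClassFunction θ y h]
  have hzi : IntEl M z := fun y => by
    rw [hz, coeff_ofFun]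
    split
    · exact ring_mul hM hcr (irr_conj_ring hM θ y)
    · exact ring_zero hM
  have homega : ∀ θ' : Cfsg.IrrCharacter G, (∀ t ∈ Z, (θ' : G → ℂ) t = (θ' : G → ℂ) 1) →
      omega (θ' : G → ℂ) z = if θ' = θ then 1 else 0 := by
    intro θ' hker'
    rw [omega, evalChar_eq_sum]
    have e : ∑ y : G, z.coeff y * (θ' : G → ℂ) y = c * ∑ y : G, (if ¬ p ∣ orderOf y then
        (θ' : G → ℂ) y * conj ((θ : G → ℂ) y) else 0) := by
      rw [Finset.mul_sum]
      refine Finset.sum_congr rfl fun y _ => ?_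
      rw [hz, coeff_ofFun]
      split <;> ring
    rw [e, hc, Nat.cast_mul, charDegree_cast]
    set S := ∑ y : G, (if ¬ p ∣ orderOf y then
        (θ' : G → ℂ) y * conj ((θ : G → ℂ) y) else 0) with hSdef
    rw [show (θ : G → ℂ) 1 * (Nat.card Z : ℂ) / (Nat.card G : ℂ) * S / (θ' : G → ℂ) 1 =
      (θ : G → ℂ) 1 / (θ' : G → ℂ) 1 * ((Nat.card Z : ℂ) * S) / (Nat.card G : ℂ) by ring,
      hS θ' hker']
    by_cases h : θ' = θ
    · rw [if_pos h, h, mul_one, div_self (irr_one_ne_zero θ.2), one_mul,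
        div_self natCard_ne_zero]
    · rw [if_neg h, mul_zero, mul_zero, zero_div]
  intro θ' h' hker'
  by_contra hne
  have h := omega_cong_of_mem hM he h' hθ hzc hzi
  rw [homega θ' hker', homega θ hker, if_neg hne, if_pos rfl] at h
  exact not_cong_zero_one hM h

/-- A block of a group with a central `p`-subgroup `Z` and a character of maximal degree trivial
on `Z` has defect group `Z`. -/
theorem isDefectGroup_central (hM : Cfsg.IsPModular p M) {e : Set (Cfsg.IrrCharacter G)}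
    (he : Cfsg.IsPBlock M e) {Z : Subgroup G} [Z.Normal] (hZp : IsPGroup p Z)
    (hZc : ∀ t ∈ Z, ∀ x : G, Commute t x)
    {θ : Cfsg.IrrCharacter G} (hθ : θ ∈ e) (hker : ∀ t ∈ Z, (θ : G → ℂ) t = (θ : G → ℂ) 1)
    (hdeg : (Nat.card G).factorization p ≤
      (Cfsg.charDegree (θ : G → ℂ)).factorization p + (Nat.card Z).factorization p) :
    Cfsg.IsDefectGroup p M e Z := by
  classical
  haveI := fact_prime_of_pm hM
  haveI := Fintype.ofFinite G
  haveI := Fintype.ofFinite (Cfsg.IrrCharacter G)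
  obtain ⟨D, hD⟩ := exists_defectGroup hM he
  have hZD : Z ≤ D := normal_le_defect hM hZp he hD
  obtain ⟨g, hg, hs⟩ := isDefectGroup_iff.1 hD
  set c : ℂ := ((Cfsg.charDegree (θ : G → ℂ) * Nat.card Z : ℕ) : ℂ) / ((Nat.card G : ℕ) : ℂ) with hc
  have hcr : Cfsg.MemLocalRing M c := ring_natCast_div hM Nat.card_pos.ne' (by
    rw [Nat.factorization_mul (charDegree_pos θ).ne' Nat.card_pos.ne', Finsupp.add_apply]
    exact hdeg)
  have hone : ∀ {t y : G}, t ∈ Z → ¬ p ∣ orderOf y → ¬ p ∣ orderOf (y * t) → t = 1 :=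
    fun ht hy h => one_of_regular hM hZp hZc ht hy h
  have honly := only_trivial hM he hZp hZc hθ hker hdeg
  -- the coefficient at a regular element
  have hcoef : ∀ y : G, ¬ p ∣ orderOf y →
      Cfsg.blockCoeff e y = c * conj ((θ : G → ℂ) y) := by
    intro y hy
    have h1 : ∑ t : Z, Cfsg.blockCoeff e (y * t) = Cfsg.blockCoeff e y := by
      rw [Finset.sum_eq_single (1 : Z)]
      · simp
      · intro t _ ht
        refine blockCoeff_eq_zero_of_singular hM (intEl_blockIdem hM he) ?_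
        by_contra hn
        exact ht (Subtype.ext (hone t.2 hy hn))
      · simp
    rw [← h1]
    simp only [blockCoeff_eq_sum, ← Finset.mul_sum]
    rw [Finset.sum_comm, Finset.sum_eq_single θ]
    · simp only [if_pos hθ]
      rw [Finset.sum_congr rfl fun (t : Z) _ => by
        rw [← (hZc t t.2 y).eq, char_mul_of_eq_one (irr_isCharacter θ) (hker t t.2)],
        Finset.sum_const, Finset.card_univ, ← Nat.card_eq_fintype_card, nsmul_eq_mul, hc,
        Nat.cast_mul, charDegree_cast]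
      ring
    · intro θ' _ hne
      by_cases h' : θ' ∈ e
      · simp only [if_pos h']
        rw [← Finset.mul_sum, ← map_sum]
        have hk : ¬ ∀ t ∈ Z, (θ' : G → ℂ) t = (θ' : G → ℂ) 1 := fun h => hne (honly θ' h' h)
        push Not at hk
        obtain ⟨s, hsZ, hs1⟩ := hk
        have h2 : ∑ t : Z, (θ' : G → ℂ) t = 0 := by
          have h3 : ∑ t : Z, (θ' : G → ℂ) t =
              (θ' : G → ℂ) s / (θ' : G → ℂ) 1 * ∑ t : Z, (θ' : G → ℂ) t := by
            rw [Finset.mul_sum]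
            exact (Fintype.sum_equiv (Equiv.mulLeft (⟨s, hsZ⟩ : Z)) _ _ fun t => by
              rw [← value_mul_central θ' (hZc s hsZ)]; rfl).symm
          by_contra hne0
          refine hs1 ?_
          rw [← div_eq_one_iff_eq (irr_one_ne_zero θ'.2)]
          exact mul_right_cancel₀ hne0 (h3.symm.trans (one_mul _).symm)
        rw [Finset.sum_congr rfl fun (t : Z) _ => by
          rw [← (hZc t t.2 y).eq, value_mul_central θ' (hZc t t.2)],
          ← Finset.sum_mul, ← Finset.sum_div, h2, zero_div, zero_mul, map_zero, mul_zero]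
      · simp [h']
    · simp
  have hreg : ¬ p ∣ orderOf g := defectClass_regular hM he hg
  have hθg : ¬ Cfsg.MemLocalIdeal M ((θ : G → ℂ) g⁻¹) := fun h => hg.2.1 (by
    rw [hcoef g hreg, ← char_inv (irr_isCharacter θ) g]
    exact ideal_mul_left hM hcr h)
  have hcent : Subgroup.centralizer ({g⁻¹} : Set G) = Subgroup.centralizer ({g} : Set G) := by
    ext x
    simp only [Subgroup.mem_centralizer_singleton_iff]
    exact ⟨fun h => (Commute.inv_right_iff.1 h), fun h => Commute.inv_right_iff.2 h⟩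
  have hle : (Cfsg.charDegree (θ : G → ℂ)).factorization p ≤
      (Subgroup.centralizer ({g} : Set G)).index.factorization p := by
    by_contra hlt
    refine hθg ?_
    have hi : ((Subgroup.centralizer ({g} : Set G)).index : ℂ) ≠ 0 :=
      Nat.cast_ne_zero.2 Subgroup.index_ne_zero_of_finite
    have e : (θ : G → ℂ) g⁻¹ = Cfsg.centralChar (θ : G → ℂ) g⁻¹ *
        ((Cfsg.charDegree (θ : G → ℂ) : ℂ) /
          ((Subgroup.centralizer ({g} : Set G)).index : ℂ)) := by
      rw [Cfsg.centralChar, hcent, charDegree_cast]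
      field_simp [irr_one_ne_zero θ.2]
    rw [e]
    exact ideal_mul_left hM (centralChar_ring hM θ g⁻¹)
      (ideal_natCast_div hM Subgroup.index_ne_zero_of_finite (by omega))
  have hidx := factorization_index_add (Subgroup.centralizer ({g} : Set G)) p
  obtain ⟨n, hn⟩ := IsPGroup.iff_card.1 hZp
  have hcardD : Nat.card D ≤ Nat.card Z := by
    rw [card_sylCent_eq hs, hn]
    refine Nat.pow_le_pow_right hM.1.pos ?_
    have : (Nat.card Z).factorization p = n := by
      rw [hn, hM.1.factorization_pow, Finsupp.single_eq_same]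
    omega
  rwa [eq_of_le_of_card_le hZD hcardD]

theorem constituent_trivial {N : Subgroup G} [Fintype N] (χ : Cfsg.IrrCharacter G)
    (ψ : Cfsg.IrrCharacter N)
    (h : Cfsg.classInner (fun n : N => (χ : G → ℂ) n) (ψ : N → ℂ) ≠ 0) {K : Subgroup N}
    (hker : ∀ x ∈ K, (χ : G → ℂ) (x : N) = (χ : G → ℂ) 1) :
    ∀ x ∈ K, (ψ : N → ℂ) x = (ψ : N → ℂ) 1 := by
  classical
  intro x hx
  haveI := Fintype.ofFinite (Cfsg.IrrCharacter N)
  have hexp := classFun_eq_sum (char_isClassFunction (isCharacter_restrict N (irr_isCharacter χ)))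
  have hm : ∀ ξ : Cfsg.IrrCharacter N, ∃ m : ℕ,
      Cfsg.classInner (fun n : N => (χ : G → ℂ) n) (ξ : N → ℂ) = (m : ℂ) := fun ξ =>
    classInner_char_nat (isCharacter_restrict N (irr_isCharacter χ)) (irr_isCharacter ξ)
  choose m hm using hm
  have hb : ∀ (ξ : Cfsg.IrrCharacter N) (y : N),
      ((ξ : N → ℂ) y).re ≤ ((Cfsg.charDegree (ξ : N → ℂ) : ℕ) : ℝ) ∧
      (((ξ : N → ℂ) y).re = ((Cfsg.charDegree (ξ : N → ℂ) : ℕ) : ℝ) →
        (ξ : N → ℂ) y = (ξ : N → ℂ) 1) := by
    intro ξ y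
    have h1 := char_norm_le (irr_isCharacter ξ) y
    rw [← charDegree_cast ξ, Complex.norm_natCast] at h1
    refine ⟨(Complex.re_le_norm _).trans h1, fun h2 => ?_⟩
    have h3 : ((ξ : N → ℂ) y).im = 0 :=
      Complex.abs_re_eq_norm.1 (le_antisymm (Complex.abs_re_le_norm _)
        (h1.trans (by rw [h2]; exact le_abs_self _)))
    rw [← charDegree_cast ξ]
    exact Complex.ext (by simpa using h2) (by simpa using h3)
  have e1 := congrFun hexp x
  have e2 := congrFun hexp 1
  simp only [Finset.sum_apply, Pi.smul_apply, smul_eq_mul, hm, OneMemClass.coe_one] at e1 e2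
  rw [hker x hx, e2, ← sub_eq_zero, ← Finset.sum_sub_distrib] at e1
  have e3 := congrArg Complex.re e1
  simp only [Complex.re_sum, Complex.sub_re, Complex.mul_re, Complex.natCast_re,
    Complex.natCast_im, zero_mul, sub_zero, Complex.zero_re, ← charDegree_cast] at e3
  have h4 := (Finset.sum_eq_zero_iff_of_nonneg (fun ξ _ => by
    rw [← mul_sub]; exact mul_nonneg (Nat.cast_nonneg _) (sub_nonneg.2 (hb ξ x).1))).1 e3 ψ
      (Finset.mem_univ _)
  rw [← mul_sub] at h4
  rcases mul_eq_zero.1 h4 with h5 | h5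
  · exact absurd (by rw [hm, Nat.cast_eq_zero.1 h5, Nat.cast_zero]) h
  · exact (hb ψ x).2 (sub_eq_zero.1 h5).symm

/-- A normal `p`-subgroup of a group with a character of full degree at `p` is trivial. -/
theorem eq_bot_of_defectZero (hp : p.Prime) (φ : Cfsg.IrrCharacter G)
    (hdeg : p ^ (Nat.card G).factorization p ∣ Cfsg.charDegree (φ : G → ℂ))
    (R : Subgroup G) [R.Normal] (hR : IsPGroup p R) : R = ⊥ := by
  classical
  haveI : Fact p.Prime := ⟨hp⟩
  haveI := Fintype.ofFinite G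
  haveI := Fintype.ofFinite R
  have hne : ∀ ψ : Cfsg.IrrCharacter R,
      Cfsg.classInner (fun r : R => (φ : G → ℂ) r) (ψ : R → ℂ) ≠ 0 := by
    intro ψ
    rw [classInner_def, Finset.sum_eq_single (1 : R)]
    · refine mul_ne_zero (inv_ne_zero natCard_ne_zero) (mul_ne_zero ?_ ?_)
      · exact irr_one_ne_zero φ.2
      · exact (map_ne_zero _).2 (irr_one_ne_zero ψ.2)
    · intro r _ hr
      obtain ⟨k, hk⟩ := IsPGroup.iff_orderOf.1 hR r
      rw [DefectZeroVanish.eq_zero_of_singular hp φ hdeg (g := (r : G)) ?_, zero_mul]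
      rw [Subgroup.orderOf_coe, hk]
      refine dvd_pow_self p fun h0 => hr ?_
      rw [h0, pow_zero, orderOf_eq_one_iff] at hk
      exact hk
    · simp
  rw [eq_bot_iff]
  intro r hr
  have h1 : (⟨r, hr⟩ : R) = 1 := eq_one_of_forall_irr fun ψ => by
    obtain ⟨g, hg⟩ := exists_conjugate_of_constituents R φ.2 (isIrrCharacter_one (G := R)) ψ.2
      (hne (trivIrr R)) (hne ψ)
    simp [hg, conjFun]
  exact congrArg Subtype.val h1

end Cfsg.Agent.BlockCharsA.Weight
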