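import Mathlib
import Cfsg.Agent.BlockCharsA.CoveringDefect
import Cfsg.Agent.BlockCharsA.Weight
import Cfsg.Agent.Lib.CharTheory.ExtendChar
import Cfsg.Agent.Lib.Characters.Kernel

/-!
# Blocks with abelian defect group over a normal subgroup of `p`-power index

For an element `u` of the abelian defect group and a defect class `g₀`, the central character is a
unit at the class of `u g₀`; these class sums are homogeneous, which forces every character of the
covered block to be invariant and to extend.
-/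

set_option linter.style.haveILetI false
set_option linter.unusedSectionVars false

namespace Cfsg.Agent.BlockCharsA.AbelianDefectExt

open Cfsg.Agent.Blocks Cfsg.Agent.Characters Cfsg.Agent.CharTheory
open Cfsg.Agent.BlockCharsA.NormalSupport Cfsg.Agent.BlockCharsA.CoveringDefect
open scoped ComplexConjugate

universe u

variable {G : Type u} [Group G] [Finite G] {p : ℕ} {M : Ideal Cfsg.AlgInt}

/-- A central `p`-element acts on an irreducible character by a scalar congruent to one. -/
theorem value_shift_cong (hM : Cfsg.IsPModular p M) (φ : Cfsg.IrrCharacter G) {v : G}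
    (hv : ∀ y : G, Commute v y) {k : ℕ} (hk : v ^ p ^ k = 1) :
    ∃ μ : ℂ, Cong M μ 1 ∧ ∀ y, (φ : G → ℂ) (v * y) = μ * (φ : G → ℂ) y := by
  set μ := (φ : G → ℂ) v / (φ : G → ℂ) 1
  have h : ∀ n : ℕ, (φ : G → ℂ) (v ^ n) = μ ^ n * (φ : G → ℂ) 1 := by
    intro n
    induction n with
    | zero => rw [pow_zero, pow_zero, one_mul]
    | succ n ih => rw [pow_succ' v, Weight.value_mul_central φ hv, ih]; ring
  have h1 := h (p ^ k)
  rw [hk] at h1
  refine ⟨μ, cong_one_of_pow_prime_pow hM (k := k) ?_, Weight.value_mul_central φ hv⟩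
  exact mul_right_cancel₀ (irr_one_ne_zero φ.2) (h1.symm.trans (one_mul _).symm)

/-- The central character is a unit on the class of `u g₀`. -/
theorem omega_unit (hM : Cfsg.IsPModular p M) {B : Set (Cfsg.IrrCharacter G)}
    (hB : Cfsg.IsPBlock M B) {P : Subgroup G} (hPab : ∀ x ∈ P, ∀ y ∈ P, x * y = y * x) {g₀ : G}
    (hg₀ : Cfsg.IsDefectClass M B g₀) (hs : IsSylCent p g₀ P) {χ : Cfsg.IrrCharacter G}
    (hχ : χ ∈ B) {u : G} (hu : u ∈ P) :
    ¬ Cfsg.MemLocalIdeal M (omega (χ : G → ℂ) (classSum (u * g₀))) := by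
  classical
  haveI := fact_prime_of_pm hM
  haveI := Fintype.ofFinite G
  set Cp := Subgroup.centralizer (P : Set G) with hCp
  haveI := Fintype.ofFinite Cp
  have hPp : IsPGroup p P := isSylCent_isPGroup hs
  have hg₀C : g₀ ∈ Cp := isSylCent_mem hs
  have hPC : P ≤ Cp := fun a ha => Subgroup.mem_centralizer_iff.2 fun b hb => hPab b hb a ha
  have hei := intEl_blockIdem hM hB
  have hec := central_blockIdem B
  -- the functional
  let β : MonoidAlgebra ℂ G → MonoidAlgebra ℂ Cp := fun z => restrEl Cp z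
  have hcut : ∀ z : MonoidAlgebra ℂ G, restrEl Cp (cutEl P z) = β z := fun z => el_ext fun c => by
    simp only [β, coeff_restrEl, cutEl_coeff_mem z c.2]
  have hβmul : ∀ z w : MonoidAlgebra ℂ G, IsCentralEl z → IsCentralEl w → IntEl M z → IntEl M w →
      CongEl M (β (z * w)) (β z * β w) := by
    intro z w hz hw hzi hwi
    have h := congEl_restrEl Cp (congEl_cutEl_mul hM hPp hzi hwi (fun a _ g => hz g a)
      (fun a _ g => hw g a))
    rwa [hcut, restrEl_mul Cp (x := cutEl P z) (fun g hg => cutEl_coeff_notMem z hg), hcut,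
      hcut] at h
  obtain ⟨φ, hφ⟩ : ∃ φ : Cfsg.IrrCharacter Cp,
      ¬ Cfsg.MemLocalIdeal M (omega (φ : Cp → ℂ) (β (blockIdem B))) := by
    by_contra hno
    push Not at hno
    obtain ⟨n, hn⟩ := exists_pow_idealEl hM (central_restrEl Cp hec) hno
    have h2 := idealEl_of_idem_nilp hM (intEl_restrEl Cp hei) (congEl_symm hM (by
      have h3 := hβmul _ _ hec hec hei hei
      rwa [blockIdem_mul_self] at h3)) (hn n le_rfl)
    exact hg₀.2.1 (by simpa using h2 ⟨g₀, hg₀C⟩)
  let τ : MonoidAlgebra ℂ G → ℂ := fun z => omega (φ : Cp → ℂ) (β z)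
  have hτmul : ∀ z w : MonoidAlgebra ℂ G, IsCentralEl z → IsCentralEl w → IntEl M z → IntEl M w →
      Cong M (τ (z * w)) (τ z * τ w) := by
    intro z w hz hw hzi hwi
    have h := omega_cong hM φ (central_restrEl Cp (central_mul hz hw))
      (central_mul (central_restrEl Cp hz) (central_restrEl Cp hw)) (hβmul z w hz hw hzi hwi)
    rwa [omega_mul φ (central_restrEl Cp hz)] at h
  have hτr : ∀ z : MonoidAlgebra ℂ G, IsCentralEl z → IntEl M z → Cfsg.MemLocalRing M (τ z) :=
    fun z hz hzi => omega_ring hM φ (central_restrEl Cp hz) (intEl_restrEl Cp hzi)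
  have htrans : ∀ z : MonoidAlgebra ℂ G, IsCentralEl z → IntEl M z →
      Cfsg.MemLocalIdeal M (omega (χ : G → ℂ) z) → Cfsg.MemLocalIdeal M (τ z) := by
    intro z hz hzi hω
    obtain ⟨n, hn⟩ := exists_pow_mul_blockIdem hM hB hχ hz hzi hω
    have hwc := central_mul hec hz
    have hwi := intEl_mul hM hei hzi
    have hpow : ∀ m, Cong M (τ ((blockIdem B * z) ^ (m + 1)))
        ((τ (blockIdem B * z)) ^ (m + 1)) := by
      intro m
      induction m with
      | zero => rw [zero_add, pow_one, pow_one]; exact cong_refl hM _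
      | succ m ih =>
        rw [pow_succ, pow_succ (τ _)]
        exact cong_trans hM (hτmul _ _ (central_pow hwc _) hwc (intEl_pow hM hwi _) hwi)
          (cong_mul hM ih (cong_refl hM _) (ring_pow hM (hτr _ hwc hwi) _) (hτr _ hwc hwi))
    have h1 : Cfsg.MemLocalIdeal M (τ ((blockIdem B * z) ^ (n + 1))) :=
      omega_ideal hM φ (central_restrEl Cp (central_pow hwc _))
        (fun c => by rw [coeff_restrEl]; exact hn (n + 1) (by omega) c)
    have h2 := ideal_of_pow hM (hτr _ hwc hwi) ((ideal_iff_of_cong hM (hpow n)).1 h1)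
    have h3 := (ideal_iff_of_cong hM (hτmul _ _ hec hz hei hzi)).1 h2
    exact ((ideal_mul_iff hM (hτr _ hec hei) (hτr _ hz hzi)).1 h3).resolve_left hφ
  -- the values of the functional on class sums
  have hτK : ∀ g : G, τ (classSum g) =
      ∑ c : Cp, if IsConj g (c : G) then (φ : Cp → ℂ) c / (φ : Cp → ℂ) 1 else 0 := by
    intro g
    show omega _ _ = _
    rw [omega, evalChar_eq_sum, Finset.sum_div]
    refine Finset.sum_congr rfl fun c _ => ?_
    simp only [β, coeff_restrEl, coeff_classSum]
    split <;> simp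
  have hg₀τ : ¬ Cfsg.MemLocalIdeal M (τ (classSum g₀)) := by
    set lam := omega (χ : G → ℂ) (classSum g₀) with hlam
    have hlam' : ¬ Cfsg.MemLocalIdeal M lam := by
      rw [hlam, omega_classSum (irr_isClassFunction χ)]; exact hg₀.2.2 χ hχ
    have hlr : Cfsg.MemLocalRing M lam :=
      omega_ring hM χ (central_classSum g₀) (intEl_classSum hM g₀)
    have h := htrans (classSum g₀ - lam • 1)
      (central_sub (central_classSum g₀) (central_smul _ central_one))
      (intEl_sub hM (intEl_classSum hM g₀) (intEl_smul hM hlr (intEl_one hM))) (by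
        rw [omega_sub, omega_smul, omega_one (irr_one_ne_zero χ.2), mul_one, ← hlam, sub_self]
        exact ideal_zero hM)
    have e : β (classSum g₀ - lam • 1) = β (classSum g₀) - lam • 1 := el_ext fun c => by
      have h1 := congrArg (fun z : MonoidAlgebra ℂ Cp => z.coeff c) (restrEl_one (G := G) Cp)
      simp only [coeff_restrEl] at h1
      simp [β, MonoidAlgebra.coeff_sub, MonoidAlgebra.coeff_smul, h1]
    have h' : Cong M (τ (classSum g₀)) lam := by
      show Cfsg.MemLocalIdeal M _
      have h2 : Cfsg.MemLocalIdeal M (omega (φ : Cp → ℂ) (β (classSum g₀ - lam • 1))) := h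
      rw [e, omega_sub, omega_smul, omega_one (irr_one_ne_zero φ.2), mul_one] at h2
      exact h2
    exact fun hi => hlam' ((ideal_iff_of_cong hM h').1 hi)
  intro hbad
  have hxτ := htrans _ (central_classSum _) (intEl_classSum hM _) hbad
  set x := u * g₀ with hx
  -- the regular part as a power
  obtain ⟨k, hk⟩ := hPp ⟨u, hu⟩
  have hk' : u ^ p ^ k = 1 := by simpa using congrArg Subtype.val hk
  have hreg : ¬ p ∣ orderOf g₀ := defectClass_regular hM hB hg₀
  obtain ⟨e, he0, he1⟩ := Nat.chineseRemainder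
    (Nat.Coprime.pow_left k (hM.1.coprime_iff_not_dvd.2 hreg)) 0 1
  have hug : Commute u g₀ := Subgroup.mem_centralizer_iff.1 hg₀C u hu
  have hue : u ^ e = 1 := orderOf_dvd_iff_pow_eq_one.1
    ((orderOf_dvd_of_pow_eq_one hk').trans (Nat.modEq_zero_iff_dvd.1 he0))
  have hge : g₀ ^ e = g₀ := by
    conv_rhs => rw [← pow_one g₀]
    exact pow_eq_pow_iff_modEq.2 he1
  have hxe : x ^ e = g₀ := by rw [hx, hug.mul_pow, hue, hge, one_mul]
  have hxce : ∀ c, IsConj x c → IsConj g₀ (c ^ e) := fun c hc => by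
    obtain ⟨h, rfl⟩ := isConj_iff.1 hc
    exact isConj_iff.2 ⟨h, by rw [conj_pow, hxe]⟩
  -- the number of conjugates of `x` with given regular part
  set H := Subgroup.centralizer ({g₀} : Set G) with hH
  haveI := Fintype.ofFinite H
  set cnt : G → ℕ := fun y => (Finset.univ.filter fun c : G => IsConj x c ∧ c ^ e = y).card
    with hcnt
  have hcnt_conj : ∀ y h, cnt (h * y * h⁻¹) = cnt y := by
    intro y h
    refine (Finset.card_nbij' (fun c => h * c * h⁻¹) (fun c => h⁻¹ * c * h) ?_ ?_
      (fun c _ => by group) (fun c _ => by group)).symm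
    · intro c hc
      simp only [Finset.coe_filter, Finset.mem_univ, true_and, Set.mem_setOf_eq] at hc ⊢
      exact ⟨hc.1.trans (isConj_iff.2 ⟨h, rfl⟩), by rw [conj_pow, hc.2]⟩
    · intro c hc
      simp only [Finset.coe_filter, Finset.mem_univ, true_and, Set.mem_setOf_eq] at hc ⊢
      refine ⟨hc.1.trans (isConj_iff.2 ⟨h⁻¹, by group⟩), ?_⟩
      have h1 := conj_pow (a := h⁻¹) (b := c) (i := e)
      rw [inv_inv] at h1
      rw [h1, hc.2]; group
  have hxH : x ∈ H := Subgroup.mem_centralizer_singleton_iff.2 (by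
    rw [hx, mul_assoc, ← mul_assoc g₀, ← hug.eq, mul_assoc])
  have hcnt₀ : ¬ p ∣ cnt g₀ := by
    have hidx : cnt g₀ = (Subgroup.centralizer ({(⟨x, hxH⟩ : H)} : Set H)).index := by
      rw [← card_conjugates (⟨x, hxH⟩ : H), Nat.card_eq_fintype_card, Fintype.card_subtype]
      refine Finset.card_bij (fun c hc => (⟨c, ?_⟩ : H)) ?_ ?_ ?_
      · obtain ⟨-, hc1, hc2⟩ := Finset.mem_filter.1 hc
        refine Subgroup.mem_centralizer_singleton_iff.2 ?_
        rw [← hc2]; exact ((Commute.refl c).pow_right e).eq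
      · intro c hc
        obtain ⟨-, hc1, hc2⟩ := Finset.mem_filter.1 hc
        obtain ⟨h, rfl⟩ := isConj_iff.1 hc1
        rw [conj_pow, hxe] at hc2
        refine Finset.mem_filter.2 ⟨Finset.mem_univ _, isConj_iff.2 ⟨⟨h, ?_⟩, Subtype.ext rfl⟩⟩
        exact Subgroup.mem_centralizer_singleton_iff.2 (mul_inv_eq_iff_eq_mul.1 hc2)
      · exact fun a _ b _ hab => congrArg Subtype.val hab
      · intro c hc
        obtain ⟨h, hh⟩ := isConj_iff.1 (Finset.mem_filter.1 hc).2
        refine ⟨(c : G), Finset.mem_filter.2 ⟨Finset.mem_univ _,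
          isConj_iff.2 ⟨(h : G), congrArg Subtype.val hh⟩, ?_⟩, rfl⟩
        rw [← hh]
        show ((h : G) * x * (h : G)⁻¹) ^ e = g₀
        rw [conj_pow, hxe, mul_inv_eq_iff_eq_mul]
        exact Subgroup.mem_centralizer_singleton_iff.1 h.2
    obtain ⟨S, hS⟩ := hs
    rw [hidx]
    refine fun hd => S.not_dvd_index (hd.trans (Subgroup.index_dvd_of_le ?_))
    intro a ha
    have haP : (a : G) ∈ P := hS.symm ▸ Subgroup.mem_map_of_mem _ ha
    refine Subgroup.mem_centralizer_singleton_iff.2 (Subtype.ext ?_)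
    show (a : G) * x = x * a
    rw [hx, ← mul_assoc, hPab _ haP _ hu, mul_assoc,
      (Subgroup.mem_centralizer_iff.1 hg₀C _ haP), mul_assoc]
  -- splitting the class of `x` over that of `g₀`
  have hval : ∀ y c : Cp, (c : G) ^ e = y → IsConj x (c : G) →
      Cong M ((φ : Cp → ℂ) (c * y⁻¹) / (φ : Cp → ℂ) 1) 1 ∧
        (φ : Cp → ℂ) (c * y⁻¹) / (φ : Cp → ℂ) 1 * ((φ : Cp → ℂ) y / (φ : Cp → ℂ) 1) =
          (φ : Cp → ℂ) c / (φ : Cp → ℂ) 1 := by
      intro y c hc hxc
      have hy : IsConj g₀ (y : G) := hc ▸ hxce _ hxc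
      obtain ⟨h, hh⟩ := isConj_iff.1 hxc
      have hy' : h * g₀ * h⁻¹ = y := by rw [← hc, ← hh, conj_pow, hxe]
      set v := h * u * h⁻¹ with hv
      have hcv : (c : G) = v * y := by rw [← hh, ← hy', hv, hx]; group
      have hvy : Commute v (y : G) := by
        rw [← hy', hv]
        show h * u * h⁻¹ * (h * g₀ * h⁻¹) = h * g₀ * h⁻¹ * (h * u * h⁻¹)
        calc h * u * h⁻¹ * (h * g₀ * h⁻¹) = h * (u * g₀) * h⁻¹ := by group
          _ = h * (g₀ * u) * h⁻¹ := by rw [hug.eq]
          _ = _ := by group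
      have hvC : v ∈ Cp := by
        have : v = (c : G) * (y : G)⁻¹ := by rw [hcv, mul_inv_cancel_right]
        rw [this]; exact mul_mem c.2 (inv_mem y.2)
      have hvk : v ^ p ^ k = 1 := by rw [hv, conj_pow, hk', mul_one, mul_inv_cancel]
      have hvP : v ∈ P := by
        let R := P ⊔ Subgroup.zpowers v
        have hzp : IsPGroup p (Subgroup.zpowers v) := IsPGroup.of_card (n :=
          ((Nat.dvd_prime_pow hM.1).1 (orderOf_dvd_of_pow_eq_one hvk)).choose)
          (by rw [Nat.card_zpowers]
              exact ((Nat.dvd_prime_pow hM.1).1 (orderOf_dvd_of_pow_eq_one hvk)).choose_spec.2)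
        have hnle : Subgroup.zpowers v ≤ Subgroup.normalizer (P : Set G) :=
          Subgroup.zpowers_le.2 (Subgroup.mem_normalizer_iff.2 fun a => ⟨fun ha => by
            rwa [← Subgroup.mem_centralizer_iff.1 hvC a ha, mul_inv_cancel_right],
            fun ha => by
              have h1 := Subgroup.mem_centralizer_iff.1 hvC _ ha
              have e : v * a * v⁻¹ = a := by
                calc v * a * v⁻¹ = v⁻¹ * (v * (v * a * v⁻¹)) := by group
                  _ = v⁻¹ * (v * a * v⁻¹ * v) := by rw [h1]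
                  _ = a := by group
              rwa [e] at ha⟩)
        have hRp : IsPGroup p R := hPp.to_sup_of_normal_left' hzp hnle
        have hRC : R ≤ Subgroup.centralizer ({(y : G)} : Set G) := sup_le
          (fun a ha => Subgroup.mem_centralizer_singleton_iff.2
            (Subgroup.mem_centralizer_iff.1 y.2 a ha))
          (Subgroup.zpowers_le.2 (Subgroup.mem_centralizer_singleton_iff.2 hvy))
        obtain ⟨n, hn⟩ := hRp.exists_card_eq
        have hcard : Nat.card (Subgroup.centralizer ({(y : G)} : Set G)) = Nat.card H := by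
          have h1 := card_carrier_mul_card_centralizer (G := G) (y : G)
          have h2 := card_carrier_mul_card_centralizer (G := G) g₀
          rw [show ConjClasses.mk (y : G) = ConjClasses.mk g₀ from
            (ConjClasses.mk_eq_mk_iff_isConj.2 hy).symm] at h1
          refine Nat.eq_of_mul_eq_mul_left ?_ (h1.trans h2.symm)
          refine Nat.pos_of_ne_zero fun h0 => ?_
          rw [h0, zero_mul] at h2
          exact Nat.card_pos.ne' h2.symm
        have hle : Nat.card R ≤ Nat.card P := by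
          rw [card_sylCent_eq hs, ← hH, ← hcard, hn]
          refine Nat.pow_le_pow_right hM.1.pos ?_
          refine (hM.1.pow_dvd_iff_le_factorization Nat.card_pos.ne').1 ?_
          rw [← hn]
          exact Subgroup.card_dvd_of_le hRC
        rw [eq_of_le_of_card_le (le_sup_left : P ≤ R) hle]
        exact Subgroup.mem_sup_right (Subgroup.mem_zpowers v)
      obtain ⟨μ, hμ, hμy⟩ := value_shift_cong hM φ (v := (⟨v, hvC⟩ : Cp)) (fun a => Subtype.ext
        (Subgroup.mem_centralizer_iff.1 a.2 v hvP)) (k := k) (Subtype.ext (by simpa using hvk))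
      have hce : c = (⟨v, hvC⟩ : Cp) * y := Subtype.ext hcv
      have hμ1 : (φ : Cp → ℂ) (c * y⁻¹) / (φ : Cp → ℂ) 1 = μ := by
        rw [hce, mul_inv_cancel_right, ← mul_one (⟨v, hvC⟩ : Cp), hμy,
          mul_div_cancel_right₀ _ (irr_one_ne_zero φ.2)]
      rw [hμ1]
      exact ⟨hμ, by rw [hce, hμy, mul_div_assoc]⟩
  set w : MonoidAlgebra ℂ Cp := ofFun fun y : Cp =>
    ∑ c ∈ Finset.univ.filter (fun c : Cp => IsConj x (c : G) ∧ (c : G) ^ e = y),
      (φ : Cp → ℂ) (c * y⁻¹) / (φ : Cp → ℂ) 1 with hw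
  have hwc : IsCentralEl w := by
    intro y g
    simp only [hw, coeff_ofFun]
    refine (Finset.sum_nbij' (fun c : Cp => g * c * g⁻¹) (fun c : Cp => g⁻¹ * c * g) ?_ ?_
      (fun c _ => by group) (fun c _ => by group) ?_).symm
    · intro c hc
      simp only [Finset.mem_filter, Finset.mem_univ, true_and, Subgroup.coe_mul,
        Subgroup.coe_inv] at hc ⊢
      exact ⟨hc.1.trans (isConj_iff.2 ⟨g, rfl⟩), by rw [conj_pow, hc.2]⟩
    · intro c hc
      simp only [Finset.mem_filter, Finset.mem_univ, true_and, Subgroup.coe_mul,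
        Subgroup.coe_inv] at hc ⊢
      refine ⟨hc.1.trans (isConj_iff.2 ⟨(g : G)⁻¹, by group⟩), ?_⟩
      have h1 := conj_pow (a := (g : G)⁻¹) (b := (c : G)) (i := e)
      rw [inv_inv] at h1
      rw [h1, hc.2]; group
    · intro c _
      rw [show g * c * g⁻¹ * (g * y * g⁻¹)⁻¹ = g * (c * y⁻¹) * g⁻¹ by group,
        irr_isClassFunction φ]
  have hwτ : omega (φ : Cp → ℂ) w = τ (classSum x) := by
    rw [hτK, ← Finset.sum_filter, omega, evalChar_eq_sum, Finset.sum_div,
      ← Finset.sum_fiberwise (Finset.univ.filter fun c : Cp => IsConj x (c : G)) (fun c => c ^ e)]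
    refine Finset.sum_congr rfl fun y _ => ?_
    rw [hw, coeff_ofFun, mul_div_assoc, Finset.sum_mul]
    refine Finset.sum_congr (Finset.ext fun c => by simp [Subtype.ext_iff]) fun c hc => ?_
    simp only [Finset.mem_filter, Finset.mem_univ, true_and] at hc
    exact (hval y c (by rw [← hc.2, Subgroup.coe_pow]) hc.1).2
  have hwK : CongEl M w ((cnt g₀ : ℂ) • β (classSum g₀)) := by
    refine congEl_iff.2 fun y => ?_
    simp only [hw, coeff_ofFun, β, MonoidAlgebra.coeff_smul_apply, coeff_restrEl, coeff_classSum,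
      smul_eq_mul]
    refine cong_trans hM (cong_sum hM (g := fun _ => (1 : ℂ)) fun c hc => ?_) ?_
    · simp only [Finset.mem_filter, Finset.mem_univ, true_and] at hc
      exact (hval y c hc.2 hc.1).1
    by_cases hy : IsConj g₀ (y : G)
    · rw [if_pos hy, mul_one]
      obtain ⟨h, hh⟩ := isConj_iff.1 hy
      rw [← hcnt_conj g₀ h, hh]
      letI := conjActionOn P
      have h1 := cong_sum_fixed hM hPp (X := G)
        (fun c => if IsConj x c ∧ c ^ e = (y : G) then 1 else 0)
        (fun c => by split <;> simp [ring_one hM, ring_zero hM])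
        (fun a c => by
          show (if IsConj x ((a : G) * c * (a : G)⁻¹) ∧ ((a : G) * c * (a : G)⁻¹) ^ e = y
            then (1 : ℂ) else 0) = _
          have hay : (a : G) * y = y * a := Subgroup.mem_centralizer_iff.1 y.2 a a.2
          have h2 : IsConj x ((a : G) * c * (a : G)⁻¹) ↔ IsConj x c :=
            ⟨fun h => h.trans (isConj_iff.2 ⟨(a : G)⁻¹, by group⟩),
              fun h => h.trans (isConj_iff.2 ⟨a, rfl⟩)⟩
          have h3 : ((a : G) * c * (a : G)⁻¹) ^ e = y ↔ c ^ e = y := by
            rw [conj_pow, mul_inv_eq_iff_eq_mul, ← hay, mul_left_cancel_iff]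
          simp only [h2, h3])
        (Finset.univ.filter fun c => c ∈ Cp)
        (fun c => by
          rw [Finset.mem_filter, hCp, ← conj_fixed_iff]
          exact ⟨fun h a => h.2 a, fun h => ⟨Finset.mem_univ _, h⟩⟩)
      refine cong_symm hM ?_
      convert h1 using 1
      · simp only [hcnt]; rw [Finset.card_filter, Nat.cast_sum]; simp
      · rw [Finset.sum_subtype (Finset.univ.filter fun c : G => c ∈ Cp) (p := fun c => c ∈ Cp)
          (fun c => by simp) (fun c : G => if IsConj x c ∧ c ^ e = (y : G) then (1 : ℂ) else 0),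
          Finset.sum_filter]
    · rw [if_neg hy, mul_zero, Finset.sum_eq_zero]
      · exact cong_refl hM _
      · intro c hc
        simp only [Finset.mem_filter, Finset.mem_univ, true_and] at hc
        exact absurd (hc.2 ▸ hxce _ hc.1) hy
  have h := omega_cong hM φ hwc (central_smul _ (central_restrEl Cp (central_classSum g₀))) hwK
  rw [hwτ, omega_smul] at h
  exact ((ideal_mul_iff hM (ring_natCast hM _) (hτr _ (central_classSum _) (intEl_classSum hM _))).1
    ((ideal_iff_of_cong hM h).1 hxτ)).elim (fun h => hcnt₀ ((ideal_natCast_iff hM _).1 h)) hg₀τ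

end Cfsg.Agent.BlockCharsA.AbelianDefectExt
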