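import Mathlib
import Cfsg.Agent.BlockCharsA.AbelianDefectExt
import Cfsg.Agent.Lib.Blocks.MaximalCovering

/-!
# Invariance and extension along a `p`-power index with commutative quotient

A block `B` over a stable block `b` of a normal subgroup `N`, with `G ⧸ N` commutative and, in
every coset, a central element supported there on which the central characters of `B` are nonzero:
every member of `B` restricts irreducibly.
-/

set_option linter.style.haveILetI false
set_option linter.unusedSectionVars false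

namespace Cfsg.Agent.BlockCharsA.AbelianIndex

open Cfsg.Agent.Blocks Cfsg.Agent.Characters Cfsg.Agent.CharTheory
open Cfsg.Agent.BlockCharsA.NormalSupport Cfsg.Agent.BlockCharsA.CoveringDefect
open scoped ComplexConjugate

universe u

variable {G : Type u} [Group G] [Finite G] {N : Subgroup G} [hN : N.Normal] [Fintype N]

/-- Evaluation at the primitive idempotent of a constituent. -/
theorem evalChar_push_fourier [DecidableEq (Cfsg.IrrCharacter N)] (χ : Cfsg.IrrCharacter G)
    (θ : Cfsg.IrrCharacter N) :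
    evalChar (χ : G → ℂ) (push N (fourier fun ψ => if ψ = θ then 1 else 0)) =
      Cfsg.classInner (fun n : N => (χ : G → ℂ) n) (θ : N → ℂ) * (θ : N → ℂ) 1 := by
  haveI := Fintype.ofFinite (Cfsg.IrrCharacter N)
  set e : MonoidAlgebra ℂ N := fourier fun ψ => if ψ = θ then 1 else 0
  rw [evalChar_push]
  have hexp := classFun_eq_sum (char_isClassFunction
    (isCharacter_restrict N (irr_isCharacter χ)))
  conv_lhs =>
    arg 2
    intro n
    rw [show (χ : G → ℂ) (n : G) = (fun n : N => (χ : G → ℂ) n) n from rfl, hexp]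
  simp only [Finset.sum_apply, Pi.smul_apply, smul_eq_mul, Finset.mul_sum]
  rw [Finset.sum_comm]
  have h : ∀ ψ : Cfsg.IrrCharacter N, ∑ n : N, e.coeff n *
      (Cfsg.classInner (fun n : N => (χ : G → ℂ) n) (ψ : N → ℂ) * (ψ : N → ℂ) n) =
      Cfsg.classInner (fun n : N => (χ : G → ℂ) n) (ψ : N → ℂ) *
        ((ψ : N → ℂ) 1 * omega (ψ : N → ℂ) e) := fun ψ => by
    rw [omega, mul_div_cancel₀ _ (irr_one_ne_zero ψ.2), evalChar_eq_sum, Finset.mul_sum]
    exact Finset.sum_congr rfl fun n _ => by ring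
  simp only [h]
  rw [Finset.sum_eq_single θ (fun ψ _ hne => by rw [omega_fourier, if_neg hne]; ring) (by simp),
    omega_fourier, if_pos rfl, mul_one]

/-- A central element on a coset with nonzero central character fixes the constituents. -/
theorem conjIrr_eq_self (χ : Cfsg.IrrCharacter G) {θ : Cfsg.IrrCharacter N}
    (hθ : Cfsg.classInner (fun n : N => (χ : G → ℂ) n) (θ : N → ℂ) ≠ 0) {g : G}
    {r : MonoidAlgebra ℂ G} (hr : IsCentralEl r) (hsupp : Supp (g : G ⧸ N) r)
    (hω : omega (χ : G → ℂ) r ≠ 0) : conjIrr g θ = θ := by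
  classical
  haveI := Fintype.ofFinite G
  by_contra hne
  set e : MonoidAlgebra ℂ N := fourier fun ψ => if ψ = θ then 1 else 0
  have he : IsCentralEl e := central_fourier _
  have hee : e * e = e := central_omega_ext (central_mul he he) he fun ψ => by
    rw [omega_mul ψ he, omega_fourier]; split <;> simp
  have h0 : conjEl g e * e = 0 := central_omega_ext (central_mul (central_conjEl g he) he)
    (fun _ _ => by simp) fun ψ => by
      rw [omega_mul ψ (central_conjEl g he), omega_conjEl, omega_fourier, omega_fourier,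
        show omega (ψ : N → ℂ) 0 = 0 by simp [omega, evalChar_zero]]
      by_cases hψ : ψ = θ
      · subst hψ; rw [if_neg hne, zero_mul]
      · rw [if_neg hψ, mul_zero]
  have h1 : r * push N e = 0 := by
    calc r * push N e = r * push N e * push N e := by rw [mul_assoc, ← push_mul, hee]
      _ = push N (conjEl g e) * r * push N e := by rw [supp_mul_push hsupp he]
      _ = push N (conjEl g e) * (r * push N e) := by rw [mul_assoc]
      _ = push N (conjEl g e) * (push N e * r) := by rw [central_commute hr]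
      _ = push N (conjEl g e * e) * r := by rw [push_mul, mul_assoc]
      _ = 0 := by
        rw [h0, show push N (0 : MonoidAlgebra ℂ N) = 0 from el_ext fun x => by
          by_cases hx : x ∈ N
          · rw [coeff_push_mem _ hx]; simp
          · rw [coeff_push_notMem _ hx]; simp, zero_mul]
  have h2 := evalChar_central_mul χ hr (push N e)
  rw [h1, evalChar_zero, evalChar_push_fourier] at h2
  exact mul_ne_zero hω (mul_ne_zero hθ (irr_one_ne_zero θ.2)) h2.symm

variable [Fintype (G ⧸ N)]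

/-- The linear character of `G` given by a character of a commutative quotient. -/
noncomputable def lam (hcomm : ∀ a b : G ⧸ N, a * b = b * a) (η : Cfsg.IrrCharacter (G ⧸ N)) :
    G →* ℂˣ :=
  (linearOfDegreeOne (irr_isCharacter η) (irr_degree_one_of_comm hcomm η.2)).comp
    (QuotientGroup.mk' N)

theorem lam_apply (hcomm : ∀ a b : G ⧸ N, a * b = b * a) (η : Cfsg.IrrCharacter (G ⧸ N)) (g : G) :
    (lam hcomm η g : ℂ) = (η : G ⧸ N → ℂ) g := rfl

/-- The twist of a character by a character of the quotient. -/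
noncomputable def tw (hcomm : ∀ a b : G ⧸ N, a * b = b * a) (η : Cfsg.IrrCharacter (G ⧸ N))
    (χ : Cfsg.IrrCharacter G) : Cfsg.IrrCharacter G :=
  ⟨fun g => (lam hcomm η g : ℂ) * (χ : G → ℂ) g, isIrrCharacter_mul_linear χ.2 _⟩

theorem tw_apply (hcomm : ∀ a b : G ⧸ N, a * b = b * a) (η : Cfsg.IrrCharacter (G ⧸ N))
    (χ : Cfsg.IrrCharacter G) (g : G) :
    (tw hcomm η χ : G → ℂ) g = (η : G ⧸ N → ℂ) g * (χ : G → ℂ) g := rfl

theorem tw_restrict (hcomm : ∀ a b : G ⧸ N, a * b = b * a) (η : Cfsg.IrrCharacter (G ⧸ N))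
    (χ : Cfsg.IrrCharacter G) (n : N) : (tw hcomm η χ : G → ℂ) n = (χ : G → ℂ) n := by
  rw [tw_apply, (QuotientGroup.eq_one_iff (n : G)).2 n.2, irr_degree_one_of_comm hcomm η.2, one_mul]

/-- Distinct characters of the quotient give distinct twists. -/
theorem tw_injective (hcomm : ∀ a b : G ⧸ N, a * b = b * a) (χ : Cfsg.IrrCharacter G)
    (hr : ∀ g : G, ∃ r : MonoidAlgebra ℂ G, IsCentralEl r ∧ Supp (g : G ⧸ N) r ∧
      omega (χ : G → ℂ) r ≠ 0) :
    Function.Injective fun η => tw hcomm η χ := by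
  haveI := Fintype.ofFinite G
  intro η η' h
  refine Subtype.ext (funext fun q => ?_)
  induction q using QuotientGroup.induction_on with | _ g => ?_
  obtain ⟨r, hrc, hrs, hrn⟩ := hr g
  have hkey : ∀ η : Cfsg.IrrCharacter (G ⧸ N), evalChar (tw hcomm η χ : G → ℂ) r =
      (η : G ⧸ N → ℂ) g * evalChar (χ : G → ℂ) r := by
    intro η
    rw [evalChar_eq_sum, evalChar_eq_sum, Finset.mul_sum]
    refine Finset.sum_congr rfl fun a _ => ?_
    rw [tw_apply]
    by_cases ha : (a : G ⧸ N) = g
    · rw [ha]; ring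
    · rw [hrs a ha]; ring
  have h1 := hkey η
  rw [show tw hcomm η χ = tw hcomm η' χ from h, hkey η'] at h1
  exact (mul_right_cancel₀ (fun e => hrn (by rw [omega, e, zero_div])) h1).symm

theorem card_irr_of_comm {Q : Type u} [Group Q] [Finite Q] (hcomm : ∀ a b : Q, a * b = b * a) :
    Nat.card (Cfsg.IrrCharacter Q) = Nat.card Q := by
  rw [card_irrCharacter, Nat.card_congr (Equiv.ofBijective ConjClasses.mk
    ⟨fun a b h => ?_, ConjClasses.mk_surjective⟩).symm]
  obtain ⟨c, rfl⟩ := isConj_iff.1 (ConjClasses.mk_eq_mk_iff_isConj.1 h)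
  rw [hcomm c a, mul_inv_cancel_right]

/-- The restriction to `N` is irreducible. -/
theorem restrict_norm [Fintype G] (hcomm : ∀ a b : G ⧸ N, a * b = b * a) (χ : Cfsg.IrrCharacter G)
    (hr : ∀ g : G, ∃ r : MonoidAlgebra ℂ G, IsCentralEl r ∧ Supp (g : G ⧸ N) r ∧
      omega (χ : G → ℂ) r ≠ 0) :
    Cfsg.classInner (fun n : N => (χ : G → ℂ) n) (fun n : N => (χ : G → ℂ) n) = 1 := by
  classical
  haveI := Fintype.ofFinite (Cfsg.IrrCharacter (G ⧸ N))
  let F : G → ℂ := fun g => (χ : G → ℂ) g * conj ((χ : G → ℂ) g)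
  have hsum : ∀ η : Cfsg.IrrCharacter (G ⧸ N), ∑ g : G, (η : G ⧸ N → ℂ) g * F g =
      if η = trivIrr (G ⧸ N) then (Nat.card G : ℂ) else 0 := by
    intro η
    have h1 := classInner_irr (tw hcomm η χ) χ
    rw [classInner_def, inv_mul_eq_iff_eq_mul₀ natCard_ne_zero] at h1
    have h2 : ∑ g : G, (η : G ⧸ N → ℂ) g * F g =
        ∑ g : G, (tw hcomm η χ : G → ℂ) g * conj ((χ : G → ℂ) g) :=
      Finset.sum_congr rfl fun g _ => by rw [tw_apply]; simp only [F]; ring
    rw [h2, h1]
    have htriv : tw hcomm (trivIrr (G ⧸ N)) χ = χ :=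
      Subtype.ext (funext fun g => by rw [tw_apply, trivIrr_coe, one_mul])
    by_cases hη : η = trivIrr (G ⧸ N)
    · rw [if_pos hη, hη, htriv, if_pos rfl, mul_one]
    · rw [if_neg hη, if_neg fun h => hη (tw_injective hcomm χ hr (h.trans htriv.symm)), mul_zero]
  have hs : ∑ η : Cfsg.IrrCharacter (G ⧸ N), ∑ g : G, (η : G ⧸ N → ℂ) g * F g = (Nat.card G : ℂ) := by
    simp [hsum]
  have hone : ∀ g : G, ∑ η : Cfsg.IrrCharacter (G ⧸ N), (η : G ⧸ N → ℂ) g =
      if g ∈ N then (N.index : ℂ) else 0 := by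
    intro g
    have h := second_orthogonality (g : G ⧸ N) 1
    simp only [fun η : Cfsg.IrrCharacter (G ⧸ N) => irr_degree_one_of_comm hcomm η.2, map_one,
      mul_one] at h
    rw [h, Subgroup.centralizer_eq_top_iff_subset.2 (by
      intro a ha; rw [Set.mem_singleton_iff.1 ha]; exact Subgroup.one_mem _), Subgroup.card_top,
      ← Subgroup.index_eq_card]
    simp only [isConj_one_left, QuotientGroup.eq_one_iff]
  rw [Finset.sum_comm] at hs
  simp only [← Finset.sum_mul, hone, ite_mul, zero_mul] at hs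
  rw [← Finset.sum_filter, ← Finset.mul_sum,
    Finset.sum_subtype (Finset.univ.filter (· ∈ N)) (p := (· ∈ N)) (fun u => by simp),
    ← Subgroup.index_mul_card N, Nat.cast_mul] at hs
  rw [classInner_def]
  show _ * ∑ a : N, F a = 1
  rw [mul_left_cancel₀ (Nat.cast_ne_zero.2 Subgroup.index_ne_zero_of_finite) hs]
  exact inv_mul_cancel₀ natCard_ne_zero

/-- An invariant constituent is the restriction. -/
theorem restrict_eq [Fintype G] (hcomm : ∀ a b : G ⧸ N, a * b = b * a) (χ : Cfsg.IrrCharacter G)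
    (hr : ∀ g : G, ∃ r : MonoidAlgebra ℂ G, IsCentralEl r ∧ Supp (g : G ⧸ N) r ∧
      omega (χ : G → ℂ) r ≠ 0)
    {θ : Cfsg.IrrCharacter N}
    (hθ : Cfsg.classInner (fun n : N => (χ : G → ℂ) n) (θ : N → ℂ) ≠ 0) :
    ∀ n : N, (χ : G → ℂ) n = (θ : N → ℂ) n := by
  have hinv : ∀ g : G, Clifford.conjBy N g (θ : N → ℂ) = θ := fun g => by
    obtain ⟨r, h1, h2, h3⟩ := hr g
    rw [← coe_conjIrr, conjIrr_eq_self χ hθ h1 h2 h3]
  have h := Clifford.restrict_eq_smul_of_invariant N χ.2 θ.2 hθ hinv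
  obtain ⟨m, hm⟩ := classInner_char_nat (isCharacter_restrict N (irr_isCharacter χ))
    (irr_isCharacter θ)
  have h1 := restrict_norm hcomm χ hr
  rw [hm] at h
  rw [h, classInner_smul_left, classInner_smul_right, classInner_isIrr_self θ.2,
    Complex.conj_natCast, mul_one] at h1
  have hm1 : m = 1 := Nat.eq_one_of_mul_eq_one_right (n := m) (by exact_mod_cast h1)
  intro n
  have := congrFun h n
  simpa [hm1] using this

/-- The characters with a given restriction are the twists. -/
theorem card_extensions [Fintype G] (hcomm : ∀ a b : G ⧸ N, a * b = b * a)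
    (χ : Cfsg.IrrCharacter G)
    (hr : ∀ g : G, ∃ r : MonoidAlgebra ℂ G, IsCentralEl r ∧ Supp (g : G ⧸ N) r ∧
      omega (χ : G → ℂ) r ≠ 0)
    {θ : Cfsg.IrrCharacter N} (hθ : ∀ n : N, (χ : G → ℂ) n = (θ : N → ℂ) n) :
    Nat.card {ψ : Cfsg.IrrCharacter G // ∀ n : N, (ψ : G → ℂ) n = (θ : N → ℂ) n} = N.index := by
  rw [Subgroup.index_eq_card, ← card_irr_of_comm hcomm]
  refine (Nat.card_congr (Equiv.ofBijective (fun η => ⟨tw hcomm η χ, fun n => by
    rw [tw_restrict, hθ]⟩) ⟨fun a b h => tw_injective hcomm χ hr (congrArg Subtype.val h),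
      fun ψ => ?_⟩)).symm
  obtain ⟨l, hl, hl1, hlN, hlm⟩ := ExtendChar.extension_eq_linear_mul N θ.2 χ.2 hθ ψ.1.2 ψ.2
  have hli : Cfsg.IsIrrCharacter G l := by
    have e : l = fun g => (linearOfDegreeOne hl hl1 g : ℂ) := rfl
    rw [e]; exact isIrrCharacter_linear _
  obtain ⟨η, -, hη, hηi⟩ := exists_deflate_quotient N hl fun x hx => by rw [hlN ⟨x, hx⟩, hl1]
  refine ⟨⟨η, hηi hli⟩, Subtype.ext (Subtype.ext (funext fun g => ?_))⟩
  show (tw hcomm ⟨η, hηi hli⟩ χ : G → ℂ) g = _
  rw [tw_apply, ← hlm]; show η g * _ = l g * _; rw [hη]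

end Cfsg.Agent.BlockCharsA.AbelianIndex
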