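import Mathlib

/-!
Automorphisms of `ℂ` with prescribed action on roots of unity, and integral elements of
cyclotomic fields inside `ℂ` as integral polynomials in the root of unity.
-/

set_option autoImplicit false
set_option linter.style.haveILetI false

namespace Cfsg.Agent.BlockCharsA.AlgAut

open Polynomial

theorem isCyclotomic (n : ℕ) [NeZero n] : IsCyclotomicExtension {n} ℚ (CyclotomicField n ℚ) :=
  haveI : NeZero (n : ℚ) := ⟨Nat.cast_ne_zero.mpr (NeZero.ne n)⟩
  CyclotomicField.isCyclotomicExtension n ℚ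

attribute [local instance] isCyclotomic

/-- The embedding of the abstract cyclotomic field taking the generator to `ζ`. -/
theorem exists_embedding {n : ℕ} [NeZero n] {ζ : ℂ} (hζ : IsPrimitiveRoot ζ n) :
    ∃ φ : CyclotomicField n ℚ →ₐ[ℚ] ℂ,
      φ (IsCyclotomicExtension.zeta n ℚ (CyclotomicField n ℚ)) = ζ := by
  have hη := IsCyclotomicExtension.zeta_spec n ℚ (CyclotomicField n ℚ)
  have hirr := cyclotomic.irreducible_rat (NeZero.pos n)
  let e := hη.embeddingsEquivPrimitiveRoots ℂ hirr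
  refine ⟨e.symm ⟨ζ, (mem_primitiveRoots (NeZero.pos n)).mpr hζ⟩, ?_⟩
  have h := hη.embeddingsEquivPrimitiveRoots_apply_coe ℂ hirr
    (e.symm ⟨ζ, (mem_primitiveRoots (NeZero.pos n)).mpr hζ⟩)
  rw [← h]
  simp [e]

/-- Every power of a primitive root prime to the order is the image under an automorphism. -/
theorem exists_aut {n : ℕ} [NeZero n] {ζ : ℂ} (hζ : IsPrimitiveRoot ζ n) (u : (ZMod n)ˣ) :
    ∃ σ : ℂ ≃+* ℂ, σ ζ = ζ ^ (u : ZMod n).val := by
  classical
  let K := CyclotomicField n ℚ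
  obtain ⟨φ, hφ⟩ := exists_embedding hζ
  letI : Algebra K ℂ := φ.toRingHom.toAlgebra
  have hirr := cyclotomic.irreducible_rat (NeZero.pos n)
  have hη := IsCyclotomicExtension.zeta_spec n ℚ K
  let τ : K ≃ₐ[ℚ] K := (IsCyclotomicExtension.autEquivPow K hirr).symm u
  have hτ : τ (IsCyclotomicExtension.zeta n ℚ K) =
      IsCyclotomicExtension.zeta n ℚ K ^ (u : ZMod n).val := by
    have h := hη.autToPow_spec ℚ τ
    rw [show hη.autToPow ℚ τ = u from
      (IsCyclotomicExtension.autEquivPow K hirr).apply_symm_apply u] at h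
    exact h.symm
  obtain ⟨s, hs⟩ := exists_isTranscendenceBasis K ℂ
  set v : s → ℂ := Subtype.val
  haveI : IsAlgClosure (Algebra.adjoin K (Set.range v)) ℂ :=
    IsAlgClosed.isAlgClosure_of_transcendence_basis v hs
  let e : Algebra.adjoin K (Set.range v) ≃+* Algebra.adjoin K (Set.range v) :=
    (hs.1.aevalEquiv.symm.toRingEquiv.trans (MvPolynomial.mapEquiv s τ.toRingEquiv)).trans
      hs.1.aevalEquiv.toRingEquiv
  let σ : ℂ ≃+* ℂ := IsAlgClosure.equivOfEquiv ℂ ℂ e
  refine ⟨σ, ?_⟩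
  have hcoe : ∀ x : K, σ (algebraMap K ℂ x) = algebraMap K ℂ (τ x) := by
    intro x
    have h1 : algebraMap K ℂ x = algebraMap (Algebra.adjoin K (Set.range v)) ℂ
        (algebraMap K _ x) := rfl
    rw [h1, IsAlgClosure.equivOfEquiv_algebraMap]
    have h2 : e (algebraMap K _ x) = algebraMap K _ (τ x) := by
      show hs.1.aevalEquiv (MvPolynomial.mapEquiv s τ.toRingEquiv
        (hs.1.aevalEquiv.symm (algebraMap K _ x))) = _
      rw [AlgEquiv.commutes, MvPolynomial.algebraMap_eq, MvPolynomial.mapEquiv_apply,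
        MvPolynomial.map_C, ← MvPolynomial.algebraMap_eq, AlgEquiv.commutes]
      rfl
    rw [h2]
    rfl
  have h := hcoe (IsCyclotomicExtension.zeta n ℚ K)
  rw [hτ, map_pow] at h
  rw [← hφ]
  exact h

/-- An algebraic integer that is a quotient of integral polynomial values at `ζ` is an integral
polynomial value at `ζ`. -/
theorem exists_intPoly {n : ℕ} [NeZero n] {ζ : ℂ} (hζ : IsPrimitiveRoot ζ n) (P : ℤ[X]) (d : ℕ)
    (h : IsIntegral ℤ (aeval ζ P / (d : ℂ))) : ∃ Q : ℤ[X], aeval ζ P / (d : ℂ) = aeval ζ Q := by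
  classical
  let K := CyclotomicField n ℚ
  obtain ⟨φ, hφ⟩ := exists_embedding hζ
  set η := IsCyclotomicExtension.zeta n ℚ K
  have hη : IsPrimitiveRoot η n := IsCyclotomicExtension.zeta_spec n ℚ K
  have hev : ∀ R : ℤ[X], φ (aeval η R) = aeval ζ R := fun R => by
    rw [← hφ]
    exact (aeval_algHom_apply φ.toRingHom.toIntAlgHom η R).symm
  have hx : φ (aeval η P / (d : K)) = aeval ζ P / (d : ℂ) := by
    rw [map_div₀, hev, map_natCast]
  have hint : IsIntegral ℤ (aeval η P / (d : K)) :=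
    (isIntegral_algHom_iff φ.toRingHom.toIntAlgHom φ.injective).1 (by
      show IsIntegral ℤ (φ (aeval η P / (d : K)))
      rwa [hx])
  haveI : IsIntegralClosure (Algebra.adjoin ℤ ({η} : Set K)) ℤ K :=
    IsCyclotomicExtension.Rat.isIntegralClosure_adjoin_singleton hη
  obtain ⟨⟨y, hy⟩, hyx⟩ := (IsIntegralClosure.isIntegral_iff
    (A := Algebra.adjoin ℤ ({η} : Set K))).1 hint
  rw [Algebra.adjoin_singleton_eq_range_aeval] at hy
  obtain ⟨Q, rfl⟩ := hy
  refine ⟨Q, ?_⟩
  rw [← hx, ← hev, ← hyx]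
  rfl

end Cfsg.Agent.BlockCharsA.AlgAut
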