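import Mathlib
import Cfsg.Prelude.Def_BrauerPairs
import Cfsg.Agent.Lib.Blocks.Brauer
import Cfsg.Agent.Lib.Characters.Counting

/-!
# Brauer pairs: the block of a pair, the unique pair below a pair

Everything is read through `br P z`, the restriction of an element of the group algebra of `G` to
the centraliser of the `p`-subgroup `P`.
-/

set_option linter.style.haveILetI false

namespace Cfsg.Agent.BlockCharsA.BrauerPairs

open Cfsg.Agent.Blocks Cfsg.Agent.Characters
open scoped ComplexConjugate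

variable {G : Type*} [Group G] {p : ℕ} {M : Ideal Cfsg.AlgInt}

/-- Invariance of coefficients under conjugation by the elements of a set. -/
def InvBy (S : Set G) (z : MonoidAlgebra ℂ G) : Prop :=
  ∀ u ∈ S, ∀ g, z.coeff (u * g * u⁻¹) = z.coeff g

variable [Finite G]

/-- The Brauer map at `P`. -/
noncomputable def br (P : Subgroup G) (z : MonoidAlgebra ℂ G) :
    MonoidAlgebra ℂ (Subgroup.centralizer (P : Set G)) :=
  restrEl (Subgroup.centralizer (P : Set G)) z

theorem coeff_inclEl_of_mem (K : Subgroup G) (x : MonoidAlgebra ℂ K) {g : G} (hg : g ∈ K) :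
    (inclEl K x).coeff g = x.coeff ⟨g, hg⟩ :=
  coeff_inclEl_mem K x ⟨g, hg⟩

theorem br_cutEl (P : Subgroup G) (z : MonoidAlgebra ℂ G) : br P (cutEl P z) = br P z :=
  el_ext fun h => by simp [br, cutEl_coeff_mem z h.2]

theorem inclEl_br (P : Subgroup G) (z : MonoidAlgebra ℂ G) :
    inclEl (Subgroup.centralizer (P : Set G)) (br P z) = cutEl P z :=
  el_ext fun g => by
    by_cases hg : g ∈ Subgroup.centralizer (P : Set G)
    · rw [cutEl_coeff_mem z hg, coeff_inclEl_of_mem _ _ hg, br, coeff_restrEl]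
    · rw [cutEl_coeff_notMem z hg, coeff_inclEl_notMem _ _ hg]

theorem br_mul (hM : Cfsg.IsPModular p M) {P : Subgroup G} (hP : IsPGroup p P)
    {x y : MonoidAlgebra ℂ G} (hx : IntEl M x) (hy : IntEl M y) (hxP : InvBy (P : Set G) x)
    (hyP : InvBy (P : Set G) y) : CongEl M (br P (x * y)) (br P x * br P y) := by
  rw [← br_cutEl P (x * y), ← br_cutEl P x, ← br_cutEl P y]
  refine congEl_trans hM (congEl_restrEl _ (congEl_cutEl_mul hM hP hx hy hxP hyP))
    (congEl_of_eq hM ?_)
  exact restrEl_mul _ fun g hg => cutEl_coeff_notMem x hg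

theorem central_br {P : Subgroup G} {z : MonoidAlgebra ℂ G}
    (hz : InvBy (Subgroup.centralizer (P : Set G) : Set G) z) : IsCentralEl (br P z) := fun g h => by
  simpa [br] using hz (h : G) h.2 (g : G)

theorem brauerOmega_eq (P : Subgroup G) {β : G → ℂ} {z : MonoidAlgebra ℂ G}
    (h : ∀ g ∈ Subgroup.centralizer (P : Set G), z.coeff g = β g)
    (ξ : Subgroup.centralizer (P : Set G) → ℂ) : Cfsg.brauerOmega P β ξ = omega ξ (br P z) := by
  haveI := Fintype.ofFinite (Subgroup.centralizer (P : Set G))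
  rw [Cfsg.brauerOmega, finsum_eq_sum_of_fintype, omega, evalChar_eq_sum, Finset.sum_div]
  exact Finset.sum_congr rfl fun x _ => by rw [br, coeff_restrEl, h _ x.2]

/-- The idempotent of a set of characters of a subgroup, in the group algebra of `G`. -/
noncomputable def elF (K : Subgroup G) (f : Set (Cfsg.IrrCharacter K)) : MonoidAlgebra ℂ G :=
  inclEl K (blockIdem f)

theorem coeff_elF (K : Subgroup G) (f : Set (Cfsg.IrrCharacter K)) (g : G) :
    (elF K f).coeff g = Cfsg.subgroupBlockCoeff K f g := by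
  classical
  by_cases h : g ∈ K
  · rw [elF, coeff_inclEl_of_mem _ _ h, coeff_blockIdem, Cfsg.subgroupBlockCoeff, dif_pos h]
  · rw [elF, coeff_inclEl_notMem _ _ h, Cfsg.subgroupBlockCoeff, dif_neg h]

theorem brauerOmega_elF (P K : Subgroup G) (f : Set (Cfsg.IrrCharacter K))
    (ξ : Subgroup.centralizer (P : Set G) → ℂ) :
    Cfsg.brauerOmega P (Cfsg.subgroupBlockCoeff K f) ξ = omega ξ (br P (elF K f)) :=
  brauerOmega_eq P (fun g _ => coeff_elF K f g) ξ

theorem brauerOmega_block (P : Subgroup G) (B : Set (Cfsg.IrrCharacter G))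
    (ξ : Subgroup.centralizer (P : Set G) → ℂ) :
    Cfsg.brauerOmega P (Cfsg.blockCoeff B) ξ = omega ξ (br P (blockIdem B)) :=
  brauerOmega_eq P (fun g _ => coeff_blockIdem B g) ξ

theorem intEl_elF (hM : Cfsg.IsPModular p M) {K : Subgroup G} {f : Set (Cfsg.IrrCharacter K)}
    (hf : Cfsg.IsPBlock M f) : IntEl M (elF K f) :=
  intEl_inclEl hM K (intEl_blockIdem hM hf)

theorem elF_mul_self (K : Subgroup G) (f : Set (Cfsg.IrrCharacter K)) :
    elF K f * elF K f = elF K f := by
  rw [elF, ← map_mul, blockIdem_mul_self]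

theorem elF_mul_ne (hM : Cfsg.IsPModular p M) {K : Subgroup G} {f f' : Set (Cfsg.IrrCharacter K)}
    (hf : Cfsg.IsPBlock M f) (hf' : Cfsg.IsPBlock M f') (hne : f ≠ f') :
    elF K f * elF K f' = 0 := by
  classical
  rw [elF, elF, ← map_mul, blockIdem_mul,
    show f ∩ f' = ∅ from Set.eq_empty_iff_forall_notMem.2 fun χ h =>
      hne (block_eq_of_mem hM hf hf' h.1 h.2)]
  rw [show blockIdem (∅ : Set (Cfsg.IrrCharacter K)) = 0 from el_ext fun g => by
    simp [coeff_blockIdem, Cfsg.blockCoeff], map_zero]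

/-! ### Conjugation -/

/-- Conjugation by an element of the normaliser, as an automorphism of the subgroup. -/
def conjK {K : Subgroup G} {u : G} (hu : u ∈ Subgroup.normalizer (K : Set G)) : K ≃* K where
  toFun k := ⟨u * k * u⁻¹, (Subgroup.mem_normalizer_iff.1 hu k).1 k.2⟩
  invFun k := ⟨u⁻¹ * k * u, by
    simpa using (Subgroup.mem_normalizer_iff.1 (inv_mem hu) k).1 k.2⟩
  left_inv k := Subtype.ext (by simp [mul_assoc])
  right_inv k := Subtype.ext (by simp [mul_assoc])
  map_mul' a b := Subtype.ext (by simp [mul_assoc])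

omit [Finite G] in
theorem coe_conjK {K : Subgroup G} {u : G} (hu : u ∈ Subgroup.normalizer (K : Set G)) (k : K) :
    (conjK hu k : G) = u * k * u⁻¹ := rfl

omit [Finite G] in
theorem conjK_symm_coe {K : Subgroup G} {u : G} (hu : u ∈ Subgroup.normalizer (K : Set G)) (k : K) :
    ((conjK hu).symm k : G) = u⁻¹ * k * u := rfl

/-- Transport of a set of characters along an automorphism. -/
def moveSet {K : Type*} [Group K] (σ : K ≃* K) (f : Set (Cfsg.IrrCharacter K)) :
    Set (Cfsg.IrrCharacter K) := irrAutEquiv σ ⁻¹' f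

theorem centralChar_comp {K : Type*} [Group K] [Finite K] (σ : K ≃* K) (χ : K → ℂ) (k : K) :
    Cfsg.centralChar (χ ∘ σ) k = Cfsg.centralChar χ (σ k) := by
  have hc : (Subgroup.centralizer ({σ k} : Set K)) =
      (Subgroup.centralizer ({k} : Set K)).map σ.toMonoidHom := by
    ext x
    simp only [Subgroup.mem_map_equiv, Subgroup.mem_centralizer_iff, Set.mem_singleton_iff,
      forall_eq]
    constructor
    · intro h
      apply σ.injective
      simpa using h
    · intro h
      simpa using congrArg σ h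
  rw [Cfsg.centralChar, Cfsg.centralChar, hc, Subgroup.index_map_of_bijective (f := σ.toMonoidHom)
    σ.bijective]
  simp

theorem sameBlock_comp {K : Type*} [Group K] [Finite K] (σ : K ≃* K) {χ ψ : K → ℂ}
    (h : Cfsg.SameBlock M χ ψ) : Cfsg.SameBlock M (χ ∘ σ) (ψ ∘ σ) := fun k => by
  rw [centralChar_comp, centralChar_comp]; exact h (σ k)

theorem isPBlock_moveSet {K : Type*} [Group K] [Finite K] (hM : Cfsg.IsPModular p M) (σ : K ≃* K)
    {f : Set (Cfsg.IrrCharacter K)} (hf : Cfsg.IsPBlock M f) : Cfsg.IsPBlock M (moveSet σ f) := by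
  obtain ⟨ψ, hψ⟩ := block_nonempty hM hf
  refine ⟨(irrAutEquiv σ).symm ψ, Set.ext fun χ => ⟨fun h => ?_, fun h => ?_⟩⟩
  · have h1 : Cfsg.SameBlock M (ψ : K → ℂ) ((χ : K → ℂ) ∘ σ) :=
      sameBlock_of_mem hM hf hψ (show irrAutEquiv σ χ ∈ f from h)
    have h2 := sameBlock_comp σ.symm h1
    rwa [show ((χ : K → ℂ) ∘ σ) ∘ σ.symm = (χ : K → ℂ) from funext fun k => by simp] at h2
  · refine mem_of_sameBlock (ψ := irrAutEquiv σ χ) hM hf hψ ?_
    have h2 := sameBlock_comp σ (show Cfsg.SameBlock M ((ψ : K → ℂ) ∘ σ.symm) (χ : K → ℂ) from h)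
    rwa [show ((ψ : K → ℂ) ∘ σ.symm) ∘ σ = (ψ : K → ℂ) from funext fun k => by simp] at h2

theorem blockCoeff_moveSet {K : Type*} [Group K] [Finite K] (σ : K ≃* K)
    (f : Set (Cfsg.IrrCharacter K)) (k : K) :
    Cfsg.blockCoeff (moveSet σ f) k = Cfsg.blockCoeff f (σ.symm k) := by
  classical
  haveI := Fintype.ofFinite (Cfsg.IrrCharacter K)
  rw [blockCoeff_eq_sum, blockCoeff_eq_sum]
  congr 1
  refine Fintype.sum_equiv (irrAutEquiv σ) _ _ fun χ => ?_
  refine if_congr Iff.rfl ?_ rfl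
  show (χ : K → ℂ) 1 * conj ((χ : K → ℂ) k) = (χ : K → ℂ) (σ 1) * conj ((χ : K → ℂ) (σ (σ.symm k)))
  simp

theorem stabilizes_iff {K : Subgroup G} {u : G} (hu : u ∈ Subgroup.normalizer (K : Set G))
    (f : Set (Cfsg.IrrCharacter K)) :
    Cfsg.StabilizesBlock K f u ↔ moveSet (conjK hu) f = f := by
  set e := irrAutEquiv (conjK hu)
  constructor
  · intro h
    have hsub : f ⊆ e '' f := by
      intro χ hχ
      obtain ⟨χ', hχ', hc⟩ := h.2 χ hχ
      exact ⟨χ', hχ', Subtype.ext (funext fun k => hc k (conjK hu k) rfl)⟩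
    have heq : f = e '' f := Set.eq_of_subset_of_ncard_le hsub
      (le_of_eq (Set.ncard_image_of_injective f e.injective)) (Set.toFinite _)
    show e ⁻¹' f = f
    conv_lhs => rw [heq]
    exact Set.preimage_image_eq f e.injective
  · intro h
    refine ⟨hu, fun χ hχ => ⟨e.symm χ, ?_, fun k k' hk => ?_⟩⟩
    · rw [← h]; show e (e.symm χ) ∈ f; rwa [Equiv.apply_symm_apply]
    · show (χ : K → ℂ) ((conjK hu).symm k') = (χ : K → ℂ) k
      exact congrArg (χ : K → ℂ) ((MulEquiv.symm_apply_eq _).2 (Subtype.ext hk))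

theorem invBy_elF {K : Subgroup G} {f : Set (Cfsg.IrrCharacter K)} {S : Set G}
    (hS : ∀ u ∈ S, Cfsg.StabilizesBlock K f u) : InvBy S (elF K f) := by
  intro u hu g
  obtain ⟨hn, -⟩ := hS u hu
  have h := (stabilizes_iff hn f).1 (hS u hu)
  by_cases hg : g ∈ K
  · have hg' : u * g * u⁻¹ ∈ K := (Subgroup.mem_normalizer_iff.1 hn g).1 hg
    rw [elF, coeff_inclEl_of_mem _ _ hg', coeff_inclEl_of_mem _ _ hg, coeff_blockIdem,
      coeff_blockIdem]
    conv_lhs => rw [← h, blockCoeff_moveSet]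
    congr 1
    rw [MulEquiv.symm_apply_eq]
    exact Subtype.ext rfl
  · rw [elF, coeff_inclEl_notMem _ _ hg, coeff_inclEl_notMem]
    exact fun h' => hg ((Subgroup.mem_normalizer_iff.1 hn g).2 h')

theorem invBy_elF_self {K : Subgroup G} (f : Set (Cfsg.IrrCharacter K)) :
    InvBy (K : Set G) (elF K f) := fun u hu g => by
  by_cases hg : g ∈ K
  · rw [elF, coeff_inclEl_of_mem _ _ (K.mul_mem (K.mul_mem hu hg) (K.inv_mem hu)),
      coeff_inclEl_of_mem _ _ hg]
    exact central_blockIdem f (⟨g, hg⟩ : K) ⟨u, hu⟩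
  · rw [elF, coeff_inclEl_notMem _ _ hg, coeff_inclEl_notMem]
    intro h'
    exact hg (by simpa [mul_assoc] using K.mul_mem (K.mul_mem (K.inv_mem hu) h') hu)

theorem invBy_blockIdem (B : Set (Cfsg.IrrCharacter G)) (S : Set G) : InvBy S (blockIdem B) :=
  fun u _ g => central_blockIdem B g u

theorem invBy_mono {S T : Set G} (h : S ⊆ T) {z : MonoidAlgebra ℂ G} (hz : InvBy T z) :
    InvBy S z := fun u hu => hz u (h hu)

theorem invBy_zero (S : Set G) : InvBy S (0 : MonoidAlgebra ℂ G) := fun _ _ _ => by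
  rw [MonoidAlgebra.coeff_zero]; rfl

/-- A central idempotent modulo the ideal whose central characters are all in the ideal. -/
theorem idealEl_of_omega (hM : Cfsg.IsPModular p M) {w : MonoidAlgebra ℂ G} (hw : IsCentralEl w)
    (hi : IntEl M w) (hid : CongEl M (w * w) w)
    (h : ∀ χ : Cfsg.IrrCharacter G, Cfsg.MemLocalIdeal M (omega (χ : G → ℂ) w)) : IdealEl M w := by
  obtain ⟨n, hn⟩ := exists_pow_idealEl hM hw h
  exact idealEl_of_idem_nilp hM hi hid (hn n le_rfl)

omit [Finite G] in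
/-- An idempotent value modulo the ideal. -/
theorem cong_one_of_idem (hM : Cfsg.IsPModular p M) {a : ℂ} (ha : Cfsg.MemLocalRing M a)
    (h : Cong M (a * a) a) (hn : ¬ Cfsg.MemLocalIdeal M a) : Cong M a 1 := by
  have h1 : Cfsg.MemLocalIdeal M (a * (a - 1)) := by rwa [mul_sub, mul_one]
  exact ((ideal_mul_iff hM ha (ring_sub hM ha (ring_one hM))).1 h1).resolve_left hn

variable {P K : Subgroup G}

theorem omega_br_mul (hM : Cfsg.IsPModular p M) (hP : IsPGroup p P)
    (ξ : Cfsg.IrrCharacter (Subgroup.centralizer (P : Set G))) {x y : MonoidAlgebra ℂ G}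
    (hx : IntEl M x) (hy : IntEl M y) (hxP : InvBy (P : Set G) x) (hyP : InvBy (P : Set G) y)
    (hxC : InvBy (Subgroup.centralizer (P : Set G) : Set G) x)
    (hyC : InvBy (Subgroup.centralizer (P : Set G) : Set G) y)
    (hxyC : InvBy (Subgroup.centralizer (P : Set G) : Set G) (x * y)) :
    Cong M (omega (ξ : Subgroup.centralizer (P : Set G) → ℂ) (br P (x * y)))
      (omega (ξ : Subgroup.centralizer (P : Set G) → ℂ) (br P x) * omega (ξ : Subgroup.centralizer (P : Set G) → ℂ) (br P y)) := by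
  rw [← omega_mul ξ (central_br hxC)]
  exact omega_cong hM ξ (central_br hxyC) (central_mul (central_br hxC) (central_br hyC))
    (br_mul hM hP hx hy hxP hyP)

theorem omega_br_ring (hM : Cfsg.IsPModular p M)
    (ξ : Cfsg.IrrCharacter (Subgroup.centralizer (P : Set G))) {x : MonoidAlgebra ℂ G}
    (hx : IntEl M x) (hxC : InvBy (Subgroup.centralizer (P : Set G) : Set G) x) :
    Cfsg.MemLocalRing M (omega (ξ : Subgroup.centralizer (P : Set G) → ℂ) (br P x)) :=
  omega_ring hM ξ (central_br hxC) (intEl_restrEl _ hx)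

theorem omega_br_zero (ξ : Subgroup.centralizer (P : Set G) → ℂ) :
    omega ξ (br P (0 : MonoidAlgebra ℂ G)) = 0 := by
  rw [show br P (0 : MonoidAlgebra ℂ G) = 0 from el_ext fun h => by simp [br], omega_zero]

/-- Existence and uniqueness of the stable block of `K` over a block of `C(P)`. -/
theorem existsUnique_stable (hM : Cfsg.IsPModular p M) (hP : IsPGroup p P)
    (hPK : P ≤ Subgroup.normalizer (K : Set G)) (hCK : Subgroup.centralizer (P : Set G) ≤ K)
    (ξ : Cfsg.IrrCharacter (Subgroup.centralizer (P : Set G))) :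
    ∃! f : Set (Cfsg.IrrCharacter K), Cfsg.IsPBlock M f ∧
      (∀ x ∈ P, Cfsg.StabilizesBlock K f x) ∧ Cong M (omega (ξ : Subgroup.centralizer (P : Set G) → ℂ) (br P (elF K f))) 1 := by
  classical
  haveI := fact_prime_of_pm hM
  have hC : ∀ f : Set (Cfsg.IrrCharacter K),
      InvBy (Subgroup.centralizer (P : Set G) : Set G) (elF K f) :=
    fun f => invBy_mono hCK (invBy_elF_self f)
  set S := {f : Set (Cfsg.IrrCharacter K) // Cfsg.IsPBlock M f}
  haveI := Fintype.ofFinite S
  letI : MulAction P S :=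
    { smul := fun u f => ⟨moveSet (conjK (hPK u.2)) f.1, isPBlock_moveSet hM _ f.2⟩
      one_smul := fun f => Subtype.ext (Set.ext fun χ => by
        show irrAutEquiv (conjK (hPK (1 : P).2)) χ ∈ f.1 ↔ χ ∈ f.1
        rw [show irrAutEquiv (conjK (hPK (1 : P).2)) χ = χ from Subtype.ext (funext fun k => by
          show (χ : K → ℂ) (conjK (hPK (1 : P).2) k) = (χ : K → ℂ) k
          exact congrArg (χ : K → ℂ) (Subtype.ext (by simp [coe_conjK])))])
      mul_smul := fun u v f => Subtype.ext (Set.ext fun χ => by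
        show irrAutEquiv (conjK (hPK (u * v).2)) χ ∈ f.1 ↔
          irrAutEquiv (conjK (hPK v.2)) (irrAutEquiv (conjK (hPK u.2)) χ) ∈ f.1
        rw [show irrAutEquiv (conjK (hPK (u * v).2)) χ =
            irrAutEquiv (conjK (hPK v.2)) (irrAutEquiv (conjK (hPK u.2)) χ) from
          Subtype.ext (funext fun k => by
            show (χ : K → ℂ) (conjK (hPK (u * v).2) k) =
              (χ : K → ℂ) (conjK (hPK u.2) (conjK (hPK v.2) k))
            exact congrArg (χ : K → ℂ) (Subtype.ext (by simp [coe_conjK, mul_assoc])))]) }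
  set φ : S → ℂ := fun f => omega (ξ : Subgroup.centralizer (P : Set G) → ℂ) (br P (elF K f.1)) with hφ
  have hφr : ∀ f, Cfsg.MemLocalRing M (φ f) := fun f =>
    omega_br_ring hM ξ (intEl_elF hM f.2) (hC f.1)
  have hφinv : ∀ (u : P) (f : S), φ (u • f) = φ f := by
    intro u f
    show omega (ξ : Subgroup.centralizer (P : Set G) → ℂ) (br P (elF K (moveSet (conjK (hPK u.2)) f.1))) = _
    refine congrArg (omega (ξ : Subgroup.centralizer (P : Set G) → ℂ)) (el_ext fun c => ?_)
    rw [br, coeff_restrEl, br, coeff_restrEl,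
      elF, elF, coeff_inclEl_of_mem _ _ (hCK c.2),
      coeff_inclEl_of_mem _ _ (hCK c.2), coeff_blockIdem, coeff_blockIdem, blockCoeff_moveSet]
    congr 1
    rw [MulEquiv.symm_apply_eq]
    refine Subtype.ext ?_
    show (c : G) = (u : G) * c * (u : G)⁻¹
    rw [c.2 u u.2, mul_inv_cancel_right]
  set s := Finset.univ.filter fun f : S => ∀ u : P, u • f = f
  have hsum : Cong M (∑ f : S, φ f) (∑ f ∈ s, φ f) :=
    cong_sum_fixed hM hP φ hφr hφinv s fun f => by simp [s]
  have hone : ∑ f : S, φ f = 1 := by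
    simp only [φ]
    rw [← omega_sum]
    have : ∑ f : S, br P (elF K f.1) = 1 := by
      simp only [br, elF]
      rw [← restrEl_sum, ← map_sum, sum_blockIdem hM, map_one, restrEl_one]
    rw [this, omega_one (irr_one_ne_zero ξ.2)]
  have hex : ∃ f ∈ s, ¬ Cfsg.MemLocalIdeal M (φ f) := by
    by_contra h
    push Not at h
    rw [hone] at hsum
    exact not_ideal_one hM ((ideal_iff_of_cong hM hsum).2 (ideal_sum hM h))
  obtain ⟨f, hf, hfn⟩ := hex
  have hstab : ∀ x ∈ P, Cfsg.StabilizesBlock K f.1 x := fun x hx =>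
    (stabilizes_iff (hPK hx) f.1).2 (congrArg Subtype.val ((Finset.mem_filter.1 hf).2 ⟨x, hx⟩))
  have hinv : InvBy (P : Set G) (elF K f.1) := invBy_elF hstab
  refine ⟨f.1, ⟨f.2, hstab, cong_one_of_idem hM (hφr f) ?_ hfn⟩, ?_⟩
  · have h := omega_br_mul hM hP ξ (intEl_elF hM f.2) (intEl_elF hM f.2) hinv hinv (hC _) (hC _)
      (by rw [elF_mul_self]; exact hC _)
    rw [elF_mul_self] at h
    exact cong_symm hM h
  · rintro f' ⟨hf', hst', hω'⟩
    by_contra hne
    have hinv' : InvBy (P : Set G) (elF K f') := invBy_elF hst'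
    have h := omega_br_mul hM hP ξ (intEl_elF hM hf') (intEl_elF hM f.2) hinv' hinv (hC _) (hC _)
      (by rw [elF_mul_ne hM hf' f.2 hne]; exact invBy_zero _)
    rw [elF_mul_ne hM hf' f.2 hne, omega_br_zero] at h
    have h2 := (ideal_iff_of_cong hM h).1 (ideal_zero hM)
    rw [ideal_mul_iff hM (omega_br_ring hM ξ (intEl_elF hM hf') (hC _)) (hφr f)] at h2
    exact h2.elim (fun h3 => not_ideal_one hM ((ideal_iff_of_cong hM hω').1 h3)) hfn

theorem blockIdem_mul_ne (hM : Cfsg.IsPModular p M) {B B' : Set (Cfsg.IrrCharacter G)}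
    (hB : Cfsg.IsPBlock M B) (hB' : Cfsg.IsPBlock M B') (hne : B ≠ B') :
    blockIdem B * blockIdem B' = 0 := by
  classical
  rw [blockIdem_mul, show B ∩ B' = ∅ from Set.eq_empty_iff_forall_notMem.2 fun χ h =>
    hne (block_eq_of_mem hM hB hB' h.1 h.2)]
  exact el_ext fun g => by simp [coeff_blockIdem, Cfsg.blockCoeff]

/-- The unique block of `G` over a block of a centraliser. -/
theorem existsUnique_block (hM : Cfsg.IsPModular p M) (hP : IsPGroup p P)
    (ξ : Cfsg.IrrCharacter (Subgroup.centralizer (P : Set G))) :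
    ∃! B : Set (Cfsg.IrrCharacter G), Cfsg.IsPBlock M B ∧
      Cong M (omega (ξ : Subgroup.centralizer (P : Set G) → ℂ) (br P (blockIdem B))) 1 := by
  classical
  set S := {B : Set (Cfsg.IrrCharacter G) // Cfsg.IsPBlock M B}
  haveI := Fintype.ofFinite S
  have hi : ∀ B : S, IntEl M (blockIdem B.1) := fun B => intEl_blockIdem hM B.2
  have hone : ∑ B : S, omega (ξ : Subgroup.centralizer (P : Set G) → ℂ) (br P (blockIdem B.1)) = 1 := by
    rw [← omega_sum]
    simp only [br]
    rw [← restrEl_sum, sum_blockIdem hM, restrEl_one, omega_one (irr_one_ne_zero ξ.2)]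
  have hex : ∃ B : S, ¬ Cfsg.MemLocalIdeal M (omega (ξ : Subgroup.centralizer (P : Set G) → ℂ) (br P (blockIdem B.1))) := by
    by_contra h
    push Not at h
    exact not_ideal_one hM (hone ▸ ideal_sum hM fun B _ => h B)
  obtain ⟨B, hBn⟩ := hex
  refine ⟨B.1, ⟨B.2, cong_one_of_idem hM
    (omega_br_ring hM ξ (hi B) (invBy_blockIdem _ _)) ?_ hBn⟩, ?_⟩
  · have h := omega_br_mul hM hP ξ (hi B) (hi B) (invBy_blockIdem _ _) (invBy_blockIdem _ _)
      (invBy_blockIdem _ _) (invBy_blockIdem _ _) (by rw [blockIdem_mul_self]; exact invBy_blockIdem _ _)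
    rw [blockIdem_mul_self] at h
    exact cong_symm hM h
  · rintro B' ⟨hB', hω⟩
    by_contra hne
    have h := omega_br_mul hM hP ξ (intEl_blockIdem hM hB') (hi B) (invBy_blockIdem _ _)
      (invBy_blockIdem _ _) (invBy_blockIdem _ _) (invBy_blockIdem _ _)
      (by rw [blockIdem_mul_ne hM hB' B.2 hne]; exact invBy_zero _)
    rw [blockIdem_mul_ne hM hB' B.2 hne, omega_br_zero] at h
    have h2 := (ideal_iff_of_cong hM h).1 (ideal_zero hM)
    rw [ideal_mul_iff hM (omega_br_ring hM ξ (intEl_blockIdem hM hB') (invBy_blockIdem _ _))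
      (omega_br_ring hM ξ (hi B) (invBy_blockIdem _ _))] at h2
    exact h2.elim (fun h3 => not_ideal_one hM ((ideal_iff_of_cong hM hω).1 h3)) hBn

/-- The congruence at one member of a block holds at all of them. -/
theorem cong_at_member (hM : Cfsg.IsPModular p M)
    {e : Set (Cfsg.IrrCharacter (Subgroup.centralizer (P : Set G)))} (he : Cfsg.IsPBlock M e)
    {ξ η : Cfsg.IrrCharacter (Subgroup.centralizer (P : Set G))} (hξ : ξ ∈ e) (hη : η ∈ e)
    {z : MonoidAlgebra ℂ G} (hz : IntEl M z)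
    (hzC : InvBy (Subgroup.centralizer (P : Set G) : Set G) z)
    (h : Cong M (omega (ξ : Subgroup.centralizer (P : Set G) → ℂ) (br P z)) 1) : Cong M (omega (η : _ → ℂ) (br P z)) 1 :=
  cong_trans hM (omega_cong_of_mem hM he hη hξ (central_br hzC) (intEl_restrEl _ hz)) h

omit [Finite G] in
theorem normalizer_le_normalizer_centralizer (Q : Subgroup G) :
    Subgroup.normalizer (Q : Set G) ≤
      Subgroup.normalizer ((Subgroup.centralizer (Q : Set G) : Subgroup G) : Set G) := by
  have key : ∀ u ∈ Subgroup.normalizer (Q : Set G), ∀ c ∈ Subgroup.centralizer (Q : Set G),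
      u * c * u⁻¹ ∈ Subgroup.centralizer (Q : Set G) := by
    intro u hu c hc
    rw [Subgroup.mem_centralizer_iff] at hc ⊢
    intro q hq
    have hq' : u⁻¹ * q * u ∈ Q := by
      simpa using (Subgroup.mem_normalizer_iff.1 (inv_mem hu) q).1 hq
    calc q * (u * c * u⁻¹) = u * ((u⁻¹ * q * u) * c) * u⁻¹ := by group
      _ = u * (c * (u⁻¹ * q * u)) * u⁻¹ := by rw [hc _ hq']
      _ = u * c * u⁻¹ * q := by group
  intro u hu
  rw [Subgroup.mem_normalizer_iff]
  refine fun c => ⟨key u hu c, fun hc => ?_⟩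
  have := key u⁻¹ (inv_mem hu) _ hc
  simpa [mul_assoc] using this

omit [Finite G] in
theorem centralizer_le_centralizer {Q P : Subgroup G} (h : Q ≤ P) :
    Subgroup.centralizer (P : Set G) ≤ Subgroup.centralizer (Q : Set G) :=
  fun x hx y hy => hx y (h hy)

/-- The unique normal subpair. -/
theorem existsUnique_normalSubpair (hM : Cfsg.IsPModular p M) {Q : Subgroup G}
    {e : Set (Cfsg.IrrCharacter (Subgroup.centralizer (P : Set G)))}
    (hPe : Cfsg.IsBrauerPair p M P e) (hQP : Q ≤ P)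
    (hPN : P ≤ Subgroup.normalizer (Q : Set G)) :
    ∃! f : Set (Cfsg.IrrCharacter (Subgroup.centralizer (Q : Set G))),
      Cfsg.IsNormalSubpair p M Q f P e := by
  haveI := fact_prime_of_pm hM
  obtain ⟨ξ, hξ⟩ := block_nonempty hM hPe.2
  obtain ⟨f, ⟨hf, hst, hω⟩, huniq⟩ := existsUnique_stable
    (K := Subgroup.centralizer (Q : Set G)) hM hPe.1
    (hPN.trans (normalizer_le_normalizer_centralizer Q)) (centralizer_le_centralizer hQP) ξ
  refine ⟨f, ⟨⟨hPe.1.to_le hQP, hf⟩, hPe, hQP, hPN, hst, fun η hη => ?_⟩, fun f' hf' => ?_⟩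
  · rw [brauerOmega_elF]
    exact cong_at_member hM hPe.2 hξ hη (intEl_elF hM hf)
      (invBy_mono (centralizer_le_centralizer hQP) (invBy_elF_self f)) hω
  · obtain ⟨⟨-, h1⟩, -, -, -, h2, h3⟩ := hf'
    refine huniq f' ⟨h1, h2, ?_⟩
    have := h3 ξ hξ
    rwa [brauerOmega_elF] at this

/-- An idempotent killed at `S` on the block `g` is killed at `T` over `g`. -/
theorem not_cong_one (hM : Cfsg.IsPModular p M) {S T : Subgroup G} (hT : IsPGroup p T)
    (hST : S ≤ T) (hTS : T ≤ Subgroup.normalizer (S : Set G))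
    {g : Set (Cfsg.IrrCharacter (Subgroup.centralizer (S : Set G)))} (hg : Cfsg.IsPBlock M g)
    (hgT : ∀ x ∈ T, Cfsg.StabilizesBlock (Subgroup.centralizer (S : Set G)) g x)
    {ξ : Cfsg.IrrCharacter (Subgroup.centralizer (T : Set G))}
    (hξ : Cong M (omega (ξ : Subgroup.centralizer (T : Set G) → ℂ) (br T (elF (Subgroup.centralizer (S : Set G)) g))) 1)
    {X : MonoidAlgebra ℂ G} (hX : IntEl M X) (hXX : X * X = X) (hXT : InvBy (T : Set G) X)
    (hXC : InvBy (Subgroup.centralizer (S : Set G) : Set G) X)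
    (h0 : ∀ ψ ∈ g, Cfsg.MemLocalIdeal M
      (omega (ψ : Subgroup.centralizer (S : Set G) → ℂ) (br S X))) :
    ¬ Cong M (omega (ξ : Subgroup.centralizer (T : Set G) → ℂ) (br T X)) 1 := by
  classical
  have hS : IsPGroup p S := hT.to_le hST
  set c := br S X
  have hcc : IsCentralEl c := central_br hXC
  have hci : IntEl M c := intEl_restrEl _ hX
  have hc2 : CongEl M (c * c) c := by
    have h := br_mul hM hS hX hX (invBy_mono hST hXT) (invBy_mono hST hXT)
    rw [hXX] at h
    exact congEl_symm hM h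
  set eg := blockIdem g
  have hei : IntEl M eg := intEl_blockIdem hM hg
  set w := eg * c
  have hwc : IsCentralEl w := central_mul (central_blockIdem g) hcc
  have hw2 : CongEl M (w * w) w := by
    rw [show w * w = (eg * eg) * (c * c) by
      simp only [w]; rw [mul_assoc, ← mul_assoc c, (central_commute (central_blockIdem g) c).symm.eq]
      noncomm_ring, blockIdem_mul_self]
    exact congEl_mul hM (congEl_refl hM eg) hc2 hei hci
  have hwI : IdealEl M w := idealEl_of_omega hM hwc (intEl_mul hM hei hci) hw2 fun ψ => by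
    rw [omega_mul ψ (central_blockIdem g)]
    by_cases hψ : ψ ∈ g
    · exact ideal_mul_left hM (omega_ring hM ψ (central_blockIdem g) hei) (h0 ψ hψ)
    · rw [omega_blockIdem_notMem hψ, zero_mul]; exact ideal_zero hM
  have hWI : IdealEl M (inclEl (Subgroup.centralizer (S : Set G)) w) := fun x => by
    by_cases hx : x ∈ (Subgroup.centralizer (S : Set G))
    · rw [coeff_inclEl_of_mem _ _ hx]; exact hwI _
    · rw [coeff_inclEl_notMem _ _ hx]; exact ideal_zero hM
  have hCTS : Subgroup.centralizer (T : Set G) ≤ (Subgroup.centralizer (S : Set G)) := centralizer_le_centralizer hST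
  have hinvC : InvBy (Subgroup.centralizer (T : Set G) : Set G) (elF (Subgroup.centralizer (S : Set G)) g) :=
    invBy_mono hCTS (invBy_elF_self g)
  have hcutT : InvBy (T : Set G) (cutEl S X) := fun u hu x =>
    cutEl_invariant (hTS hu) (hXT u hu) x
  have hcutC : InvBy (Subgroup.centralizer (T : Set G) : Set G) (cutEl S X) := by
    intro u hu x
    rw [← inclEl_br]
    have := central_br (P := S) hXC
    by_cases hx : x ∈ (Subgroup.centralizer (S : Set G))
    · rw [coeff_inclEl_of_mem _ _ ((Subgroup.centralizer (S : Set G)).mul_mem ((Subgroup.centralizer (S : Set G)).mul_mem (hCTS hu) hx) ((Subgroup.centralizer (S : Set G)).inv_mem (hCTS hu))),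
        coeff_inclEl_of_mem _ _ hx]
      exact this (⟨x, hx⟩ : (Subgroup.centralizer (S : Set G))) ⟨u, hCTS hu⟩
    · rw [coeff_inclEl_notMem _ _ hx, coeff_inclEl_notMem]
      intro h'
      exact hx (by simpa [mul_assoc] using
        (Subgroup.centralizer (S : Set G)).mul_mem ((Subgroup.centralizer (S : Set G)).mul_mem ((Subgroup.centralizer (S : Set G)).inv_mem (hCTS hu)) h') (hCTS hu))
  have hprod : elF (Subgroup.centralizer (S : Set G)) g * cutEl S X = inclEl (Subgroup.centralizer (S : Set G)) w := by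
    rw [← inclEl_br, elF, ← map_mul]
  have hprodC : InvBy (Subgroup.centralizer (T : Set G) : Set G) (inclEl (Subgroup.centralizer (S : Set G)) w) := by
    intro u hu x
    by_cases hx : x ∈ (Subgroup.centralizer (S : Set G))
    · rw [coeff_inclEl_of_mem _ _ ((Subgroup.centralizer (S : Set G)).mul_mem ((Subgroup.centralizer (S : Set G)).mul_mem (hCTS hu) hx) ((Subgroup.centralizer (S : Set G)).inv_mem (hCTS hu))),
        coeff_inclEl_of_mem _ _ hx]
      exact hwc (⟨x, hx⟩ : (Subgroup.centralizer (S : Set G))) ⟨u, hCTS hu⟩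
    · rw [coeff_inclEl_notMem _ _ hx, coeff_inclEl_notMem]
      intro h'
      exact hx (by simpa [mul_assoc] using
        (Subgroup.centralizer (S : Set G)).mul_mem ((Subgroup.centralizer (S : Set G)).mul_mem ((Subgroup.centralizer (S : Set G)).inv_mem (hCTS hu)) h') (hCTS hu))
  have hm := omega_br_mul hM hT ξ (intEl_elF hM hg) (intEl_cutEl hM S hX) (invBy_elF hgT) hcutT
    hinvC hcutC (by rw [hprod]; exact hprodC)
  rw [hprod] at hm
  have heq : br T (cutEl S X) = br T X :=
    el_ext fun x => by rw [br, br, coeff_restrEl, coeff_restrEl, cutEl_coeff_mem X (hCTS x.2)]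
  rw [heq] at hm
  intro hX1
  have h1 : Cong M (omega (ξ : Subgroup.centralizer (T : Set G) → ℂ) (br T (inclEl (Subgroup.centralizer (S : Set G)) w))) 1 := by
    refine cong_trans hM hm ?_
    have := cong_mul hM hξ hX1 (ring_one hM) (ring_one hM)
    rwa [one_mul] at this
  refine not_ideal_one hM ((ideal_iff_of_cong hM h1).1 ?_)
  exact omega_ideal hM ξ (central_br hprodC) fun x => by
    rw [br, coeff_restrEl]; exact hWI _

/-- Two normal steps compose when the bottom is normal at the top. -/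
theorem normalSubpair_trans (hM : Cfsg.IsPModular p M) {Q S T : Subgroup G}
    {f : Set (Cfsg.IrrCharacter (Subgroup.centralizer (Q : Set G)))}
    {g : Set (Cfsg.IrrCharacter (Subgroup.centralizer (S : Set G)))}
    {h : Set (Cfsg.IrrCharacter (Subgroup.centralizer (T : Set G)))}
    (h1 : Cfsg.IsNormalSubpair p M Q f S g) (h2 : Cfsg.IsNormalSubpair p M S g T h)
    (hTQ : T ≤ Subgroup.normalizer (Q : Set G)) : Cfsg.IsNormalSubpair p M Q f T h := by
  haveI := fact_prime_of_pm hM
  obtain ⟨⟨-, hf⟩, hSg, hQS, hSN, hfS, hωf⟩ := h1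
  obtain ⟨-, hTh, hST, hTN, hgT, hωg⟩ := h2
  obtain ⟨f', hf', -⟩ := existsUnique_normalSubpair hM hTh (hQS.trans hST) hTQ
  suffices f' = f by rwa [this] at hf'
  obtain ⟨⟨-, hf'B⟩, -, -, -, hf'T, hωf'⟩ := hf'
  by_contra hne
  obtain ⟨ξ, hξ⟩ := block_nonempty hM hTh.2
  have hinvC : ∀ f : Set (Cfsg.IrrCharacter (Subgroup.centralizer (Q : Set G))),
      InvBy (Subgroup.centralizer (S : Set G) : Set G) (elF (Subgroup.centralizer (Q : Set G)) f) :=
    fun f => invBy_mono (centralizer_le_centralizer hQS) (invBy_elF_self f)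
  have hω₁ := hωg ξ hξ
  rw [brauerOmega_elF] at hω₁
  have hω₂ := hωf' ξ hξ
  rw [brauerOmega_elF] at hω₂
  refine not_cong_one hM hTh.1 hST hTN hSg.2 hgT hω₁ (intEl_elF hM hf'B) (elF_mul_self _ _)
    (invBy_elF hf'T) (hinvC f') (fun ψ hψ => ?_) hω₂
  have hm := omega_br_mul hM (hTh.1.to_le hST) ψ (intEl_elF hM hf) (intEl_elF hM hf'B)
    (invBy_elF hfS) (invBy_elF fun x hx => hf'T x (hST hx)) (hinvC f) (hinvC f')
    (by rw [elF_mul_ne hM hf hf'B (Ne.symm hne)]; exact invBy_zero _)
  rw [elF_mul_ne hM hf hf'B (Ne.symm hne), omega_br_zero] at hm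
  have hψ1 := hωf ψ hψ
  rw [brauerOmega_elF] at hψ1
  have h2 := (ideal_iff_of_cong hM hm).1 (ideal_zero hM)
  rw [ideal_mul_iff hM (omega_br_ring hM ψ (intEl_elF hM hf) (hinvC f))
    (omega_br_ring hM ψ (intEl_elF hM hf'B) (hinvC f'))] at h2
  exact h2.resolve_left fun h3 => not_ideal_one hM ((ideal_iff_of_cong hM hψ1).1 h3)

theorem normalSubpair_refl (hM : Cfsg.IsPModular p M) {Q : Subgroup G}
    {f : Set (Cfsg.IrrCharacter (Subgroup.centralizer (Q : Set G)))}
    (h : Cfsg.IsBrauerPair p M Q f) : Cfsg.IsNormalSubpair p M Q f Q f := by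
  refine ⟨h, h, le_rfl, Subgroup.le_normalizer, fun x hx =>
    ⟨normalizer_le_normalizer_centralizer Q (Subgroup.le_normalizer hx),
      fun χ hχ => ⟨χ, hχ, fun k k' hk =>
      congrArg (χ : Subgroup.centralizer (Q : Set G) → ℂ) (Subtype.ext ?_)⟩⟩, fun η hη => ?_⟩
  · rw [hk, k.2 x hx, mul_inv_cancel_right]
  · rw [brauerOmega_elF, br, elF, restrEl_inclEl, omega_blockIdem_mem hη]
    exact cong_refl hM 1

theorem subpairLE_facts (hM : Cfsg.IsPModular p M) {a b : Cfsg.BrauerPairIdx G}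
    (h : Relation.ReflTransGen (Cfsg.NormalSubpairRel p M) a b) :
    a.1 ≤ b.1 ∧ (Cfsg.IsBrauerPair p M b.1 b.2 → Cfsg.IsBrauerPair p M a.1 a.2) := by
  induction h with
  | refl => exact ⟨le_rfl, id⟩
  | @tail x y _ hxy ih => exact ⟨ih.1.trans hxy.2.2.1, fun _ => ih.2 hxy.1⟩

/-- A chain from a subgroup normal at the top is a normal step. -/
theorem normal_of_subpairLE (hM : Cfsg.IsPModular p M) {a b : Cfsg.BrauerPairIdx G}
    (h : Relation.ReflTransGen (Cfsg.NormalSubpairRel p M) a b)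
    (hb : Cfsg.IsBrauerPair p M b.1 b.2) (hN : b.1 ≤ Subgroup.normalizer (a.1 : Set G)) :
    Cfsg.IsNormalSubpair p M a.1 a.2 b.1 b.2 := by
  induction h with
  | refl => exact normalSubpair_refl hM hb
  | @tail x y _ hxy ih =>
    exact normalSubpair_trans hM (ih hxy.1 (hxy.2.2.1.trans hN)) hxy hN

theorem normalSubpair_same (hM : Cfsg.IsPModular p M) {Q : Subgroup G}
    {f g : Set (Cfsg.IrrCharacter (Subgroup.centralizer (Q : Set G)))}
    (h : Cfsg.IsNormalSubpair p M Q f Q g) : f = g :=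
  (existsUnique_normalSubpair hM h.2.1 le_rfl Subgroup.le_normalizer).unique h
    (normalSubpair_refl hM h.2.1)

theorem lt_inf_normalizer (hM : Cfsg.IsPModular p M) {Q P : Subgroup G} (hP : IsPGroup p P)
    (hQP : Q ≤ P) (hne : Q ≠ P) : Q < P ⊓ Subgroup.normalizer (Q : Set G) := by
  haveI := fact_prime_of_pm hM
  haveI := hP.isNilpotent
  refine lt_of_le_of_ne (le_inf hQP Subgroup.le_normalizer) fun heq => ?_
  have hlt : Q.subgroupOf P < ⊤ := lt_top_iff_ne_top.2 fun h =>
    hne (le_antisymm hQP (Subgroup.subgroupOf_eq_top.1 h))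
  obtain ⟨x, hxN, hxQ⟩ := SetLike.exists_of_lt
    ((Group.normalizerCondition_of_isNilpotent (G := P)) _ hlt)
  refine hxQ (show (x : G) ∈ Q from heq.ge ⟨x.2, ?_⟩)
  rw [Subgroup.mem_normalizer_iff] at hxN
  show (x : G) ∈ Subgroup.normalizer (Q : Set G)
  rw [Subgroup.mem_normalizer_iff]
  intro y
  constructor
  · intro hy
    exact (hxN ⟨y, hQP hy⟩).1 hy
  · intro hy
    have hyP : y ∈ P := by
      simpa [mul_assoc] using P.mul_mem (P.mul_mem (P.inv_mem x.2) (hQP hy)) x.2
    exact (hxN ⟨y, hyP⟩).2 hy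

theorem exists_subpair (hM : Cfsg.IsPModular p M) :
    ∀ (n : ℕ) (Q P : Subgroup G)
      (e : Set (Cfsg.IrrCharacter (Subgroup.centralizer (P : Set G)))),
      Nat.card P - Nat.card Q = n → Cfsg.IsBrauerPair p M P e → Q ≤ P →
      ∃ f, Cfsg.IsPBlock M f ∧ Cfsg.SubpairLE p M Q f P e := by
  intro n
  induction n using Nat.strong_induction_on with
  | _ n ih =>
    intro Q P e hn hPe hQP
    rcases eq_or_ne Q P with rfl | hne
    · exact ⟨e, hPe.2, Relation.ReflTransGen.refl⟩
    · have hlt := lt_inf_normalizer hM hPe.1 hQP hne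
      set R := P ⊓ Subgroup.normalizer (Q : Set G)
      have hc : Nat.card Q < Nat.card R := lt_of_not_ge fun hle =>
        hlt.ne (eq_of_le_of_card_le hlt.le hle)
      have hc' : Nat.card R ≤ Nat.card P := Subgroup.card_le_of_le inf_le_left
      obtain ⟨g, hg, hgP⟩ := ih (Nat.card P - Nat.card R) (by omega) R P e rfl hPe inf_le_left
      obtain ⟨f, hf, -⟩ := existsUnique_normalSubpair hM (e := g)
        ((subpairLE_facts hM hgP).2 hPe) hlt.le inf_le_right
      exact ⟨f, hf.1.2, Relation.ReflTransGen.head (a := (⟨Q, f⟩ : Cfsg.BrauerPairIdx G))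
        (b := ⟨R, g⟩) hf hgP⟩

/-- The first proper step of a chain can be taken at the normaliser inside the top. -/
theorem normal_to_normalizer (hM : Cfsg.IsPModular p M) {P Q : Subgroup G}
    {e : Set (Cfsg.IrrCharacter (Subgroup.centralizer (P : Set G)))}
    (hPe : Cfsg.IsBrauerPair p M P e) (hne : Q ≠ P)
    (hIH : ∀ Q' : Subgroup G, Q < Q' → ∀ f f', Cfsg.SubpairLE p M Q' f P e →
      Cfsg.SubpairLE p M Q' f' P e → f = f')
    {gR : Set (Cfsg.IrrCharacter
      (Subgroup.centralizer ((P ⊓ Subgroup.normalizer (Q : Set G) : Subgroup G) : Set G)))}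
    (hgR : Cfsg.SubpairLE p M (P ⊓ Subgroup.normalizer (Q : Set G)) gR P e)
    (f : Set (Cfsg.IrrCharacter (Subgroup.centralizer (Q : Set G))))
    (h : Cfsg.SubpairLE p M Q f P e) :
    Cfsg.IsNormalSubpair p M Q f (P ⊓ Subgroup.normalizer (Q : Set G)) gR := by
  have key : ∀ a : Cfsg.BrauerPairIdx G,
      Relation.ReflTransGen (Cfsg.NormalSubpairRel p M) a ⟨P, e⟩ → a.1 = Q →
        Cfsg.IsNormalSubpair p M a.1 a.2 (P ⊓ Subgroup.normalizer (Q : Set G)) gR := by
    intro a ha
    induction ha using Relation.ReflTransGen.head_induction_on with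
    | refl => intro h; exact absurd h.symm hne
    | @head a c hac hcP ih =>
      intro haQ
      obtain ⟨Q₀, f₀⟩ := a
      obtain ⟨Q₁, f₁⟩ := c
      subst haQ
      have hac' : Cfsg.IsNormalSubpair p M Q₀ f₀ Q₁ f₁ := hac
      rcases eq_or_ne Q₁ Q₀ with rfl | hQne
      · have := normalSubpair_same hM hac'
        subst this
        exact ih rfl
      · have hgRB := (subpairLE_facts hM hgR).2 hPe
        have hQ1R : Q₁ ≤ P ⊓ Subgroup.normalizer (Q₀ : Set G) :=
          le_inf (subpairLE_facts hM hcP).1 hac'.2.2.2.1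
        obtain ⟨g₁, -, hg₁⟩ := exists_subpair hM _ Q₁ _ gR rfl hgRB hQ1R
        have := hIH Q₁ (lt_of_le_of_ne hac'.2.2.1 hQne.symm) f₁ g₁ hcP (hg₁.trans hgR)
        subst this
        exact normal_of_subpairLE hM (a := ⟨Q₀, f₀⟩)
          (b := ⟨P ⊓ Subgroup.normalizer (Q₀ : Set G), gR⟩)
          (Relation.ReflTransGen.head hac hg₁) hgRB inf_le_right
  exact key ⟨Q, f⟩ h rfl

theorem subpair_unique (hM : Cfsg.IsPModular p M) :
    ∀ (n : ℕ) (Q P : Subgroup G)
      (e : Set (Cfsg.IrrCharacter (Subgroup.centralizer (P : Set G)))),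
      Nat.card P - Nat.card Q = n → Cfsg.IsBrauerPair p M P e →
      ∀ f f', Cfsg.SubpairLE p M Q f P e → Cfsg.SubpairLE p M Q f' P e → f = f' := by
  intro n
  induction n using Nat.strong_induction_on with
  | _ n ih =>
    intro Q P e hn hPe f f' hf hf'
    rcases eq_or_ne Q P with rfl | hne
    · exact (existsUnique_normalSubpair hM hPe le_rfl Subgroup.le_normalizer).unique
        (normal_of_subpairLE hM hf hPe Subgroup.le_normalizer)
        (normal_of_subpairLE hM hf' hPe Subgroup.le_normalizer)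
    · have hQP : Q ≤ P := (subpairLE_facts hM hf).1
      obtain ⟨gR, -, hgR⟩ := exists_subpair hM _ (P ⊓ Subgroup.normalizer (Q : Set G)) P e rfl hPe
        inf_le_left
      have hIH : ∀ Q' : Subgroup G, Q < Q' → ∀ f f', Cfsg.SubpairLE p M Q' f P e →
          Cfsg.SubpairLE p M Q' f' P e → f = f' := by
        intro Q' hlt g g' hg hg'
        have hc : Nat.card Q < Nat.card Q' := lt_of_not_ge fun hle =>
          hlt.ne (eq_of_le_of_card_le hlt.le hle)
        have hc' : Nat.card Q' ≤ Nat.card P := Subgroup.card_le_of_le (subpairLE_facts hM hg).1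
        exact ih (Nat.card P - Nat.card Q') (by omega) Q' P e rfl hPe g g' hg hg'
      exact (existsUnique_normalSubpair hM ((subpairLE_facts hM hgR).2 hPe)
        (le_inf hQP Subgroup.le_normalizer) inf_le_right).unique
        (normal_to_normalizer hM hPe hne hIH hgR f hf)
        (normal_to_normalizer hM hPe hne hIH hgR f' hf')

/-- A normal step stays in one block of `G`. -/
theorem block_of_normalSubpair (hM : Cfsg.IsPModular p M) {Q : Subgroup G}
    {f : Set (Cfsg.IrrCharacter (Subgroup.centralizer (Q : Set G)))}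
    {e : Set (Cfsg.IrrCharacter (Subgroup.centralizer (P : Set G)))}
    (h : Cfsg.IsNormalSubpair p M Q f P e) {B : Set (Cfsg.IrrCharacter G)}
    (hB : Cfsg.IsBrauerPairOf p M B Q f) : Cfsg.IsBrauerPairOf p M B P e := by
  obtain ⟨hQf, hPe, hQP, hPN, hst, hω⟩ := h
  obtain ⟨ξ, hξ⟩ := block_nonempty hM hPe.2
  obtain ⟨B', ⟨hB', hB'ω⟩, -⟩ := existsUnique_block hM hPe.1 ξ
  suffices B' = B by
    subst this
    exact ⟨hPe, hB', fun η hη => by
      rw [brauerOmega_block]
      exact cong_at_member hM hPe.2 hξ hη (intEl_blockIdem hM hB') (invBy_blockIdem _ _) hB'ω⟩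
  by_contra hne
  have h1 := hω ξ hξ
  rw [brauerOmega_elF] at h1
  refine not_cong_one hM hPe.1 hQP hPN hQf.2 hst h1 (intEl_blockIdem hM hB')
    (blockIdem_mul_self B') (invBy_blockIdem _ _) (invBy_blockIdem _ _) (fun ψ hψ => ?_) hB'ω
  have hψ1 := hB.2.2 ψ hψ
  rw [brauerOmega_block] at hψ1
  have hm := omega_br_mul hM hQf.1 ψ (intEl_blockIdem hM hB') (intEl_blockIdem hM hB.2.1)
    (invBy_blockIdem _ _) (invBy_blockIdem _ _) (invBy_blockIdem _ _) (invBy_blockIdem _ _)
    (by rw [blockIdem_mul_ne hM hB' hB.2.1 hne]; exact invBy_zero _)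
  rw [blockIdem_mul_ne hM hB' hB.2.1 hne, omega_br_zero] at hm
  have h2 := (ideal_iff_of_cong hM hm).1 (ideal_zero hM)
  rw [ideal_mul_iff hM (omega_br_ring hM ψ (intEl_blockIdem hM hB') (invBy_blockIdem _ _))
    (omega_br_ring hM ψ (intEl_blockIdem hM hB.2.1) (invBy_blockIdem _ _))] at h2
  exact h2.resolve_right fun h3 => not_ideal_one hM ((ideal_iff_of_cong hM hψ1).1 h3)

theorem brauerPairOf_unique (hM : Cfsg.IsPModular p M)
    {e : Set (Cfsg.IrrCharacter (Subgroup.centralizer (P : Set G)))}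
    {B B' : Set (Cfsg.IrrCharacter G)} (h : Cfsg.IsBrauerPairOf p M B P e)
    (h' : Cfsg.IsBrauerPairOf p M B' P e) : B = B' := by
  obtain ⟨ξ, hξ⟩ := block_nonempty hM h.1.2
  have h1 := h.2.2 ξ hξ
  have h2 := h'.2.2 ξ hξ
  rw [brauerOmega_block] at h1 h2
  exact (existsUnique_block hM h.1.1 ξ).unique ⟨h.2.1, h1⟩ ⟨h'.2.1, h2⟩

theorem exists_brauerPairOf (hM : Cfsg.IsPModular p M)
    {e : Set (Cfsg.IrrCharacter (Subgroup.centralizer (P : Set G)))}
    (he : Cfsg.IsBrauerPair p M P e) :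
    ∃ B : Set (Cfsg.IrrCharacter G), Cfsg.IsBrauerPairOf p M B P e := by
  obtain ⟨ξ, hξ⟩ := block_nonempty hM he.2
  obtain ⟨B, ⟨hB, hBω⟩, -⟩ := existsUnique_block hM he.1 ξ
  exact ⟨B, he, hB, fun η hη => by
    rw [brauerOmega_block]
    exact cong_at_member hM he.2 hξ hη (intEl_blockIdem hM hB) (invBy_blockIdem _ _) hBω⟩

/-- All pairs in a chain belong to the same block. -/
theorem block_of_subpairLE (hM : Cfsg.IsPModular p M) {a b : Cfsg.BrauerPairIdx G}
    (h : Relation.ReflTransGen (Cfsg.NormalSubpairRel p M) a b)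
    {B : Set (Cfsg.IrrCharacter G)} :
    (Cfsg.IsBrauerPairOf p M B a.1 a.2 → Cfsg.IsBrauerPairOf p M B b.1 b.2) ∧
    (Cfsg.IsBrauerPairOf p M B b.1 b.2 → Cfsg.IsBrauerPairOf p M B a.1 a.2) := by
  induction h with
  | refl => exact ⟨id, id⟩
  | @tail x y _ hxy ih =>
    refine ⟨fun hB => block_of_normalSubpair hM hxy (ih.1 hB), fun hB => ih.2 ?_⟩
    obtain ⟨B', hB'⟩ := exists_brauerPairOf hM hxy.1
    rwa [brauerPairOf_unique hM hB (block_of_normalSubpair hM hxy hB')]

end Cfsg.Agent.BlockCharsA.BrauerPairs
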