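import Mathlib
import Cfsg.Agent.BlockCharsA.BrauerPairs

/-!
# The Glauberman correspondence for a `p`-group of operators, through the Brauer map
-/

set_option linter.style.haveILetI false
set_option linter.unusedSectionVars false

namespace Cfsg.Agent.BlockCharsA.Glauberman

open Cfsg.Agent.Blocks Cfsg.Agent.Characters
open scoped ComplexConjugate

universe u

variable {G C S : Type u} [Group G] [Finite G] [Group C] [Finite C] [Group S] [Finite S]
  [MulDistribMulAction S G] {p : ℕ} {M : Ideal Cfsg.AlgInt} (i : C →* G)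

/-- Coefficients pulled back along a homomorphism. -/
noncomputable def pull (z : MonoidAlgebra ℂ G) : MonoidAlgebra ℂ C := ofFun fun c => z.coeff (i c)

@[simp] theorem coeff_pull (z : MonoidAlgebra ℂ G) (c : C) :
    (pull i z).coeff c = z.coeff (i c) := by simp [pull]

theorem central_pull {z : MonoidAlgebra ℂ G} (hz : IsCentralEl z) : IsCentralEl (pull i z) :=
  fun c h => by simp only [coeff_pull, map_mul, map_inv]; exact hz _ _

/-- Invariance under the operators. -/
def Inv (S : Type u) [Group S] [MulDistribMulAction S G] (z : MonoidAlgebra ℂ G) : Prop :=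
  ∀ (s : S) (g : G), z.coeff (s • g) = z.coeff g

variable (hinj : Function.Injective i)
  (hfix : ∀ g : G, (∃ c, i c = g) ↔ ∀ s : S, s • g = g)

include hinj hfix in
theorem pull_mul (hM : Cfsg.IsPModular p M) (hS : IsPGroup p S) {z w : MonoidAlgebra ℂ G}
    (hz : IntEl M z) (hw : IntEl M w) (hzi : Inv S z) (hwi : Inv S w) :
    CongEl M (pull i (z * w)) (pull i z * pull i w) := by
  classical
  haveI := Fintype.ofFinite G
  haveI := Fintype.ofFinite C
  refine congEl_iff.2 fun c => ?_
  rw [coeff_pull, coeff_mul', coeff_mul']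
  have h := cong_sum_fixed hM hS (fun g : G => z.coeff g * w.coeff (g⁻¹ * i c))
    (fun g => ring_mul hM (hz _) (hw _)) (fun s g => by
      have hc : s • i c = i c := (hfix (i c)).1 ⟨c, rfl⟩ s
      rw [hzi s g, show (s • g)⁻¹ * i c = s • (g⁻¹ * i c) by rw [smul_mul', smul_inv', hc],
        hwi s])
    (Finset.univ.image i) fun g => by simpa using hfix g
  refine cong_trans hM h (cong_of_eq hM ?_)
  rw [Finset.sum_image fun a _ b _ e => hinj e]
  refine Finset.sum_congr rfl fun a _ => ?_
  rw [coeff_pull, coeff_pull, map_mul i, map_inv i]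

include hinj hfix in
/-- Elements of `C` conjugate in `G` are conjugate in `C`. -/
theorem isConj_of_isConj (hM : Cfsg.IsPModular p M) (hS : IsPGroup p S)
    (hG : ¬ p ∣ Nat.card G) {c c' : C} (h : IsConj (i c) (i c')) : IsConj c c' := by
  classical
  haveI := Fintype.ofFinite G
  haveI := Fintype.ofFinite C
  obtain ⟨g₀, hg₀⟩ := isConj_iff.1 h
  have hc : ∀ (d : C) (s : S), s • i d = i d := fun d s => (hfix (i d)).1 ⟨d, rfl⟩ s
  set f : G → ℂ := fun g => if g * i c * g⁻¹ = i c' then 1 else 0
  have h1 := cong_sum_fixed hM hS f (fun g => by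
    simp only [f]; split
    · exact ring_one hM
    · exact ring_zero hM) (fun s g => by
      simp only [f]
      refine if_congr ?_ rfl rfl
      conv_lhs => rw [← hc c s, ← hc c' s, ← smul_inv', ← smul_mul', ← smul_mul']
      exact ⟨fun e => MulAction.injective s e, fun e => by rw [e]⟩)
    (Finset.univ.image i) fun g => by simpa using hfix g
  by_contra hne
  have h0 : ∑ g ∈ Finset.univ.image i, f g = 0 := Finset.sum_eq_zero fun g hg => by
    obtain ⟨d, -, rfl⟩ := Finset.mem_image.1 hg
    simp only [f]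
    rw [if_neg]
    intro e
    exact hne (isConj_iff.2 ⟨d, hinj (by simpa using e)⟩)
  rw [h0, cong_zero_iff, Finset.sum_boole, ideal_natCast_iff hM] at h1
  refine hG (h1.trans ?_)
  have e : (Finset.univ.filter fun g : G => g * i c * g⁻¹ = i c').card =
      Nat.card (Subgroup.centralizer ({i c} : Set G)) := by
    rw [Nat.card_eq_fintype_card, ← Finset.card_univ]
    refine Finset.card_bij (fun g hg => (⟨g₀⁻¹ * g, ?_⟩ :
      Subgroup.centralizer ({i c} : Set G))) (fun _ _ => Finset.mem_univ _) ?_ ?_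
    · refine Subgroup.mem_centralizer_singleton_iff.2 ?_
      have h2 := (Finset.mem_filter.1 hg).2
      calc g₀⁻¹ * g * i c = g₀⁻¹ * (g * i c * g⁻¹) * g := by group
        _ = g₀⁻¹ * (g₀ * i c * g₀⁻¹) * g := by rw [h2, hg₀]
        _ = i c * (g₀⁻¹ * g) := by group
    · intro a _ b _ e
      exact mul_left_cancel (congrArg Subtype.val e :)
    · intro d _
      refine ⟨g₀ * d, Finset.mem_filter.2 ⟨Finset.mem_univ _, ?_⟩, Subtype.ext (by simp)⟩
      have hd := Subgroup.mem_centralizer_singleton_iff.1 d.2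
      calc g₀ * (d : G) * i c * (g₀ * d)⁻¹ = g₀ * ((d : G) * i c) * (d : G)⁻¹ * g₀⁻¹ := by group
        _ = g₀ * (i c * d) * (d : G)⁻¹ * g₀⁻¹ := by rw [hd]
        _ = g₀ * i c * g₀⁻¹ := by group
        _ = i c' := hg₀
  rw [e]
  exact Subgroup.card_subgroup_dvd_card _

include hinj hfix in
/-- Every central element of the fixed points lifts to an invariant one. -/
theorem exists_lift (hM : Cfsg.IsPModular p M) (hS : IsPGroup p S) (hG : ¬ p ∣ Nat.card G)
    {y : MonoidAlgebra ℂ C} (hy : IsCentralEl y) (hyi : IntEl M y) :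
    ∃ w : MonoidAlgebra ℂ G, IsCentralEl w ∧ IntEl M w ∧ Inv S w ∧ pull i w = y := by
  classical
  set w : G → ℂ := fun g => if h : ∃ c, IsConj g (i c) then y.coeff h.choose else 0
  have hw : ∀ (g : G) (c : C), IsConj g (i c) → w g = y.coeff c := fun g c hc => by
    have h : ∃ c, IsConj g (i c) := ⟨c, hc⟩
    simp only [w, dif_pos h]
    exact central_isConj hy (isConj_of_isConj i hinj hfix hM hS hG (h.choose_spec.symm.trans hc))
  have hw0 : ∀ g : G, (¬ ∃ c, IsConj g (i c)) → w g = 0 := fun g h => by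
    simp only [w, dif_neg h]
  have hconj : ∀ (s : S) (g : G) (c : C), IsConj g (i c) → IsConj (s • g) (i c) :=
    fun s g c hc => by
      obtain ⟨a, ha⟩ := isConj_iff.1 hc
      refine isConj_iff.2 ⟨s • a, ?_⟩
      rw [← smul_inv', ← smul_mul', ← smul_mul', ha, (hfix (i c)).1 ⟨c, rfl⟩ s]
  refine ⟨ofFun w, fun g h => ?_, fun g => ?_, fun s g => ?_, el_ext fun c => ?_⟩
  · simp only [coeff_ofFun]
    by_cases hx : ∃ c, IsConj g (i c)
    · obtain ⟨c, hc⟩ := hx
      rw [hw g c hc, hw _ c ((isConj_iff.2 ⟨h, rfl⟩ : IsConj g (h * g * h⁻¹)).symm.trans hc)]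
    · rw [hw0 g hx, hw0]
      rintro ⟨c, hc⟩
      exact hx ⟨c, (isConj_iff.2 ⟨h, rfl⟩ : IsConj g (h * g * h⁻¹)).trans hc⟩
  · rw [coeff_ofFun]
    by_cases hx : ∃ c, IsConj g (i c)
    · obtain ⟨c, hc⟩ := hx
      rw [hw g c hc]; exact hyi c
    · rw [hw0 g hx]; exact ring_zero hM
  · simp only [coeff_ofFun]
    by_cases hx : ∃ c, IsConj g (i c)
    · obtain ⟨c, hc⟩ := hx
      rw [hw g c hc, hw _ c (hconj s g c hc)]
    · rw [hw0 g hx, hw0]
      rintro ⟨c, hc⟩
      exact hx ⟨c, by simpa using hconj s⁻¹ _ c hc⟩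
  · rw [coeff_pull, coeff_ofFun]
    exact hw _ c (IsConj.refl _)

theorem intEl_single (hM : Cfsg.IsPModular p M) (hG : ¬ p ∣ Nat.card G)
    (χ : Cfsg.IrrCharacter G) : IntEl M (blockIdem ({χ} : Set (Cfsg.IrrCharacter G))) := fun g => by
  classical
  haveI := Fintype.ofFinite (Cfsg.IrrCharacter G)
  rw [coeff_blockIdem, blockCoeff_eq_sum]
  refine ring_mul hM (ring_inv_natCast hM hG) (ring_sum hM fun ψ _ => ?_)
  split
  · exact ring_mul hM (irr_value_ring hM ψ 1) (irr_conj_ring hM ψ g)
  · exact ring_zero hM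

theorem coeff_single (χ : Cfsg.IrrCharacter G) (g : G) :
    (blockIdem ({χ} : Set (Cfsg.IrrCharacter G))).coeff g =
      (Nat.card G : ℂ)⁻¹ * ((χ : G → ℂ) 1 * conj ((χ : G → ℂ) g)) := by
  rw [coeff_blockIdem, Cfsg.blockCoeff, finsum_mem_singleton]

theorem inv_single {χ : Cfsg.IrrCharacter G} (hχ : ∀ (s : S) (g : G), (χ : G → ℂ) (s • g) = (χ : G → ℂ) g) :
    Inv S (blockIdem ({χ} : Set (Cfsg.IrrCharacter G))) := fun s g => by
  rw [coeff_single, coeff_single, hχ]

variable (S) in
/-- A character fixed by the operators. -/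
def IsInv (χ : Cfsg.IrrCharacter G) : Prop :=
  ∀ (s : S) (g : G), (χ : G → ℂ) (s • g) = (χ : G → ℂ) g

/-- The correspondence: the images of the idempotents agree modulo the ideal. -/
def Corr (M : Ideal Cfsg.AlgInt) (χ : Cfsg.IrrCharacter G) (β : Cfsg.IrrCharacter C) : Prop :=
  CongEl M (pull i (blockIdem ({χ} : Set (Cfsg.IrrCharacter G))))
    (blockIdem ({β} : Set (Cfsg.IrrCharacter C)))

include hinj in
theorem not_dvd_card_C (hG : ¬ p ∣ Nat.card G) : ¬ p ∣ Nat.card C := fun h =>
  hG (h.trans (by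
    rw [Nat.card_congr (MonoidHom.ofInjective hinj).toEquiv]
    exact Subgroup.card_subgroup_dvd_card _))

include hinj hfix in
theorem exists_corr (hM : Cfsg.IsPModular p M) (hS : IsPGroup p S) (hG : ¬ p ∣ Nat.card G)
    {χ : Cfsg.IrrCharacter G} (hχ : IsInv S χ) : ∃ β, Corr i M χ β := by
  classical
  have hC := not_dvd_card_C i hinj hG
  set e := blockIdem ({χ} : Set (Cfsg.IrrCharacter G))
  have hec : IsCentralEl e := central_blockIdem _
  have hei := intEl_single hM hG χ
  have hev := inv_single hχ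
  have hpi : IntEl M (pull i e) := fun c => by rw [coeff_pull]; exact hei _
  have hpc := central_pull i hec
  have hid : CongEl M (pull i e * pull i e) (pull i e) := by
    refine congEl_trans hM (congEl_symm hM (pull_mul i hinj hfix hM hS hei hei hev hev)) ?_
    rw [blockIdem_mul_self]
    exact congEl_refl hM _
  have hωr : ∀ β : Cfsg.IrrCharacter C, Cfsg.MemLocalRing M (omega (β : C → ℂ) (pull i e)) :=
    fun β => omega_ring hM β hpc hpi
  obtain ⟨β, hβ⟩ : ∃ β : Cfsg.IrrCharacter C,
      ¬ Cfsg.MemLocalIdeal M (omega (β : C → ℂ) (pull i e)) := by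
    by_contra hcon
    push Not at hcon
    obtain ⟨n, hn⟩ := exists_pow_idealEl hM hpc hcon
    have h := idealEl_of_idem_nilp hM hpi hid (hn n le_rfl) 1
    rw [coeff_pull, map_one, coeff_single, ← charDegree_cast, Complex.conj_natCast,
      ← Nat.cast_mul, mul_comm, ← div_eq_mul_inv] at h
    refine not_ideal_natCast_div hM (Nat.mul_ne_zero (charDegree_pos χ).ne' (charDegree_pos χ).ne')
      Nat.card_pos.ne' ?_ h
    rw [Nat.factorization_mul (charDegree_pos χ).ne' (charDegree_pos χ).ne', Finsupp.add_apply,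
      Nat.factorization_eq_zero_of_not_dvd hG]
    obtain ⟨d, hd, -, hdvd⟩ := irr_degree_dvd_card χ.2
    have hd' : Cfsg.charDegree (χ : G → ℂ) = d := by rw [Cfsg.charDegree, hd]; simp
    rw [hd', Nat.factorization_eq_zero_of_not_dvd fun hp => hG (hp.trans hdvd)]
  refine ⟨β, PairCorr_congEl hM hpc (central_blockIdem _) hpi (intEl_single hM hC β) hid
    (by rw [blockIdem_mul_self]; exact congEl_refl hM _) fun β' => ?_⟩
  obtain ⟨w, hwc, hwi, hwv, hw⟩ := exists_lift i hinj hfix hM hS hG (central_blockIdem {β})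
    (intEl_single hM hC β)
  have hkey : ∀ β' : Cfsg.IrrCharacter C, Cong M
      (omega (β' : C → ℂ) (pull i e) * (if β' = β then (1 : ℂ) else 0))
      (omega (χ : G → ℂ) w * omega (β' : C → ℂ) (pull i e)) := by
    intro β'
    have e1 : e * w = omega (χ : G → ℂ) w • e := by
      refine central_omega_ext (central_mul hec hwc) (central_smul _ hec) fun ψ => ?_
      rw [omega_mul ψ hec, omega_smul, omega_blockIdem]
      split
      · next h => rw [Set.mem_singleton_iff.1 h]; ring
      · ring
    have h1 := pull_mul i hinj hfix hM hS hei hwi hev hwv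
    rw [e1, hw, show pull i (omega (χ : G → ℂ) w • e) = omega (χ : G → ℂ) w • pull i e from
      el_ext fun c => by simp] at h1
    have h2 := omega_cong hM β' (central_smul _ hpc) (central_mul hpc (central_blockIdem _)) h1
    rw [omega_smul, omega_mul β' hpc] at h2
    by_cases hb : β' = β
    · rw [if_pos hb]; rw [omega_blockIdem_mem (show β' ∈ ({β} : Set _) from hb)] at h2
      exact cong_symm hM h2
    · rw [if_neg hb]; rw [omega_blockIdem_notMem (show β' ∉ ({β} : Set _) from hb)] at h2
      exact cong_symm hM h2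
  have hone : Cong M (omega (β : C → ℂ) (pull i e)) 1 := by
    refine BrauerPairs.cong_one_of_idem hM (hωr β) ?_ hβ
    rw [← omega_mul β hpc]
    exact omega_cong hM β (central_mul hpc hpc) hpc hid
  have hw1 : Cong M (omega (χ : G → ℂ) w) 1 := by
    have h := hkey β
    rw [if_pos rfl, mul_one] at h
    have h3 : Cfsg.MemLocalIdeal M (omega (β : C → ℂ) (pull i e) *
        (omega (χ : G → ℂ) w - 1)) := by
      have := ideal_neg hM h
      convert this using 1
      ring
    rw [ideal_mul_iff hM (hωr β)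
      (ring_sub hM (omega_ring hM χ hwc hwi) (ring_one hM))] at h3
    exact h3.resolve_left hβ
  by_cases hb : β' = β
  · rw [omega_blockIdem_mem (show β' ∈ ({β} : Set _) from hb), hb]; exact hone
  · rw [omega_blockIdem_notMem (show β' ∉ ({β} : Set _) from hb)]
    have h := hkey β'
    rw [if_neg hb, mul_zero] at h
    refine cong_trans hM ?_ (cong_symm hM h)
    have h4 := cong_mul_left hM (hωr β') (cong_symm hM hw1)
    rw [mul_one, mul_comm] at h4
    exact h4
where
  PairCorr_congEl {H : Type u} [Group H] [Finite H] (hM : Cfsg.IsPModular p M)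
      {a b : MonoidAlgebra ℂ H} (ha : IsCentralEl a) (hb : IsCentralEl b) (hai : IntEl M a)
      (hbi : IntEl M b) (ha2 : CongEl M (a * a) a) (hb2 : CongEl M (b * b) b)
      (h : ∀ χ : Cfsg.IrrCharacter H, Cong M (omega (χ : H → ℂ) a) (omega (χ : H → ℂ) b)) :
      CongEl M a b := by
    obtain ⟨n, hn⟩ := exists_pow_idealEl hM (central_sub ha hb) fun χ => by
      rw [omega_sub]; exact h χ
    exact congEl_of_idem_of_nilp hM (central_commute ha b) hai hbi ha2 hb2 (hn n le_rfl)

theorem corr_unique (hM : Cfsg.IsPModular p M) {χ : Cfsg.IrrCharacter G}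
    {β β' : Cfsg.IrrCharacter C} (h : Corr i M χ β) (h' : Corr i M χ β') : β = β' := by
  by_contra hne
  have h1 := omega_cong hM β (central_blockIdem _) (central_blockIdem _)
    (congEl_trans hM (congEl_symm hM h') h)
  rw [omega_blockIdem_mem (Set.mem_singleton β),
    omega_blockIdem_notMem (show β ∉ ({β'} : Set _) from hne)] at h1
  exact not_cong_zero_one hM h1

include hinj hfix in
theorem corr_injective (hM : Cfsg.IsPModular p M) (hS : IsPGroup p S) (hG : ¬ p ∣ Nat.card G)
    {χ χ' : Cfsg.IrrCharacter G} (hχ : IsInv S χ) (hχ' : IsInv S χ')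
    {β : Cfsg.IrrCharacter C} (h : Corr i M χ β) (h' : Corr i M χ' β) : χ = χ' := by
  classical
  by_contra hne
  have hC := not_dvd_card_C i hinj hG
  have hz : blockIdem ({χ} : Set (Cfsg.IrrCharacter G)) * blockIdem ({χ'} : Set _) = 0 := by
    refine central_omega_ext (central_mul (central_blockIdem _) (central_blockIdem _)) central_zero
      fun ψ => ?_
    rw [omega_mul ψ (central_blockIdem _), omega_blockIdem, omega_blockIdem, omega_zero]
    split
    · next h1 =>
      rw [if_neg (by rw [Set.mem_singleton_iff.1 h1]; exact hne), mul_zero]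
    · rw [zero_mul]
  have hm := pull_mul i hinj hfix hM hS (intEl_single hM hG χ) (intEl_single hM hG χ')
    (inv_single hχ) (inv_single hχ')
  rw [hz] at hm
  have h1 := congEl_trans hM hm (congEl_mul hM h h' (intEl_single hM hC β) (intEl_single hM hC β))
  rw [blockIdem_mul_self] at h1
  have h2 := omega_cong hM β (central_pull i central_zero) (central_blockIdem _) h1
  rw [omega_blockIdem_mem (Set.mem_singleton β),
    show pull i (0 : MonoidAlgebra ℂ G) = 0 from el_ext fun c => by simp, omega_zero] at h2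
  exact not_cong_zero_one hM h2

variable (G) in
/-- The twist of a character by an operator. -/
noncomputable def twist (s : S) (χ : Cfsg.IrrCharacter G) : Cfsg.IrrCharacter G :=
  ⟨fun g => (χ : G → ℂ) (s • g), (isIrrCharacter_comp_mulEquiv
    (MulDistribMulAction.toMulEquiv G s)).2 χ.2⟩

include hinj hfix in
theorem exists_inv_corr (hM : Cfsg.IsPModular p M) (hS : IsPGroup p S) (hG : ¬ p ∣ Nat.card G)
    (β : Cfsg.IrrCharacter C) : ∃ χ, IsInv S χ ∧ Corr i M χ β := by
  classical
  haveI := Fintype.ofFinite (Cfsg.IrrCharacter G)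
  haveI := Fintype.ofFinite C
  by_contra hcon
  push Not at hcon
  set Inv₀ := Finset.univ.filter fun χ : Cfsg.IrrCharacter G => IsInv S χ
  letI : MulAction S (Cfsg.IrrCharacter G) :=
    { smul := fun s χ => twist G s⁻¹ χ
      one_smul := fun χ => Subtype.ext (funext fun g => by
        show (χ : G → ℂ) ((1 : S)⁻¹ • g) = _
        rw [inv_one, one_smul])
      mul_smul := fun s t χ => Subtype.ext (funext fun g => by
        show (χ : G → ℂ) ((s * t)⁻¹ • g) = (χ : G → ℂ) (t⁻¹ • (s⁻¹ • g))
        rw [mul_inv_rev, mul_smul]) }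
  have hsum : CongEl M (∑ χ ∈ Inv₀, pull i (blockIdem ({χ} : Set _))) 1 := by
    refine congEl_iff.2 fun c => ?_
    have h := cong_sum_fixed hM hS
      (fun χ : Cfsg.IrrCharacter G => (blockIdem ({χ} : Set _)).coeff (i c))
      (fun χ => intEl_single hM hG χ _) (fun s χ => by
        rw [coeff_single, coeff_single]
        show _ * ((χ : G → ℂ) (s⁻¹ • (1 : G)) * conj ((χ : G → ℂ) (s⁻¹ • i c))) = _
        rw [smul_one, (hfix (i c)).1 ⟨c, rfl⟩]) Inv₀ fun χ => by
        simp only [Inv₀, Finset.mem_filter, Finset.mem_univ, true_and]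
        refine ⟨fun h u => Subtype.ext (funext fun g => h u⁻¹ g), fun h s g => ?_⟩
        exact congrFun (congrArg Subtype.val
          (show twist G s χ = χ from by have := h s⁻¹; rwa [show s⁻¹ • χ = twist G s χ from by
            show twist G s⁻¹⁻¹ χ = _
            rw [inv_inv]] at this)) g
    rw [MonoidAlgebra.coeff_sum, Finsupp.finsetSum_apply]
    simp only [coeff_pull]
    refine cong_trans hM (cong_symm hM h) (cong_of_eq hM ?_)
    have h1 : (blockIdem (Set.univ : Set (Cfsg.IrrCharacter G))).coeff (i c) =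
        ∑ χ : Cfsg.IrrCharacter G, (blockIdem ({χ} : Set _)).coeff (i c) := by
      rw [coeff_blockIdem, blockCoeff_eq_sum, Finset.mul_sum]
      refine Finset.sum_congr rfl fun χ _ => ?_
      rw [coeff_single, if_pos (Set.mem_univ χ)]
    rw [← h1, blockIdem_univ, MonoidAlgebra.one_def, MonoidAlgebra.one_def,
      MonoidAlgebra.coeff_single, MonoidAlgebra.coeff_single, Finsupp.single_apply,
      Finsupp.single_apply]
    exact if_congr ⟨fun e => hinj (by rw [map_one]; exact e), fun e => by rw [← e, map_one]⟩ rfl rfl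
  have h := omega_cong hM β (central_sum fun χ _ => central_pull i (central_blockIdem _))
    central_one hsum
  rw [omega_one (irr_one_ne_zero β.2), omega_sum] at h
  refine not_cong_zero_one hM (cong_trans hM (cong_symm hM ?_) h)
  rw [cong_zero_iff]
  refine ideal_sum hM fun χ hχ => ?_
  have hχi := (Finset.mem_filter.1 hχ).2
  obtain ⟨β₁, hβ₁⟩ := exists_corr i hinj hfix hM hS hG hχi
  rw [ideal_iff_of_cong hM (omega_cong hM β (central_pull i (central_blockIdem _))
    (central_blockIdem _) hβ₁), omega_blockIdem_notMem fun hb => hcon χ hχi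
      (by rw [Set.mem_singleton_iff.1 hb]; exact hβ₁)]
  exact ideal_zero hM

include hinj hfix in
theorem card_cong (hM : Cfsg.IsPModular p M) (hS : IsPGroup p S) :
    Cong M (Nat.card G : ℂ) (Nat.card C : ℂ) := by
  classical
  haveI := Fintype.ofFinite G
  haveI := Fintype.ofFinite C
  have h := cong_sum_fixed hM hS (fun _ : G => (1 : ℂ)) (fun _ => ring_one hM) (fun _ _ => rfl)
    (Finset.univ.image i) fun g => by simpa using hfix g
  rw [Finset.sum_const, Finset.sum_const, Finset.card_image_of_injective _ hinj, nsmul_eq_mul,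
    nsmul_eq_mul, mul_one, mul_one, Finset.card_univ, Finset.card_univ] at h
  rwa [Nat.card_eq_fintype_card, Nat.card_eq_fintype_card]

include hinj hfix in
/-- The multiplicities. -/
theorem mult (hM : Cfsg.IsPModular p M) (hS : IsPGroup p S) (hG : ¬ p ∣ Nat.card G)
    [Fintype C] {χ : Cfsg.IrrCharacter G} {β : Cfsg.IrrCharacter C} (h : Corr i M χ β)
    (β' : Cfsg.IrrCharacter C) {m : ℕ}
    (hm : Cfsg.classInner (fun c : C => (χ : G → ℂ) (i c)) (β' : C → ℂ) = (m : ℂ)) :
    (β' ≠ β → p ∣ m) ∧ (β' = β → (m : ℤ) ≡ 1 [ZMOD p] ∨ (m : ℤ) ≡ -1 [ZMOD p]) := by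
  classical
  haveI := Fintype.ofFinite G
  have hC := not_dvd_card_C i hinj hG
  have hr1 : Cfsg.MemLocalRing M (Nat.card C : ℂ)⁻¹ := ring_inv_natCast hM hC
  have hrG : Cfsg.MemLocalRing M (Nat.card G : ℂ) := ring_natCast hM _
  have hχ0 := irr_one_ne_zero χ.2
  have hχ1i : Cfsg.MemLocalRing M ((χ : G → ℂ) 1)⁻¹ := by
    rw [← charDegree_cast]
    refine ring_inv_natCast hM fun hp => hG (hp.trans ?_)
    obtain ⟨d, hd, -, hdvd⟩ := irr_degree_dvd_card χ.2
    rwa [show Cfsg.charDegree (χ : G → ℂ) = d by rw [Cfsg.charDegree, hd]; simp]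
  have hG0 : (Nat.card G : ℂ) ≠ 0 := natCard_ne_zero
  have hC0 : (Nat.card C : ℂ) ≠ 0 := natCard_ne_zero
  set k : ℂ := (Nat.card G : ℂ) * ((χ : G → ℂ) 1)⁻¹ *
    ((Nat.card C : ℂ)⁻¹ * (β : C → ℂ) 1) with hk
  have hkr : Cfsg.MemLocalRing M k :=
    ring_mul hM (ring_mul hM hrG hχ1i) (ring_mul hM hr1 (irr_value_ring hM β 1))
  have hval : ∀ c : C, Cong M ((χ : G → ℂ) (i c)) (k * (β : C → ℂ) c) := fun c => by
    have h1 := congEl_iff.1 h c⁻¹
    rw [coeff_pull, coeff_single, coeff_single, map_inv, char_inv (irr_isCharacter χ),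
      char_inv (irr_isCharacter β), Complex.conj_conj, Complex.conj_conj] at h1
    have h2 := cong_mul_left hM (ring_mul hM hrG hχ1i) h1
    have e1 : (Nat.card G : ℂ) * ((χ : G → ℂ) 1)⁻¹ *
        ((Nat.card G : ℂ)⁻¹ * ((χ : G → ℂ) 1 * (χ : G → ℂ) (i c))) = (χ : G → ℂ) (i c) := by
      field_simp
    rw [e1] at h2
    refine cong_trans hM h2 (cong_of_eq hM ?_)
    rw [hk]; ring
  have hmk : Cong M (m : ℂ) (k * if β = β' then 1 else 0) := by
    rw [← hm, ← classInner_irr β β', classInner_def, classInner_def, mul_left_comm k,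
      Finset.mul_sum (a := k)]
    refine cong_mul_left hM hr1 (cong_sum hM fun c _ => ?_)
    rw [← mul_assoc k]
    exact cong_mul hM (hval c) (cong_refl hM _) (ring_mul hM hkr (irr_value_ring hM β c))
      (irr_conj_ring hM β' c)
  refine ⟨fun hne => ?_, fun he => ?_⟩
  · rw [if_neg (Ne.symm hne), mul_zero, cong_zero_iff, ideal_natCast_iff hM] at hmk
    exact hmk
  · subst he
    rw [if_pos rfl, mul_one] at hmk
    have hq : Cong M (k * (β' : C → ℂ) 1) ((χ : G → ℂ) 1) := by
      have := hval 1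
      rw [map_one] at this
      exact cong_symm hM this
    have hcard := card_cong i hinj hfix hM hS
    have hGC : Cong M ((Nat.card G : ℂ) * (Nat.card C : ℂ)⁻¹) 1 := by
      have := cong_mul_left hM hr1 hcard
      rwa [inv_mul_cancel₀ hC0, mul_comm] at this
    have hk2 : Cong M (k * k) ((Nat.card G : ℂ) * (Nat.card C : ℂ)⁻¹) := by
      have h3 := cong_mul_left hM (ring_mul hM (ring_mul hM hrG hχ1i) hr1) hq
      have e1 : (Nat.card G : ℂ) * ((χ : G → ℂ) 1)⁻¹ * (Nat.card C : ℂ)⁻¹ *
          (k * (β' : C → ℂ) 1) = k * k := by rw [hk]; ring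
      have e2 : (Nat.card G : ℂ) * ((χ : G → ℂ) 1)⁻¹ * (Nat.card C : ℂ)⁻¹ * (χ : G → ℂ) 1 =
          (Nat.card G : ℂ) * (Nat.card C : ℂ)⁻¹ := by
        field_simp
      rwa [e1, e2] at h3
    have hm2 : Cong M ((m : ℂ) * m) 1 :=
      cong_trans hM (cong_trans hM (cong_mul hM hmk hmk hkr hkr) hk2) hGC
    have hd : (p : ℤ) ∣ ((m : ℤ) - 1) * ((m : ℤ) + 1) := by
      rw [← ideal_intCast_iff hM]
      push_cast
      unfold Cong at hm2
      convert hm2 using 1
      ring
    rcases (Nat.prime_iff_prime_int.1 hM.1).dvd_mul.1 hd with h4 | h4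
    · exact Or.inl (Int.modEq_iff_dvd.2 (by simpa using h4.neg_right))
    · refine Or.inr (Int.modEq_iff_dvd.2 ?_)
      have := h4.neg_right
      simpa [sub_eq_add_neg, add_comm] using this

end Cfsg.Agent.BlockCharsA.Glauberman
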