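import Mathlib
import Cfsg.Agent.BlockCharsA.Glauberman
import Cfsg.Agent.BlockCharsA.DefectZeroVanish
import Cfsg.Agent.Lib.Blocks.Covering

/-!
# Invariant characters under a solvable group of operators of coprime order
-/

set_option linter.style.haveILetI false
set_option linter.unusedSectionVars false

namespace Cfsg.Agent.BlockCharsA.GlaubermanSolvable

open Cfsg.Agent.Blocks Cfsg.Agent.Characters Cfsg.Agent.BlockCharsA.Glauberman
open Cfsg.Agent.BlockCharsA.NormalSupport
open scoped commutatorElement

universe u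

section Basic

variable {G S : Type u} [Group G] [Group S] [MulDistribMulAction S G]

/-- The action on a stable subgroup. -/
@[instance_reducible]
def restrictAct (H : Subgroup G) (h : ∀ (s : S), ∀ g ∈ H, s • g ∈ H) :
    MulDistribMulAction S H where
  smul s g := ⟨s • (g : G), h s g g.2⟩
  one_smul g := Subtype.ext (one_smul S (g : G))
  mul_smul s t g := Subtype.ext (mul_smul s t (g : G))
  smul_mul s a b := Subtype.ext (smul_mul' s (a : G) (b : G))
  smul_one s := Subtype.ext (smul_one s)

variable (S) in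
/-- A class fixed by the operators. -/
def IsInvClass (K : ConjClasses G) : Prop :=
  ∀ (s : S) (g : G), ConjClasses.mk g = K → ConjClasses.mk (s • g) = K

theorem isInv_iff_twist [Finite G] [Finite S] (χ : Cfsg.IrrCharacter G) :
    IsInv S χ ↔ ∀ s : S, twist G s χ = χ :=
  ⟨fun h s => Subtype.ext (funext fun g => h s g),
    fun h s g => congrFun (congrArg Subtype.val (h s)) g⟩

theorem exists_normal_pgroup [Finite S] (hsolv : Group.IsSolvable S) (hne : Nat.card S ≠ 1) :
    ∃ (q : ℕ) (T : Subgroup S), q.Prime ∧ T.Normal ∧ IsPGroup q T ∧ T ≠ ⊥ := by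
  classical
  obtain ⟨n, hn⟩ := (isSolvable_def S).1 hsolv
  have hex : ∃ m, derivedSeries S m = ⊥ := ⟨n, hn⟩
  obtain ⟨m, hm⟩ : ∃ m, Nat.find hex = m + 1 := by
    refine Nat.exists_eq_succ_of_ne_zero fun h0 => hne ?_
    have h1 := Nat.find_spec hex
    rw [h0, derivedSeries_zero] at h1
    rw [← Subgroup.card_top (G := S), h1, Subgroup.card_bot]
  set A := derivedSeries S m
  have hA1 : A ≠ ⊥ := Nat.find_min hex (by omega)
  have hAc : ∀ a ∈ A, ∀ b ∈ A, Commute a b := by
    intro a ha b hb
    have h1 := Nat.find_spec hex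
    rw [hm, derivedSeries_succ] at h1
    have : ⁅a, b⁆ ∈ (⊥ : Subgroup S) := h1 ▸ Subgroup.commutator_mem_commutator ha hb
    exact commutatorElement_eq_one_iff_commute.1 (Subgroup.mem_bot.1 this)
  obtain ⟨q, hq, hqA⟩ := Nat.exists_prime_and_dvd (n := Nat.card A)
    (fun h => hA1 (Subgroup.card_eq_one.1 h))
  haveI := Fact.mk hq
  let T : Subgroup S :=
    { carrier := {a | a ∈ A ∧ ∃ k : ℕ, a ^ q ^ k = 1}
      one_mem' := ⟨A.one_mem, 0, by simp⟩
      mul_mem' := fun {a b} ⟨ha, k, hk⟩ ⟨hb, l, hl⟩ => ⟨A.mul_mem ha hb, k + l, by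
        rw [(hAc a ha b hb).mul_pow, pow_add, pow_mul, hk, one_pow, one_mul, mul_comm (q ^ k),
          pow_mul, hl, one_pow]⟩
      inv_mem' := fun {a} ⟨ha, k, hk⟩ => ⟨A.inv_mem ha, k, by rw [inv_pow, hk, inv_one]⟩ }
  haveI hAn : A.Normal := derivedSeries_normal S m
  refine ⟨q, T, hq, ⟨fun a ⟨ha, k, hk⟩ g => ⟨hAn.conj_mem a ha g, k, by
    rw [conj_pow, hk, mul_one, mul_inv_cancel]⟩⟩, fun a => ?_, fun hb => ?_⟩
  · obtain ⟨-, k, hk⟩ := a.2
    exact ⟨k, Subtype.ext hk⟩
  · obtain ⟨a, ha⟩ := exists_prime_orderOf_dvd_card' (G := A) q hqA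
    have : (a : S) ∈ T := ⟨a.2, 1, by rw [pow_one, ← ha, ← Subgroup.orderOf_coe, pow_orderOf_eq_one]⟩
    rw [hb, Subgroup.mem_bot] at this
    rw [← Subgroup.orderOf_coe, this, orderOf_one] at ha
    exact hq.ne_one ha.symm

end Basic

section Step

variable {G C S : Type u} [Group G] [Finite G] [Group C] [Finite C] [Group S] [Finite S]
  [MulDistribMulAction S G] [MulDistribMulAction S C] {p : ℕ} {M : Ideal Cfsg.AlgInt}

theorem corr_twist (hM : Cfsg.IsPModular p M) (i : C →* G)
    (hcomm : ∀ (s : S) (c : C), i (s • c) = s • i c) {χ : Cfsg.IrrCharacter G}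
    {β : Cfsg.IrrCharacter C} (h : Corr i M χ β) (s : S) :
    Corr i M (twist G s χ) (twist C s β) := by
  refine congEl_iff.2 fun c => ?_
  have h1 := congEl_iff.1 h (s • c)
  rw [coeff_pull, coeff_single, coeff_single, hcomm] at h1
  rw [coeff_pull, coeff_single, coeff_single]
  show Cong M (_ * ((χ : G → ℂ) (s • (1 : G)) * starRingEnd ℂ ((χ : G → ℂ) (s • i c))))
    (_ * ((β : C → ℂ) (s • (1 : C)) * starRingEnd ℂ ((β : C → ℂ) (s • c))))
  rwa [smul_one, smul_one]

end Step

theorem coeff_blockIdem_sum {H : Type u} [Group H] [Finite H] [Fintype (Cfsg.IrrCharacter H)]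
    (A : Set (Cfsg.IrrCharacter H)) [DecidablePred (· ∈ A)] (h : H) :
    (blockIdem A).coeff h = ∑ χ : Cfsg.IrrCharacter H,
      if χ ∈ A then (blockIdem ({χ} : Set (Cfsg.IrrCharacter H))).coeff h else 0 := by
  classical
  rw [coeff_blockIdem, blockCoeff_eq_sum, Finset.mul_sum]
  refine Finset.sum_congr rfl fun χ _ => ?_
  rw [coeff_single]
  split <;> simp

/-- As many invariant characters as invariant classes. -/
theorem card_invariant : ∀ (n : ℕ) (G S : Type u) [Group G] [Finite G] [Group S] [Finite S]
    [MulDistribMulAction S G], Nat.card S ≤ n → (Nat.card G).Coprime (Nat.card S) →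
    Group.IsSolvable S →
    Nat.card {χ : Cfsg.IrrCharacter G // IsInv S χ} =
      Nat.card {K : ConjClasses G // IsInvClass S K} := by
  intro n
  induction n with
  | zero =>
    intro G S _ _ _ _ _ h
    exact absurd h (not_le.2 Nat.card_pos)
  | succ n ih =>
    intro G S _ _ _ _ _ hn hcop hsolv
    classical
    by_cases h1 : Nat.card S = 1
    · haveI := (Nat.card_eq_one_iff_unique.1 h1).1
      have e : ∀ s : S, s = 1 := fun s => Subsingleton.elim _ _
      rw [Nat.card_congr (Equiv.subtypeUnivEquiv (p := fun χ : Cfsg.IrrCharacter G => IsInv S χ)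
          fun χ s g => by rw [e s, one_smul]),
        Nat.card_congr (Equiv.subtypeUnivEquiv (p := fun K : ConjClasses G => IsInvClass S K)
          fun K s g h => by rw [e s, one_smul, h]),
        card_irrCharacter]
    obtain ⟨q, T, hq, hTn, hT, hT1⟩ := exists_normal_pgroup hsolv h1
    haveI := hTn
    haveI := Fact.mk hq
    obtain ⟨M, hM⟩ := DefectZeroVanish.exists_modular hq
    have hqT : q ∣ Nat.card T := by
      obtain ⟨k, hk⟩ := hT.exists_card_eq
      rw [hk]
      refine dvd_pow_self q fun h0 => hT1 (Subgroup.card_eq_one.1 ?_)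
      rw [hk, h0, pow_zero]
    have hqG : ¬ q ∣ Nat.card G := fun h => hq.ne_one
      (Nat.eq_one_of_dvd_coprimes hcop h (hqT.trans T.card_subgroup_dvd_card))
    let C : Subgroup G :=
      { carrier := {g | ∀ t : T, t • g = g}
        one_mem' := fun t => smul_one t
        mul_mem' := fun {a b} ha hb t => by rw [smul_mul', ha t, hb t]
        inv_mem' := fun {a} ha t => by rw [smul_inv', ha t] }
    have hCS : ∀ (s : S), ∀ g ∈ C, s • g ∈ C := fun s g hg t => by
      have h := hg ⟨s⁻¹ * t * s, by simpa using hTn.conj_mem t t.2 s⁻¹⟩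
      show (t : S) • (s • g) = s • g
      conv_rhs => rw [← h]
      show (t : S) • (s • g) = s • ((s⁻¹ * t * s : S) • g)
      rw [← mul_smul, ← mul_smul]
      group
    letI : MulDistribMulAction S C := restrictAct C hCS
    have hker : T ≤ MonoidHom.ker (MulDistribMulAction.toMulAut S C) := fun t ht => by
      rw [MonoidHom.mem_ker]
      exact MulEquiv.ext fun c => Subtype.ext (c.2 ⟨t, ht⟩)
    letI : MulDistribMulAction (S ⧸ T) C := MulDistribMulAction.compHom C
      (QuotientGroup.lift T (MulDistribMulAction.toMulAut S C) hker)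
    have hq_smul : ∀ (s : S) (c : C), (s : S ⧸ T) • c = s • c := fun s c => rfl
    haveI : Group.IsSolvable (S ⧸ T) := by
      haveI := hsolv
      infer_instance
    have hcard : Nat.card (S ⧸ T) ≤ n := by
      have hlt : Nat.card (S ⧸ T) < Nat.card S := by
        rw [T.card_eq_card_quotient_mul_card_subgroup]
        refine lt_mul_of_one_lt_right Nat.card_pos ?_
        rcases Nat.eq_or_lt_of_le (Nat.one_le_iff_ne_zero.2 (Nat.card_pos (α := T)).ne') with h | h
        · exact absurd (Subgroup.card_eq_one.1 h.symm) hT1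
        · exact h
      omega
    have hcop' : (Nat.card C).Coprime (Nat.card (S ⧸ T)) :=
      (hcop.coprime_dvd_left C.card_subgroup_dvd_card).coprime_dvd_right
        (Subgroup.card_quotient_dvd_card T)
    set i : C →* G := C.subtype
    have hinj : Function.Injective i := C.subtype_injective
    have hfix : ∀ g : G, (∃ c, i c = g) ↔ ∀ t : T, t • g = g := fun g =>
      ⟨fun ⟨c, hc⟩ => hc ▸ c.2, fun h => ⟨⟨g, h⟩, rfl⟩⟩
    have hcomm : ∀ (s : S) (c : C), i (s • c) = s • i c := fun s c => rfl
    have hIT : ∀ χ : Cfsg.IrrCharacter G, IsInv S χ → IsInv T χ := fun χ h t g => h t g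
    -- characters
    have hchar : Nat.card {χ : Cfsg.IrrCharacter G // IsInv S χ} =
        Nat.card {β : Cfsg.IrrCharacter C // IsInv (S ⧸ T) β} := by
      choose f hf using fun χ : {χ : Cfsg.IrrCharacter G // IsInv S χ} =>
        exists_corr i hinj hfix hM hT hqG (hIT χ.1 χ.2)
      have hfi : ∀ χ, IsInv (S ⧸ T) (f χ) := fun χ => by
        refine (isInv_iff_twist (f χ)).2 fun x => ?_
        obtain ⟨s, rfl⟩ := QuotientGroup.mk_surjective x
        have h := corr_twist hM i hcomm (hf χ) s
        rw [(isInv_iff_twist χ.1).1 χ.2 s] at h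
        refine Eq.trans ?_ (corr_unique i hM h (hf χ))
        exact Subtype.ext (funext fun c => rfl)
      refine Nat.card_eq_of_bijective (fun χ => ⟨f χ, hfi χ⟩) ⟨fun a b e => ?_, fun β => ?_⟩
      · have e' : f a = f b := congrArg Subtype.val e
        exact Subtype.ext (corr_injective i hinj hfix hM hT hqG (hIT _ a.2) (hIT _ b.2) (hf a)
          (e' ▸ hf b))
      · obtain ⟨χ, hχ, h⟩ := exists_inv_corr i hinj hfix hM hT hqG β.1
        have hS : IsInv S χ := (isInv_iff_twist χ).2 fun s => by
          have h2 := corr_twist hM i hcomm h s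
          rw [show twist C s β.1 = β.1 from Subtype.ext (funext fun c => β.2 (s : S ⧸ T) c)] at h2
          refine corr_injective i hinj hfix hM hT hqG ?_ hχ h2 h
          intro t g
          show (χ : G → ℂ) (s • (t • g)) = (χ : G → ℂ) (s • g)
          have := hχ ⟨s * t * s⁻¹, hTn.conj_mem t t.2 s⟩ (s • g)
          rw [show (⟨s * t * s⁻¹, hTn.conj_mem t t.2 s⟩ : T) • (s • g) = s • (t • g) from by
            show (s * t * s⁻¹ : S) • (s • g) = s • ((t : S) • g)
            rw [← mul_smul, ← mul_smul]; group] at this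
          exact this
        exact ⟨⟨χ, hS⟩, Subtype.ext (corr_unique i hM (hf ⟨χ, hS⟩) h)⟩
    -- classes
    have hclass : Nat.card {K : ConjClasses C // IsInvClass (S ⧸ T) K} =
        Nat.card {K : ConjClasses G // IsInvClass S K} := by
      have hmapinj : Function.Injective (ConjClasses.map i) := by
        intro a b e
        obtain ⟨a, rfl⟩ := ConjClasses.mk_surjective a
        obtain ⟨b, rfl⟩ := ConjClasses.mk_surjective b
        exact ConjClasses.mk_eq_mk_iff_isConj.2 (isConj_of_isConj i hinj hfix hM hT hqG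
          (ConjClasses.mk_eq_mk_iff_isConj.1 e))
      have hsmul : ∀ (s : S) (g g' : G), ConjClasses.mk g = ConjClasses.mk g' →
          ConjClasses.mk (s • g) = ConjClasses.mk (s • g') := fun s g g' e => by
        obtain ⟨a, ha⟩ := isConj_iff.1 (ConjClasses.mk_eq_mk_iff_isConj.1 e)
        refine ConjClasses.mk_eq_mk_iff_isConj.2 (isConj_iff.2 ⟨s • a, ?_⟩)
        rw [← smul_inv', ← smul_mul', ← smul_mul', ha]
      have hto : ∀ K : ConjClasses C, IsInvClass (S ⧸ T) K →
          IsInvClass S (ConjClasses.map i K) := by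
        intro K hK s g hg
        obtain ⟨c, rfl⟩ := ConjClasses.mk_surjective K
        refine (hsmul s g (i c) hg).trans ?_
        rw [← hcomm]
        show ConjClasses.map i (ConjClasses.mk (s • c)) = _
        rw [show ConjClasses.mk (s • c) = ConjClasses.mk c from hK (s : S ⧸ T) c rfl]
      refine Nat.card_eq_of_bijective (fun K => ⟨ConjClasses.map i K.1, hto K.1 K.2⟩)
        ⟨fun a b e => Subtype.ext (hmapinj (congrArg Subtype.val e)), fun K => ?_⟩
      obtain ⟨g, hg⟩ := ConjClasses.mk_surjective K.1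
      haveI := Fintype.ofFinite G
      obtain ⟨c, hc⟩ : ∃ c : C, IsConj g (i c) := by
        by_contra hno
        push Not at hno
        have h := cong_sum_fixed hM hT (fun x : G => if IsConj g x then (1 : ℂ) else 0)
          (fun x => by
            split
            · exact ring_one hM
            · exact ring_zero hM)
          (fun t x => if_congr ⟨fun e => ?_, fun e => ?_⟩ rfl rfl)
          (Finset.univ.filter fun x : G => x ∈ C) (fun x => by simp [C])
        · rw [Finset.sum_eq_zero (s := Finset.univ.filter fun x : G => x ∈ C) (fun x hx => if_neg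
              (hno ⟨x, (Finset.mem_filter.1 hx).2⟩)), Finset.sum_boole, card_filter_isConj,
            cong_zero_iff, ideal_natCast_iff hM] at h
          exact hqG (h.trans (Subgroup.index_dvd_card _))
        · have h2 := K.2 (t : S) g hg
          rw [← hg] at h2
          have h3 := hsmul ((t : S)⁻¹) _ _ (ConjClasses.mk_eq_mk_iff_isConj.2 e)
          rw [show (t : S)⁻¹ • (t • x) = x from inv_smul_smul (t : S) x] at h3
          have h4 := K.2 (t : S)⁻¹ g hg
          rw [← hg, h3] at h4
          exact (ConjClasses.mk_eq_mk_iff_isConj.1 h4).symm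
        · have h2 := K.2 (t : S) g hg
          rw [← hg, hsmul (t : S) g x (ConjClasses.mk_eq_mk_iff_isConj.2 e)] at h2
          exact (ConjClasses.mk_eq_mk_iff_isConj.1 h2).symm
      have hcK : ConjClasses.map i (ConjClasses.mk c) = K.1 := by
        rw [← hg]; exact (ConjClasses.mk_eq_mk_iff_isConj.2 hc).symm
      refine ⟨⟨ConjClasses.mk c, fun x c' hc' => ?_⟩, Subtype.ext hcK⟩
      obtain ⟨s, rfl⟩ := QuotientGroup.mk_surjective x
      refine hmapinj ?_
      rw [hcK]
      show ConjClasses.mk (i (s • c')) = _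
      rw [hcomm]
      refine K.2 s (i c') ?_
      rw [← hcK, ← hc']
      rfl
    rw [hchar, ih C (S ⧸ T) hcard hcop' inferInstance, hclass]

/-- An invariant character of an invariant normal subgroup lies under an invariant character. -/
theorem exists_invariant_over : ∀ (n : ℕ) (G S : Type u) [Group G] [Finite G] [Group S] [Finite S]
    [MulDistribMulAction S G], Nat.card S ≤ n → (Nat.card G).Coprime (Nat.card S) →
    Group.IsSolvable S → ∀ (N : Subgroup G) [N.Normal] [Fintype N]
    (hN : ∀ (s : S), ∀ g ∈ N, s • g ∈ N) (θ : Cfsg.IrrCharacter N),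
    (∀ (s : S) (x : N), (θ : N → ℂ) ⟨s • (x : G), hN s x x.2⟩ = (θ : N → ℂ) x) →
    ∃ χ : Cfsg.IrrCharacter G,
      Cfsg.classInner (fun x : N => (χ : G → ℂ) x) (θ : N → ℂ) ≠ 0 ∧ IsInv S χ := by
  intro n
  induction n with
  | zero =>
    intro G S _ _ _ _ _ h
    exact absurd h (not_le.2 Nat.card_pos)
  | succ n ih =>
    intro G S _ _ _ _ _ hn hcop hsolv N _ _ hN θ hθ
    classical
    haveI := Fintype.ofFinite G
    by_cases h1 : Nat.card S = 1
    · haveI := (Nat.card_eq_one_iff_unique.1 h1).1
      obtain ⟨χ, hχ⟩ := exists_over (N := N) θ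
      exact ⟨χ, hχ, fun s g => by rw [Subsingleton.elim s 1, one_smul]⟩
    obtain ⟨q, T, hq, hTn, hT, hT1⟩ := exists_normal_pgroup hsolv h1
    haveI := hTn
    haveI := Fact.mk hq
    obtain ⟨M, hM⟩ := DefectZeroVanish.exists_modular hq
    have hqT : q ∣ Nat.card T := by
      obtain ⟨k, hk⟩ := hT.exists_card_eq
      rw [hk]
      refine dvd_pow_self q fun h0 => hT1 (Subgroup.card_eq_one.1 ?_)
      rw [hk, h0, pow_zero]
    have hqG : ¬ q ∣ Nat.card G := fun h => hq.ne_one
      (Nat.eq_one_of_dvd_coprimes hcop h (hqT.trans T.card_subgroup_dvd_card))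
    have hqN : ¬ q ∣ Nat.card N := fun h => hqG (h.trans N.card_subgroup_dvd_card)
    let C : Subgroup G :=
      { carrier := {g | ∀ t : T, t • g = g}
        one_mem' := fun t => smul_one t
        mul_mem' := fun {a b} ha hb t => by rw [smul_mul', ha t, hb t]
        inv_mem' := fun {a} ha t => by rw [smul_inv', ha t] }
    have hCS : ∀ (s : S), ∀ g ∈ C, s • g ∈ C := fun s g hg t => by
      have h := hg ⟨s⁻¹ * t * s, by simpa using hTn.conj_mem t t.2 s⁻¹⟩
      show (t : S) • (s • g) = s • g
      conv_rhs => rw [← h]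
      show (t : S) • (s • g) = s • ((s⁻¹ * t * s : S) • g)
      rw [← mul_smul, ← mul_smul]
      group
    letI : MulDistribMulAction S C := restrictAct C hCS
    have hker : T ≤ MonoidHom.ker (MulDistribMulAction.toMulAut S C) := fun t ht => by
      rw [MonoidHom.mem_ker]
      exact MulEquiv.ext fun c => Subtype.ext (c.2 ⟨t, ht⟩)
    letI : MulDistribMulAction (S ⧸ T) C := MulDistribMulAction.compHom C
      (QuotientGroup.lift T (MulDistribMulAction.toMulAut S C) hker)
    haveI : Group.IsSolvable (S ⧸ T) := by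
      haveI := hsolv
      infer_instance
    have hcard : Nat.card (S ⧸ T) ≤ n := by
      have hlt : Nat.card (S ⧸ T) < Nat.card S := by
        rw [T.card_eq_card_quotient_mul_card_subgroup]
        refine lt_mul_of_one_lt_right Nat.card_pos ?_
        rcases Nat.eq_or_lt_of_le (Nat.one_le_iff_ne_zero.2 (Nat.card_pos (α := T)).ne') with h | h
        · exact absurd (Subgroup.card_eq_one.1 h.symm) hT1
        · exact h
      omega
    have hcop' : (Nat.card C).Coprime (Nat.card (S ⧸ T)) :=
      (hcop.coprime_dvd_left C.card_subgroup_dvd_card).coprime_dvd_right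
        (Subgroup.card_quotient_dvd_card T)
    set i : C →* G := C.subtype
    have hinj : Function.Injective i := C.subtype_injective
    have hfix : ∀ g : G, (∃ c, i c = g) ↔ ∀ t : T, t • g = g := fun g =>
      ⟨fun ⟨c, hc⟩ => hc ▸ c.2, fun h => ⟨⟨g, h⟩, rfl⟩⟩
    -- the normal subgroup and its fixed points
    letI : MulDistribMulAction S N := restrictAct N hN
    have hNC : ∀ (s : S), ∀ c ∈ N.subgroupOf C, s • c ∈ N.subgroupOf C := fun s c hc => hN s _ hc
    letI : MulDistribMulAction S (N.subgroupOf C) := restrictAct _ hNC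
    haveI := Fintype.ofFinite (N.subgroupOf C)
    haveI := Fintype.ofFinite C
    let j : (N.subgroupOf C) →* N :=
      { toFun := fun c => ⟨((c : C) : G), c.2⟩, map_one' := rfl, map_mul' := fun _ _ => rfl }
    have hjinj : Function.Injective j := fun a b e =>
      Subtype.ext (Subtype.ext (congrArg (fun x : N => (x : G)) e))
    have hjfix : ∀ x : N, (∃ c, j c = x) ↔ ∀ t : T, t • x = x := fun x =>
      ⟨fun ⟨c, hc⟩ t => Subtype.ext (hc ▸ (c : C).2 t),
        fun h => ⟨⟨⟨(x : G), fun t => congrArg (fun y : N => (y : G)) (h t)⟩, x.2⟩, rfl⟩⟩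
    have hθT : IsInv T θ := fun t x => hθ t x
    obtain ⟨θs, hθs⟩ := exists_corr j hjinj hjfix hM hT hqN hθT
    have hθsS : ∀ (s : S) (x : N.subgroupOf C),
        (θs : N.subgroupOf C → ℂ) (s • x) = (θs : N.subgroupOf C → ℂ) x := by
      intro s x
      have h := corr_twist hM j (fun _ _ => rfl) hθs s
      rw [show twist N s θ = θ from Subtype.ext (funext fun y => hθ s y)] at h
      exact congrFun (congrArg Subtype.val (corr_unique j hM h hθs)) x
    obtain ⟨β, hβ, hβinv⟩ := ih C (S ⧸ T) hcard hcop' inferInstance (N.subgroupOf C)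
      (fun x c hc => by
        obtain ⟨s, rfl⟩ := QuotientGroup.mk_surjective x
        exact hN s _ hc) θs (fun x c => by
        obtain ⟨s, rfl⟩ := QuotientGroup.mk_surjective x
        exact hθsS s c)
    obtain ⟨χ, hχT, hχ⟩ := exists_inv_corr i hinj hfix hM hT hqG β
    refine ⟨χ, ?_, (isInv_iff_twist χ).2 fun s => ?_⟩
    swap
    · have h2 := corr_twist hM i (fun _ _ => rfl) hχ s
      rw [show twist C s β = β from Subtype.ext (funext fun c => hβinv (s : S ⧸ T) c)] at h2
      refine corr_injective i hinj hfix hM hT hqG ?_ hχT h2 hχ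
      intro t g
      show (χ : G → ℂ) (s • (t • g)) = (χ : G → ℂ) (s • g)
      have := hχT ⟨s * t * s⁻¹, hTn.conj_mem t t.2 s⟩ (s • g)
      rw [show (⟨s * t * s⁻¹, hTn.conj_mem t t.2 s⟩ : T) • (s • g) = s • (t • g) from by
        show (s * t * s⁻¹ : S) • (s • g) = s • ((t : S) • g)
        rw [← mul_smul, ← mul_smul]; group] at this
      exact this
    -- the idempotent of the orbit
    haveI := Fintype.ofFinite (Cfsg.IrrCharacter N)
    haveI := Fintype.ofFinite (Cfsg.IrrCharacter G)
    set Θ : Set (Cfsg.IrrCharacter N) := {θ' | ∃ g : G, conjIrr g θ = θ'} with hΘ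
    have hEinv : IsInvEl (blockIdem Θ) := isInvEl_blockIdem fun a ψ ⟨g, hg⟩ =>
      ⟨g * a, by rw [← hg, conjIrr_conjIrr]⟩
    have htwist : ∀ (t : T) (ψ : Cfsg.IrrCharacter N), ψ ∈ Θ → twist N (t : S) ψ ∈ Θ := by
      rintro t _ ⟨g, rfl⟩
      refine ⟨(t : S)⁻¹ • g, Subtype.ext (funext fun x => ?_)⟩
      show (θ : N → ℂ) _ = (θ : N → ℂ) _
      rw [← hθ (t : S)]
      refine congrArg _ (Subtype.ext ?_)
      show (t : S) • (((t : S)⁻¹ • g) * (x : G) * ((t : S)⁻¹ • g)⁻¹) = _
      simp only [smul_mul', smul_inv', smul_inv_smul]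
      rfl
    letI : MulAction T (Cfsg.IrrCharacter N) :=
      { smul := fun t ψ => twist N ((t : S)⁻¹) ψ
        one_smul := fun ψ => Subtype.ext (funext fun x => by
          show (ψ : N → ℂ) (((1 : T) : S)⁻¹ • x) = _
          rw [OneMemClass.coe_one, inv_one, one_smul])
        mul_smul := fun a b ψ => Subtype.ext (funext fun x => by
          show (ψ : N → ℂ) (((a * b : T) : S)⁻¹ • x) = (ψ : N → ℂ) ((b : S)⁻¹ • ((a : S)⁻¹ • x))
          rw [Subgroup.coe_mul, mul_inv_rev, mul_smul]) }
    set f : N → Cfsg.IrrCharacter N → ℂ := fun x ψ =>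
      if ψ ∈ Θ then (blockIdem ({ψ} : Set (Cfsg.IrrCharacter N))).coeff x else 0 with hf
    have hfr : ∀ x ψ, Cfsg.MemLocalRing M (f x ψ) := fun x ψ => by
      simp only [f]; split
      · exact intEl_single hM hqN ψ x
      · exact ring_zero hM
    have hftw : ∀ (t : T) (x : N) (ψ : Cfsg.IrrCharacter N),
        f ((t : S) • x) ψ = f x (twist N (t : S) ψ) := by
      intro t x ψ
      have hiff : ψ ∈ Θ ↔ twist N (t : S) ψ ∈ Θ := ⟨htwist t ψ, fun h => by
        have h2 := htwist t⁻¹ _ h
        rwa [show twist N ((t⁻¹ : T) : S) (twist N (t : S) ψ) = ψ from Subtype.ext (funext fun y => by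
          show (ψ : N → ℂ) ((t : S) • ((t⁻¹ : T) : S) • y) = _
          rw [Subgroup.coe_inv, smul_inv_smul])] at h2⟩
      simp only [f]
      refine if_congr hiff ?_ rfl
      rw [coeff_single, coeff_single]
      show _ = _ * ((ψ : N → ℂ) ((t : S) • (1 : N)) * starRingEnd ℂ ((ψ : N → ℂ) ((t : S) • x)))
      rw [smul_one]
    have hEint : IntEl M (blockIdem Θ) := fun x => by
      rw [coeff_blockIdem_sum]; exact ring_sum hM fun ψ _ => hfr x ψ
    have hEfix : ∀ (t : T) (x : N), (blockIdem Θ).coeff ((t : S) • x) = (blockIdem Θ).coeff x := by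
      intro t x
      rw [coeff_blockIdem_sum, coeff_blockIdem_sum]
      refine Fintype.sum_equiv (MulAction.toPerm (t⁻¹ : T)) _ _ fun ψ => ?_
      show f ((t : S) • x) ψ = f x (twist N (((t⁻¹ : T) : S))⁻¹ ψ)
      rw [hftw, Subgroup.coe_inv, inv_inv]
    set E := push N (blockIdem Θ)
    have hEc : IsCentralEl E := central_push hEinv
    have hEi : IntEl M E := intEl_push hM hEint
    have hEv : Glauberman.Inv T E := fun t g => by
      by_cases hg : g ∈ N
      · have hg' : t • g ∈ N := hN (t : S) g hg
        rw [coeff_push_mem _ hg, coeff_push_mem _ hg']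
        exact hEfix t ⟨g, hg⟩
      · have hg' : t • g ∉ N := fun h => hg (by
          have := hN ((t : S)⁻¹) _ h
          rwa [show (t : S)⁻¹ • (t • g) = g from inv_smul_smul (t : S) g] at this)
        rw [coeff_push_notMem _ hg, coeff_push_notMem _ hg']
    have hpull : pull i E = push (N.subgroupOf C) (pull j (blockIdem Θ)) := el_ext fun c => by
      rw [coeff_pull]
      by_cases hc : c ∈ N.subgroupOf C
      · rw [coeff_push_mem _ hc, coeff_pull, coeff_push_mem _ (show i c ∈ N from hc)]
        rfl
      · rw [coeff_push_notMem _ hc, coeff_push_notMem _ (show i c ∉ N from hc)]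
    have hinvC : IsInvEl (pull j (blockIdem Θ)) := fun a x => by
      rw [coeff_pull, coeff_pull]
      exact hEinv (i a) (j x)
    -- `ω_θ*` of the image is `1`
    have hone : Cong M (omega (θs : N.subgroupOf C → ℂ) (pull j (blockIdem Θ))) 1 := by
      set F := Finset.univ.filter fun ψ : Cfsg.IrrCharacter N => ψ ∈ Θ ∧ IsInv T ψ
      have hsum : CongEl M (pull j (blockIdem Θ))
          (∑ ψ ∈ F, pull j (blockIdem ({ψ} : Set (Cfsg.IrrCharacter N)))) := by
        refine congEl_iff.2 fun c => ?_
        rw [coeff_pull, coeff_blockIdem_sum, MonoidAlgebra.coeff_sum, Finsupp.finsetSum_apply]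
        have h := cong_sum_fixed hM hT (f (j c)) (hfr _) (fun t ψ => ?_)
          (Finset.univ.filter fun ψ : Cfsg.IrrCharacter N => IsInv T ψ) fun ψ => ?_
        · refine cong_trans hM h (cong_of_eq hM ?_)
          rw [← Finset.sum_filter_add_sum_filter_not (Finset.univ.filter _) (fun ψ => ψ ∈ Θ)]
          rw [Finset.sum_eq_zero (s := Finset.filter (fun ψ => ¬ ψ ∈ Θ) _) fun ψ hψ => by
            simp only [f]; rw [if_neg (Finset.mem_filter.1 hψ).2], add_zero, Finset.filter_filter]
          refine Finset.sum_congr (Finset.filter_congr fun ψ _ => and_comm) fun ψ hψ => ?_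
          simp only [f, coeff_pull]
          rw [if_pos (Finset.mem_filter.1 hψ).2.1]
        · have h2 := hftw t⁻¹ (j c) ψ
          rw [show ((t⁻¹ : T) : S) • j c = j c from ((hjfix (j c)).1 ⟨c, rfl⟩) t⁻¹,
            Subgroup.coe_inv] at h2
          exact h2.symm
        · simp only [Finset.mem_filter, Finset.mem_univ, true_and]
          refine ⟨fun h t => Subtype.ext (funext fun x => ?_), fun h t x => ?_⟩
          · show (ψ : N → ℂ) ((t : S)⁻¹ • x) = _
            exact h t⁻¹ x
          · have h2 := congrFun (congrArg Subtype.val (h t⁻¹)) x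
            change (ψ : N → ℂ) ((((t⁻¹ : T) : S))⁻¹ • x) = _ at h2
            rwa [Subgroup.coe_inv, inv_inv] at h2
      refine cong_trans hM (omega_cong hM θs (central_pull j (central_blockIdem _))
        (central_sum fun ψ _ => central_pull j (central_blockIdem _)) hsum) ?_
      rw [omega_sum]
      have hterm : ∀ ψ ∈ F, Cong M (omega (θs : N.subgroupOf C → ℂ)
          (pull j (blockIdem ({ψ} : Set _)))) (if ψ = θ then (1 : ℂ) else 0) := by
        intro ψ hψ
        obtain ⟨γ, hγ⟩ := exists_corr j hjinj hjfix hM hT hqN (Finset.mem_filter.1 hψ).2.2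
        refine cong_trans hM (omega_cong hM θs (central_pull j (central_blockIdem _))
          (central_blockIdem _) hγ) (cong_of_eq hM ?_)
        by_cases he : ψ = θ
        · subst he
          rw [if_pos rfl, omega_blockIdem_mem (show θs ∈ ({γ} : Set _) from
            corr_unique j hM hθs hγ)]
        · rw [if_neg he, omega_blockIdem_notMem fun hm => he (corr_injective j hjinj hjfix hM hT hqN
            (Finset.mem_filter.1 hψ).2.2 hθT hγ (by rw [← Set.mem_singleton_iff.1 hm]; exact hθs))]
      refine cong_trans hM (cong_sum hM hterm) (cong_of_eq hM ?_)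
      rw [Finset.sum_ite_eq', if_pos]
      exact Finset.mem_filter.2 ⟨Finset.mem_univ _, ⟨1, conjIrr_one θ⟩, hθT⟩
    -- back to `χ`
    have hχe : Cong M (omega (χ : G → ℂ) E) 1 := by
      have e1 : blockIdem ({χ} : Set _) * E = omega (χ : G → ℂ) E • blockIdem ({χ} : Set _) := by
        refine central_omega_ext (central_mul (central_blockIdem _) hEc)
          (central_smul _ (central_blockIdem _)) fun ψ => ?_
        rw [omega_mul ψ (central_blockIdem _), omega_smul, omega_blockIdem]
        split
        · next h => rw [Set.mem_singleton_iff.1 h]; ring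
        · ring
      have h1 := pull_mul i hinj hfix hM hT (intEl_single hM hqG χ) hEi (inv_single hχT) hEv
      rw [e1, show pull i (omega (χ : G → ℂ) E • blockIdem ({χ} : Set _)) =
        omega (χ : G → ℂ) E • pull i (blockIdem ({χ} : Set _)) from el_ext fun c => by simp] at h1
      have hχc := central_pull i (central_blockIdem ({χ} : Set (Cfsg.IrrCharacter G)))
      have h2 := omega_cong hM β (central_smul _ hχc)
        (central_mul hχc (central_pull i hEc)) h1
      rw [omega_smul, omega_mul β hχc] at h2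
      have h3 := omega_cong hM β hχc (central_blockIdem _) hχ
      rw [omega_blockIdem_mem (Set.mem_singleton β)] at h3
      have hr := omega_ring hM χ hEc hEi
      have h4 := cong_trans hM (cong_symm hM (cong_mul_left hM hr h3)) h2
      rw [mul_one] at h4
      refine cong_trans hM h4 ?_
      refine cong_trans hM (cong_mul hM h3 (cong_refl hM _) (ring_one hM)
        (omega_ring hM β (central_pull i hEc) (fun c => by rw [coeff_pull]; exact hEi _))) ?_
      rw [one_mul, hpull, omega_push_eq β θs hβ hinvC]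
      exact hone
    obtain ⟨θ', hθ'⟩ := exists_under (N := N) χ
    rw [omega_push_eq χ θ' hθ' hEinv, omega_blockIdem] at hχe
    by_cases hmem : θ' ∈ Θ
    · obtain ⟨g, hg⟩ := hmem
      rwa [← hg, constituent_conjIrr] at hθ'
    · rw [if_neg hmem] at hχe
      exact absurd hχe (not_cong_zero_one hM)

end Cfsg.Agent.BlockCharsA.GlaubermanSolvable
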