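import Mathlib
import Cfsg.Agent.BlockCharsA.GlaubermanSolvable
import Cfsg.Agent.Lib.CharTheory.ExtendChar
import Cfsg.Agent.Lib.CharTheory.DegreeIndex
import Cfsg.Agent.Lib.Coprime.Action
import Cfsg.Agent.Lib.Characters.Kernel

/-!
# Characters of degree prime to a coprime solvable complement

For `G = K H` with `K` normal, coprime orders, `H` solvable: they are as many as the classes of
`C_K(H)` times the linear characters of `H`.
-/

set_option linter.style.haveILetI false
set_option linter.unusedSectionVars false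

namespace Cfsg.Agent.BlockCharsA.CoprimeComplement

open Cfsg.Agent.Blocks Cfsg.Agent.Characters Cfsg.Agent.CharTheory
open Cfsg.Agent.CharTheory.ExtendChar Cfsg.Agent.CharTheory.DegreeIndex
open Cfsg.Agent.BlockCharsA.Glauberman Cfsg.Agent.BlockCharsA.GlaubermanSolvable
open scoped Pointwise

universe u

variable {G : Type u} [Group G] (K H : Subgroup G) [hKn : K.Normal]

/-- Conjugation of `H` on `K`. -/
@[instance_reducible]
def conjAct : MulDistribMulAction H K :=
  MulDistribMulAction.compHom K ((MulAut.conjNormal : G →* MulAut K).comp H.subtype)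

/-- The inertia group of a function. -/
def inertia (θ : K → ℂ) : Subgroup G where
  carrier := {g | Clifford.conjBy K g θ = θ}
  one_mem' := Clifford.conjBy_one K θ
  mul_mem' := fun {a b} (ha : _ = θ) (hb : _ = θ) => by
    show Clifford.conjBy K (a * b) θ = θ
    rw [← Clifford.conjBy_conjBy, ha, hb]
  inv_mem' := fun {a} (ha : _ = θ) => by
    show Clifford.conjBy K a⁻¹ θ = θ
    conv_lhs => rw [← ha]
    rw [Clifford.conjBy_conjBy, mul_inv_cancel, Clifford.conjBy_one]

theorem le_inertia {θ : K → ℂ} (hθ : Cfsg.IsClassFunction K θ) : K ≤ inertia K θ :=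
  fun k hk => funext fun n => by
    refine Eq.trans ?_ (hθ n ⟨k, hk⟩)
    rfl

variable [Finite G]

theorem card_invClass (hcop : (Nat.card K).Coprime (Nat.card H))
    (hsolv : Group.IsSolvable H) :
    letI := conjAct K H
    Nat.card {C : ConjClasses K // IsInvClass H C} =
      Nat.card (ConjClasses ↥(K ⊓ Subgroup.centralizer (H : Set G))) := by
  letI := conjAct K H
  have hnorm : H ≤ Subgroup.normalizer (K : Set G) := by
    rw [Subgroup.normalizer_eq_top]
    exact le_top
  set C := K ⊓ Subgroup.centralizer (H : Set G)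
  let i : C →* K := Subgroup.inclusion inf_le_left
  have hi : ∀ c : C, ((i c : K) : G) = (c : G) := fun c => rfl
  have hfixed : ∀ (s : H) (c : C), s • i c = i c := fun s c => Subtype.ext (by
    show (s : G) * (c : G) * (s : G)⁻¹ = (c : G)
    rw [(Subgroup.mem_centralizer_iff.1 (Subgroup.mem_inf.1 c.2).2) s s.2, mul_inv_cancel_right])
  have hsmul : ∀ (s : H) (g g' : K), IsConj g g' → IsConj (s • g) (s • g') := by
    intro s g g' e
    obtain ⟨a, ha⟩ := isConj_iff.1 e
    exact isConj_iff.2 ⟨s • a, by rw [← smul_inv', ← smul_mul', ← smul_mul', ha]⟩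
  have hto : ∀ x : ConjClasses C, IsInvClass H (ConjClasses.map i x) := by
    intro x s g hg
    obtain ⟨c, rfl⟩ := ConjClasses.mk_surjective x
    refine (ConjClasses.mk_eq_mk_iff_isConj.2
      (hsmul s g (i c) (ConjClasses.mk_eq_mk_iff_isConj.1 hg))).trans ?_
    rw [hfixed]
    rfl
  refine (Nat.card_eq_of_bijective (fun x => (⟨ConjClasses.map i x, hto x⟩ :
    {C : ConjClasses K // IsInvClass H C})) ⟨fun x y e => ?_, fun x => ?_⟩).symm
  · obtain ⟨a, rfl⟩ := ConjClasses.mk_surjective x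
    obtain ⟨b, rfl⟩ := ConjClasses.mk_surjective y
    have e' : ConjClasses.mk (i a) = ConjClasses.mk (i b) := congrArg Subtype.val e
    obtain ⟨k, hk⟩ := isConj_iff.1 (ConjClasses.mk_eq_mk_iff_isConj.1 e')
    have hk' : (k : G) * (a : G) * (k : G)⁻¹ = (b : G) := congrArg Subtype.val hk
    obtain ⟨m, hm, hmk⟩ := Coprime.exists_mul_mem_centralizer (A := H) (K := K)
      (M := Subgroup.centralizer {(b : G)}) hnorm hcop.symm (Or.inl hsolv) k.2
      (fun h hh => Subgroup.mem_centralizer_singleton_iff.2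
        ((Subgroup.mem_centralizer_iff.1 (Subgroup.mem_inf.1 b.2).2) h hh))
      (fun y hy => by
        obtain ⟨h, hh, rfl⟩ := hy
        refine Subgroup.mem_centralizer_singleton_iff.2 ?_
        show (k : G) * h * (k : G)⁻¹ * b = b * ((k : G) * h * (k : G)⁻¹)
        rw [← hk']
        have := (Subgroup.mem_centralizer_iff.1 (Subgroup.mem_inf.1 a.2).2) h hh
        calc (k : G) * h * (k : G)⁻¹ * (k * a * (k : G)⁻¹) = k * (h * a) * (k : G)⁻¹ := by group
          _ = k * (a * h) * (k : G)⁻¹ := by rw [this]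
          _ = k * a * (k : G)⁻¹ * (k * h * (k : G)⁻¹) := by group)
    refine ConjClasses.mk_eq_mk_iff_isConj.2 (isConj_iff.2 ⟨⟨m * k, hmk⟩, Subtype.ext ?_⟩)
    show m * k * (a : G) * (m * k)⁻¹ = b
    have hmb := Subgroup.mem_centralizer_singleton_iff.1 (Subgroup.mem_inf.1 hm).2
    calc m * k * (a : G) * (m * k)⁻¹ = m * (k * a * (k : G)⁻¹) * m⁻¹ := by group
      _ = m * b * m⁻¹ := by rw [hk']
      _ = b := by rw [hmb, mul_inv_cancel_right]
  · obtain ⟨g, hg⟩ := ConjClasses.mk_surjective x.1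
    obtain ⟨k, hk, hle⟩ := Coprime.exists_le_conj_smul (A := H) (K := K)
      (M := Subgroup.centralizer {(g : G)} ⊓ (K ⊔ H)) hnorm hcop.symm (Or.inl hsolv) (by
        refine le_antisymm (sup_le le_sup_left inf_le_right) (sup_le le_sup_left fun a ha => ?_)
        have h := x.2 ⟨a, ha⟩ g hg
        rw [← hg] at h
        obtain ⟨k, hk⟩ := isConj_iff.1 (ConjClasses.mk_eq_mk_iff_isConj.1 h)
        have hk' : (k : G) * (a * g * a⁻¹) * (k : G)⁻¹ = g := congrArg Subtype.val hk
        have hmem : (k : G) * a ∈ Subgroup.centralizer {(g : G)} ⊓ (K ⊔ H) :=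
          ⟨Subgroup.mem_centralizer_singleton_iff.2 (by
            calc (k : G) * a * g = (k * (a * g * a⁻¹) * (k : G)⁻¹) * (k * a) := by group
              _ = g * (k * a) := by rw [hk']), Subgroup.mul_mem_sup k.2 ha⟩
        have := Subgroup.mul_mem_sup (S := K)
          (T := Subgroup.centralizer {(g : G)} ⊓ (K ⊔ H)) (inv_mem k.2) hmem
        simpa using this)
    refine ⟨ConjClasses.mk ⟨k * g * k⁻¹, Subgroup.mem_inf.2
      ⟨K.mul_mem (K.mul_mem hk g.2) (inv_mem hk), Subgroup.mem_centralizer_iff.2 fun h hh => ?_⟩⟩,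
      Subtype.ext ?_⟩
    · obtain ⟨y, hy, rfl⟩ := hle hh
      show k * y * k⁻¹ * (k * g * k⁻¹) = k * g * k⁻¹ * (k * y * k⁻¹)
      have := Subgroup.mem_centralizer_singleton_iff.1 (Subgroup.mem_inf.1 hy).1
      calc k * y * k⁻¹ * (k * g * k⁻¹) = k * (y * g) * k⁻¹ := by group
        _ = k * (g * y) * k⁻¹ := by rw [this]
        _ = k * g * k⁻¹ * (k * y * k⁻¹) := by group
    · show ConjClasses.mk (i _) = x.1
      rw [← hg]
      exact (ConjClasses.mk_eq_mk_iff_isConj.2 (isConj_iff.2 ⟨(⟨k, hk⟩ : K), Subtype.ext rfl⟩)).symm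

variable [Fintype K] [Fintype G]

/-- A character of degree prime to the index restricts irreducibly. -/
theorem isIrr_restrict {χ : Cfsg.IrrCharacter G}
    (hχ : (Cfsg.charDegree (χ : G → ℂ)).Coprime K.index) :
    ∃ θ : Cfsg.IrrCharacter K, (∀ g, Clifford.conjBy K g (θ : K → ℂ) = (θ : K → ℂ)) ∧
      ∀ n : K, (χ : G → ℂ) n = (θ : K → ℂ) n := by
  obtain ⟨θ, hθ⟩ := NormalSupport.exists_under (N := K) χ
  obtain ⟨e, he⟩ := classInner_char_nat
    (isCharacter_restrict (H := K) (irr_isCharacter χ)) (irr_isCharacter θ)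
  set T := inertia K (θ : K → ℂ)
  have hKT : K ≤ T := le_inertia K (char_isClassFunction (irr_isCharacter θ))
  have h := Clifford.card_mul_degree K χ.2 θ.2 hθ T (fun _ => Iff.rfl)
  rw [he, ← charDegree_cast, ← charDegree_cast] at h
  set c := Cfsg.charDegree (χ : G → ℂ)
  set t := Cfsg.charDegree (θ : K → ℂ)
  have h' : Nat.card T * c = e * (Nat.card G * t) := by exact_mod_cast h
  rw [← T.card_mul_index] at h'
  have hc : c = e * T.index * t := by
    refine Nat.eq_of_mul_eq_mul_left (Nat.card_pos (α := T)) ?_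
    rw [h']; ring
  have hT1 : T.index = 1 := Nat.eq_one_of_dvd_coprimes hχ
    ⟨e * t, by rw [hc]; ring⟩ (Subgroup.index_dvd_of_le hKT)
  have hinv : ∀ g, Clifford.conjBy K g (θ : K → ℂ) = (θ : K → ℂ) := fun g => by
    have : g ∈ T := by rw [Subgroup.index_eq_one.1 hT1]; trivial
    exact this
  have he0 : e ≠ 0 := fun h0 => hθ (by rw [he, h0, Nat.cast_zero])
  have he1 : e = 1 := Nat.eq_one_of_dvd_coprimes hχ ⟨T.index * t, by rw [hc]; ring⟩
    (ramification_dvd_index K θ.2 hinv χ.2 he he0)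
  refine ⟨θ, hinv, fun n => ?_⟩
  have h2 := congrFun (Clifford.restrict_eq_smul_of_invariant K χ.2 θ.2 hθ hinv) n
  rw [he, he1] at h2
  simpa using h2

/-- An invariant character of a normal Hall subgroup extends. -/
theorem exists_ext (hidx : (Nat.card K).Coprime K.index) (θ : Cfsg.IrrCharacter K)
    (hinv : ∀ g, Clifford.conjBy K g (θ : K → ℂ) = (θ : K → ℂ)) :
    ∃ χ : Cfsg.IrrCharacter G, ∀ n : K, (χ : G → ℂ) n = (θ : K → ℂ) n := by
  have hlin := detChar_isLinear (irr_isCharacter θ)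
  have hd : orderOf (Cfsg.detChar (θ : K → ℂ)) ∣ Nat.card K := by
    obtain ⟨f, hf⟩ := exists_hom hlin.1 hlin.2
    refine orderOf_dvd_of_pow_eq_one (funext fun n => ?_)
    rw [Pi.pow_apply, Pi.one_apply, ← hf, ← Units.val_pow_eq_pow_val, ← map_pow, pow_card_eq_one',
      map_one, Units.val_one]
  obtain ⟨μ, hμ, -⟩ := exists_linear_extension_coprime K hlin
    (fun g n => by
      have h : Cfsg.detChar ((θ : K → ℂ) ∘ (MulAut.conjNormal g : K ≃* K).toMonoidHom) =
          Cfsg.detChar (θ : K → ℂ) ∘ (MulAut.conjNormal g : K ≃* K).toMonoidHom :=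
        detChar_comp _ (irr_isCharacter θ)
      rw [← Clifford.conjBy_eq_comp, hinv g] at h
      refine Eq.trans ?_ (congrFun h n).symm
      exact congrArg _ (Subtype.ext (by simp)))
    (hidx.symm.coprime_dvd_right hd)
  obtain ⟨χ, hχ, hχN⟩ := exists_extension_det K θ.2 hinv (charDegree_cast θ).symm
    (hidx.symm.coprime_dvd_right (char_degree_dvd_card θ)) μ hμ
  exact ⟨⟨χ, hχ⟩, hχN⟩

/-- The characters of degree prime to the complement: classes of the fixed points times linear
characters of the complement. -/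
theorem count (hKH : K ⊔ H = ⊤) (hcop : (Nat.card K).Coprime (Nat.card H))
    (hsolv : Group.IsSolvable H) :
    Nat.card {χ : Cfsg.IrrCharacter G // (Cfsg.charDegree (χ : G → ℂ)).Coprime (Nat.card H)} =
      Nat.card (ConjClasses ↥(K ⊓ Subgroup.centralizer (H : Set G))) * Nat.card (H →* ℂˣ) := by
  classical
  letI := conjAct K H
  have hdisj : K ⊓ H = ⊥ := by
    rw [← Subgroup.card_eq_one]
    exact Nat.eq_one_of_dvd_coprimes hcop (Subgroup.card_dvd_of_le inf_le_left)
      (Subgroup.card_dvd_of_le inf_le_right)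
  have hbij : Function.Bijective ((QuotientGroup.mk' K).comp H.subtype) := by
    constructor
    · intro a b e
      refine Subtype.ext ?_
      have h : (a : G)⁻¹ * b ∈ K ⊓ H :=
        ⟨QuotientGroup.eq.1 e, H.mul_mem (inv_mem a.2) b.2⟩
      rw [hdisj, Subgroup.mem_bot, inv_mul_eq_one] at h
      exact h
    · intro q
      obtain ⟨g, rfl⟩ := QuotientGroup.mk'_surjective K q
      obtain ⟨k, hk, h, hh, rfl⟩ :=
        Subgroup.mem_sup_of_normal_left.1 (hKH.symm ▸ Subgroup.mem_top g : g ∈ K ⊔ H)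
      refine ⟨⟨h, hh⟩, QuotientGroup.eq.2 ?_⟩
      show h⁻¹ * (k * h) ∈ K
      simpa [mul_assoc] using hKn.conj_mem k hk h⁻¹
  let e : H ≃* G ⧸ K := MulEquiv.ofBijective _ hbij
  have hidx : K.index = Nat.card H := by
    rw [Subgroup.index_eq_card, Nat.card_congr e.toEquiv]
  let proj : G →* H := e.symm.toMonoidHom.comp (QuotientGroup.mk' K)
  have hprojH : ∀ h : H, proj (h : G) = h := fun h => e.symm_apply_apply h
  have hprojK : ∀ n : K, proj (n : G) = 1 := fun n => by
    show e.symm (QuotientGroup.mk' K (n : G)) = 1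
    rw [show QuotientGroup.mk' K (n : G) = 1 from (QuotientGroup.eq_one_iff _).2 n.2, map_one]
  -- invariance
  have hinv_iff : ∀ θ : Cfsg.IrrCharacter K,
      IsInv H θ ↔ ∀ g, Clifford.conjBy K g (θ : K → ℂ) = (θ : K → ℂ) := by
    refine fun θ => ⟨fun h g => ?_, fun h s n => ?_⟩
    · have hle : K ⊔ H ≤ inertia K (θ : K → ℂ) :=
        sup_le (le_inertia K (char_isClassFunction (irr_isCharacter θ)))
          fun s hs => funext fun n => (h ⟨s, hs⟩ n)
      exact hle (hKH.symm ▸ Subgroup.mem_top g)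
    · exact congrFun (h (s : G)) n
  choose ext hext using fun θ : {θ : Cfsg.IrrCharacter K // IsInv H θ} =>
    exists_ext K (hidx ▸ hcop) θ.1 ((hinv_iff θ.1).1 θ.2)
  let lin : (H →* ℂˣ) → G → ℂ := fun f g => (f (proj g) : ℂ)
  have hlin : ∀ f, Cfsg.IsCharacter G (lin f) ∧ lin f 1 = 1 := fun f => hom_isLinear (f.comp proj)
  have hlinN : ∀ f (n : K), lin f n = 1 := fun f n => by
    simp only [lin, hprojK, map_one, Units.val_one]
  let mk : {θ : Cfsg.IrrCharacter K // IsInv H θ} × (H →* ℂˣ) → Cfsg.IrrCharacter G := fun x =>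
    ⟨(ext x.1 : G → ℂ) * lin x.2, Basics.isIrr_mul_linear (ext x.1).2 (hlin x.2).1 (hlin x.2).2⟩
  have hmkN : ∀ x (n : K), (mk x : G → ℂ) n = (x.1.1 : K → ℂ) n := fun x n => by
    show (ext x.1 : G → ℂ) n * lin x.2 n = _
    rw [hlinN, mul_one, hext]
  have hdeg : ∀ x, (Cfsg.charDegree (mk x : G → ℂ)).Coprime (Nat.card H) := fun x => by
    refine hcop.coprime_dvd_left ?_
    have h : Cfsg.charDegree (mk x : G → ℂ) = Cfsg.charDegree (x.1.1 : K → ℂ) := by
      unfold Cfsg.charDegree
      rw [← hmkN x 1]; rfl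
    rw [h]
    exact char_degree_dvd_card _
  rw [← card_invClass K H hcop hsolv, ← card_invariant (Nat.card H) K H le_rfl hcop hsolv,
    ← Nat.card_prod]
  refine (Nat.card_eq_of_bijective (fun x => (⟨mk x, hdeg x⟩ : {χ : Cfsg.IrrCharacter G //
    (Cfsg.charDegree (χ : G → ℂ)).Coprime (Nat.card H)})) ⟨fun x y he => ?_, fun χ => ?_⟩).symm
  · have he' : (mk x : G → ℂ) = (mk y : G → ℂ) := congrArg (fun z => (z.1 : G → ℂ)) he
    obtain ⟨θ, f⟩ := x
    obtain ⟨θ', f'⟩ := y
    have hθ : θ = θ' := Subtype.ext (Subtype.ext (funext fun n => by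
      rw [← hmkN (θ, f) n, ← hmkN (θ', f') n, he']))
    subst hθ
    refine Prod.ext rfl (MonoidHom.ext fun h => Units.ext ?_)
    set χ₀ := (ext θ : G → ℂ)
    have hq := Average.quotChar_self K (ext θ).2
      (by
        rw [show (fun n : K => χ₀ n) = (θ.1 : K → ℂ) from funext (hext θ)]
        exact θ.1.2)
    have key : ∀ f : H →* ℂˣ, Average.quotChar K χ₀ (χ₀ * lin f) (h : G) = (f h : ℂ) := by
      intro f
      have h1 := congrFun hq (h : G)
      rw [Average.quotChar_apply] at h1 ⊢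
      have e1 : ∀ n : K, lin f ((n : G) * h) = (f h : ℂ) := fun n => by
        simp only [lin, map_mul, hprojK, hprojH, one_mul]
      simp only [Pi.mul_apply, e1, mul_right_comm _ (f h : ℂ), ← Finset.sum_mul]
      rw [← mul_assoc, h1, one_mul]
    have hk := key f
    rw [show χ₀ * lin f = χ₀ * lin f' from he', key f'] at hk
    exact hk.symm
  · obtain ⟨θ, hθinv, hθ⟩ := isIrr_restrict K (χ := χ.1) (hidx.symm ▸ χ.2)
    set θ' : {θ : Cfsg.IrrCharacter K // IsInv H θ} := ⟨θ, (hinv_iff θ).2 hθinv⟩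
    obtain ⟨lam, hlam, hlam1, hlamN, hmul⟩ :=
      extension_eq_linear_mul K θ.2 (ext θ').2 (hext θ') χ.1.2 hθ
    obtain ⟨F, hF⟩ := exists_hom hlam hlam1
    refine ⟨(θ', F.comp H.subtype), Subtype.ext (Subtype.ext ?_)⟩
    rw [← hmul]
    show (ext θ' : G → ℂ) * lin (F.comp H.subtype) = lam * _
    rw [mul_comm]
    congr 1
    funext g
    show (F ((proj g : H) : G) : ℂ) = lam g
    obtain ⟨k, hk, h, hh, rfl⟩ :=
      Subgroup.mem_sup_of_normal_left.1 (hKH.symm ▸ Subgroup.mem_top g : g ∈ K ⊔ H)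
    rw [← hF, map_mul proj, hprojK ⟨k, hk⟩, one_mul, hprojH ⟨h, hh⟩, map_mul F, Units.val_mul,
      hF k, hlamN ⟨k, hk⟩, one_mul]

end Cfsg.Agent.BlockCharsA.CoprimeComplement
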