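import Mathlib
import Cfsg.Agent.BlockCharsA.CoprimeComplement
import Cfsg.Agent.OddChar.PowTwist
import Cfsg.Agent.Lib.Characters.Galois

/-!
# Canonical extensions to a cyclic coprime group of operators

`Γ = G S` with `G` normal, coprime orders; `C` the fixed points. Values of a canonical extension on
the cosets `G x`, restricted to `C x`.
-/

set_option linter.style.haveILetI false
set_option linter.unusedSectionVars false

namespace Cfsg.Agent.BlockCharsA.CanonicalExt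

open Cfsg.Agent.Characters Cfsg.Agent.CharTheory Cfsg.Agent.CharTheory.ExtendChar
open Cfsg.Agent.BlockCharsA.CoprimeComplement Cfsg.Agent.BlockCharsA.GlaubermanSolvable
open Cfsg.Agent.BlockCharsA.Glauberman
open scoped ComplexConjugate

universe u

/-- A character value unchanged by coprime powers is an integer. -/
theorem exists_int_of_pow_invariant {T : Type u} [Group T] [Finite T] {f : T → ℂ}
    (hf : Cfsg.IsCharacter T f) (g : T)
    (h : ∀ k : ℕ, k.Coprime (Nat.card T) → f (g ^ k) = f g) : ∃ z : ℤ, f g = (z : ℂ) := by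
  have hM : 0 < Nat.card T := Nat.card_pos
  have hint := char_value_isIntegral hf g
  obtain ⟨n, σ, rfl⟩ := hf
  haveI : NeZero (Nat.card T) := ⟨hM.ne'⟩
  have hζ := Complex.isPrimitiveRoot_exp (Nat.card T) hM.ne'
  obtain ⟨P, hP⟩ := exists_poly_values σ g hM pow_card_eq_one' hζ
  obtain ⟨q, hq⟩ := (exists_rat_sum_prod_primitiveRoots hM P).1
  rw [Finset.sum_congr rfl (g := fun _ => σ.character g) (fun μ hμ => by
    obtain ⟨k, _, hk, rfl⟩ := (hζ.isPrimitiveRoot_iff (ξ := μ) (k := Nat.card T)).1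
      ((mem_primitiveRoots hM).1 hμ)
    rw [← hP, h k hk]), Finset.sum_const, nsmul_eq_mul] at hq
  have hc : ((primitiveRoots (Nat.card T) ℂ).card : ℂ) ≠ 0 := by
    exact_mod_cast (Finset.card_pos.2 ⟨_, (mem_primitiveRoots hM).2 hζ⟩).ne'
  have e : σ.character g = ((q / (primitiveRoots (Nat.card T) ℂ).card : ℚ) : ℂ) := by
    rw [Rat.cast_div, Rat.cast_natCast, eq_div_iff hc, ← hq, mul_comm]
  rw [e] at hint ⊢
  obtain ⟨z, hz⟩ := exists_int_of_isIntegral_ratCast hint
  exact ⟨z, by rw [hz]⟩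

variable {Γ : Type u} [Group Γ] [Fintype Γ] (G S C : Subgroup Γ)

/-- `G` is normal. -/
theorem normal_of_conj (hnorm : ∀ s ∈ S, ∀ g ∈ G, s * g * s⁻¹ ∈ G) (htop : G ⊔ S = ⊤) :
    G.Normal := by
  rw [← Subgroup.normalizer_eq_top_iff, eq_top_iff, ← htop]
  refine sup_le Subgroup.le_normalizer fun s hs => Subgroup.mem_normalizer_iff.2 fun g =>
    ⟨hnorm s hs g, fun h => ?_⟩
  have := hnorm s⁻¹ (inv_mem hs) _ h
  simpa [mul_assoc] using this

theorem index_eq [G.Normal] (hcop : (Nat.card G).Coprime (Nat.card S)) (htop : G ⊔ S = ⊤) :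
    G.index = Nat.card S := by
  have hdisj : G ⊓ S = ⊥ := by
    rw [← Subgroup.card_eq_one]
    exact Nat.eq_one_of_dvd_coprimes hcop (Subgroup.card_dvd_of_le inf_le_left)
      (Subgroup.card_dvd_of_le inf_le_right)
  rw [← Subgroup.relIndex_top_right, ← htop, sup_comm, Subgroup.relIndex_sup_right,
    Subgroup.relIndex, Subgroup.subgroupOf_eq_bot.2 (disjoint_iff.2 hdisj), Subgroup.index_bot]

variable [hGn : G.Normal] [Fintype G]

/-- A power map fixing `G` and prime to the complement fixes a canonical extension. -/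
theorem twist {χ : Cfsg.IrrCharacter G} {χh : Cfsg.IrrCharacter Γ}
    (hext : ∀ g : G, (χh : Γ → ℂ) g = (χ : G → ℂ) g) (hidx : (Nat.card G).Coprime G.index)
    (hdet : (Cfsg.detOrder (χh : Γ → ℂ)).Coprime G.index) {k : ℕ}
    (hk1 : k ≡ 1 [MOD Nat.card G]) (hk2 : k.Coprime G.index) (y : Γ) :
    (χh : Γ → ℂ) (y ^ k) = (χh : Γ → ℂ) y := by
  have hkG : k.Coprime (Nat.card G) := by
    rw [Nat.coprime_iff_gcd_eq_one, hk1.gcd_eq, Nat.gcd_one_left]
  have hk : k.Coprime (Nat.card Γ) := by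
    rw [← G.card_mul_index]; exact hkG.mul_right hk2
  set ψ : Γ → ℂ := fun z => (χh : Γ → ℂ) (z ^ k)
  have hψ : Cfsg.IsIrrCharacter Γ ψ := OddChar.PowTwist.isIrr_comp_pow χh.2 hk
  have hc := irr_isCharacter χh
  have hψc := isCharacter_of_isIrr hψ
  have hψN : ∀ n : G, ψ n = (χ : G → ℂ) n := fun n => by
    show (χh : Γ → ℂ) ((n : Γ) ^ k) = _
    rw [← hext]
    refine congrArg _ ?_
    conv_rhs => rw [← pow_one (n : Γ)]
    exact pow_eq_pow_iff_modEq.2 (hk1.of_dvd (Subgroup.orderOf_dvd_natCard _ n.2))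
  have hd : Cfsg.detChar ψ = Cfsg.detChar (χh : Γ → ℂ) ^ k := by
    funext z
    obtain ⟨f, hf⟩ := exists_hom (detChar_isLinear hc).1 (detChar_isLinear hc).2
    let m : Subgroup.zpowers z →* Γ :=
      { toFun := fun w => (w : Γ) ^ k
        map_one' := one_pow k
        map_mul' := fun a b => by
          obtain ⟨i, hi⟩ := a.2
          obtain ⟨j, hj⟩ := b.2
          simp only at hi hj
          show ((a : Γ) * b) ^ k = _
          refine Commute.mul_pow ?_ k
          rw [← hi, ← hj]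
          exact Commute.zpow_zpow_self z i j }
    have h1 := congrFun (detChar_comp (Subgroup.zpowers z).subtype hψc)
      ⟨z, Subgroup.mem_zpowers z⟩
    have h2 := congrFun (detChar_comp m hc) ⟨z, Subgroup.mem_zpowers z⟩
    rw [show ψ ∘ (Subgroup.zpowers z).subtype = (χh : Γ → ℂ) ∘ m from rfl, h2] at h1
    refine Eq.trans (show _ = Cfsg.detChar (χh : Γ → ℂ) (z ^ k) from h1.symm) ?_
    rw [Pi.pow_apply, ← hf, ← hf, map_pow, Units.val_pow_eq_pow_val]
  have hdd : Cfsg.detChar ψ = Cfsg.detChar (χh : Γ → ℂ) :=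
    linear_extension_unique G (detChar_isLinear hc).1 (detChar_isLinear hc).2
      (detChar_isLinear hψc).1 (detChar_isLinear hψc).2
      (fun n => (detChar_restrict G hψc hψN n).trans (detChar_restrict G hc hext n).symm)
      hdet.symm
      (hdet.symm.coprime_dvd_right (by rw [hd]; exact orderOf_pow_dvd k))
  obtain ⟨d, hd0, hd1⟩ := irr_one_pos χ.2
  have hdcop : G.index.Coprime d := by
    refine hidx.symm.coprime_dvd_right ?_
    have := Blocks.char_degree_dvd_card χ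
    have e : Cfsg.charDegree (χ : G → ℂ) = d := by
      exact_mod_cast (Blocks.charDegree_cast χ).trans hd1
    rwa [e] at this
  have hu := (existsUnique_extension_det G χ.2 hd1 hdcop χh.2 hext (detChar_isLinear hc).1
    (detChar_isLinear hc).2 (fun n => detChar_restrict G hc hext n)).unique
      ⟨hψ, hψN, hdd⟩ ⟨χh.2, hext, rfl⟩
  exact congrFun hu y

/-- A canonical extension of an invariant character exists. -/
theorem exists_canonical (hcop : (Nat.card G).Coprime G.index) (htop : G ⊔ S = ⊤)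
    (χ : Cfsg.IrrCharacter G)
    (hinv : ∀ s ∈ S, ∀ g g' : G, (g' : Γ) = s * g * s⁻¹ → (χ : G → ℂ) g' = (χ : G → ℂ) g) :
    ∃ χh : Cfsg.IrrCharacter Γ, (∀ g : G, (χh : Γ → ℂ) g = (χ : G → ℂ) g) ∧
      (Cfsg.detOrder (χh : Γ → ℂ)).Coprime G.index := by
  have hall : ∀ g, Clifford.conjBy G g (χ : G → ℂ) = (χ : G → ℂ) := fun g => by
    have hle : G ⊔ S ≤ inertia G (χ : G → ℂ) :=
      sup_le (le_inertia G (char_isClassFunction (irr_isCharacter χ)))
        fun s hs => funext fun n => hinv s hs n _ rfl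
    exact hle (htop.symm ▸ Subgroup.mem_top g)
  have hlin := detChar_isLinear (irr_isCharacter χ)
  have hd : orderOf (Cfsg.detChar (χ : G → ℂ)) ∣ Nat.card G := by
    obtain ⟨f, hf⟩ := exists_hom hlin.1 hlin.2
    refine orderOf_dvd_of_pow_eq_one (funext fun n => ?_)
    rw [Pi.pow_apply, Pi.one_apply, ← hf, ← Units.val_pow_eq_pow_val, ← map_pow, pow_card_eq_one',
      map_one, Units.val_one]
  have hlinv : ∀ (g : Γ) (n : G), Cfsg.detChar (χ : G → ℂ) ⟨g * n * g⁻¹, hGn.conj_mem n n.2 g⟩ =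
      Cfsg.detChar (χ : G → ℂ) n := fun g n => by
    have h : Cfsg.detChar ((χ : G → ℂ) ∘ (MulAut.conjNormal g : G ≃* G).toMonoidHom) =
        Cfsg.detChar (χ : G → ℂ) ∘ (MulAut.conjNormal g : G ≃* G).toMonoidHom :=
      detChar_comp _ (irr_isCharacter χ)
    rw [← Clifford.conjBy_eq_comp, hall g] at h
    refine Eq.trans ?_ (congrFun h n).symm
    exact congrArg _ (Subtype.ext (by simp))
  obtain ⟨μ, hμ, hμo⟩ := exists_linear_extension_coprime G hlin hlinv
    (hcop.symm.coprime_dvd_right hd)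
  have hidd := hcop.symm.coprime_dvd_right (Blocks.char_degree_dvd_card χ)
  obtain ⟨η, hη, hηN⟩ := exists_extension_det G χ.2 hall (Blocks.charDegree_cast χ).symm hidd μ hμ
  obtain ⟨χh, hχh, -⟩ := existsUnique_extension_det G χ.2 (Blocks.charDegree_cast χ).symm hidd hη
    hηN (hom_isLinear μ).1 (hom_isLinear μ).2 hμ
  refine ⟨⟨χh, hχh.1⟩, hχh.2.1, ?_⟩
  show (orderOf (Cfsg.detChar χh)).Coprime G.index
  rw [hχh.2.2, hμo]
  exact hcop.coprime_dvd_left hd

variable [Fintype C]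

/-- The values on `C x`. -/
def slice (f : Γ → ℂ) (x : Γ) : C → ℂ := fun c => f ((c : Γ) * x)

/-- The multiplicities of `β` in the slices, as a function on `S`. -/
noncomputable def mult (f : Γ → ℂ) (β : C → ℂ) : S → ℂ :=
  fun x => Cfsg.classInner (slice C f x) β

/-- Averaging over a coset reduces to the fixed points. -/
theorem sum_coset {x : Γ} (hx : G ⊓ Subgroup.centralizer {x} = C) {e : ℕ}
    (heG : ∀ g ∈ G, g ^ e = 1) (hex : x ^ e = x) {F : Γ → ℂ} (hF : Cfsg.IsClassFunction Γ F) :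
    (Nat.card C : ℂ) * ∑ g : G, F (g * x) = (Nat.card G : ℂ) * ∑ c : C, F (c * x) := by
  classical
  have hCG : C ≤ G := hx ▸ inf_le_left
  have hCx : ∀ c : C, (c : Γ) * x = x * c := fun c =>
    Subgroup.mem_centralizer_singleton_iff.1 (hx ▸ c.2 : (c : Γ) ∈ G ⊓ _).2
  let Φ : G × C → G := fun p => ⟨(p.1 : Γ) * p.2 * (x * (p.1 : Γ)⁻¹ * x⁻¹),
    G.mul_mem (G.mul_mem p.1.2 (hCG p.2.2)) (hGn.conj_mem _ (inv_mem p.1.2) x)⟩
  have hΦ : ∀ p, (Φ p : Γ) * x = p.1 * (p.2 * x) * (p.1 : Γ)⁻¹ := fun p => by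
    show _ * _ * _ * _ = _
    group
  have hfib : ∀ p, (Finset.univ.filter fun q => Φ q = Φ p).card = Nat.card C := by
    intro p
    rw [Nat.card_eq_fintype_card, ← Finset.card_univ]
    refine (Finset.card_bij
      (fun (z : C) _ => ((p.1 * ⟨z, hCG z.2⟩⁻¹, z * p.2 * z⁻¹) : G × C)) ?_ ?_ ?_).symm
    · intro z _
      refine Finset.mem_filter.2 ⟨Finset.mem_univ _, Subtype.ext (mul_right_cancel (b := x) ?_)⟩
      rw [hΦ, hΦ]
      show (p.1 : Γ) * (z : Γ)⁻¹ * (z * p.2 * (z : Γ)⁻¹ * x) * ((p.1 : Γ) * (z : Γ)⁻¹)⁻¹ = _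
      have h1 : (z : Γ)⁻¹ * x = x * (z : Γ)⁻¹ := (hCx z⁻¹)
      calc (p.1 : Γ) * (z : Γ)⁻¹ * (z * p.2 * (z : Γ)⁻¹ * x) * ((p.1 : Γ) * (z : Γ)⁻¹)⁻¹
          = p.1 * p.2 * ((z : Γ)⁻¹ * x) * z * (p.1 : Γ)⁻¹ := by group
        _ = _ := by rw [h1]; group
    · intro a _ b _ h
      have := congrArg (fun q : G × C => (q.1 : Γ)) h
      simpa using this
    · intro q hq
      have h := congrArg (fun g : G => (g : Γ) * x) (Finset.mem_filter.1 hq).2
      rw [hΦ, hΦ] at h
      have hz : ((q.1 : Γ)⁻¹ * p.1) * (p.2 * x) * ((q.1 : Γ)⁻¹ * p.1)⁻¹ = q.2 * x := by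
        calc _ = (q.1 : Γ)⁻¹ * ((p.1 : Γ) * (p.2 * x) * (p.1 : Γ)⁻¹) * q.1 := by group
          _ = _ := by rw [← h]; group
      have hpow : ∀ c : C, ((c : Γ) * x) ^ e = x := fun c => by
        rw [Commute.mul_pow (hCx c), heG c (hCG c.2), one_mul, hex]
      have hzx := congrArg (· ^ e) hz
      rw [conj_pow, hpow, hpow] at hzx
      set z := (q.1 : Γ)⁻¹ * p.1 with hzdef
      have hzx' : z * x = x * z := mul_inv_eq_iff_eq_mul.1 hzx
      have hzC : z ∈ C := hx ▸ Subgroup.mem_inf.2 ⟨G.mul_mem (inv_mem q.1.2) p.1.2,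
        Subgroup.mem_centralizer_singleton_iff.2 hzx'⟩
      refine ⟨⟨z, hzC⟩, Finset.mem_univ _, Prod.ext (Subtype.ext ?_) (Subtype.ext ?_)⟩
      · show (p.1 : Γ) * z⁻¹ = q.1
        rw [hzdef]; group
      · show z * p.2 * z⁻¹ = q.2
        refine mul_right_cancel (b := x) ?_
        rw [← hz]
        have h1 : z⁻¹ * x = x * z⁻¹ := hCx ⟨z, hzC⟩⁻¹
        calc z * p.2 * z⁻¹ * x = z * p.2 * (z⁻¹ * x) := by group
          _ = _ := by rw [h1]; group
  have hcard : (Finset.univ.image Φ) = Finset.univ := by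
    refine Finset.eq_univ_of_card _ ?_
    have h := Finset.card_eq_sum_card_image Φ (Finset.univ : Finset (G × C))
    rw [Finset.sum_congr rfl (g := fun _ => Nat.card C) (fun b hb => by
      obtain ⟨p, -, rfl⟩ := Finset.mem_image.1 hb
      exact hfib p), Finset.sum_const, smul_eq_mul, Finset.card_univ, Fintype.card_prod,
      ← Nat.card_eq_fintype_card, ← Nat.card_eq_fintype_card] at h
    rw [← Nat.card_eq_fintype_card]
    exact (Nat.eq_of_mul_eq_mul_right Nat.card_pos h).symm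
  have h1 : ∑ p : G × C, F ((Φ p : Γ) * x) = (Nat.card C : ℂ) * ∑ g : G, F (g * x) := by
    rw [← Finset.sum_fiberwise Finset.univ Φ, Finset.mul_sum]
    refine Finset.sum_congr rfl fun g _ => ?_
    obtain ⟨p, -, rfl⟩ := Finset.mem_image.1 (hcard ▸ Finset.mem_univ g)
    rw [Finset.sum_congr rfl (g := fun _ => F ((Φ p : Γ) * x))
      (fun q hq => by rw [(Finset.mem_filter.1 hq).2]), Finset.sum_const, hfib, nsmul_eq_mul]
  rw [← h1, Fintype.sum_prod_type]
  simp only [hΦ, hF _ _]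
  rw [Finset.sum_const, Finset.card_univ, nsmul_eq_mul, ← Nat.card_eq_fintype_card]

theorem exists_exp (hcop : (Nat.card G).Coprime (Nat.card S)) :
    ∃ e : ℕ, (∀ g ∈ G, g ^ e = 1) ∧ ∀ x ∈ S, x ^ e = x := by
  obtain ⟨e, he0, he1⟩ := Nat.chineseRemainder hcop 0 1
  refine ⟨e, fun g hg => ?_, fun x hx => ?_⟩
  · rw [← pow_zero g]
    exact pow_eq_pow_iff_modEq.2 (he0.of_dvd (Subgroup.orderOf_dvd_natCard G hg))
  · conv_rhs => rw [← pow_one x]
    exact pow_eq_pow_iff_modEq.2 (he1.of_dvd (Subgroup.orderOf_dvd_natCard S hx))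

variable (hcop : (Nat.card G).Coprime (Nat.card S))
include hcop

theorem slice_inner {χh χh' : Γ → ℂ} (hc : Cfsg.IsCharacter Γ χh) (hc' : Cfsg.IsCharacter Γ χh')
    {x : Γ} (hxS : x ∈ S) (hx : G ⊓ Subgroup.centralizer {x} = C) :
    Cfsg.classInner (slice C χh' x) (slice C χh x) = Average.quotChar G χh χh' x := by
  obtain ⟨e, heG, heS⟩ := exists_exp G S hcop
  have h := sum_coset G C hx heG (heS x hxS) (F := fun y => χh' y * conj (χh y)) (fun a b => by
    show χh' _ * conj (χh _) = _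
    rw [char_isClassFunction hc' a b, char_isClassFunction hc a b])
  rw [classInner_def, Average.quotChar_apply]
  have hG : (Nat.card G : ℂ) ≠ 0 := natCard_ne_zero
  have hC : (Nat.card C : ℂ) ≠ 0 := natCard_ne_zero
  unfold slice
  field_simp
  linear_combination -h

theorem slice_norm {χ : Cfsg.IrrCharacter G} {χh : Cfsg.IrrCharacter Γ}
    (hext : ∀ g : G, (χh : Γ → ℂ) g = (χ : G → ℂ) g) {x : Γ} (hxS : x ∈ S)
    (hx : G ⊓ Subgroup.centralizer {x} = C) :
    Cfsg.classInner (slice C (χh : Γ → ℂ) x) (slice C (χh : Γ → ℂ) x) = 1 := by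
  rw [slice_inner G S C hcop (irr_isCharacter χh) (irr_isCharacter χh) hxS hx,
    Average.quotChar_self G χh.2]
  rw [show (fun n : G => (χh : Γ → ℂ) n) = (χ : G → ℂ) from funext hext]
  exact χ.2

theorem slice_orth {χ χ' : Cfsg.IrrCharacter G} (hne : χ' ≠ χ) {χh χh' : Cfsg.IrrCharacter Γ}
    (hext : ∀ g : G, (χh : Γ → ℂ) g = (χ : G → ℂ) g)
    (hext' : ∀ g : G, (χh' : Γ → ℂ) g = (χ' : G → ℂ) g) {x : Γ} (hxS : x ∈ S)
    (hx : G ⊓ Subgroup.centralizer {x} = C) :
    Cfsg.classInner (slice C (χh' : Γ → ℂ) x) (slice C (χh : Γ → ℂ) x) = 0 := by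
  rw [slice_inner G S C hcop (irr_isCharacter χh) (irr_isCharacter χh') hxS hx,
    Basics.char_eq_zero_of_one (Average.isCharacter_quotChar G (irr_isCharacter χh)
      (irr_isCharacter χh')) ?_, Pi.zero_apply]
  rw [Average.quotChar_one, show (fun n : G => (χh : Γ → ℂ) n) = (χ : G → ℂ) from funext hext,
    show (fun n : G => (χh' : Γ → ℂ) n) = (χ' : G → ℂ) from funext hext']
  exact classInner_isIrr_ne χ'.2 χ.2 fun h => hne (Subtype.ext h)

omit hcop in
theorem slice_classFun {f : Γ → ℂ} (hf : Cfsg.IsClassFunction Γ f) {x : Γ}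
    (hx : ∀ c : C, Commute (c : Γ) x) : Cfsg.IsClassFunction C (slice C f x) := fun a b => by
  show f (((b * a * b⁻¹ : C) : Γ) * x) = f ((a : Γ) * x)
  rw [← hf ((a : Γ) * x) b]
  congr 1
  have : (b : Γ)⁻¹ * x = x * (b : Γ)⁻¹ := (hx b).inv_left.eq
  calc ((b * a * b⁻¹ : C) : Γ) * x = b * a * ((b : Γ)⁻¹ * x) := by push_cast; group
    _ = _ := by rw [this]; group

omit hcop in
/-- The multiplicities form a character of `S`. -/
theorem mult_isCharacter (hcomm : ∀ (c : C) (s : S), Commute (c : Γ) s) {f : Γ → ℂ}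
    (hf : Cfsg.IsCharacter Γ f) (β : Cfsg.IrrCharacter C) :
    Cfsg.IsCharacter S (mult S C f (β : C → ℂ)) := by
  classical
  haveI := Fintype.ofFinite S
  let N : Subgroup (C × S) := (⊤ : Subgroup C).prod ⊥
  haveI := Fintype.ofFinite N
  have h := Average.isCharacter_avg N (isCharacter_mul
    (isCharacter_comp (C.subtype.noncommCoprod S.subtype hcomm) hf)
    (Basics.isCharacter_conj (isCharacter_comp (MonoidHom.fst C S) (irr_isCharacter β))))
  have h2 := isCharacter_comp (MonoidHom.inr C S) h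
  let e : C ≃ N :=
    { toFun := fun c => ⟨(c, 1), Subgroup.mem_prod.2 ⟨trivial, rfl⟩⟩
      invFun := fun n => (n : C × S).1
      left_inv := fun c => rfl
      right_inv := fun n => Subtype.ext (Prod.ext rfl (Subgroup.mem_prod.1 n.2).2.symm) }
  convert h2 using 1
  funext x
  simp only [mult, classInner_def, slice, Function.comp_apply, Average.avg]
  rw [show Nat.card N = Nat.card C from (Nat.card_congr e).symm]
  congr 1
  exact Fintype.sum_equiv e _ _ fun c => by
    simp [e]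
    exact Or.inl rfl

omit hcop in
theorem sum_mult_sq [Fintype (Cfsg.IrrCharacter C)] {f : Γ → ℂ} (hf : Cfsg.IsClassFunction Γ f)
    {x : S} (hx : ∀ c : C, Commute (c : Γ) x) :
    ∑ β : Cfsg.IrrCharacter C, mult S C f (β : C → ℂ) x * conj (mult S C f (β : C → ℂ) x) =
      Cfsg.classInner (slice C f x) (slice C f x) := by
  rw [classInner_eq_sum _ (slice_classFun C hf hx)]
  exact Finset.sum_congr rfl fun β _ => by
    rw [classInner_conj_symm (slice C f x) (β : C → ℂ)]; rfl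

/-- Generators give the same slice. -/
theorem slice_pow (htop : G ⊔ S = ⊤) {χ : Cfsg.IrrCharacter G} {χh : Cfsg.IrrCharacter Γ}
    (hext : ∀ g : G, (χh : Γ → ℂ) g = (χ : G → ℂ) g)
    (hdet : (Cfsg.detOrder (χh : Γ → ℂ)).Coprime (Nat.card S)) (hCG : C ≤ G) {x : Γ}
    (hxS : x ∈ S) (hx : ∀ c : C, Commute (c : Γ) x) {m : ℕ} (hm : m.Coprime (Nat.card S)) :
    slice C (χh : Γ → ℂ) (x ^ m) = slice C (χh : Γ → ℂ) x := by
  have hidx := index_eq G S hcop htop
  obtain ⟨k, hk1, hk2⟩ := Nat.chineseRemainder hcop 1 m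
  have hkS : k.Coprime G.index := by
    rw [hidx, Nat.coprime_iff_gcd_eq_one, hk2.gcd_eq]; exact hm
  funext c
  show (χh : Γ → ℂ) (c * x ^ m) = (χh : Γ → ℂ) (c * x)
  rw [← twist G hext (hidx ▸ hcop) (hidx ▸ hdet) hk1 hkS ((c : Γ) * x), (hx c).mul_pow]
  refine congrArg _ (congrArg₂ (· * ·) ?_ ?_)
  · conv_lhs => rw [← pow_one (c : Γ)]
    exact pow_eq_pow_iff_modEq.2 (hk1.symm.of_dvd (Subgroup.orderOf_dvd_natCard G (hCG c.2)))
  · exact pow_eq_pow_iff_modEq.2 (hk2.symm.of_dvd (Subgroup.orderOf_dvd_natCard S hxS))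

/-- A canonical extension is one signed irreducible character on `C s`. -/
theorem exists_signed (htop : G ⊔ S = ⊤) {χ : Cfsg.IrrCharacter G} {χh : Cfsg.IrrCharacter Γ}
    (hext : ∀ g : G, (χh : Γ → ℂ) g = (χ : G → ℂ) g)
    (hdet : (Cfsg.detOrder (χh : Γ → ℂ)).Coprime (Nat.card S))
    (hcomm : ∀ (c : C) (s : S), Commute (c : Γ) s) {s : Γ} (hs : s ∈ S)
    (hsx : G ⊓ Subgroup.centralizer {s} = C) :
    ∃ (β : Cfsg.IrrCharacter C) (ε : ℤ), (ε = 1 ∨ ε = -1) ∧
      slice C (χh : Γ → ℂ) s = fun c => (ε : ℂ) * (β : C → ℂ) c := by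
  classical
  haveI := Fintype.ofFinite (Cfsg.IrrCharacter C)
  have hCG : C ≤ G := hsx ▸ inf_le_left
  have hcf := char_isClassFunction (irr_isCharacter χh)
  have hx : ∀ c : C, Commute (c : Γ) s := fun c => hcomm c ⟨s, hs⟩
  have hint : ∀ β : Cfsg.IrrCharacter C,
      ∃ z : ℤ, Cfsg.classInner (slice C (χh : Γ → ℂ) s) (β : C → ℂ) = (z : ℂ) := fun β =>
    exists_int_of_pow_invariant (mult_isCharacter S C hcomm (irr_isCharacter χh) β) ⟨s, hs⟩
      (fun m hm => by
        show Cfsg.classInner (slice C (χh : Γ → ℂ) (s ^ m)) _ = _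
        rw [slice_pow G S C hcop htop hext hdet hCG hs hx hm]; rfl)
  choose z hz using hint
  have hsum : ∑ β : Cfsg.IrrCharacter C, z β ^ 2 = 1 := by
    have h := (sum_mult_sq S C hcf (x := ⟨s, hs⟩) hx).trans (slice_norm G S C hcop hext hs hsx)
    simp only [mult, hz, map_intCast] at h
    have h' : ((∑ β : Cfsg.IrrCharacter C, z β * z β : ℤ) : ℂ) = ((1 : ℤ) : ℂ) := by
      push_cast; exact h
    simpa [sq] using Int.cast_injective h'
  obtain ⟨β, hβ⟩ : ∃ β, z β ≠ 0 := by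
    by_contra hno
    push Not at hno
    simp [hno] at hsum
  rw [← Finset.add_sum_erase _ _ (Finset.mem_univ β)] at hsum
  have h1 : 1 ≤ z β ^ 2 := Int.one_le_abs (pow_ne_zero 2 hβ) |>.trans (by rw [abs_sq])
  have h2 : 0 ≤ ∑ γ ∈ Finset.univ.erase β, z γ ^ 2 := Finset.sum_nonneg fun γ _ => sq_nonneg _
  have hrest : ∀ γ, γ ≠ β → z γ = 0 := fun γ hγ =>
    pow_eq_zero_iff (n := 2) (by norm_num) |>.1
      ((Finset.sum_eq_zero_iff_of_nonneg fun γ _ => sq_nonneg (z γ)).1 (by omega) γ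
        (Finset.mem_erase.2 ⟨hγ, Finset.mem_univ _⟩))
  refine ⟨β, z β, sq_eq_one_iff.1 (by omega), ?_⟩
  conv_lhs => rw [classFun_eq_sum (slice_classFun C hcf hx)]
  rw [Fintype.sum_eq_single β fun γ hγ => by rw [hz, hrest γ hγ, Int.cast_zero, zero_smul], hz]
  rfl

omit hcop in
theorem signed_unique {β β' : Cfsg.IrrCharacter C} {ε ε' : ℤ} (hε : ε = 1 ∨ ε = -1)
    (h : ∀ c : C, (ε : ℂ) * (β : C → ℂ) c = (ε' : ℂ) * (β' : C → ℂ) c) : β = β' ∧ ε = ε' := by
  have hf : (ε : ℂ) • (β : C → ℂ) = (ε' : ℂ) • (β' : C → ℂ) := funext h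
  have h1 := congrArg (fun f => Cfsg.classInner f (β : C → ℂ)) hf
  simp only [classInner_smul_left, classInner_isIrr_self β.2, mul_one] at h1
  by_cases hb : β = β'
  · subst hb
    rw [classInner_isIrr_self β.2, mul_one] at h1
    exact ⟨rfl, Int.cast_injective h1⟩
  · rw [classInner_isIrr_ne β'.2 β.2 fun e => hb (Subtype.ext e.symm), mul_zero] at h1
    rcases hε with rfl | rfl <;> norm_num at h1

omit hcop in
/-- `pow` form of being a generator. -/
theorem generator_pow {s t : Γ} (hs : Subgroup.zpowers s = S) (ht : Subgroup.zpowers t = S) :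
    ∃ m : ℕ, m.Coprime (Nat.card S) ∧ s ^ m = t := by
  obtain ⟨m, hm⟩ := (isOfFinOrder_of_finite s).mem_powers_iff_mem_zpowers.2
    (hs.symm ▸ ht ▸ Subgroup.mem_zpowers t)
  refine ⟨m, ?_, hm⟩
  have e1 : orderOf s = Nat.card S := by rw [← hs, Nat.card_zpowers]
  have e2 : orderOf t = Nat.card S := by rw [← ht, Nat.card_zpowers]
  simp only at hm
  rw [← hm, orderOf_pow, e1, Nat.div_eq_self] at e2
  rw [Nat.coprime_comm, Nat.coprime_iff_gcd_eq_one]
  exact e2.resolve_left Nat.card_pos.ne'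

omit hcop in
theorem centralizer_generator {s : Γ} (hs : Subgroup.zpowers s = S) :
    Subgroup.centralizer ({s} : Set Γ) = Subgroup.centralizer (S : Set Γ) := by
  refine le_antisymm (fun t ht => Subgroup.mem_centralizer_iff.2 fun x hx => ?_)
    (Subgroup.centralizer_le (Set.singleton_subset_iff.2 (hs ▸ Subgroup.mem_zpowers s)))
  rw [SetLike.mem_coe, ← hs, Subgroup.mem_zpowers_iff] at hx
  obtain ⟨i, rfl⟩ := hx
  have h : Commute t s := Subgroup.mem_centralizer_singleton_iff.1 ht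
  exact (h.zpow_right i).eq.symm

end Cfsg.Agent.BlockCharsA.CanonicalExt
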