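import Mathlib
import Cfsg.Agent.BlockCharsA.CanonicalExt
import Cfsg.Agent.Lib.Characters.Kernel

/-!
# Characters of a cyclic group of nearly constant multiplicities
-/

set_option linter.style.haveILetI false
set_option linter.unusedSectionVars false

namespace Cfsg.Agent.BlockCharsA.CanonicalExtFpf

open Cfsg.Agent.Characters Cfsg.Agent.CharTheory
open scoped ComplexConjugate

universe u

/-- If `N ∑ a² - (∑ a)² ≤ N - 1` and `a` is not constant, all values agree but one, off by one. -/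
theorem near_constant {ι : Type*} [Fintype ι] [DecidableEq ι] (a : ι → ℤ) (ha : ∀ i, 0 ≤ a i)
    (hne : ∃ i j, a i ≠ a j)
    (h : (Fintype.card ι : ℤ) * ∑ i, a i ^ 2 - (∑ i, a i) ^ 2 ≤ (Fintype.card ι : ℤ) - 1) :
    (Fintype.card ι : ℤ) * ∑ i, a i ^ 2 - (∑ i, a i) ^ 2 = (Fintype.card ι : ℤ) - 1 ∧
      ∃ (i₀ : ι) (c δ : ℤ), (δ = 1 ∨ δ = -1) ∧ 0 ≤ c ∧ ∀ i, a i = c + if i = i₀ then δ else 0 := by
  obtain ⟨i, j, hij⟩ := hne
  obtain ⟨k, -, hk⟩ := Finset.exists_min_image Finset.univ a ⟨i, Finset.mem_univ i⟩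
  have hb0 : ∀ x, 0 ≤ a x - a k := fun x => sub_nonneg.2 (hk x (Finset.mem_univ x))
  let B := Finset.univ.filter fun x => a x - a k ≠ 0
  have hB : ∀ x, x ∈ B ↔ a x - a k ≠ 0 := fun x => by simp [B]
  have e1 : ∑ x ∈ B, (a x - a k) = ∑ x, a x - (Fintype.card ι : ℤ) * a k := by
    rw [Finset.sum_subset (Finset.subset_univ B) fun x _ hx => not_not.1 (mt (hB x).2 hx),
      Finset.sum_sub_distrib, Finset.sum_const, Finset.card_univ, nsmul_eq_mul]
  have e2 : ∑ x ∈ B, (a x - a k) ^ 2 =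
      ∑ x, a x ^ 2 - 2 * a k * ∑ x, a x + (Fintype.card ι : ℤ) * a k ^ 2 := by
    rw [Finset.sum_subset (Finset.subset_univ B) fun x _ hx => by
      rw [not_not.1 (mt (hB x).2 hx)]; norm_num]
    simp only [sub_sq, Finset.sum_add_distrib, Finset.sum_sub_distrib, Finset.sum_const,
      Finset.card_univ, nsmul_eq_mul, Finset.mul_sum]
    congr 1
    congr 1
    exact Finset.sum_congr rfl fun x _ => by ring
  have hcs : (∑ x ∈ B, (a x - a k)) ^ 2 ≤ (B.card : ℤ) * ∑ x ∈ B, (a x - a k) ^ 2 :=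
    sq_sum_le_card_mul_sum_sq
  have hl1 : (1 : ℤ) ≤ B.card := by
    refine Int.toNat_le.1 ?_ |>.trans le_rfl
    refine Finset.card_pos.2 ?_
    by_contra hno
    rw [Finset.not_nonempty_iff_eq_empty] at hno
    have hx : ∀ x, a x = a k := fun x => sub_eq_zero.1
      (not_not.1 (mt (hB x).2 (hno ▸ Finset.notMem_empty x)))
    exact hij ((hx i).trans (hx j).symm)
  have hlN : (B.card : ℤ) + 1 ≤ Fintype.card ι := by
    have h1 : B.card < Fintype.card ι := Finset.card_lt_univ_of_notMem (x := k) (by simp [B])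
    exact_mod_cast h1
  have hsq : ∀ x ∈ B, 1 ≤ (a x - a k) ^ 2 := fun x hx => by
    have := hb0 x
    have := (hB x).1 hx
    nlinarith [show (1 : ℤ) ≤ a x - a k by omega]
  have hge : (B.card : ℤ) ≤ ∑ x ∈ B, (a x - a k) ^ 2 := by
    simpa using Finset.sum_le_sum hsq
  have hD0 : (Fintype.card ι : ℤ) * ∑ i, a i ^ 2 - (∑ i, a i) ^ 2 =
      (Fintype.card ι : ℤ) * ∑ x ∈ B, (a x - a k) ^ 2 - (∑ x ∈ B, (a x - a k)) ^ 2 := by
    rw [e1, e2]; ring
  have hone : ∀ x ∈ B, a x - a k = 1 := by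
    intro x hx
    by_contra hx1
    have h4 : (4 : ℤ) ≤ (a x - a k) ^ 2 := by
      have := hb0 x
      have := (hB x).1 hx
      nlinarith [show (2 : ℤ) ≤ a x - a k by omega]
    have h3 : (B.card : ℤ) + 3 ≤ ∑ y ∈ B, (a y - a k) ^ 2 := by
      have h5 : ((B.erase x).card : ℤ) ≤ ∑ y ∈ B.erase x, (a y - a k) ^ 2 := by
        simpa using Finset.sum_le_sum fun y hy => hsq y (Finset.mem_of_mem_erase hy)
      rw [← Finset.add_sum_erase _ _ hx, ← Finset.card_erase_add_one hx]
      push_cast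
      linarith
    nlinarith [mul_nonneg (sub_nonneg.2 hl1) (sub_nonneg.2 hlN),
      mul_le_mul_of_nonneg_left h3 (by omega : (0 : ℤ) ≤ Fintype.card ι - B.card)]
  have s1 : ∑ x ∈ B, (a x - a k) = B.card := by
    rw [Finset.sum_congr rfl hone]; simp
  have s2 : ∑ x ∈ B, (a x - a k) ^ 2 = B.card := by
    rw [Finset.sum_congr rfl fun x hx => by rw [hone x hx, one_pow]]; simp
  have hprod := mul_nonneg (sub_nonneg.2 hl1) (sub_nonneg.2 hlN)
  have hD : (Fintype.card ι : ℤ) * ∑ i, a i ^ 2 - (∑ i, a i) ^ 2 =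
      (Fintype.card ι : ℤ) * B.card - (B.card : ℤ) ^ 2 := by rw [hD0, s1, s2]
  have hzero : ((B.card : ℤ) - 1) * ((Fintype.card ι : ℤ) - ((B.card : ℤ) + 1)) = 0 :=
    le_antisymm (by nlinarith) hprod
  refine ⟨by linear_combination hD + hzero, ?_⟩
  rcases mul_eq_zero.1 hzero with h0 | h0
  · obtain ⟨i₀, hi₀⟩ := Finset.card_eq_one.1 (show B.card = 1 by omega)
    refine ⟨i₀, a k, 1, Or.inl rfl, ha k, fun x => ?_⟩
    split_ifs with hx
    · have := hone x (by rw [hi₀, hx]; exact Finset.mem_singleton_self _); omega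
    · have : x ∉ B := by rw [hi₀]; simpa using hx
      have := not_not.1 (mt (hB x).2 this); omega
  · have hc : Bᶜ.card = 1 := by rw [Finset.card_compl]; omega
    obtain ⟨i₀, hi₀⟩ := Finset.card_eq_one.1 hc
    refine ⟨i₀, a k + 1, -1, Or.inr rfl, by have := ha k; omega, fun x => ?_⟩
    split_ifs with hx
    · have : x ∈ Bᶜ := by rw [hi₀, hx]; exact Finset.mem_singleton_self _
      have := not_not.1 (mt (hB x).2 (Finset.mem_compl.1 this)); omega
    · have : x ∈ B := by
        by_contra hxB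
        exact hx (Finset.mem_singleton.1 (hi₀ ▸ Finset.mem_compl.2 hxB))
      have := hone x this; omega

variable {T : Type u} [Group T] [Fintype T]

/-- A character of an abelian group, not vanishing off `1` and of norm at most one there, is a
multiple of the regular one and a signed linear character. -/
theorem eq_reg_add_linear (hcomm : ∀ a b : T, a * b = b * a) {h : T → ℂ}
    (hh : Cfsg.IsCharacter T h) (hle : ∀ x : T, x ≠ 1 → Complex.normSq (h x) ≤ 1)
    (hne : ∃ x : T, x ≠ 1 ∧ h x ≠ 0) :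
    (∀ x : T, x ≠ 1 → Complex.normSq (h x) = 1) ∧
      ∃ (lam : Cfsg.IrrCharacter T) (c : ℕ) (δ : ℤ), (δ = 1 ∨ δ = -1) ∧
        h 1 = (c : ℂ) * Nat.card T + (δ : ℂ) ∧
        ∀ x : T, x ≠ 1 → h x = (δ : ℂ) * (lam : T → ℂ) x := by
  classical
  haveI := Fintype.ofFinite (Cfsg.IrrCharacter T)
  obtain ⟨n, hn⟩ := char_eq_sum_nat hh
  have hlam : ∀ l : Cfsg.IrrCharacter T, (l : T → ℂ) 1 = 1 := fun l =>
    irr_degree_one_of_comm hcomm l.2
  have hval : ∀ x, h x = ∑ l : Cfsg.IrrCharacter T, (n l : ℂ) * (l : T → ℂ) x := fun x => by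
    conv_lhs => rw [hn]
    simp [Finset.sum_apply]
  have hcard : Fintype.card (Cfsg.IrrCharacter T) = Nat.card T := by
    rw [← Nat.card_eq_fintype_card, card_irrCharacter]
    exact (Nat.card_eq_of_bijective ConjClasses.mk ⟨fun a b e => by
      obtain ⟨c, hc⟩ := isConj_iff.1 (ConjClasses.mk_eq_mk_iff_isConj.1 e)
      rw [← hc, hcomm c, mul_inv_cancel_right], ConjClasses.mk_surjective⟩).symm
  have hreg : ∀ x : T, x ≠ 1 → ∑ l : Cfsg.IrrCharacter T, (l : T → ℂ) x = 0 := fun x hx => by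
    have := second_orthogonality x 1
    simp only [hlam, map_one, mul_one] at this
    rw [this, if_neg]
    rw [isConj_one_left]
    exact hx
  have hh1 : h 1 = ((∑ l, (n l : ℤ) : ℤ) : ℂ) := by simp [hval, hlam]
  have hin : ∀ l : Cfsg.IrrCharacter T, Cfsg.classInner h (l : T → ℂ) = (n l : ℂ) := fun l => by
    rw [hn, classInner_sum_smul_irr, if_pos (Finset.mem_univ _)]
  have hnorm : (∑ x : T, Complex.normSq (h x) : ℝ) =
      (Nat.card T : ℝ) * ((∑ l, (n l : ℤ) ^ 2 : ℤ) : ℝ) := by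
    have e := classInner_eq_sum (f := h) h (char_isClassFunction hh)
    simp only [fun l : Cfsg.IrrCharacter T => classInner_conj_symm h (l : T → ℂ), hin,
      map_natCast] at e
    rw [classInner_def, inv_mul_eq_iff_eq_mul₀ natCard_ne_zero] at e
    simp only [Complex.mul_conj] at e
    have e' : ((∑ x : T, Complex.normSq (h x) : ℝ) : ℂ) =
        (((Nat.card T : ℝ) * ((∑ l, (n l : ℤ) ^ 2 : ℤ) : ℝ) : ℝ) : ℂ) := by
      push_cast
      simp only [sq]
      exact e
    exact Complex.ofReal_injective e'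
  rw [← Finset.add_sum_erase _ _ (Finset.mem_univ (1 : T))] at hnorm
  have h1sq : Complex.normSq (h 1) = ((∑ l, (n l : ℤ)) ^ 2 : ℤ) := by
    rw [hh1, Complex.normSq_intCast]; push_cast; ring
  have herase : (∑ x ∈ Finset.univ.erase (1 : T), Complex.normSq (h x) : ℝ) ≤
      (Nat.card T : ℝ) - 1 := by
    refine (Finset.sum_le_sum fun x hx => hle x (Finset.ne_of_mem_erase hx)).trans ?_
    rw [Finset.sum_const, Finset.card_erase_of_mem (Finset.mem_univ _), Finset.card_univ,
      ← Nat.card_eq_fintype_card, nsmul_eq_mul, mul_one, Nat.cast_sub Nat.card_pos, Nat.cast_one]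
  obtain ⟨hD, i₀, c, δ, hδ, hc, hall⟩ := near_constant (fun l => (n l : ℤ))
    (fun l => Nat.cast_nonneg _) (by
      by_contra hcon
      push Not at hcon
      obtain ⟨x, hx, hx0⟩ := hne
      obtain ⟨l₀⟩ : Nonempty (Cfsg.IrrCharacter T) := ⟨trivIrr T⟩
      refine hx0 ?_
      rw [hval, Finset.sum_congr rfl fun l _ => by
        rw [show n l = n l₀ from Nat.cast_injective (hcon l l₀)], ← Finset.mul_sum, hreg x hx,
        mul_zero]) (by
      have : (((Nat.card T : ℤ) * ∑ l, (n l : ℤ) ^ 2 - (∑ l, (n l : ℤ)) ^ 2 : ℤ) : ℝ) ≤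
          (((Nat.card T : ℤ) - 1 : ℤ) : ℝ) := by
        rw [h1sq] at hnorm
        push_cast at hnorm ⊢
        linarith
      rw [hcard]
      exact_mod_cast this)
  refine ⟨fun x hx => ?_, i₀, c.toNat, δ, hδ, ?_, fun x hx => ?_⟩
  · rw [hcard] at hD
    have hsum : (∑ y ∈ Finset.univ.erase (1 : T), Complex.normSq (h y) : ℝ) =
        ∑ _y ∈ Finset.univ.erase (1 : T), (1 : ℝ) := by
      have hD' := congrArg (fun z : ℤ => (z : ℝ)) hD
      rw [h1sq] at hnorm
      rw [Finset.sum_const, Finset.card_erase_of_mem (Finset.mem_univ _), Finset.card_univ,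
        ← Nat.card_eq_fintype_card, nsmul_eq_mul, mul_one, Nat.cast_sub Nat.card_pos, Nat.cast_one]
      push_cast at hnorm hD' ⊢
      linarith
    exact (Finset.sum_eq_sum_iff_of_le fun y hy => hle y (Finset.ne_of_mem_erase hy)).1 hsum x
      (Finset.mem_erase.2 ⟨hx, Finset.mem_univ _⟩)
  · rw [hh1, Finset.sum_congr rfl fun l _ => hall l, Finset.sum_add_distrib, Finset.sum_const,
      Finset.sum_ite_eq', if_pos (Finset.mem_univ _), Finset.card_univ, hcard, nsmul_eq_mul]
    have : ((c.toNat : ℕ) : ℂ) = (c : ℂ) := by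
      conv_rhs => rw [← Int.toNat_of_nonneg hc, Int.cast_natCast]
    rw [this]; push_cast; ring
  · have e : ∀ l, (n l : ℂ) = (c : ℂ) + if l = i₀ then (δ : ℂ) else 0 := fun l => by
      have := congrArg (fun z : ℤ => (z : ℂ)) (hall l)
      simpa [apply_ite (Int.cast : ℤ → ℂ)] using this
    rw [hval]
    simp only [e, add_mul, Finset.sum_add_distrib, ← Finset.mul_sum, hreg x hx, mul_zero, zero_add,
      ite_mul, zero_mul, Finset.sum_ite_eq', Finset.mem_univ, if_true]

end Cfsg.Agent.BlockCharsA.CanonicalExtFpf
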