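import Mathlib
import Cfsg.Prelude.Def_BlockRank
import Cfsg.Agent.Lib.Blocks.SectionNorm
import Cfsg.Agent.Lib.Blocks.Covering
import Cfsg.Agent.Lib.ZStar.Principal
import Cfsg.Agent.Lib.ZStar.Sections
import Cfsg.Agent.BlockCharsA.BrauerPairs

/-!
# The rank of a block as a trace, and sections
-/

set_option linter.style.haveILetI false
set_option linter.unusedSectionVars false

namespace Cfsg.Agent.BlockCharsA.Rank

open Cfsg.Agent.Blocks Cfsg.Agent.Characters
open scoped ComplexConjugate

universe u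

variable {G : Type u} [Group G] {p : ℕ} {M : Ideal Cfsg.AlgInt}

/-- The extension by zero from the `p`-regular elements. -/
noncomputable def extReg (p : ℕ) : ({y : G // ¬ p ∣ orderOf y} → ℂ) →ₗ[ℂ] (G → ℂ) where
  toFun f := fun g => by classical exact if h : ¬ p ∣ orderOf g then f ⟨g, h⟩ else 0
  map_add' f f' := by
    funext g
    simp only [Pi.add_apply]
    split <;> simp
  map_smul' c f := by
    funext g
    simp only [Pi.smul_apply, RingHom.id_apply, smul_eq_mul]
    split <;> simp

theorem extReg_apply (f : {y : G // ¬ p ∣ orderOf y} → ℂ) (y : {y : G // ¬ p ∣ orderOf y}) :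
    extReg p f (y : G) = f y := by
  simp only [extReg, LinearMap.coe_mk, AddHom.coe_mk]
  rw [dif_pos y.2]

theorem extReg_injective : Function.Injective (extReg (G := G) p) := fun f f' h =>
  funext fun y => by rw [← extReg_apply f y, h, extReg_apply]

variable [Finite G]

theorem kernel_mul_kernel [Fintype G] (A : Set (Cfsg.IrrCharacter G)) (y z : G) :
    ∑ c : G, blockKernelAt A y c * blockKernelAt A c z = blockKernelAt A y z := by
  classical
  haveI := Fintype.ofFinite (Cfsg.IrrCharacter G)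
  simp only [blockKernelAt_eq_sum, Finset.mul_sum, Finset.sum_mul]
  rw [Finset.sum_comm]
  refine Finset.sum_congr rfl fun η _ => ?_
  rw [Finset.sum_comm, Finset.sum_eq_single η]
  · by_cases hη : η ∈ A
    · simp only [if_pos hη]
      have h := classInner_irr η η
      rw [classInner_def, if_pos rfl] at h
      calc _ = (Nat.card G : ℂ)⁻¹ * ((η : G → ℂ) y * conj ((η : G → ℂ) z)) *
            ((Nat.card G : ℂ)⁻¹ * ∑ c : G, (η : G → ℂ) c * conj ((η : G → ℂ) c)) := by
            rw [Finset.mul_sum, Finset.mul_sum]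
            exact Finset.sum_congr rfl fun c _ => by ring
        _ = _ := by rw [h, mul_one]
    · simp [hη]
  · intro ξ _ hne
    by_cases hη : η ∈ A <;> by_cases hξ : ξ ∈ A
    · simp only [if_pos hη, if_pos hξ]
      have h := classInner_irr η ξ
      rw [classInner_def, if_neg (Ne.symm hne)] at h
      calc _ = (Nat.card G : ℂ)⁻¹ * ((ξ : G → ℂ) y * conj ((η : G → ℂ) z)) *
            ((Nat.card G : ℂ)⁻¹ * ∑ c : G, (η : G → ℂ) c * conj ((ξ : G → ℂ) c)) := by
            rw [Finset.mul_sum, Finset.mul_sum]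
            exact Finset.sum_congr rfl fun c _ => by ring
        _ = _ := by rw [h, mul_zero]
    all_goals simp [hη, hξ]
  · simp

theorem kernel_sing_right (hM : Cfsg.IsPModular p M) {A : Set (Cfsg.IrrCharacter G)}
    (hA : IntEl M (blockIdem A)) {y c : G} (hy : ¬ p ∣ orderOf y) (hc : p ∣ orderOf c) :
    blockKernelAt A y c = 0 := by
  rw [blockKernelAt, sum_block_reg_sing hM hA hy hc, mul_zero]

open scoped Classical in
theorem blockRank_eq_trace [Fintype G] (hM : Cfsg.IsPModular p M)
    {A : Set (Cfsg.IrrCharacter G)} (hA : IntEl M (blockIdem A)) :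
    (Cfsg.blockRank p A : ℂ) =
      ∑ y : G, if ¬ p ∣ orderOf y then blockKernelAt A y y else 0 := by
  haveI := Fintype.ofFinite (Cfsg.IrrCharacter G)
  haveI := Fintype.ofFinite {y : G // ¬ p ∣ orderOf y}
  set K : Matrix {y : G // ¬ p ∣ orderOf y} {y : G // ¬ p ∣ orderOf y} ℂ :=
    Matrix.of fun y c => blockKernelAt A (y : G) (c : G) with hK
  have hsum : ∀ (y : {y : G // ¬ p ∣ orderOf y}) (f : G → ℂ),
      ∑ c : {y : G // ¬ p ∣ orderOf y}, blockKernelAt A (y : G) (c : G) * f c =
        ∑ c : G, blockKernelAt A (y : G) c * f c := by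
    intro y f
    rw [← Finset.sum_subset (Finset.subset_univ (Finset.univ.filter fun c : G => ¬ p ∣ orderOf c))
      fun c _ hc => by
        rw [kernel_sing_right hM hA y.2 (not_not.1 fun h => hc (by simp [h])), zero_mul]]
    exact (Finset.sum_subtype (Finset.univ.filter fun c : G => ¬ p ∣ orderOf c) (fun c => by simp)
      fun c => blockKernelAt A (y : G) c * f c).symm
  have hKK : K * K = K := by
    ext y z
    rw [Matrix.mul_apply]
    exact (hsum y fun c => blockKernelAt A c (z : G)).trans (kernel_mul_kernel A _ _)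
  have hfix : ∀ χ ∈ A, Matrix.toLin' K (fun y => (χ : G → ℂ) (y : G)) =
      fun y : {y : G // ¬ p ∣ orderOf y} => (χ : G → ℂ) (y : G) := by
    intro χ hχ
    funext y
    rw [Matrix.toLin'_apply]
    refine (hsum y (χ : G → ℂ)).trans ?_
    rw [← blockPart_eq_kernel, blockPart_irr, if_pos hχ]
  have hrange : LinearMap.range (Matrix.toLin' K) = Submodule.span ℂ
      ((fun χ : Cfsg.IrrCharacter G => fun y : {y : G // ¬ p ∣ orderOf y} => (χ : G → ℂ) (y : G))
        '' A) := by
    refine le_antisymm ?_ (Submodule.span_le.2 ?_)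
    · rintro _ ⟨f, rfl⟩
      have hexp : Matrix.toLin' K f = ∑ χ ∈ Finset.univ.filter (fun χ => χ ∈ A),
          ((Nat.card G : ℂ)⁻¹ * ∑ c : {y : G // ¬ p ∣ orderOf y},
            conj ((χ : G → ℂ) (c : G)) * f c) •
            fun y : {y : G // ¬ p ∣ orderOf y} => (χ : G → ℂ) (y : G) := by
        funext y
        rw [Matrix.toLin'_apply, Finset.sum_apply]
        simp only [Matrix.mulVec, dotProduct, K, Matrix.of_apply, Pi.smul_apply, smul_eq_mul,
          blockKernelAt_eq_sum, Finset.sum_mul, Finset.mul_sum]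
        rw [Finset.sum_comm, Finset.sum_filter]
        refine Finset.sum_congr rfl fun χ _ => ?_
        by_cases h : χ ∈ A
        · simp only [if_pos h]
          exact Finset.sum_congr rfl fun c _ => by ring
        · simp [h]
      rw [hexp]
      exact Submodule.sum_mem _ fun χ hχ => Submodule.smul_mem _ _
        (Submodule.subset_span ⟨χ, (Finset.mem_filter.1 hχ).2, rfl⟩)
    · rintro _ ⟨χ, hχ, rfl⟩
      exact ⟨_, hfix χ hχ⟩
  have hproj : LinearMap.IsProj (LinearMap.range (Matrix.toLin' K)) (Matrix.toLin' K) :=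
    ⟨fun x => LinearMap.mem_range_self _ x, by
      rintro _ ⟨f, rfl⟩
      rw [← LinearMap.comp_apply, ← Matrix.toLin'_mul, hKK]⟩
  have htr := hproj.trace
  rw [Matrix.trace_toLin'_eq, hrange] at htr
  have hspan : Submodule.span ℂ
      ((fun χ : Cfsg.IrrCharacter G => Cfsg.pRegularPart p (χ : G → ℂ)) '' A) =
      (Submodule.span ℂ ((fun χ : Cfsg.IrrCharacter G =>
        fun y : {y : G // ¬ p ∣ orderOf y} => (χ : G → ℂ) (y : G)) '' A)).map (extReg p) := by
    rw [Submodule.map_span, ← Set.image_comp]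
    refine congrArg (Submodule.span ℂ) (Set.image_congr fun χ _ => funext fun g => ?_)
    simp only [Cfsg.pRegularPart, Cfsg.IsPRegular, Function.comp, extReg, LinearMap.coe_mk,
      AddHom.coe_mk]
    by_cases h : p ∣ orderOf g <;> simp [h]
  rw [Cfsg.blockRank, hspan, LinearEquiv.finrank_eq
    (Submodule.equivMapOfInjective _ extReg_injective _).symm, ← htr, Matrix.trace,
    ← Finset.sum_filter,
    Finset.sum_subtype (Finset.univ.filter fun c : G => ¬ p ∣ orderOf c)
      (p := fun c : G => ¬ p ∣ orderOf c) (F := inferInstance) (fun c => by simp)]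
  exact Finset.sum_congr (by simp) fun _ _ => rfl

/-! ### A union of blocks on a section -/

/-- A sum over a union of blocks vanishes if it does on every block. -/
theorem sum_closed_eq_zero (hM : Cfsg.IsPModular p M) {A : Set (Cfsg.IrrCharacter G)}
    (hA : ∀ ξ ∈ A, Cfsg.blockOf M (ξ : G → ℂ) ⊆ A) (f : Cfsg.IrrCharacter G → ℂ)
    (h : ∀ b, Cfsg.IsPBlock M b → b ⊆ A → ∑ᶠ ξ ∈ b, f ξ = 0) : ∑ᶠ ξ ∈ A, f ξ = 0 := by
  classical
  haveI := Fintype.ofFinite (Cfsg.IrrCharacter G)
  haveI := Fintype.ofFinite (Set (Cfsg.IrrCharacter G))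
  rw [ZStar.Principal.finsum_mem_eq_sum_filter, ← Finset.sum_fiberwise _
    (fun ξ : Cfsg.IrrCharacter G => Cfsg.blockOf M (ξ : G → ℂ))]
  refine Finset.sum_eq_zero fun b _ => ?_
  rcases Finset.eq_empty_or_nonempty ((Finset.univ.filter fun ξ => ξ ∈ A).filter
      fun ξ : Cfsg.IrrCharacter G => Cfsg.blockOf M (ξ : G → ℂ) = b) with he | ⟨ξ₀, h₀⟩
  · rw [he, Finset.sum_empty]
  · obtain ⟨h₁, h₂⟩ := Finset.mem_filter.1 h₀
    have hB : Cfsg.IsPBlock M b := h₂ ▸ isPBlock_blockOf M ξ₀
    have hbA : b ⊆ A := h₂ ▸ hA ξ₀ (Finset.mem_filter.1 h₁).2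
    rw [← h b hB hbA, ZStar.Principal.finsum_mem_eq_sum_filter]
    refine Finset.sum_congr ?_ fun _ _ => rfl
    ext ξ
    simp only [Finset.mem_filter, Finset.mem_univ, true_and]
    exact ⟨fun e => (ZStar.Principal.blockOf_eq_iff hM hB ξ).1 e.2,
      fun e => ⟨hbA e, (ZStar.Principal.blockOf_eq_iff hM hB ξ).2 e⟩⟩

/-- The squared norm on a section of the part on a union of blocks. -/
theorem norm_part (hM : Cfsg.IsPModular p M) {x : G} (hx : ∃ k : ℕ, orderOf x = p ^ k)
    [Fintype G] [Fintype (Cfsg.IrrCharacter G)]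
    {S : Set (Cfsg.IrrCharacter (Subgroup.centralizer ({x} : Set G)))}
    (hS : IntEl M (blockIdem S)) {y : Subgroup.centralizer ({x} : Set G)}
    (hy : ¬ p ∣ orderOf y) :
    ∑ ζ : Cfsg.IrrCharacter G, Cfsg.blockPart S (ZStar.Principal.shift x (ζ : G → ℂ)) y *
      conj (Cfsg.blockPart S (ZStar.Principal.shift x (ζ : G → ℂ)) y) =
    (Nat.card (Subgroup.centralizer ({x} : Set G)) : ℂ) * blockKernelAt S y y := by
  classical
  haveI := Fintype.ofFinite (Subgroup.centralizer ({x} : Set G))
  haveI := Fintype.ofFinite (Cfsg.IrrCharacter (Subgroup.centralizer ({x} : Set G)))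
  set K := blockKernelAt S y
  have key : ∑ ζ : Cfsg.IrrCharacter G,
      (∑ c : Subgroup.centralizer ({x} : Set G), K c * (ζ : G → ℂ) (x * (c : G))) *
        conj (∑ d : Subgroup.centralizer ({x} : Set G), K d * (ζ : G → ℂ) (x * (d : G))) =
      ∑ η : Cfsg.IrrCharacter (Subgroup.centralizer ({x} : Set G)),
      (∑ c : Subgroup.centralizer ({x} : Set G),
          K c * (η : Subgroup.centralizer ({x} : Set G) → ℂ) c) *
        conj (∑ d : Subgroup.centralizer ({x} : Set G),
          K d * (η : Subgroup.centralizer ({x} : Set G) → ℂ) d) := by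
    simp only [map_sum, map_mul, Finset.sum_mul, Finset.mul_sum]
    rw [Finset.sum_comm]
    conv_rhs => rw [Finset.sum_comm]
    refine Finset.sum_congr rfl fun c _ => ?_
    rw [Finset.sum_comm]
    conv_rhs => rw [Finset.sum_comm]
    refine Finset.sum_congr rfl fun d _ => ?_
    simp only [fun a b : ℂ => mul_mul_mul_comm (K d) a (conj (K c)) b, ← Finset.mul_sum]
    by_cases hcd : p ∣ orderOf c ∨ p ∣ orderOf d
    · rcases hcd with h | h <;> simp [K, kernel_sing_right hM hS hy h]
    · push Not at hcd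
      rw [orthogonality_section hM.1 hx d c hcd.2 hcd.1]
  simp only [← blockPart_eq_kernel, K, blockPart_irr] at key
  refine Eq.trans ?_ (key.trans ?_)
  · exact Finset.sum_congr rfl fun ζ _ => rfl
  · show _ = _ * blockKernelAt S y y
    rw [blockKernelAt_eq_sum, ← mul_assoc, mul_inv_cancel₀ natCard_ne_zero, one_mul]
    exact Finset.sum_congr rfl fun η _ => by split <;> simp

/-- The characters of the centraliser of `x` whose block induces `B`. -/
def indSet (M : Ideal Cfsg.AlgInt) (x : G) (B : Set (Cfsg.IrrCharacter G)) :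
    Set (Cfsg.IrrCharacter (Subgroup.centralizer ({x} : Set G))) :=
  {η | Cfsg.IsInducedBlock M (Subgroup.centralizer ({x} : Set G))
    (Cfsg.blockOf M (η : Subgroup.centralizer ({x} : Set G) → ℂ)) B}

theorem indSet_closed (hM : Cfsg.IsPModular p M) {x : G} {B : Set (Cfsg.IrrCharacter G)}
    {η η' : Cfsg.IrrCharacter (Subgroup.centralizer ({x} : Set G))}
    (h : η' ∈ Cfsg.blockOf M (η : Subgroup.centralizer ({x} : Set G) → ℂ)) :
    η' ∈ indSet M x B ↔ η ∈ indSet M x B := by
  have e : Cfsg.blockOf M (η' : Subgroup.centralizer ({x} : Set G) → ℂ) =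
      Cfsg.blockOf M (η : Subgroup.centralizer ({x} : Set G) → ℂ) :=
    block_eq_of_mem hM (isPBlock_blockOf M η') (isPBlock_blockOf M η) (mem_blockOf_self hM η') h
  show Cfsg.IsInducedBlock M _ _ B ↔ Cfsg.IsInducedBlock M _ _ B
  rw [e]

theorem intEl_indSet (hM : Cfsg.IsPModular p M) (x : G) (B : Set (Cfsg.IrrCharacter G)) :
    IntEl M (blockIdem (indSet M x B)) :=
  intEl_blockIdem_of_closed hM fun _ hθ _ h => (indSet_closed hM h).2 hθ

theorem part_indSet (hM : Cfsg.IsPModular p M) {x : G} (hx : ∃ k : ℕ, orderOf x = p ^ k)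
    {B : Set (Cfsg.IrrCharacter G)} (hB : Cfsg.IsPBlock M B) (ζ : Cfsg.IrrCharacter G)
    [Decidable (ζ ∈ B)] {y : Subgroup.centralizer ({x} : Set G)} (hy : ¬ p ∣ orderOf y) :
    Cfsg.blockPart (indSet M x B) (ZStar.Principal.shift x (ζ : G → ℂ)) y =
      if ζ ∈ B then (ζ : G → ℂ) (x * (y : G)) else 0 := by
  classical
  haveI := Fintype.ofFinite G
  haveI := Fintype.ofFinite (Subgroup.centralizer ({x} : Set G))
  haveI := Fintype.ofFinite (Cfsg.IrrCharacter (Subgroup.centralizer ({x} : Set G)))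
  set f : Cfsg.IrrCharacter (Subgroup.centralizer ({x} : Set G)) → ℂ := fun η =>
    Cfsg.classInner (ZStar.Principal.shift x (ζ : G → ℂ)) (η : _ → ℂ) * (η : _ → ℂ) y
  rw [ZStar.Principal.blockPart_eq_sum_mul]
  split
  · next hζ =>
    have h0 : ∑ᶠ η ∈ (indSet M x B)ᶜ, f η = 0 := by
      refine sum_closed_eq_zero hM (fun η hη η' h' hη' =>
        (Set.mem_compl_iff _ _).1 hη ((indSet_closed hM h').1 hη')) f
        fun b hb hbA => ?_
      rw [← ZStar.Principal.blockPart_eq_sum_mul]
      refine blockPart_eq_zero_of_not_induced hM hx hB hζ hb (fun hind => ?_) hy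
      obtain ⟨η, hη⟩ := block_nonempty hM hb
      refine hbA hη ?_
      show Cfsg.IsInducedBlock M _ _ B
      rwa [(ZStar.Principal.blockOf_eq_iff hM hb η).2 hη]
    have h1 : ZStar.Principal.shift x (ζ : G → ℂ) y = ∑ η, f η := by
      conv_lhs => rw [classFun_eq_sum
        (ZStar.Principal.isClassFunction_shift x (irr_isClassFunction ζ))]
      simp only [Finset.sum_apply, Pi.smul_apply, smul_eq_mul, f]
    rw [ZStar.Principal.finsum_mem_eq_sum_filter] at h0 ⊢
    show _ = ZStar.Principal.shift x (ζ : G → ℂ) y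
    rw [h1, ← Finset.sum_filter_add_sum_filter_not Finset.univ (fun η => η ∈ indSet M x B) f]
    simp only [Set.mem_compl_iff] at h0
    rw [h0, add_zero]
  · next hζ =>
    refine sum_closed_eq_zero hM (fun η hη η' h' => (indSet_closed hM h').2 hη) f fun b hb hbA => ?_
    rw [← ZStar.Principal.blockPart_eq_sum_mul]
    refine blockPart_eq_zero_of_not_induced hM hx (isPBlock_blockOf M ζ) (mem_blockOf_self hM ζ) hb
      (fun hind => hζ ?_) hy
    obtain ⟨η, hη⟩ := block_nonempty hM hb
    have h1 : Cfsg.IsInducedBlock M (Subgroup.centralizer ({x} : Set G))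
        (Cfsg.blockOf M (η : Subgroup.centralizer ({x} : Set G) → ℂ)) B := hbA hη
    rw [(ZStar.Principal.blockOf_eq_iff hM hb η).2 hη] at h1
    rw [← isInduced_unique hM hind h1]
    exact mem_blockOf_self hM ζ

theorem norm_indSet (hM : Cfsg.IsPModular p M) {x : G} (hx : ∃ k : ℕ, orderOf x = p ^ k)
    {B : Set (Cfsg.IrrCharacter G)} (hB : Cfsg.IsPBlock M B)
    {y : Subgroup.centralizer ({x} : Set G)} (hy : ¬ p ∣ orderOf y) :
    ∑ᶠ ζ ∈ B, (ζ : G → ℂ) (x * (y : G)) * conj ((ζ : G → ℂ) (x * (y : G))) =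
      (Nat.card (Subgroup.centralizer ({x} : Set G)) : ℂ) *
        blockKernelAt (indSet M x B) y y := by
  classical
  haveI := Fintype.ofFinite G
  haveI := Fintype.ofFinite (Cfsg.IrrCharacter G)
  rw [← norm_part hM hx (intEl_indSet hM x B) hy, ZStar.Principal.finsum_mem_eq_sum_filter,
    Finset.sum_filter]
  refine Finset.sum_congr rfl fun ζ _ => ?_
  rw [part_indSet hM hx hB ζ hy]
  split <;> simp

/-- `k (B)` is the sum of the local ranks. -/
theorem card_block (hM : Cfsg.IsPModular p M) {B : Set (Cfsg.IrrCharacter G)}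
    (hB : Cfsg.IsPBlock M B) (X : Finset G) (hX : ∀ x ∈ X, ∃ k : ℕ, orderOf x = p ^ k)
    (hrep : ∀ g : G, (∃ k : ℕ, orderOf g = p ^ k) → ∃! x, x ∈ X ∧ IsConj g x) :
    Nat.card B = ∑ x ∈ X, ∑ᶠ b ∈ {b : Set (Cfsg.IrrCharacter
      (Subgroup.centralizer ({x} : Set G))) |
        Cfsg.IsInducedBlock M (Subgroup.centralizer ({x} : Set G)) b B}, Cfsg.blockRank p b := by
  classical
  haveI := Fintype.ofFinite G
  haveI := Fintype.ofFinite (Cfsg.IrrCharacter G)
  rw [← Nat.cast_inj (R := ℂ), Nat.cast_sum]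
  -- the local ranks
  have hloc : ∀ x ∈ X, ((∑ᶠ b ∈ {b : Set (Cfsg.IrrCharacter
      (Subgroup.centralizer ({x} : Set G))) |
        Cfsg.IsInducedBlock M (Subgroup.centralizer ({x} : Set G)) b B}, Cfsg.blockRank p b : ℕ) : ℂ) =
      ∑ c : Subgroup.centralizer ({x} : Set G),
        if ¬ p ∣ orderOf c then blockKernelAt (indSet M x B) c c else 0 := by
    intro x _
    haveI := Fintype.ofFinite (Subgroup.centralizer ({x} : Set G))
    haveI := Fintype.ofFinite (Cfsg.IrrCharacter (Subgroup.centralizer ({x} : Set G)))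
    haveI := Fintype.ofFinite (Set (Cfsg.IrrCharacter (Subgroup.centralizer ({x} : Set G))))
    rw [ZStar.Principal.finsum_mem_eq_sum_filter, Nat.cast_sum, Finset.sum_congr rfl fun b hb =>
      blockRank_eq_trace hM (intEl_blockIdem hM (Finset.mem_filter.1 hb).2.1), Finset.sum_comm]
    refine Finset.sum_congr (Finset.ext fun c => by simp) fun c _ => ?_
    split
    · simp only [blockKernelAt_eq_sum, ← Finset.mul_sum]
      congr 1
      rw [Finset.sum_comm]
      refine Finset.sum_congr rfl fun η _ => ?_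
      rw [Finset.sum_ite, Finset.sum_const_zero, add_zero, Finset.sum_const]
      by_cases hη : η ∈ indSet M x B
      · rw [if_pos hη, show ((Finset.univ.filter fun b => b ∈ {b : Set (Cfsg.IrrCharacter
            (Subgroup.centralizer ({x} : Set G))) | Cfsg.IsInducedBlock M
              (Subgroup.centralizer ({x} : Set G)) b B}).filter fun b => η ∈ b) =
            {Cfsg.blockOf M (η : Subgroup.centralizer ({x} : Set G) → ℂ)} from ?_,
          Finset.card_singleton, one_smul]
        ext b
        simp only [Finset.mem_filter, Finset.mem_univ, true_and, Finset.mem_singleton,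
          Set.mem_ofPred_eq]
        refine ⟨fun h => (ZStar.Principal.blockOf_eq_iff hM h.1.1 η).2 h.2 |>.symm, ?_⟩
        rintro rfl
        exact ⟨hη, mem_blockOf_self hM η⟩
      · rw [if_neg hη, show ((Finset.univ.filter fun b => b ∈ {b : Set (Cfsg.IrrCharacter
            (Subgroup.centralizer ({x} : Set G))) | Cfsg.IsInducedBlock M
              (Subgroup.centralizer ({x} : Set G)) b B}).filter fun b => η ∈ b) = ∅ from ?_,
          Finset.card_empty, zero_smul]
        refine Finset.filter_eq_empty_iff.2 fun b hb hηb => hη ?_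
        have hb' := (Finset.mem_filter.1 hb).2
        show Cfsg.IsInducedBlock M _ _ B
        rwa [(ZStar.Principal.blockOf_eq_iff hM hb'.1 η).2 hηb]
    · simp
  rw [Finset.sum_congr rfl hloc]
  -- sum over all the elements
  set f : G → ℂ := fun g => ∑ᶠ ζ ∈ B, (ζ : G → ℂ) g * conj ((ζ : G → ℂ) g) with hf
  set F : G → ℂ := fun x =>
    ∑ s ∈ Finset.univ.filter (fun s => Commute x s ∧ ¬ p ∣ orderOf s), f (x * s) with hF
  have hfcl : ∀ g a : G, f (a * g * a⁻¹) = f g := fun g a => by
    simp only [f]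
    exact finsum_congr fun ζ => finsum_congr fun _ => by rw [irr_isClassFunction ζ g a]
  have hFcl : ∀ x a : G, F (a * x * a⁻¹) = F x := fun x a => by
    refine (Finset.sum_equiv (MulAut.conj a).toEquiv (fun s => ?_) fun s _ => ?_).symm
    · simp only [Finset.mem_filter, Finset.mem_univ, true_and, MulEquiv.toEquiv_eq_coe,
        MulEquiv.coe_toEquiv]
      rw [(MulAut.conj a).orderOf_eq s]
      exact and_congr_left fun _ => by
        rw [show a * x * a⁻¹ = MulAut.conj a x from rfl, Commute, SemiconjBy, Commute, SemiconjBy,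
          ← map_mul, ← map_mul, (MulAut.conj a).injective.eq_iff]
    · simp only [MulEquiv.toEquiv_eq_coe, MulEquiv.coe_toEquiv, MulAut.conj_apply]
      rw [show a * x * a⁻¹ * (a * s * a⁻¹) = a * (x * s) * a⁻¹ by group, hfcl]
  have htot : ∑ g : G, f g = (Nat.card G : ℂ) * (Nat.card B : ℂ) := by
    simp only [f, ZStar.Principal.finsum_mem_eq_sum_filter]
    rw [Finset.sum_comm]
    rw [Finset.sum_congr rfl (g := fun _ => (Nat.card G : ℂ)) fun ζ _ => by
      have h := classInner_irr ζ ζ
      rw [classInner_def, if_pos rfl, inv_mul_eq_one₀ natCard_ne_zero] at h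
      exact h.symm]
    rw [Finset.sum_const, nsmul_eq_mul, mul_comm, Nat.card_eq_fintype_card (α := B),
      ← Fintype.card_subtype]
  set Pel := Finset.univ.filter fun x : G => ∃ k : ℕ, orderOf x = p ^ k with hPel
  have hsec : ∑ g : G, f g = ∑ x ∈ Pel, F x := by
    rw [← ZStar.Sections.sum_section hM.1 Pel (fun x hx => (Finset.mem_filter.1 hx).2) f]
    refine (Finset.sum_congr (Finset.filter_eq_self.2 fun g _ => ?_) fun _ _ => rfl).symm
    obtain ⟨x, hx⟩ := exists_ppart hM.1 g
    obtain ⟨y, -, -, hxo, -⟩ := id hx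
    exact ⟨x, Finset.mem_filter.2 ⟨Finset.mem_univ _, hxo⟩, hx⟩
  have hfib : ∑ x ∈ Pel, F x =
      ∑ x ∈ X, ((Subgroup.centralizer ({x} : Set G)).index : ℂ) * F x := by
    have hmem : ∀ x ∈ X, ∀ x' : G, IsConj x x' → x' ∈ Pel := fun x hx x' h => by
      obtain ⟨a, rfl⟩ := isConj_iff.1 h
      exact Finset.mem_filter.2 ⟨Finset.mem_univ _, by
        rw [show a * x * a⁻¹ = MulAut.conj a x from rfl, MulEquiv.orderOf_eq]; exact hX x hx⟩
    have hdis : (X : Set G).PairwiseDisjoint fun x => Finset.univ.filter fun x' => IsConj x x' := by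
      intro x hx x' hx' hne
      refine Finset.disjoint_left.2 fun z hz hz' => hne ?_
      have hz1 := (Finset.mem_filter.1 hz).2
      have hz2 := (Finset.mem_filter.1 hz').2
      exact (hrep x (hX x hx)).unique ⟨hx, IsConj.refl x⟩ ⟨hx', hz1.trans hz2.symm⟩
    have hU : Pel = X.biUnion fun x => Finset.univ.filter fun x' => IsConj x x' := by
      ext z
      simp only [Finset.mem_biUnion, Finset.mem_filter, Finset.mem_univ, true_and]
      refine ⟨fun hz => ?_, fun ⟨x, hx, h⟩ => hmem x hx z h⟩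
      obtain ⟨x, ⟨hx, hc⟩, -⟩ := hrep z (Finset.mem_filter.1 hz).2
      exact ⟨x, hx, hc.symm⟩
    rw [hU, Finset.sum_biUnion hdis]
    refine Finset.sum_congr rfl fun x _ => ?_
    rw [Finset.sum_congr rfl (g := fun _ => F x) fun x' hx' => by
      obtain ⟨a, rfl⟩ := isConj_iff.1 (Finset.mem_filter.1 hx').2
      exact hFcl x a, Finset.sum_const, card_filter_isConj, nsmul_eq_mul]
  rw [hsec, hfib] at htot
  refine (mul_left_cancel₀ (natCard_ne_zero (G := G)) ?_)
  rw [← htot, Finset.mul_sum]
  refine Finset.sum_congr rfl fun x hx => ?_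
  simp only [F]
  rw [ZStar.Sections.sum_commute_eq_regSum p x f, regSum_eq_sum]
  rw [← Subgroup.card_mul_index (Subgroup.centralizer ({x} : Set G)), Nat.cast_mul,
    mul_comm (Nat.card (Subgroup.centralizer ({x} : Set G)) : ℂ), mul_assoc]
  congr 1
  rw [Finset.mul_sum]
  refine Finset.sum_congr (Finset.ext fun c => by simp) fun c _ => ?_
  by_cases hc : p ∣ orderOf c
  · simp [hc]
  · rw [if_pos hc, if_pos hc, map_one, mul_one, ← norm_indSet hM (hX x hx) hB hc]
    rfl

/-- The local norm of a subsection. -/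
theorem norm_subsection (hM : Cfsg.IsPModular p M) {B : Set (Cfsg.IrrCharacter G)}
    {u : G} (hu : ∃ k : ℕ, orderOf u = p ^ k) (H : Subgroup G)
    (hH : H = Subgroup.centralizer ({u} : Set G)) {e : Set (Cfsg.IrrCharacter H)}
    (hind : Cfsg.IsInducedBlock M H e B) {s : H} (hs : ¬ p ∣ orderOf s) :
    ∑ᶠ χ ∈ B, Cfsg.blockPart e (fun c : H => (χ : G → ℂ) (u * c)) s *
      conj (Cfsg.blockPart e (fun c : H => (χ : G → ℂ) (u * c)) s) =
    (Nat.card H : ℂ) * blockKernelAt e s s := by
  subst hH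
  classical
  haveI := Fintype.ofFinite G
  haveI := Fintype.ofFinite (Cfsg.IrrCharacter G)
  have h : ∀ χ : Cfsg.IrrCharacter G, χ ∉ B →
      Cfsg.blockPart e (fun c : Subgroup.centralizer ({u} : Set G) => (χ : G → ℂ) (u * c)) s = 0 :=
    fun χ hχ =>
    blockPart_eq_zero_of_not_induced hM hu (isPBlock_blockOf M χ) (mem_blockOf_self hM χ) hind.1
      (fun h => hχ (by rw [← isInduced_unique hM h hind]; exact mem_blockOf_self hM χ)) hs
  rw [← norm_part hM hu (intEl_blockIdem hM hind.1) hs, ZStar.Principal.finsum_mem_eq_sum_filter]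
  refine (Finset.sum_subset (Finset.subset_univ _) fun χ _ hχ => ?_)
  rw [h χ (by simpa using hχ), zero_mul]

theorem conj_kernel (A : Set (Cfsg.IrrCharacter G)) (a b : G) :
    conj (blockKernelAt A a b) = blockKernelAt A a⁻¹ b⁻¹ := by
  classical
  haveI := Fintype.ofFinite (Cfsg.IrrCharacter G)
  rw [blockKernelAt_eq_sum, blockKernelAt_eq_sum, map_mul, map_inv₀, Complex.conj_natCast, map_sum]
  congr 1
  refine Finset.sum_congr rfl fun ξ _ => ?_
  split
  · rw [map_mul, char_inv (irr_isCharacter ξ), char_inv (irr_isCharacter ξ)]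
  · exact map_zero _

theorem subsection_norms (hM : Cfsg.IsPModular p M) {B : Set (Cfsg.IrrCharacter G)}
    {u : G} (hu : ∃ k : ℕ, orderOf u = p ^ k)
    {e : Set (Cfsg.IrrCharacter (Subgroup.centralizer (Subgroup.zpowers u : Set G)))}
    (hBe : Cfsg.IsBrauerPairOf p M B (Subgroup.zpowers u) e) :
    ∑ᶠ χ ∈ B, ∑ᶠ s : Subgroup.centralizer (Subgroup.zpowers u : Set G),
      Cfsg.pRegularPart p (Cfsg.blockPart e
        (fun c : Subgroup.centralizer (Subgroup.zpowers u : Set G) => (χ : G → ℂ) (u * c))) s *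
      Cfsg.blockPart e
        (fun c : Subgroup.centralizer (Subgroup.zpowers u : Set G) => (χ : G → ℂ) (u⁻¹ * c)) s⁻¹ =
    (Nat.card (Subgroup.centralizer (Subgroup.zpowers u : Set G)) : ℂ) *
      (Cfsg.blockRank p e : ℂ) := by
  classical
  haveI := Fintype.ofFinite G
  haveI := Fintype.ofFinite (Cfsg.IrrCharacter G)
  haveI := Fintype.ofFinite (Subgroup.centralizer (Subgroup.zpowers u : Set G))
  have hP : IsPGroup p (Subgroup.zpowers u) := zpowers_isPGroup hu
  have hPH : Subgroup.zpowers u ≤ Subgroup.centralizer (Subgroup.zpowers u : Set G) :=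
    Subgroup.zpowers_le.2 (mem_centralizer_zpowers.2 (Subgroup.mem_centralizer_singleton_iff.2 rfl))
  have hHN := Subgroup.centralizer_le_normalizer (Subgroup.zpowers u : Set G)
  have hind : Cfsg.IsInducedBlock M (Subgroup.centralizer (Subgroup.zpowers u : Set G)) e B := by
    obtain ⟨ξ, hξ⟩ := block_nonempty hM hBe.1.2
    rw [isInduced_iff_omega_brEl hM hP hPH le_rfl hHN hBe.1.2 hξ hBe.2.1]
    intro h
    have h1 := hBe.2.2 ξ hξ
    rw [BrauerPairs.brauerOmega_block] at h1
    have e1 : brEl (Subgroup.zpowers u) (Subgroup.centralizer (Subgroup.zpowers u : Set G))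
        (blockIdem B) = BrauerPairs.br (Subgroup.zpowers u) (blockIdem B) :=
      el_ext fun c => by rw [brEl, BrauerPairs.br, coeff_restrEl, coeff_restrEl,
        cutEl_coeff_mem _ c.2]
    rw [e1] at h
    exact not_ideal_one hM ((ideal_iff_of_cong hM h1).1 h)
  have hH : Subgroup.centralizer (Subgroup.zpowers u : Set G) =
      Subgroup.centralizer ({u} : Set G) := Subgroup.ext fun c => mem_centralizer_zpowers
  have hval : ∀ (χ : Cfsg.IrrCharacter G)
      (s : Subgroup.centralizer (Subgroup.zpowers u : Set G)), ¬ p ∣ orderOf s →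
      Cfsg.blockPart e (fun c : Subgroup.centralizer (Subgroup.zpowers u : Set G) =>
          (χ : G → ℂ) (u⁻¹ * c)) s⁻¹ =
        conj (Cfsg.blockPart e (fun c : Subgroup.centralizer (Subgroup.zpowers u : Set G) =>
          (χ : G → ℂ) (u * c)) s) := by
    intro χ s _
    rw [blockPart_eq_kernel, blockPart_eq_kernel, map_sum]
    refine (Fintype.sum_equiv (Equiv.inv _) _ _ fun c => ?_).symm
    rw [map_mul, conj_kernel, ← char_inv (irr_isCharacter χ)]
    congr 2
    have hcu : Commute u (c : G) :=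
      Subgroup.mem_centralizer_iff.1 c.2 u (Subgroup.mem_zpowers u)
    simp only [Equiv.inv_apply, Subgroup.coe_inv]
    rw [mul_inv_rev, (hcu.inv_inv).eq]
  rw [ZStar.Principal.finsum_mem_eq_sum_filter, Finset.sum_congr rfl fun χ _ =>
    finsum_eq_sum_of_fintype _, Finset.sum_comm, blockRank_eq_trace hM (intEl_blockIdem hM hind.1),
    Finset.mul_sum]
  refine Finset.sum_congr rfl fun s _ => ?_
  simp only [Cfsg.pRegularPart, Cfsg.IsPRegular]
  by_cases hs : p ∣ orderOf s
  · simp [hs]
  · simp only [hs, not_false_eq_true, if_true]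
    rw [← norm_subsection hM hu _ hH hind hs, ZStar.Principal.finsum_mem_eq_sum_filter]
    exact Finset.sum_congr rfl fun χ _ => by rw [hval χ s hs]

end Cfsg.Agent.BlockCharsA.Rank
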