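import Mathlib
import Cfsg.Agent.BlockCharsA.Weight
import Cfsg.Agent.BlockCharsA.Rank
import Cfsg.Agent.BlockCharsA.RegularPart

/-!
# Blocks with a central defect group
-/

set_option linter.style.haveILetI false
set_option linter.unusedSectionVars false

namespace Cfsg.Agent.BlockCharsA.CentralDefect

open Cfsg.Agent.Blocks Cfsg.Agent.Characters Cfsg.Agent.BlockCharsA.Weight
open scoped ComplexConjugate

variable {G : Type*} [Group G] [Finite G] {p : ℕ} {M : Ideal Cfsg.AlgInt}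
variable {B : Set (Cfsg.IrrCharacter G)} {Z : Subgroup G}

theorem sum_scalar_eq_zero [Fintype Z] (hZc : ∀ t ∈ Z, ∀ x : G, Commute t x)
    (ξ : Cfsg.IrrCharacter G) (h : ¬ ∀ t ∈ Z, (ξ : G → ℂ) t = (ξ : G → ℂ) 1) :
    ∑ t : Z, (ξ : G → ℂ) t = 0 := by
  push Not at h
  obtain ⟨s, hsZ, hs1⟩ := h
  have h3 : ∑ t : Z, (ξ : G → ℂ) t =
      (ξ : G → ℂ) s / (ξ : G → ℂ) 1 * ∑ t : Z, (ξ : G → ℂ) t := by
    rw [Finset.mul_sum]
    exact (Fintype.sum_equiv (Equiv.mulLeft (⟨s, hsZ⟩ : Z)) _ _ fun t => by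
      rw [← value_mul_central ξ (hZc s hsZ)]; rfl).symm
  by_contra hne0
  refine hs1 ?_
  rw [← div_eq_one_iff_eq (irr_one_ne_zero ξ.2)]
  exact mul_right_cancel₀ hne0 (h3.symm.trans (one_mul _).symm)

theorem singular_mul (hM : Cfsg.IsPModular p M) (hZp : IsPGroup p Z)
    (hZc : ∀ t ∈ Z, ∀ x : G, Commute t x) {y : G} (hy : ¬ p ∣ orderOf y) {t : Z} (ht : t ≠ 1) :
    p ∣ orderOf (y * (t : G)) := by
  by_contra h
  exact ht (Subtype.ext (one_of_regular hM hZp hZc t.2 hy h))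

theorem exists_trivial (hM : Cfsg.IsPModular p M) (hB : Cfsg.IsPBlock M B) (hZp : IsPGroup p Z)
    (hZc : ∀ t ∈ Z, ∀ x : G, Commute t x) :
    ∃ θ ∈ B, ∀ t ∈ Z, (θ : G → ℂ) t = (θ : G → ℂ) 1 := by
  classical
  haveI := fact_prime_of_pm hM
  haveI := Fintype.ofFinite G
  haveI := Fintype.ofFinite Z
  haveI := Fintype.ofFinite (Cfsg.IrrCharacter G)
  by_contra hcon
  push Not at hcon
  have h1 : ∑ t : Z, Cfsg.blockCoeff B ((1 : G) * (t : G)) = Cfsg.blockCoeff B 1 := by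
    rw [Finset.sum_eq_single (1 : Z)]
    · simp
    · intro t _ ht
      exact blockCoeff_eq_zero_of_singular hM (intEl_blockIdem hM hB)
        (singular_mul hM hZp hZc (by simp [hM.1.ne_one]) ht)
    · simp
  simp only [one_mul, blockCoeff_eq_sum, ← Finset.mul_sum] at h1
  rw [Finset.sum_comm] at h1
  have h2 : ∀ ξ : Cfsg.IrrCharacter G, ∑ t : Z,
      (if ξ ∈ B then (ξ : G → ℂ) 1 * conj ((ξ : G → ℂ) (t : G)) else 0) = 0 := by
    intro ξ
    by_cases hξ : ξ ∈ B
    · simp only [if_pos hξ]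
      rw [← Finset.mul_sum, ← map_sum, sum_scalar_eq_zero hZc ξ fun h => by
        obtain ⟨s, hs, hne⟩ := hcon ξ hξ
        exact hne (h s hs), map_zero, mul_zero]
    · simp [hξ]
  simp only [h2, Finset.sum_const_zero, mul_zero] at h1
  have h3 : ∑ ξ : Cfsg.IrrCharacter G, (if ξ ∈ B then
      ((Cfsg.charDegree (ξ : G → ℂ)) ^ 2 : ℕ) else 0) = 0 := by
    have : ((∑ ξ : Cfsg.IrrCharacter G, (if ξ ∈ B then
        ((Cfsg.charDegree (ξ : G → ℂ)) ^ 2 : ℕ) else 0) : ℕ) : ℂ) = 0 := by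
      rw [eq_comm, mul_eq_zero, or_iff_right (inv_ne_zero natCard_ne_zero)] at h1
      rw [← h1, Nat.cast_sum]
      refine Finset.sum_congr rfl fun ξ _ => ?_
      split
      · rw [← charDegree_cast, Complex.conj_natCast, Nat.cast_pow, sq]
      · exact Nat.cast_zero
    exact_mod_cast this
  obtain ⟨ξ, hξ⟩ := block_nonempty hM hB
  have h4 := (Finset.sum_eq_zero_iff.1 h3) ξ (Finset.mem_univ ξ)
  rw [if_pos hξ] at h4
  exact (charDegree_pos ξ).ne' (pow_eq_zero_iff (n := 2) (by norm_num) |>.1 h4)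

/-- The hypotheses shared below. -/
structure Data (p : ℕ) (M : Ideal Cfsg.AlgInt) (B : Set (Cfsg.IrrCharacter G)) (Z : Subgroup G)
    (θ : Cfsg.IrrCharacter G) : Prop where
  hM : Cfsg.IsPModular p M
  hB : Cfsg.IsPBlock M B
  hZp : IsPGroup p Z
  hZc : ∀ t ∈ Z, ∀ x : G, Commute t x
  hθ : θ ∈ B
  hker : ∀ t ∈ Z, (θ : G → ℂ) t = (θ : G → ℂ) 1
  hdeg : (Nat.card G).factorization p ≤
    (Cfsg.charDegree (θ : G → ℂ)).factorization p + (Nat.card Z).factorization p

variable {θ : Cfsg.IrrCharacter G}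

theorem normal_of_central (hZc : ∀ t ∈ Z, ∀ x : G, Commute t x) : Z.Normal :=
  ⟨fun t ht x => by rwa [← (hZc t ht x).eq, mul_inv_cancel_right]⟩

theorem kernel_eq (h : Data p M B Z θ) {y c : G} (hy : ¬ p ∣ orderOf y) (hc : ¬ p ∣ orderOf c) :
    blockKernelAt B y c =
      (Nat.card Z : ℂ) / (Nat.card G : ℂ) * ((θ : G → ℂ) y * conj ((θ : G → ℂ) c)) := by
  classical
  haveI := normal_of_central h.hZc
  haveI := Fintype.ofFinite G
  haveI := Fintype.ofFinite Z
  haveI := Fintype.ofFinite (Cfsg.IrrCharacter G)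
  have h1 : ∑ t : Z, blockKernelAt B y (c * (t : G)) = blockKernelAt B y c := by
    rw [Finset.sum_eq_single (1 : Z)]
    · simp
    · intro t _ ht
      exact blockKernelAt_singular h.hM h.hB hy (singular_mul h.hM h.hZp h.hZc hc ht)
    · simp
  rw [← h1]
  simp only [blockKernelAt_eq_sum, ← Finset.mul_sum]
  rw [Finset.sum_comm, Finset.sum_eq_single θ]
  · simp only [if_pos h.hθ]
    rw [Finset.sum_congr rfl fun (t : Z) _ => by
      rw [← (h.hZc t t.2 c).eq, char_mul_of_eq_one (irr_isCharacter θ) (h.hker t t.2)],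
      Finset.sum_const, Finset.card_univ, ← Nat.card_eq_fintype_card, nsmul_eq_mul]
    ring
  · intro ξ _ hne
    by_cases hξ : ξ ∈ B
    · simp only [if_pos hξ]
      rw [← Finset.mul_sum, ← map_sum, Finset.sum_congr rfl fun (t : Z) _ => by
          rw [← (h.hZc t t.2 c).eq, value_mul_central ξ (h.hZc t t.2)],
        ← Finset.sum_mul, ← Finset.sum_div, sum_scalar_eq_zero h.hZc ξ fun hk =>
          hne (only_trivial h.hM h.hB h.hZp h.hZc h.hθ h.hker h.hdeg ξ hξ hk),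
        zero_div, zero_mul, map_zero, mul_zero]
    · simp [hξ]
  · simp

open scoped Classical in
theorem norm_reg [Fintype G] (h : Data p M B Z θ) :
    (Nat.card Z : ℂ) * ∑ y : G, (if ¬ p ∣ orderOf y then
      (θ : G → ℂ) y * conj ((θ : G → ℂ) y) else 0) = (Nat.card G : ℂ) := by
  haveI := normal_of_central h.hZc
  rw [regSum_trivial h.hM h.hZp h.hZc h.hker h.hdeg h.hker, if_pos rfl, mul_one]

theorem blockRank_eq_one (h : Data p M B Z θ) : Cfsg.blockRank p B = 1 := by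
  classical
  haveI := Fintype.ofFinite G
  rw [← Nat.cast_inj (R := ℂ), Nat.cast_one,
    Rank.blockRank_eq_trace h.hM (intEl_blockIdem h.hM h.hB)]
  rw [Finset.sum_congr rfl (g := fun y : G => (Nat.card Z : ℂ) / (Nat.card G : ℂ) *
    if ¬ p ∣ orderOf y then (θ : G → ℂ) y * conj ((θ : G → ℂ) y) else 0) fun y _ => by
      split
      · next hy => exact kernel_eq h hy hy
      · exact (mul_zero _).symm, ← Finset.mul_sum, div_mul_eq_mul_div, norm_reg h,
    div_self natCard_ne_zero]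

theorem reg_value (h : Data p M B Z θ) {ξ : Cfsg.IrrCharacter G} (hξ : ξ ∈ B) {y : G}
    (hy : ¬ p ∣ orderOf y) :
    (ξ : G → ℂ) y = (ξ : G → ℂ) 1 / (θ : G → ℂ) 1 * (θ : G → ℂ) y := by
  classical
  haveI := Fintype.ofFinite G
  have key : ∀ y : G, ¬ p ∣ orderOf y → (ξ : G → ℂ) y = (θ : G → ℂ) y *
      ((Nat.card Z : ℂ) / (Nat.card G : ℂ) * ∑ c : G, if ¬ p ∣ orderOf c then
        conj ((θ : G → ℂ) c) * (ξ : G → ℂ) c else 0) := by
    intro y hy
    have h1 := blockPart_irr B ξ y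
    rw [if_pos hξ, blockPart_eq_kernel] at h1
    rw [← h1, Finset.mul_sum, Finset.mul_sum]
    refine Finset.sum_congr rfl fun c _ => ?_
    split
    · next hc => rw [kernel_eq h hy hc]; ring
    · next hc => rw [blockKernelAt_singular h.hM h.hB hy (not_not.1 hc)]; ring
  rw [key y hy, key 1 (by simp [h.hM.1.ne_one])]
  field_simp [irr_one_ne_zero θ.2]

/-- A member of maximal degree agrees with `θ` on the regular elements and vanishes off them
times `Z`. -/
theorem member_eq (h : Data p M B Z θ)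
    (hmax : (Nat.card G).factorization p =
      (Cfsg.charDegree (θ : G → ℂ)).factorization p + (Nat.card Z).factorization p)
    {ξ : Cfsg.IrrCharacter G} (hξ : ξ ∈ B)
    (hdeg : (Cfsg.charDegree (θ : G → ℂ)).factorization p ≤
      (Cfsg.charDegree (ξ : G → ℂ)).factorization p) :
    (∀ y : G, ¬ p ∣ orderOf y → (ξ : G → ℂ) y = (θ : G → ℂ) y) ∧
      ∀ g : G, (ξ : G → ℂ) g ≠ 0 → ∃ y t, ¬ p ∣ orderOf y ∧ t ∈ Z ∧ y * t = g := by
  classical
  haveI := fact_prime_of_pm h.hM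
  haveI := Fintype.ofFinite G
  haveI := Fintype.ofFinite Z
  obtain ⟨n, hn⟩ := IsPGroup.iff_card.1 h.hZp
  have hnf : (Nat.card Z).factorization p = n := by
    rw [hn, h.hM.1.factorization_pow, Finsupp.single_eq_same]
  set m := (Cfsg.charDegree (θ : G → ℂ)).factorization p
  set r : ℂ := (ξ : G → ℂ) 1 / (θ : G → ℂ) 1 with hr
  -- `r` is an integer
  obtain ⟨z, hz, -, hdvd⟩ := RegularPart.exists_coeff h.hM θ ξ
  have hzr : (z : ℂ) = ((p ^ m : ℕ) : ℂ) * r := by
    rw [← hz, classInner_def]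
    have e : ∑ x : G, RegularPart.hat p ((p ^ (Nat.card G).factorization p : ℕ) : ℂ)
        (θ : G → ℂ) x * conj ((ξ : G → ℂ) x) =
        ((p ^ (Nat.card G).factorization p : ℕ) : ℂ) * (r * ∑ y : G, (if ¬ p ∣ orderOf y then
          (θ : G → ℂ) y * conj ((θ : G → ℂ) y) else 0)) := by
      rw [Finset.mul_sum, Finset.mul_sum]
      refine Finset.sum_congr rfl fun x _ => ?_
      by_cases hx : p ∣ orderOf x
      · simp [RegularPart.hat, hx]
      · simp only [RegularPart.hat, hx, if_false, not_false_eq_true, if_true]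
        rw [reg_value h hξ hx, map_mul, ← hr]
        rw [show conj r = r by
          rw [hr, ← charDegree_cast ξ, ← charDegree_cast θ, map_div₀, Complex.conj_natCast,
            Complex.conj_natCast]]
        ring
    rw [e, hmax, pow_add, hnf, ← hn, Nat.cast_mul]
    calc _ = (Nat.card G : ℂ)⁻¹ * ((p ^ m : ℕ) : ℂ) * r * ((Nat.card Z : ℂ) *
          ∑ y : G, (if ¬ p ∣ orderOf y then
            (θ : G → ℂ) y * conj ((θ : G → ℂ) y) else 0)) := by ring
      _ = _ := by rw [norm_reg h]; field_simp [natCard_ne_zero (G := G)]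
  obtain ⟨w, hw⟩ := (pow_dvd_pow (p : ℤ) hdeg).trans hdvd
  have hrw : r = (w : ℂ) := by
    apply mul_left_cancel₀ (natCast_p_pow_ne_zero h.hM m)
    rw [← hzr, hw]
    push_cast
    ring
  have hwpos : 0 < w := by
    obtain ⟨a, ha, ha'⟩ := irr_one_pos ξ.2
    obtain ⟨b, hb, hb'⟩ := irr_one_pos θ.2
    have : (a : ℂ) = (w : ℂ) * (b : ℂ) := by
      rw [← ha', ← hb', ← hrw, hr, div_mul_cancel₀ _ (irr_one_ne_zero θ.2)]
    have h1 : (a : ℤ) = w * b := by exact_mod_cast this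
    by_contra hle
    have : (a : ℤ) ≤ 0 := by
      rw [h1]
      exact mul_nonpos_of_nonpos_of_nonneg (not_lt.1 hle) (by positivity)
    omega
  -- the norm
  set R := Finset.univ.filter fun y : G => ¬ p ∣ orderOf y
  have hinj : Set.InjOn (fun yt : G × Z => yt.1 * (yt.2 : G))
      (R ×ˢ Finset.univ : Finset (G × Z)) := by
    intro a ha b hb he
    have ha' := (Finset.mem_filter.1 (Finset.mem_product.1 ha).1).2
    have hb' := (Finset.mem_filter.1 (Finset.mem_product.1 hb).1).2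
    have e : a.1 * ((a.2 * b.2⁻¹ : Z) : G) = b.1 := by
      simp only at he
      rw [Subgroup.coe_mul, ← mul_assoc, he, Subgroup.coe_inv, mul_inv_cancel_right]
    have h1 := one_of_regular h.hM h.hZp h.hZc (a.2 * b.2⁻¹).2 ha' (e.symm ▸ hb')
    rw [h1, mul_one] at e
    exact Prod.ext e (mul_inv_eq_one.1 (Subtype.ext h1))
  set I := (R ×ˢ Finset.univ : Finset (G × Z)).image (fun yt => yt.1 * (yt.2 : G))
  set F : G → ℝ := fun g => ‖(ξ : G → ℂ) g‖ ^ 2
  have hI : ∑ g ∈ I, F g = (Nat.card G : ℝ) * (w : ℝ) ^ 2 := by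
    have hnr : (Nat.card Z : ℝ) * ∑ y ∈ R, ‖(θ : G → ℂ) y‖ ^ 2 = (Nat.card G : ℝ) := by
      have h1 := norm_reg h
      rw [← Finset.sum_filter] at h1
      simp only [Complex.mul_conj'] at h1
      exact_mod_cast h1
    have habs : ∀ (y : G) (t : Z), y ∈ R →
        F (y * (t : G)) = (w : ℝ) ^ 2 * ‖(θ : G → ℂ) y‖ ^ 2 := by
      intro y t hy
      have hu : ‖(ξ : G → ℂ) (t : G) / (ξ : G → ℂ) 1‖ = 1 := by
        obtain ⟨k, hk⟩ := IsPGroup.iff_orderOf.1 h.hZp t
        have hpow : ∀ j : ℕ, (ξ : G → ℂ) ((t : G) ^ j) =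
            ((ξ : G → ℂ) (t : G) / (ξ : G → ℂ) 1) ^ j * (ξ : G → ℂ) 1 := by
          intro j
          induction j with
          | zero => simp
          | succ j ih =>
            rw [pow_succ' (t : G), value_mul_central ξ (h.hZc _ t.2), ih, pow_succ']
            ring
        have h1 := hpow (p ^ k)
        rw [← hk, ← Subgroup.orderOf_coe, pow_orderOf_eq_one] at h1
        have h2 : ((ξ : G → ℂ) (t : G) / (ξ : G → ℂ) 1) ^ orderOf (t : G) = 1 :=
          mul_right_cancel₀ (irr_one_ne_zero ξ.2) (h1.symm.trans (one_mul _).symm)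
        exact Complex.norm_eq_one_of_pow_eq_one h2 (orderOf_pos (t : G)).ne'
      simp only [F]
      rw [← (h.hZc t t.2 y).eq, value_mul_central ξ (h.hZc t t.2), norm_mul, hu, one_mul,
        reg_value h hξ (Finset.mem_filter.1 hy).2, ← hr, hrw, norm_mul, mul_pow]
      simp
    rw [Finset.sum_image hinj, Finset.sum_product,
      Finset.sum_congr rfl fun y hy => Finset.sum_congr rfl fun t _ => habs y t hy,
      ← hnr]
    simp only [Finset.sum_const, Finset.card_univ, ← Nat.card_eq_fintype_card, nsmul_eq_mul]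
    rw [Finset.mul_sum, Finset.sum_mul]
    exact Finset.sum_congr rfl fun y _ => by ring
  have hall : ∑ g : G, F g = (Nat.card G : ℝ) := by
    have h1 := classInner_isIrr_self ξ.2
    rw [classInner_def, inv_mul_eq_one₀ natCard_ne_zero] at h1
    simp only [Complex.mul_conj'] at h1
    exact_mod_cast h1.symm
  have hw1 : w = 1 := by
    by_contra hne
    have hge : (2 : ℝ) ≤ w := by exact_mod_cast (show 2 ≤ w by omega)
    have hle : ∑ g ∈ I, F g ≤ ∑ g : G, F g :=
      Finset.sum_le_sum_of_subset_of_nonneg (Finset.subset_univ _) fun g _ _ => by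
        simp only [F]; positivity
    have hG : (0 : ℝ) < Nat.card G := Nat.cast_pos.2 Nat.card_pos
    rw [hI, hall] at hle
    nlinarith [mul_le_mul_of_nonneg_left (pow_le_pow_left₀ (by norm_num) hge 2) hG.le]
  rw [hw1, Int.cast_one] at hrw
  refine ⟨fun y hy => by rw [reg_value h hξ hy, ← hr, hrw, one_mul], fun g hg => ?_⟩
  by_contra hne
  push Not at hne
  have hgI : g ∉ I := by
    intro hgI
    obtain ⟨yt, hyt, hg'⟩ := Finset.mem_image.1 hgI
    exact hne yt.1 yt.2 (Finset.mem_filter.1 (Finset.mem_product.1 hyt).1).2 yt.2.2 hg'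
  have h0 : ∑ x ∈ Finset.univ \ I, F x = 0 := by
    have := Finset.sum_sdiff (Finset.subset_univ I) (f := F)
    rw [hI, hall, hw1, Int.cast_one, one_pow, mul_one] at this
    linarith
  have h1 := (Finset.sum_eq_zero_iff_of_nonneg fun x _ => by simp only [F]; positivity).1 h0 g
    (Finset.mem_sdiff.2 ⟨Finset.mem_univ g, hgI⟩)
  simp only [F] at h1
  exact hg (norm_eq_zero.1 (pow_eq_zero_iff (n := 2) (by norm_num) |>.1 h1))

/-- Every linear character of `Z` is the central character of a member. -/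
theorem exists_scalar (h : Data p M B Z θ) (lam : Z → ℂ)
    (hlam : ∀ s t : Z, lam (s * t) = lam s * lam t) (hlam1 : lam 1 = 1) :
    ∃ ξ ∈ B, ∀ t : Z, (ξ : G → ℂ) t = lam t * (ξ : G → ℂ) 1 := by
  classical
  haveI := Fintype.ofFinite G
  haveI := Fintype.ofFinite Z
  haveI := Fintype.ofFinite (Cfsg.IrrCharacter G)
  by_contra hcon
  push Not at hcon
  have h1 : ∑ t : Z, lam t⁻¹ * Cfsg.blockCoeff B ((t : G)⁻¹) = Cfsg.blockCoeff B 1 := by
    rw [Finset.sum_eq_single (1 : Z)]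
    · simp [hlam1]
    · intro t _ ht
      have := singular_mul h.hM h.hZp h.hZc (y := 1) (by simp [h.hM.1.ne_one]) ht
      rw [one_mul, ← orderOf_inv] at this
      rw [blockCoeff_eq_zero_of_singular h.hM (intEl_blockIdem h.hM h.hB) this, mul_zero]
    · simp
  have h2 : ∀ ξ : Cfsg.IrrCharacter G, ξ ∈ B →
      ∑ t : Z, lam t⁻¹ * (ξ : G → ℂ) t = 0 := by
    intro ξ hξ
    obtain ⟨s, hs⟩ := hcon ξ hξ
    have h3 : ∑ t : Z, lam t⁻¹ * (ξ : G → ℂ) t =
        lam s⁻¹ * ((ξ : G → ℂ) (s : G) / (ξ : G → ℂ) 1) * ∑ t : Z, lam t⁻¹ * (ξ : G → ℂ) t := by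
      rw [Finset.mul_sum]
      refine (Fintype.sum_equiv (Equiv.mulLeft s) _ _ fun t => ?_).symm
      rw [Equiv.coe_mulLeft, mul_inv_rev, hlam, Subgroup.coe_mul,
        value_mul_central ξ (h.hZc _ s.2)]
      ring
    by_contra hne
    refine hs ?_
    have h4 := mul_right_cancel₀ hne (h3.symm.trans (one_mul _).symm)
    have h5 : lam s * lam s⁻¹ = 1 := by rw [← hlam, mul_inv_cancel, hlam1]
    calc (ξ : G → ℂ) (s : G) = (lam s * lam s⁻¹) * ((ξ : G → ℂ) (s : G) / (ξ : G → ℂ) 1) *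
          (ξ : G → ℂ) 1 := by rw [h5, one_mul, div_mul_cancel₀ _ (irr_one_ne_zero ξ.2)]
      _ = lam s * (ξ : G → ℂ) 1 := by rw [mul_assoc (lam s), h4, mul_one]
  simp only [blockCoeff_eq_sum, Finset.mul_sum, map_one] at h1
  rw [Finset.sum_comm] at h1
  have h0 : ∑ ξ : Cfsg.IrrCharacter G, ∑ t : Z, lam t⁻¹ * ((Nat.card G : ℂ)⁻¹ *
      if ξ ∈ B then (ξ : G → ℂ) 1 * conj ((ξ : G → ℂ) ((t : G)⁻¹)) else 0) = 0 := by
    refine Finset.sum_eq_zero fun ξ _ => ?_
    by_cases hξ : ξ ∈ B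
    · simp only [if_pos hξ, ← char_inv (irr_isCharacter ξ), inv_inv]
      calc _ = (Nat.card G : ℂ)⁻¹ * (ξ : G → ℂ) 1 * ∑ t : Z, lam t⁻¹ * (ξ : G → ℂ) t := by
            rw [Finset.mul_sum]
            exact Finset.sum_congr rfl fun t _ => by ring
        _ = 0 := by rw [h2 ξ hξ, mul_zero]
    · simp [hξ]
  rw [h0] at h1
  have h6 : ∑ ξ : Cfsg.IrrCharacter G, (if ξ ∈ B then
      ((Cfsg.charDegree (ξ : G → ℂ)) ^ 2 : ℕ) else 0) = 0 := by
    have : ((∑ ξ : Cfsg.IrrCharacter G, (if ξ ∈ B then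
        ((Cfsg.charDegree (ξ : G → ℂ)) ^ 2 : ℕ) else 0) : ℕ) : ℂ) = 0 := by
      rw [← Finset.mul_sum, eq_comm, mul_eq_zero, or_iff_right (inv_ne_zero natCard_ne_zero)] at h1
      rw [← h1, Nat.cast_sum]
      refine Finset.sum_congr rfl fun ξ _ => ?_
      split
      · rw [← charDegree_cast, Complex.conj_natCast, Nat.cast_pow, sq]
      · exact Nat.cast_zero
    exact_mod_cast this
  obtain ⟨ξ, hξ⟩ := block_nonempty h.hM h.hB
  have h7 := (Finset.sum_eq_zero_iff.1 h6) ξ (Finset.mem_univ ξ)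
  rw [if_pos hξ] at h7
  exact (charDegree_pos ξ).ne' (pow_eq_zero_iff (n := 2) (by norm_num) |>.1 h7)

theorem data_of_defect (hM : Cfsg.IsPModular p M) (hB : Cfsg.IsPBlock M B)
    (hD : Cfsg.IsDefectGroup p M B Z) (hZc : ∀ t ∈ Z, ∀ x : G, Commute t x) :
    ∃ θ, Data p M B Z θ := by
  have hZp := isPGroup_defect hD
  obtain ⟨θ, hθ, hker⟩ := exists_trivial hM hB hZp hZc
  refine ⟨θ, ⟨hM, hB, hZp, hZc, hθ, hker, ?_⟩⟩
  rw [card_defectGroup hM hB hD, hM.1.factorization_pow, Finsupp.single_eq_same]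
  have := degree_factorization_eq hM hB hθ
  have := blockDefect_le p B
  omega

end Cfsg.Agent.BlockCharsA.CentralDefect
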