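import Mathlib
import Cfsg.Agent.BlockCharsA.BrauerPairs
import Cfsg.Agent.BlockCharsA.NormalSupport
import Cfsg.Agent.Lib.Blocks.Defect
import Cfsg.Agent.Lib.Blocks.Induced

/-!
# The orbit of a Brauer pair on a normal `p`-subgroup and its stabiliser
-/

set_option linter.style.haveILetI false
set_option linter.unusedSectionVars false

namespace Cfsg.Agent.BlockCharsA.PairStab

open Cfsg.Agent.Blocks Cfsg.Agent.Characters Cfsg.Agent.BlockCharsA.BrauerPairs
open scoped ComplexConjugate

variable {G : Type*} [Group G] [Finite G] {p : ℕ} {M : Ideal Cfsg.AlgInt}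

/-- A central integral idempotent below a block idempotent is the block idempotent. -/
theorem eq_blockIdem_of_idem_le (hM : Cfsg.IsPModular p M) {B : Set (Cfsg.IrrCharacter G)}
    (hB : Cfsg.IsPBlock M B) {z : MonoidAlgebra ℂ G} (hc : IsCentralEl z) (hi : IntEl M z)
    (hid : z * z = z) (hle : z * blockIdem B = z) (hne : z ≠ 0) : z = blockIdem B := by
  classical
  obtain ⟨A, rfl, -⟩ := NormalSupport.exists_blockIdem_eq hc hid
  have hsub : A ⊆ B := by
    intro χ hχ
    by_contra hn
    have h := congrArg (omega (χ : G → ℂ)) hle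
    rw [omega_mul χ (central_blockIdem A), omega_blockIdem_mem hχ, omega_blockIdem_notMem hn,
      mul_zero] at h
    exact zero_ne_one h
  obtain ⟨χ, hχ⟩ : A.Nonempty := by
    by_contra hA
    rw [Set.not_nonempty_iff_eq_empty.1 hA] at hne
    exact hne (el_ext fun g => by simp [coeff_blockIdem, Cfsg.blockCoeff])
  suffices A = B by rw [this]
  refine hsub.antisymm fun ψ hψ => blockOf_subset_of_intEl hM hi hχ ?_
  rw [← block_eq_blockOf hM hB (hsub hχ)]
  exact hψ

/-- The idempotent of a union of blocks is the sum of theirs. -/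
theorem blockIdem_union_eq (hM : Cfsg.IsPModular p M) {A : Set (Cfsg.IrrCharacter G)}
    (h : ∀ χ ∈ A, Cfsg.blockOf M (χ : G → ℂ) ⊆ A)
    [Fintype {B : Set (Cfsg.IrrCharacter G) // Cfsg.IsPBlock M B}]
    [DecidablePred fun B : {B : Set (Cfsg.IrrCharacter G) // Cfsg.IsPBlock M B} => B.1 ⊆ A] :
    blockIdem A = ∑ B ∈ Finset.univ.filter
      (fun B : {B : Set (Cfsg.IrrCharacter G) // Cfsg.IsPBlock M B} => B.1 ⊆ A), blockIdem B.1 := by
  classical
  refine central_omega_ext (central_blockIdem A) (central_sum fun B _ => central_blockIdem _)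
    fun χ => ?_
  rw [omega_sum, omega_blockIdem]
  by_cases hχ : χ ∈ A
  · rw [if_pos hχ, Finset.sum_eq_single (⟨_, isPBlock_blockOf M χ⟩ :
      {B : Set (Cfsg.IrrCharacter G) // Cfsg.IsPBlock M B})]
    · exact (omega_blockIdem_mem (mem_blockOf_self hM χ)).symm
    · intro B _ hne
      exact omega_blockIdem_notMem fun hB => hne (Subtype.ext (block_eq_blockOf hM B.2 hB))
    · intro hn
      exact (hn (by simpa using h χ hχ)).elim
  · rw [if_neg hχ]
    refine (Finset.sum_eq_zero fun B hB => omega_blockIdem_notMem fun hm => ?_).symm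
    exact hχ ((Finset.mem_filter.1 hB).2 hm)

/-- The idempotent of a union of blocks is integral. -/
theorem intEl_blockIdem_union (hM : Cfsg.IsPModular p M) {A : Set (Cfsg.IrrCharacter G)}
    (h : ∀ χ ∈ A, Cfsg.blockOf M (χ : G → ℂ) ⊆ A) : IntEl M (blockIdem A) := by
  classical
  haveI := Fintype.ofFinite {B : Set (Cfsg.IrrCharacter G) // Cfsg.IsPBlock M B}
  rw [blockIdem_union_eq hM h]
  exact intEl_sum hM fun B _ => intEl_blockIdem hM B.2

theorem omega_comp (σ : G ≃* G) {z : MonoidAlgebra ℂ G} (hz : ∀ k, z.coeff (σ k) = z.coeff k)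
    (ψ : G → ℂ) : omega (ψ ∘ σ) z = omega ψ z := by
  classical
  haveI := Fintype.ofFinite G
  rw [omega, omega, evalChar_eq_sum, evalChar_eq_sum, Function.comp_apply, map_one]
  congr 1
  exact Fintype.sum_equiv σ.toEquiv _ _ fun k => by
    show z.coeff k * ψ (σ k) = z.coeff (σ k) * ψ (σ k)
    rw [hz k]

theorem inclEl_restrEl {H : Subgroup G} {z : MonoidAlgebra ℂ G}
    (hz : ∀ g ∉ H, z.coeff g = 0) : inclEl H (restrEl H z) = z :=
  el_ext fun g => by
    by_cases hg : g ∈ H
    · rw [coeff_inclEl_of_mem _ _ hg, coeff_restrEl]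
    · rw [coeff_inclEl_notMem _ _ hg, hz g hg]

theorem restrEl_idem {H : Subgroup G} {z : MonoidAlgebra ℂ G}
    (hz : ∀ g ∉ H, z.coeff g = 0) (h : z * z = z) : restrEl H z * restrEl H z = restrEl H z := by
  rw [← restrEl_mul H hz, h]

theorem stabilizes_self {K : Subgroup G} (f : Set (Cfsg.IrrCharacter K)) {x : G} (hx : x ∈ K) :
    Cfsg.StabilizesBlock K f x :=
  ⟨Subgroup.le_normalizer hx, fun χ hχ => ⟨χ, hχ, fun k k' hk => by
    rw [show k' = (⟨x, hx⟩ : K) * k * (⟨x, hx⟩ : K)⁻¹ from Subtype.ext hk]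
    exact irr_isClassFunction χ k ⟨x, hx⟩⟩⟩

theorem stabilizes_centralizer {P : Subgroup G}
    (f : Set (Cfsg.IrrCharacter (Subgroup.centralizer (P : Set G)))) {x : G} (hx : x ∈ P) :
    Cfsg.StabilizesBlock (Subgroup.centralizer (P : Set G)) f x :=
  ⟨normalizer_le_normalizer_centralizer P (Subgroup.le_normalizer hx), fun χ hχ =>
    ⟨χ, hχ, fun k k' hk => congrArg (χ : Subgroup.centralizer (P : Set G) → ℂ)
      (Subtype.ext (by rw [hk, k.2 x hx, mul_inv_cancel_right]))⟩⟩

section Normal

variable (K : Subgroup G) [hK : K.Normal]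

theorem mem_normalizer_normal (x : G) : x ∈ Subgroup.normalizer (K : Set G) := by
  rw [Subgroup.normalizer_eq_top]; trivial

/-- Conjugation on a normal subgroup. -/
def sig (x : G) : K ≃* K := conjK (mem_normalizer_normal K x)

theorem coe_sig (x : G) (k : K) : (sig K x k : G) = x * k * x⁻¹ := rfl

theorem coe_sig_symm (x : G) (k : K) : ((sig K x).symm k : G) = x⁻¹ * k * x := rfl

theorem irrAut_sig_sig (x y : G) (χ : Cfsg.IrrCharacter K) :
    irrAutEquiv (sig K y) (irrAutEquiv (sig K x) χ) = irrAutEquiv (sig K (x * y)) χ :=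
  Subtype.ext (funext fun k => congrArg (χ : K → ℂ) (Subtype.ext (by
    simp [coe_sig, mul_assoc])))

theorem moveSet_sig_mul (x y : G) (f : Set (Cfsg.IrrCharacter K)) :
    moveSet (sig K x) (moveSet (sig K y) f) = moveSet (sig K (x * y)) f := by
  ext χ
  show irrAutEquiv (sig K y) (irrAutEquiv (sig K x) χ) ∈ f ↔ _
  rw [irrAut_sig_sig]
  rfl

theorem moveSet_sig_one (f : Set (Cfsg.IrrCharacter K)) : moveSet (sig K 1) f = f := by
  ext χ
  show irrAutEquiv (sig K 1) χ ∈ f ↔ χ ∈ f
  rw [show irrAutEquiv (sig K 1) χ = χ from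
    Subtype.ext (funext fun k => congrArg (χ : K → ℂ) (Subtype.ext (by simp [coe_sig])))]

theorem moveSet_sig_eq_iff (x y : G) (f : Set (Cfsg.IrrCharacter K)) :
    moveSet (sig K x) f = moveSet (sig K y) f ↔ Cfsg.StabilizesBlock K f (x⁻¹ * y) := by
  rw [stabilizes_iff (mem_normalizer_normal K _)]
  show _ ↔ moveSet (sig K (x⁻¹ * y)) f = f
  constructor
  · intro h
    rw [← moveSet_sig_mul, ← h, moveSet_sig_mul, inv_mul_cancel, moveSet_sig_one]
  · intro h
    conv_lhs => rw [← h]
    rw [moveSet_sig_mul, mul_inv_cancel_left]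

/-- The union of the conjugates of a set of characters. -/
def orbit (f : Set (Cfsg.IrrCharacter K)) : Set (Cfsg.IrrCharacter K) :=
  {ψ | ∃ x : G, irrAutEquiv (sig K x) ψ ∈ f}

theorem subset_orbit (f : Set (Cfsg.IrrCharacter K)) : f ⊆ orbit K f := fun ψ hψ =>
  ⟨1, by
    have : irrAutEquiv (sig K 1) ψ = ψ := Subtype.ext (funext fun k =>
      congrArg (ψ : K → ℂ) (Subtype.ext (by simp [coe_sig])))
    rwa [this]⟩

theorem moveSet_orbit (f : Set (Cfsg.IrrCharacter K)) (x : G) :
    moveSet (sig K x) (orbit K f) = orbit K f := by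
  ext ψ
  show (∃ y, irrAutEquiv (sig K y) (irrAutEquiv (sig K x) ψ) ∈ f) ↔ ∃ y, _
  simp only [irrAut_sig_sig]
  exact ⟨fun ⟨y, h⟩ => ⟨x * y, h⟩, fun ⟨y, h⟩ => ⟨x⁻¹ * y, by rwa [mul_inv_cancel_left]⟩⟩

theorem blockOf_subset_orbit (hM : Cfsg.IsPModular p M) {f : Set (Cfsg.IrrCharacter K)}
    (hf : Cfsg.IsPBlock M f) : ∀ ψ ∈ orbit K f, Cfsg.blockOf M (ψ : K → ℂ) ⊆ orbit K f := by
  rintro ψ ⟨x, hx⟩ φ hφ
  exact ⟨x, mem_of_sameBlock hM hf hx (sameBlock_comp (sig K x) (mem_blockOf.1 hφ))⟩

theorem invBy_orbit (f : Set (Cfsg.IrrCharacter K)) :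
    InvBy (Set.univ : Set G) (elF K (orbit K f)) :=
  invBy_elF fun u _ =>
    (stabilizes_iff (mem_normalizer_normal K u) _).2 (moveSet_orbit K f u)

theorem central_elF_orbit (f : Set (Cfsg.IrrCharacter K)) :
    IsCentralEl (elF K (orbit K f)) := fun g h => invBy_orbit K f h trivial g

end Normal

section PNormal

variable {P : Subgroup G} [hPn : P.Normal]

theorem blockIdem_supp (hM : Cfsg.IsPModular p M) (hP : IsPGroup p P)
    {B : Set (Cfsg.IrrCharacter G)} (hB : Cfsg.IsPBlock M B) :
    ∀ g ∉ Subgroup.centralizer (P : Set G), (blockIdem B).coeff g = 0 := fun g hg => by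
  rw [coeff_blockIdem]
  exact NormalSupport.blockCoeff_eq_zero (N := Subgroup.centralizer (P : Set G)) hM hP le_rfl hB hg

end PNormal

/-- The idempotent of a block of the centraliser is a block idempotent of every group of the
normaliser that stabilises it and contains the centraliser. -/
theorem exists_stab_block' (hM : Cfsg.IsPModular p M) {P : Subgroup G} (hP : IsPGroup p P)
    {e : Set (Cfsg.IrrCharacter (Subgroup.centralizer (P : Set G)))} (he : Cfsg.IsPBlock M e)
    (T : Subgroup G) (hCT : Subgroup.centralizer (P : Set G) ≤ T) (hPT : P ≤ T)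
    (hTN : T ≤ Subgroup.normalizer (P : Set G))
    (hst : ∀ x ∈ T, Cfsg.StabilizesBlock (Subgroup.centralizer (P : Set G)) e x) :
    ∃ E : Set (Cfsg.IrrCharacter T), Cfsg.IsPBlock M E ∧
      blockIdem E = restrEl T (elF (Subgroup.centralizer (P : Set G)) e) := by
  classical
  set X := elF (Subgroup.centralizer (P : Set G)) e with hX
  have hXs : ∀ g ∉ T, X.coeff g = 0 := fun g hg =>
    coeff_inclEl_notMem _ _ fun h => hg (hCT h)
  have hXT : InvBy (T : Set G) X := invBy_elF fun u hu => hst u hu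
  have hc : IsCentralEl (restrEl T X) := fun t u => by
    rw [coeff_restrEl, coeff_restrEl]
    exact hXT (u : G) u.2 (t : G)
  have hi : IntEl M (restrEl T X) := intEl_restrEl T (intEl_elF hM he)
  obtain ⟨A, hA, -⟩ := NormalSupport.exists_blockIdem_eq hc
    (restrEl_idem hXs (elF_mul_self _ _))
  obtain ⟨χ, hχ⟩ : A.Nonempty := by
    by_contra hn
    obtain ⟨ξ, hξ⟩ := block_nonempty hM he
    rw [Set.not_nonempty_iff_eq_empty.1 hn] at hA
    have h0 : X = 0 := by
      rw [← inclEl_restrEl hXs, hA,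
        show blockIdem (∅ : Set (Cfsg.IrrCharacter T)) = 0 from
          el_ext fun g => by simp [coeff_blockIdem, Cfsg.blockCoeff], map_zero]
    have h1 := omega_blockIdem_mem hξ
    rw [show blockIdem e = restrEl (Subgroup.centralizer (P : Set G)) X from
      (restrEl_inclEl _ _).symm, h0,
      show restrEl (Subgroup.centralizer (P : Set G)) (0 : MonoidAlgebra ℂ G) = 0 from
        el_ext fun k => by simp, omega_zero] at h1
    exact zero_ne_one h1
  set E := Cfsg.blockOf M (χ : T → ℂ) with hEdef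
  have hE : Cfsg.IsPBlock M E := isPBlock_blockOf M χ
  have hEA : E ⊆ A := blockOf_subset_of_intEl hM (hA ▸ hi) hχ
  refine ⟨E, hE, ?_⟩
  set W := inclEl T (blockIdem E) with hW
  haveI : (P.subgroupOf T).Normal := normal_subgroupOf hTN
  have hWs : ∀ g ∉ Subgroup.centralizer (P : Set G), W.coeff g = 0 := by
    intro g hg
    by_cases hgT : g ∈ T
    · rw [hW, coeff_inclEl_of_mem _ _ hgT]
      exact blockIdem_supp hM (isPGroup_subgroupOf hP hPT) hE ⟨g, hgT⟩
        fun h => hg ((mem_centralizer_subgroupOf hPT).1 h)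
    · exact coeff_inclEl_notMem _ _ hgT
  have hWW : W * W = W := by rw [hW, ← map_mul, blockIdem_mul_self]
  have hWX : W * X = W := by
    rw [hW, ← inclEl_restrEl hXs, hA, ← map_mul, blockIdem_mul,
      Set.inter_eq_left.2 hEA]
  have hWc : IsCentralEl (restrEl (Subgroup.centralizer (P : Set G)) W) := fun c d => by
    rw [coeff_restrEl, coeff_restrEl]
    push_cast
    rw [hW, coeff_inclEl_of_mem _ _
      (T.mul_mem (T.mul_mem (hCT d.2) (hCT c.2)) (T.inv_mem (hCT d.2))),
      coeff_inclEl_of_mem _ _ (hCT c.2)]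
    exact central_blockIdem E (⟨c, hCT c.2⟩ : T) ⟨d, hCT d.2⟩
  have hle : restrEl (Subgroup.centralizer (P : Set G)) W * blockIdem e =
      restrEl (Subgroup.centralizer (P : Set G)) W := by
    rw [← restrEl_inclEl (Subgroup.centralizer (P : Set G)) (blockIdem e), ← restrEl_mul _ hWs]
    exact congrArg _ hWX
  have hne : restrEl (Subgroup.centralizer (P : Set G)) W ≠ 0 := by
    intro h0
    have h1 : W = 0 := by rw [← inclEl_restrEl hWs, h0, map_zero]
    have h2 : blockIdem E = 0 := by
      rw [← restrEl_inclEl T (blockIdem E), ← hW, h1]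
      exact el_ext fun k => by simp
    have h3 := omega_blockIdem_mem (mem_blockOf_self hM χ)
    rw [← hEdef, h2, omega_zero] at h3
    exact zero_ne_one h3
  have hfin := eq_blockIdem_of_idem_le hM he hWc
    (intEl_restrEl _ (intEl_inclEl hM T (intEl_blockIdem hM hE))) (restrEl_idem hWs hWW) hle hne
  rw [← restrEl_inclEl T (blockIdem E), ← hW, ← inclEl_restrEl hWs, hfin]
  rfl

section PNormal'

variable {P : Subgroup G} [hPn : P.Normal]

theorem omega_restr_of_pair (hM : Cfsg.IsPModular p M)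
    {B : Set (Cfsg.IrrCharacter G)}
    {e : Set (Cfsg.IrrCharacter (Subgroup.centralizer (P : Set G)))}
    (hBe : Cfsg.IsBrauerPairOf p M B P e)
    {ξ : Cfsg.IrrCharacter (Subgroup.centralizer (P : Set G))} (hξ : ξ ∈ e) :
    omega (ξ : Subgroup.centralizer (P : Set G) → ℂ)
      (restrEl (Subgroup.centralizer (P : Set G)) (blockIdem B)) = 1 := by
  have h := hBe.2.2 ξ hξ
  rw [brauerOmega_block] at h
  rcases NormalSupport.omega_idem (central_restrEl _ (central_blockIdem B))
    (restrEl_idem (blockIdem_supp hM hBe.1.1 hBe.2.1) (blockIdem_mul_self B)) ξ with h0 | h1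
  · exfalso
    rw [br, h0] at h
    exact not_cong_zero_one hM h
  · exact h1

/-- The block idempotent is the idempotent of the orbit of the pair. -/
theorem blockIdem_eq_orbit (hM : Cfsg.IsPModular p M)
    {B : Set (Cfsg.IrrCharacter G)}
    {e : Set (Cfsg.IrrCharacter (Subgroup.centralizer (P : Set G)))}
    (hBe : Cfsg.IsBrauerPairOf p M B P e) :
    blockIdem B = elF (Subgroup.centralizer (P : Set G))
      (orbit (Subgroup.centralizer (P : Set G)) e) := by
  classical
  have hsupp := blockIdem_supp hM hBe.1.1 hBe.2.1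
  set z := restrEl (Subgroup.centralizer (P : Set G)) (blockIdem B) with hz
  have hzc : IsCentralEl z := central_restrEl _ (central_blockIdem B)
  have hle : blockIdem (orbit (Subgroup.centralizer (P : Set G)) e) * z =
      blockIdem (orbit (Subgroup.centralizer (P : Set G)) e) := by
    refine central_omega_ext (central_mul (central_blockIdem _) hzc) (central_blockIdem _)
      fun ψ => ?_
    rw [omega_mul ψ (central_blockIdem _)]
    by_cases hψ : ψ ∈ orbit (Subgroup.centralizer (P : Set G)) e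
    · obtain ⟨x, hx⟩ := hψ
      have h1 := omega_restr_of_pair hM hBe hx
      rw [show ((irrAutEquiv (sig _ x) ψ : Cfsg.IrrCharacter _) :
        Subgroup.centralizer (P : Set G) → ℂ) = (ψ : _ → ℂ) ∘ sig _ x from rfl,
        omega_comp _ (fun k => by
          simp only [coeff_restrEl, coe_sig]
          exact central_blockIdem B (k : G) x)] at h1
      rw [h1, mul_one]
    · rw [omega_blockIdem_notMem hψ, zero_mul]
  refine (eq_blockIdem_of_idem_le hM hBe.2.1 (central_elF_orbit _ e)
    (intEl_inclEl hM _ (intEl_blockIdem_union hM (blockOf_subset_orbit _ hM hBe.1.2)))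
    (elF_mul_self _ _) ?_ ?_).symm
  · conv_lhs => rw [← inclEl_restrEl hsupp]
    rw [elF, ← map_mul, hle]
  · intro h0
    obtain ⟨ξ, hξ⟩ := block_nonempty hM hBe.1.2
    have h1 := congrArg (fun w => omega (ξ : Subgroup.centralizer (P : Set G) → ℂ)
      (restrEl (Subgroup.centralizer (P : Set G)) w)) h0
    simp only [elF, restrEl_inclEl] at h1
    rw [omega_blockIdem_mem (subset_orbit _ e hξ)] at h1
    refine one_ne_zero (h1.trans ?_)
    rw [show restrEl (Subgroup.centralizer (P : Set G)) (0 : MonoidAlgebra ℂ G) = 0 from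
      el_ext fun k => by simp, omega_zero]

/-- The idempotent of a stable block of the centraliser is a block idempotent of the stabiliser. -/
theorem exists_stab_block (hM : Cfsg.IsPModular p M) (hP : IsPGroup p P)
    {e : Set (Cfsg.IrrCharacter (Subgroup.centralizer (P : Set G)))} (he : Cfsg.IsPBlock M e)
    (T : Subgroup G) (hT : ∀ x : G, x ∈ T ↔
      Cfsg.StabilizesBlock (Subgroup.centralizer (P : Set G)) e x) :
    ∃ E : Set (Cfsg.IrrCharacter T), Cfsg.IsPBlock M E ∧
      blockIdem E = restrEl T (elF (Subgroup.centralizer (P : Set G)) e) := by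
  exact exists_stab_block' hM hP he T (fun x hx => (hT x).2 (stabilizes_self e hx))
    (fun x hx => (hT x).2 (stabilizes_centralizer e hx))
    (by rw [Subgroup.normalizer_eq_top]; exact le_top) fun x hx => (hT x).1 hx

/-- The trace formula for the block idempotent. -/
theorem blockCoeff_trace [Fintype G] (hM : Cfsg.IsPModular p M)
    {B : Set (Cfsg.IrrCharacter G)}
    {e : Set (Cfsg.IrrCharacter (Subgroup.centralizer (P : Set G)))}
    (hBe : Cfsg.IsBrauerPairOf p M B P e)
    (T : Subgroup G) (hT : ∀ x : G, x ∈ T ↔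
      Cfsg.StabilizesBlock (Subgroup.centralizer (P : Set G)) e x) (g : G) :
    Cfsg.blockCoeff B g = (Nat.card T : ℂ)⁻¹ *
      ∑ x : G, Cfsg.subgroupBlockCoeff (Subgroup.centralizer (P : Set G)) e (x⁻¹ * g * x) := by
  classical
  haveI := Fintype.ofFinite (Cfsg.IrrCharacter (Subgroup.centralizer (P : Set G)))
  rw [← coeff_blockIdem, blockIdem_eq_orbit hM hBe]
  simp only [← coeff_elF]
  by_cases hg : g ∈ Subgroup.centralizer (P : Set G)
  · have hterm : ∀ x : G, (elF (Subgroup.centralizer (P : Set G)) e).coeff (x⁻¹ * g * x) =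
        Cfsg.blockCoeff (moveSet (sig (Subgroup.centralizer (P : Set G)) x) e) ⟨g, hg⟩ := by
      intro x
      rw [blockCoeff_moveSet, elF, coeff_inclEl_of_mem _ _
        (show x⁻¹ * g * x ∈ Subgroup.centralizer (P : Set G) from
          ((sig (Subgroup.centralizer (P : Set G)) x).symm ⟨g, hg⟩).2), coeff_blockIdem]
      rfl
    simp only [hterm, blockCoeff_eq_sum]
    rw [elF, coeff_inclEl_of_mem _ _ hg, coeff_blockIdem, blockCoeff_eq_sum, ← Finset.mul_sum,
      Finset.sum_comm, mul_left_comm (Nat.card T : ℂ)⁻¹]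
    congr 1
    rw [Finset.mul_sum]
    refine Finset.sum_congr rfl fun ψ _ => ?_
    rw [← Finset.sum_filter, Finset.sum_const, nsmul_eq_mul]
    by_cases hψ : ψ ∈ orbit (Subgroup.centralizer (P : Set G)) e
    · rw [if_pos hψ]
      obtain ⟨x₀, hx₀⟩ := hψ
      have hcard : (Finset.univ.filter fun x : G =>
          ψ ∈ moveSet (sig (Subgroup.centralizer (P : Set G)) x) e).card = Nat.card T := by
        rw [Nat.card_eq_fintype_card, ← Finset.card_univ]
        refine Finset.card_bij' (fun x hx => (⟨x₀⁻¹ * x, (hT _).2 ((moveSet_sig_eq_iff _ x₀ x e).1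
          (block_eq_of_mem hM (isPBlock_moveSet hM _ hBe.1.2) (isPBlock_moveSet hM _ hBe.1.2)
            hx₀ (Finset.mem_filter.1 hx).2))⟩ : T)) (fun t _ => x₀ * t)
          (fun _ _ => Finset.mem_univ _) (fun t _ => Finset.mem_filter.2 ⟨Finset.mem_univ _, ?_⟩)
          (fun x _ => by simp) (fun t _ => by simp)
        rw [← (moveSet_sig_eq_iff _ x₀ (x₀ * t) e).2
          (by rw [inv_mul_cancel_left]; exact (hT _).1 t.2)]
        exact hx₀
      rw [hcard, inv_mul_cancel_left₀ natCard_ne_zero]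
    · have h0 : (Finset.univ.filter fun x : G =>
          ψ ∈ moveSet (sig (Subgroup.centralizer (P : Set G)) x) e) = ∅ :=
        Finset.filter_eq_empty_iff.2 fun x _ h => hψ ⟨x, h⟩
      rw [if_neg hψ, h0]
      simp
  · rw [elF, coeff_inclEl_notMem _ _ hg]
    refine (mul_eq_zero.2 (Or.inr (Finset.sum_eq_zero fun x _ => ?_))).symm
    refine coeff_inclEl_notMem _ _ fun h => hg ?_
    have h' := (inferInstance : (Subgroup.centralizer (P : Set G)).Normal).conj_mem _ h x
    simpa [mul_assoc] using h'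

end PNormal'

end Cfsg.Agent.BlockCharsA.PairStab
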