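import Mathlib
import Cfsg.Agent.Lib.Blocks.Block
import Cfsg.Agent.Lib.Characters.Kernel

/-!
# Transport of blocks along isomorphisms
-/

set_option linter.style.haveILetI false
set_option linter.unusedSectionVars false

namespace Cfsg.Agent.BlockCharsA.Transport

open Cfsg.Agent.Blocks Cfsg.Agent.Characters
open scoped ComplexConjugate

variable {K L : Type*} [Group K] [Group L] [Finite K] [Finite L] {p : ℕ} {M : Ideal Cfsg.AlgInt}

/-- Pulling irreducible characters back along an isomorphism. -/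
noncomputable def irrIso (σ : K ≃* L) : Cfsg.IrrCharacter L ≃ Cfsg.IrrCharacter K where
  toFun χ := ⟨(χ : L → ℂ) ∘ σ, (isIrrCharacter_comp_mulEquiv σ).2 χ.2⟩
  invFun χ := ⟨(χ : K → ℂ) ∘ σ.symm, (isIrrCharacter_comp_mulEquiv σ.symm).2 χ.2⟩
  left_inv χ := by ext g; simp
  right_inv χ := by ext g; simp

theorem irrIso_apply (σ : K ≃* L) (χ : Cfsg.IrrCharacter L) (k : K) :
    (irrIso σ χ : K → ℂ) k = (χ : L → ℂ) (σ k) := rfl

theorem irrIso_symm_apply (σ : K ≃* L) (χ : Cfsg.IrrCharacter K) (l : L) :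
    ((irrIso σ).symm χ : L → ℂ) l = (χ : K → ℂ) (σ.symm l) := rfl

/-- The set of characters corresponding to `f` along `σ`. -/
def pullSet (σ : K ≃* L) (f : Set (Cfsg.IrrCharacter K)) : Set (Cfsg.IrrCharacter L) :=
  irrIso σ ⁻¹' f

theorem symm_mem_pullSet {σ : K ≃* L} {f : Set (Cfsg.IrrCharacter K)} {χ : Cfsg.IrrCharacter K}
    (h : χ ∈ f) : (irrIso σ).symm χ ∈ pullSet σ f := by
  show irrIso σ ((irrIso σ).symm χ) ∈ f
  rwa [Equiv.apply_symm_apply]

theorem centralChar_iso (σ : K ≃* L) (χ : L → ℂ) (k : K) :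
    Cfsg.centralChar (χ ∘ σ) k = Cfsg.centralChar χ (σ k) := by
  have hc : (Subgroup.centralizer ({σ k} : Set L)) =
      (Subgroup.centralizer ({k} : Set K)).map σ.toMonoidHom := by
    ext x
    simp only [Subgroup.mem_map_equiv, Subgroup.mem_centralizer_iff, Set.mem_singleton_iff,
      forall_eq]
    constructor
    · intro h
      apply σ.injective
      simpa using h
    · intro h
      simpa using congrArg σ h
  rw [Cfsg.centralChar, Cfsg.centralChar, hc, Subgroup.index_map_of_bijective (f := σ.toMonoidHom)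
    σ.bijective]
  simp

theorem sameBlock_iso (σ : K ≃* L) {χ ψ : L → ℂ}
    (h : Cfsg.SameBlock M χ ψ) : Cfsg.SameBlock M (χ ∘ σ) (ψ ∘ σ) := fun k => by
  rw [centralChar_iso, centralChar_iso]; exact h (σ k)

theorem sameBlock_of_iso (σ : K ≃* L) {χ ψ : L → ℂ}
    (h : Cfsg.SameBlock M (χ ∘ σ) (ψ ∘ σ)) : Cfsg.SameBlock M χ ψ := fun l => by
  have h' := h (σ.symm l)
  rwa [centralChar_iso, centralChar_iso, MulEquiv.apply_symm_apply] at h'

theorem isPBlock_pullSet (hM : Cfsg.IsPModular p M) (σ : K ≃* L)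
    {f : Set (Cfsg.IrrCharacter K)} (hf : Cfsg.IsPBlock M f) :
    Cfsg.IsPBlock M (pullSet σ f) := by
  obtain ⟨ψ, hψ⟩ := block_nonempty hM hf
  have hcomp : (((irrIso σ).symm ψ : Cfsg.IrrCharacter L) : L → ℂ) ∘ σ = (ψ : K → ℂ) :=
    funext fun k => by simp [irrIso_symm_apply]
  refine ⟨(irrIso σ).symm ψ, Set.ext fun χ => ⟨fun h => ?_, fun h => ?_⟩⟩
  · refine sameBlock_of_iso σ ?_
    rw [hcomp]
    exact sameBlock_of_mem hM hf hψ (show irrIso σ χ ∈ f from h)
  · refine mem_of_sameBlock (ψ := irrIso σ χ) hM hf hψ ?_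
    rw [← hcomp]
    exact sameBlock_iso σ h

theorem blockCoeff_pullSet (σ : K ≃* L) (f : Set (Cfsg.IrrCharacter K)) (k : K) :
    Cfsg.blockCoeff (pullSet σ f) (σ k) = Cfsg.blockCoeff f k := by
  classical
  haveI := Fintype.ofFinite (Cfsg.IrrCharacter K)
  haveI := Fintype.ofFinite (Cfsg.IrrCharacter L)
  rw [blockCoeff_eq_sum, blockCoeff_eq_sum, Nat.card_congr σ.toEquiv]
  congr 1
  refine Fintype.sum_equiv (irrIso σ) _ _ fun χ => ?_
  refine if_congr Iff.rfl ?_ rfl
  rw [irrIso_apply, irrIso_apply, map_one]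

theorem omega_iso (σ : K ≃* L) {z : MonoidAlgebra ℂ K} {w : MonoidAlgebra ℂ L}
    (h : ∀ k, w.coeff (σ k) = z.coeff k) (ψ : L → ℂ) : omega ψ w = omega (ψ ∘ σ) z := by
  classical
  haveI := Fintype.ofFinite K
  haveI := Fintype.ofFinite L
  rw [omega, omega, evalChar_eq_sum, evalChar_eq_sum, Function.comp_apply, map_one]
  congr 1
  exact (Fintype.sum_equiv σ.toEquiv _ _ fun k => by
    show z.coeff k * ψ (σ k) = w.coeff (σ k) * ψ (σ k)
    rw [h k]).symm

end Cfsg.Agent.BlockCharsA.Transport
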