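import Mathlib
import Cfsg.Agent.BlockCharsA.PairStab
import Cfsg.Agent.BlockCharsA.Transport
import Cfsg.Agent.Lib.Blocks.FirstMain

/-!
# Maximal Brauer pairs sit on defect groups
-/

set_option linter.style.haveILetI false
set_option linter.unusedSectionVars false

namespace Cfsg.Agent.BlockCharsA.PairMax

open Cfsg.Agent.Blocks Cfsg.Agent.Characters Cfsg.Agent.BlockCharsA.BrauerPairs
open Cfsg.Agent.BlockCharsA.PairStab Cfsg.Agent.BlockCharsA.Transport

variable {G : Type*} [Group G] [Finite G] {p : ℕ} {M : Ideal Cfsg.AlgInt}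

/-- A stable block with a unit coefficient at an element centralised by `R` extends to `R`. -/
theorem exists_above (hM : Cfsg.IsPModular p M) {P R : Subgroup G}
    {e : Set (Cfsg.IrrCharacter (Subgroup.centralizer (P : Set G)))}
    (hPe : Cfsg.IsBrauerPair p M P e) (hR : IsPGroup p R) (hPR : P ≤ R)
    (hRN : R ≤ Subgroup.normalizer (P : Set G))
    (hst : ∀ x ∈ R, Cfsg.StabilizesBlock (Subgroup.centralizer (P : Set G)) e x)
    {c : G} (hc : c ∈ Subgroup.centralizer (R : Set G))
    (hu : ¬ Cfsg.MemLocalIdeal M ((elF (Subgroup.centralizer (P : Set G)) e).coeff c)) :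
    ∃ g, Cfsg.IsNormalSubpair p M P e R g := by
  set X := elF (Subgroup.centralizer (P : Set G)) e with hX
  have hXi : IntEl M X := intEl_elF hM hPe.2
  have hXC : InvBy (Subgroup.centralizer (R : Set G) : Set G) X :=
    invBy_mono (centralizer_le_centralizer hPR) (invBy_elF_self e)
  have hid : CongEl M (br R X * br R X) (br R X) := by
    have h := br_mul hM hR hXi hXi (invBy_elF hst) (invBy_elF hst)
    rw [hX, elF_mul_self] at h
    exact congEl_symm hM h
  obtain ⟨ξ, hξn⟩ : ∃ ξ : Cfsg.IrrCharacter (Subgroup.centralizer (R : Set G)),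
      ¬ Cfsg.MemLocalIdeal M (omega (ξ : Subgroup.centralizer (R : Set G) → ℂ) (br R X)) := by
    by_contra hcon
    push Not at hcon
    have h := idealEl_of_omega hM (central_br hXC) (intEl_restrEl _ hXi) hid hcon ⟨c, hc⟩
    rw [br, coeff_restrEl] at h
    exact hu h
  have hξ1 : Cong M (omega (ξ : Subgroup.centralizer (R : Set G) → ℂ) (br R X)) 1 := by
    refine cong_one_of_idem hM (omega_br_ring hM ξ hXi hXC) ?_ hξn
    rw [← omega_mul ξ (central_br hXC)]
    exact omega_cong hM ξ (central_mul (central_br hXC) (central_br hXC)) (central_br hXC) hid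
  refine ⟨_, hPe, ⟨hR, isPBlock_blockOf M ξ⟩, hPR, hRN, hst, fun η hη => ?_⟩
  rw [brauerOmega_elF]
  exact cong_at_member hM (isPBlock_blockOf M ξ) (mem_blockOf_self hM ξ) hη hXi hXC hξ1

/-- The centraliser of a subgroup, seen inside its normaliser. -/
def centEquiv (P : Subgroup G) : Subgroup.centralizer (P : Set G) ≃*
    Subgroup.centralizer ((P.subgroupOf (Subgroup.normalizer (P : Set G)) :
      Subgroup (Subgroup.normalizer (P : Set G))) : Set (Subgroup.normalizer (P : Set G))) where
  toFun c := ⟨⟨c, centralizer_le_normalizer' P c.2⟩,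
    (mem_centralizer_subgroupOf Subgroup.le_normalizer).2 c.2⟩
  invFun c := ⟨c, (mem_centralizer_subgroupOf Subgroup.le_normalizer).1 c.2⟩
  left_inv c := rfl
  right_inv c := rfl
  map_mul' a b := rfl

theorem coe_centEquiv (P : Subgroup G) (c : Subgroup.centralizer (P : Set G)) :
    ((centEquiv P c : Subgroup.normalizer (P : Set G)) : G) = (c : G) := rfl

variable {P : Subgroup G}

/-- A set of characters of the centraliser, seen inside the normaliser. -/
def inNorm (e : Set (Cfsg.IrrCharacter (Subgroup.centralizer (P : Set G)))) :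
    Set (Cfsg.IrrCharacter (Subgroup.centralizer ((P.subgroupOf (Subgroup.normalizer (P : Set G)) :
      Subgroup (Subgroup.normalizer (P : Set G))) : Set (Subgroup.normalizer (P : Set G))))) :=
  pullSet (centEquiv P) e

theorem isBrauerPair_inNorm (hM : Cfsg.IsPModular p M)
    {e : Set (Cfsg.IrrCharacter (Subgroup.centralizer (P : Set G)))}
    (he : Cfsg.IsBrauerPair p M P e) :
    Cfsg.IsBrauerPair p M (P.subgroupOf (Subgroup.normalizer (P : Set G))) (inNorm e) :=
  ⟨isPGroup_subgroupOf he.1 Subgroup.le_normalizer, isPBlock_pullSet hM _ he.2⟩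

theorem coeff_inNorm (e : Set (Cfsg.IrrCharacter (Subgroup.centralizer (P : Set G))))
    (n : Subgroup.normalizer (P : Set G)) :
    (elF _ (inNorm e)).coeff n = (elF (Subgroup.centralizer (P : Set G)) e).coeff (n : G) := by
  by_cases h : (n : G) ∈ Subgroup.centralizer (P : Set G)
  · rw [elF, elF, coeff_inclEl_of_mem _ _
      ((mem_centralizer_subgroupOf Subgroup.le_normalizer).2 h), coeff_inclEl_of_mem _ _ h,
      coeff_blockIdem, coeff_blockIdem, ← blockCoeff_pullSet (centEquiv P) e]
    rfl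
  · rw [elF, elF, coeff_inclEl_notMem _ _ h, coeff_inclEl_notMem]
    exact fun h' => h ((mem_centralizer_subgroupOf Subgroup.le_normalizer).1 h')

theorem stabilizes_of_inNorm {e : Set (Cfsg.IrrCharacter (Subgroup.centralizer (P : Set G)))}
    {x : Subgroup.normalizer (P : Set G)}
    (h : Cfsg.StabilizesBlock (Subgroup.centralizer ((P.subgroupOf (Subgroup.normalizer (P : Set G))
      : Subgroup (Subgroup.normalizer (P : Set G))) : Set (Subgroup.normalizer (P : Set G))))
      (inNorm e) x) :
    Cfsg.StabilizesBlock (Subgroup.centralizer (P : Set G)) e (x : G) := by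
  refine ⟨normalizer_le_normalizer_centralizer P x.2, fun χ hχ => ?_⟩
  obtain ⟨χ', hχ', hc⟩ := h.2 _ (symm_mem_pullSet hχ)
  refine ⟨irrIso (centEquiv P) χ', hχ', fun k k' hk => ?_⟩
  rw [irrIso_apply, hc (centEquiv P k) (centEquiv P k') (Subtype.ext hk), irrIso_symm_apply,
    MulEquiv.symm_apply_apply]

/-- The block of the normaliser attached to a pair induces the block of the pair. -/
theorem induced_of_pair (hM : Cfsg.IsPModular p M) {B : Set (Cfsg.IrrCharacter G)}
    {e : Set (Cfsg.IrrCharacter (Subgroup.centralizer (P : Set G)))}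
    (hBe : Cfsg.IsBrauerPairOf p M B P e)
    {b : Set (Cfsg.IrrCharacter (Subgroup.normalizer (P : Set G)))}
    (hbe : Cfsg.IsBrauerPairOf p M b (P.subgroupOf (Subgroup.normalizer (P : Set G))) (inNorm e)) :
    Cfsg.IsInducedBlock M (Subgroup.normalizer (P : Set G)) b B := by
  haveI := normal_subgroupOf (H := Subgroup.normalizer (P : Set G)) (P := P) le_rfl
  obtain ⟨ψ, hψ⟩ := block_nonempty hM hbe.2.1
  rw [isInduced_iff_omega_brEl hM hBe.1.1 Subgroup.le_normalizer (centralizer_le_normalizer' P)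
    le_rfl hbe.2.1 hψ hBe.2.1]
  intro hI
  set w := brEl P (Subgroup.normalizer (P : Set G)) (blockIdem B) with hw
  have hwc : IsCentralEl w := central_brEl le_rfl (central_blockIdem B)
  have hwi : IntEl M w := intEl_brEl hM P _ (intEl_blockIdem hM hBe.2.1)
  have hei : IntEl M (blockIdem b) := intEl_blockIdem hM hbe.2.1
  set v := blockIdem b * w with hv
  have hv2 : CongEl M (v * v) v := by
    rw [show v * v = (blockIdem b * blockIdem b) * (w * w) by
      rw [hv, mul_assoc, ← mul_assoc w, (central_commute (central_blockIdem b) w).symm.eq]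
      noncomm_ring, blockIdem_mul_self]
    exact congEl_mul hM (congEl_refl hM _) (brEl_idem hM hBe.1.1 (centralizer_le_normalizer' P)
      hBe.2.1) hei hwi
  have hvI : IdealEl M v := idealEl_of_omega hM (central_mul (central_blockIdem b) hwc)
    (intEl_mul hM hei hwi) hv2 fun χ => by
    rw [omega_mul χ (central_blockIdem b)]
    by_cases hχ : χ ∈ b
    · exact ideal_mul_left hM (omega_ring hM χ (central_blockIdem b) hei)
        ((ideal_iff_of_cong hM (omega_cong_of_mem hM hbe.2.1 hχ hψ hwc hwi)).2 hI)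
    · rw [omega_blockIdem_notMem hχ, zero_mul]; exact ideal_zero hM
  obtain ⟨ξ, hξ⟩ := block_nonempty hM hBe.1.2
  have hξ1 := hBe.2.2 ξ hξ
  rw [brauerOmega_block] at hξ1
  set C' := Subgroup.centralizer ((P.subgroupOf (Subgroup.normalizer (P : Set G)) :
      Subgroup (Subgroup.normalizer (P : Set G))) : Set (Subgroup.normalizer (P : Set G))) with hC'
  have h1 : omega (((irrIso (centEquiv P)).symm ξ : Cfsg.IrrCharacter C') : C' → ℂ)
      (restrEl C' w) = omega (ξ : Subgroup.centralizer (P : Set G) → ℂ) (br P (blockIdem B)) := by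
    rw [omega_iso (centEquiv P) (z := br P (blockIdem B)) fun c => ?_]
    · refine congrArg (fun φ => omega φ (br P (blockIdem B))) ?_
      exact funext fun k => by simp [irrIso_symm_apply]
    · rw [br, coeff_restrEl, coeff_restrEl, hw, brEl, coeff_restrEl, coe_centEquiv,
        cutEl_coeff_mem _ c.2]
  refine not_ideal_one hM ((ideal_iff_of_cong hM hξ1).1 ?_)
  rw [← h1, ← one_mul (omega _ (restrEl C' w)),
    ← omega_restr_of_pair hM hbe (symm_mem_pullSet hξ),
    ← omega_mul _ (central_restrEl _ (central_blockIdem b)),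
    ← restrEl_mul C' (blockIdem_supp hM hbe.1.1 hbe.2.1)]
  exact omega_ideal hM _ (central_restrEl _ (central_mul (central_blockIdem b) hwc))
    fun k => by rw [coeff_restrEl]; exact hvI _

/-- The block of the normaliser attached to a maximal pair has defect group `P`. -/
theorem defect_of_maximal (hM : Cfsg.IsPModular p M) {B : Set (Cfsg.IrrCharacter G)}
    {e : Set (Cfsg.IrrCharacter (Subgroup.centralizer (P : Set G)))}
    (hmax : Cfsg.IsMaximalBrauerPair p M B P e)
    {b : Set (Cfsg.IrrCharacter (Subgroup.normalizer (P : Set G)))}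
    (hbe : Cfsg.IsBrauerPairOf p M b (P.subgroupOf (Subgroup.normalizer (P : Set G))) (inNorm e)) :
    Cfsg.IsDefectGroup p M b (P.subgroupOf (Subgroup.normalizer (P : Set G))) := by
  classical
  haveI := fact_prime_of_pm hM
  haveI := normal_subgroupOf (H := Subgroup.normalizer (P : Set G)) (P := P) le_rfl
  set P' := P.subgroupOf (Subgroup.normalizer (P : Set G))
  set C' := Subgroup.centralizer (P' : Set (Subgroup.normalizer (P : Set G))) with hC'
  obtain ⟨D, hD⟩ := exists_defectGroup hM hbe.2.1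
  have hle : P' ≤ D := normal_le_defect hM hbe.1.1 hbe.2.1 hD
  obtain ⟨c, hc, hcs⟩ := isDefectGroup_iff.1 hD
  have hDp := isPGroup_defect hD
  have hcC : c ∈ C' := mem_centralizer_of_blockCoeff hM hbe.1.1 hbe.2.1 hc.2.1
  set S := {f : Set (Cfsg.IrrCharacter C') // Cfsg.IsPBlock M f}
  haveI := Fintype.ofFinite S
  set O := orbit C' (inNorm e) with hO
  let T := {f : S // f.1 ⊆ O}
  letI : MulAction D T :=
    { smul := fun r f => ⟨⟨moveSet (sig C' (r : Subgroup.normalizer (P : Set G))) f.1.1,
          isPBlock_moveSet hM _ f.1.2⟩, fun χ hχ => by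
        have := f.2 (show irrAutEquiv (sig C' (r : Subgroup.normalizer (P : Set G))) χ ∈ f.1.1 from hχ)
        rw [hO, ← moveSet_orbit C' (inNorm e) (r : Subgroup.normalizer (P : Set G))]
        exact this⟩
      one_smul := fun f => Subtype.ext (Subtype.ext (moveSet_sig_one C' f.1.1))
      mul_smul := fun r t f => Subtype.ext (Subtype.ext
        (moveSet_sig_mul C' (r : Subgroup.normalizer (P : Set G)) t f.1.1).symm) }
  set φ : T → ℂ := fun f => Cfsg.blockCoeff f.1.1 ⟨c, hcC⟩ with hφ
  have hφinv : ∀ (r : D) (f : T), φ (r • f) = φ f := by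
    intro r f
    show Cfsg.blockCoeff (moveSet (sig C' (r : Subgroup.normalizer (P : Set G))) f.1.1) _ = _
    rw [blockCoeff_moveSet]
    refine congrArg (Cfsg.blockCoeff f.1.1) (Subtype.ext ?_)
    rw [coe_sig_symm]
    have := isSylCent_mem hcs (r : Subgroup.normalizer (P : Set G)) r.2
    show (r : Subgroup.normalizer (P : Set G))⁻¹ * c * r = c
    rw [mul_assoc, ← this, inv_mul_cancel_left]
  have hsum : ∑ f : T, φ f = Cfsg.blockCoeff b c := by
    rw [← coeff_blockIdem, blockIdem_eq_orbit hM hbe, elF, coeff_inclEl_of_mem _ _ hcC,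
      blockIdem_union_eq hM (blockOf_subset_orbit C' hM hbe.1.2), MonoidAlgebra.coeff_sum,
      Finsupp.finsetSum_apply, Finset.sum_subtype (p := fun f : S => f.1 ⊆ O)
        (Finset.univ.filter fun f : S => f.1 ⊆ O) (fun f => by simp)]
    exact Finset.sum_congr rfl fun f _ => (coeff_blockIdem _ _).symm
  set s := Finset.univ.filter fun f : T => ∀ r : D, r • f = f
  have hfix : Cong M (∑ f : T, φ f) (∑ f ∈ s, φ f) :=
    cong_sum_fixed hM hDp φ (fun f => blockCoeff_ring hM f.1.2 _) hφinv s fun f => by simp [s]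
  rw [hsum] at hfix
  obtain ⟨f, hf, hfu⟩ : ∃ f ∈ s, ¬ Cfsg.MemLocalIdeal M (φ f) := by
    by_contra h
    push Not at h
    exact hc.2.1 ((ideal_iff_of_cong hM hfix).2 (ideal_sum hM h))
  obtain ⟨θ, hθ⟩ := block_nonempty hM f.1.2
  obtain ⟨x, hx⟩ := f.2 hθ
  have hfe : f.1.1 = moveSet (sig C' x) (inNorm e) :=
    block_eq_of_mem hM f.1.2 (isPBlock_moveSet hM _ hbe.1.2) hθ hx
  set R' := D.map (MulAut.conj x⁻¹).toMonoidHom with hR'
  have hPR' : P' ≤ R' := fun y hy => by
    rw [hR', mem_map_conj_iff]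
    exact hle (by simpa using (inferInstance : P'.Normal).conj_mem y hy x)
  have hst : ∀ y ∈ R', Cfsg.StabilizesBlock C' (inNorm e) y := by
    intro y hy
    rw [hR', mem_map_conj_iff] at hy
    have h := congrArg (fun u : T => u.1.1) ((Finset.mem_filter.1 hf).2 ⟨_, hy⟩)
    change moveSet (sig C' (x⁻¹⁻¹ * y * x⁻¹)) f.1.1 = f.1.1 at h
    rw [hfe, moveSet_sig_mul, inv_inv, inv_mul_cancel_right] at h
    have := (moveSet_sig_eq_iff C' x (x * y) (inNorm e)).1 h.symm
    rwa [inv_mul_cancel_left] at this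
  have hcR : x⁻¹ * c * x ∈ Subgroup.centralizer (R' : Set (Subgroup.normalizer (P : Set G))) := by
    intro y hy
    rw [SetLike.mem_coe, hR', mem_map_conj_iff] at hy
    have h := isSylCent_mem hcs _ hy
    simp only [inv_inv] at h
    calc y * (x⁻¹ * c * x) = x⁻¹ * ((x * y * x⁻¹) * c) * x := by group
      _ = x⁻¹ * (c * (x * y * x⁻¹)) * x := by rw [h]
      _ = x⁻¹ * c * x * y := by group
  set R := R'.map (Subgroup.normalizer (P : Set G)).subtype
  have hRmem : ∀ y ∈ R, ∃ hy : y ∈ Subgroup.normalizer (P : Set G), (⟨y, hy⟩ : _) ∈ R' := by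
    rintro _ ⟨y, hy, rfl⟩; exact ⟨y.2, hy⟩
  have hPR : P ≤ R := fun y hy =>
    ⟨⟨y, Subgroup.le_normalizer hy⟩, hPR' hy, rfl⟩
  obtain ⟨g, hg⟩ := exists_above hM hmax.1.1 ((hDp.map _).map _) hPR
    (fun y hy => (hRmem y hy).1)
    (fun y hy => stabilizes_of_inNorm (hst _ (hRmem y hy).2))
    (c := ((x⁻¹ * c * x : Subgroup.normalizer (P : Set G)) : G))
    (fun y hy => congrArg Subtype.val (hcR _ (hRmem y hy).2)) (by
      rw [← coeff_inNorm, elF, coeff_inclEl_of_mem _ _ (show x⁻¹ * c * x ∈ C' from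
        ((sig C' x).symm ⟨c, hcC⟩).2), coeff_blockIdem]
      intro h
      refine hfu ?_
      show Cfsg.MemLocalIdeal M (Cfsg.blockCoeff f.1.1 ⟨c, hcC⟩)
      rw [hfe, blockCoeff_moveSet]
      exact h)
  have hRP : R = P := hmax.2 R g (block_of_normalSubpair hM hg hmax.1)
    (Relation.ReflTransGen.single hg)
  have hDP : P' = D := by
    refine eq_of_le_of_card_le hle ?_
    rw [← card_map_conj D x⁻¹, ← Subgroup.card_map_of_injective
      (Subgroup.normalizer (P : Set G)).subtype_injective, ← hR']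
    show Nat.card R ≤ _
    rw [hRP, Nat.card_congr (Subgroup.subgroupOfEquivOfLe Subgroup.le_normalizer).toEquiv]
  rwa [hDP]

/-- A maximal pair is carried by a defect group. -/
theorem isDefectGroup_of_maximal (hM : Cfsg.IsPModular p M) {B : Set (Cfsg.IrrCharacter G)}
    {e : Set (Cfsg.IrrCharacter (Subgroup.centralizer (P : Set G)))}
    (hmax : Cfsg.IsMaximalBrauerPair p M B P e) : Cfsg.IsDefectGroup p M B P := by
  obtain ⟨b, hbe⟩ := exists_brauerPairOf hM (isBrauerPair_inNorm hM hmax.1.1)
  obtain ⟨B', hB', hind⟩ := exists_induced_defect hM hmax.1.1.1 hbe.2.1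
    (defect_of_maximal hM hmax hbe)
  rwa [← isInduced_unique hM hind (induced_of_pair hM hmax.1 hbe)]

end Cfsg.Agent.BlockCharsA.PairMax
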