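import Mathlib
import Cfsg.Agent.BlockCharsA.PairMax

/-!
# Conjugation of Brauer pairs and conjugacy of maximal pairs
-/

set_option linter.style.haveILetI false
set_option linter.unusedSectionVars false

namespace Cfsg.Agent.BlockCharsA.PairConj

open Cfsg.Agent.Blocks Cfsg.Agent.Characters Cfsg.Agent.BlockCharsA.BrauerPairs
open Cfsg.Agent.BlockCharsA.PairStab Cfsg.Agent.BlockCharsA.Transport
open Cfsg.Agent.BlockCharsA.PairMax

variable {G : Type*} [Group G] [Finite G] {p : ℕ} {M : Ideal Cfsg.AlgInt}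

/-- The conjugate subgroup. -/
abbrev cj (Q : Subgroup G) (x : G) : Subgroup G := Q.map (MulAut.conj x).toMonoidHom

theorem conj_mem_cj {Q : Subgroup G} {x g : G} : x * g * x⁻¹ ∈ cj Q x ↔ g ∈ Q := by
  rw [mem_map_conj_iff]
  simp [mul_assoc]

theorem conj_mem_centralizer {Q : Subgroup G} {x g : G} :
    x * g * x⁻¹ ∈ Subgroup.centralizer (cj Q x : Set G) ↔
      g ∈ Subgroup.centralizer (Q : Set G) := by
  constructor
  · intro h q hq
    have := h (x * q * x⁻¹) (conj_mem_cj.2 hq)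
    apply (MulAut.conj x).injective
    simpa using this
  · intro h y hy
    obtain ⟨q, hq, rfl⟩ := Subgroup.mem_map.1 hy
    have := congrArg (MulAut.conj x) (h q hq)
    simpa using this

theorem conj_mem_normalizer {Q : Subgroup G} {x g : G} (h : g ∈ Subgroup.normalizer (Q : Set G)) :
    x * g * x⁻¹ ∈ Subgroup.normalizer (cj Q x : Set G) := by
  rw [Subgroup.mem_normalizer_iff] at h ⊢
  intro y
  rw [show y = x * (x⁻¹ * y * x) * x⁻¹ by group,
    show x * g * x⁻¹ * (x * (x⁻¹ * y * x) * x⁻¹) * (x * g * x⁻¹)⁻¹ =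
      x * (g * (x⁻¹ * y * x) * g⁻¹) * x⁻¹ by group, conj_mem_cj, conj_mem_cj]
  exact h _

/-- Conjugation between the centralisers. -/
def centConj (Q : Subgroup G) (x : G) :
    Subgroup.centralizer (Q : Set G) ≃* Subgroup.centralizer (cj Q x : Set G) where
  toFun c := ⟨x * c * x⁻¹, conj_mem_centralizer.2 c.2⟩
  invFun c := ⟨x⁻¹ * c * x, (conj_mem_centralizer (x := x)).1 (by
    rw [show x * (x⁻¹ * (c : G) * x) * x⁻¹ = (c : G) by group]
    exact c.2)⟩
  left_inv c := Subtype.ext (by simp [mul_assoc])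
  right_inv c := Subtype.ext (by simp [mul_assoc])
  map_mul' a b := Subtype.ext (by simp only [Subgroup.coe_mul]; group)

theorem coe_centConj (Q : Subgroup G) (x : G) (c : Subgroup.centralizer (Q : Set G)) :
    (centConj Q x c : G) = x * c * x⁻¹ := rfl

theorem conjBlock_eq (Q : Subgroup G) (x : G)
    (f : Set (Cfsg.IrrCharacter (Subgroup.centralizer (Q : Set G)))) :
    Cfsg.conjBlock Q x f = pullSet (centConj Q x) f := by
  ext ξ'
  constructor
  · rintro ⟨ξ, hξ, h⟩
    have : irrIso (centConj Q x) ξ' = ξ :=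
      Subtype.ext (funext fun c => h c (centConj Q x c) rfl)
    show irrIso (centConj Q x) ξ' ∈ f
    rwa [this]
  · intro h
    refine ⟨_, h, fun c c' hc => ?_⟩
    rw [irrIso_apply, show c' = centConj Q x c from Subtype.ext hc]

theorem coeff_conjBlock (Q : Subgroup G) (x : G)
    (f : Set (Cfsg.IrrCharacter (Subgroup.centralizer (Q : Set G)))) (g : G) :
    (elF (Subgroup.centralizer (cj Q x : Set G)) (Cfsg.conjBlock Q x f)).coeff (x * g * x⁻¹) =
      (elF (Subgroup.centralizer (Q : Set G)) f).coeff g := by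
  by_cases h : g ∈ Subgroup.centralizer (Q : Set G)
  · rw [elF, elF, coeff_inclEl_of_mem _ _ h, coeff_inclEl_of_mem _ _ (conj_mem_centralizer.2 h),
      coeff_blockIdem, coeff_blockIdem, conjBlock_eq, ← blockCoeff_pullSet (centConj Q x) f]
    rfl
  · rw [elF, elF, coeff_inclEl_notMem _ _ h, coeff_inclEl_notMem]
    exact fun h' => h (conj_mem_centralizer.1 h')

theorem coeff_conjBlock' (Q : Subgroup G) (x : G)
    (f : Set (Cfsg.IrrCharacter (Subgroup.centralizer (Q : Set G)))) (g : G) :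
    (elF (Subgroup.centralizer (cj Q x : Set G)) (Cfsg.conjBlock Q x f)).coeff g =
      (elF (Subgroup.centralizer (Q : Set G)) f).coeff (x⁻¹ * g * x) := by
  rw [← coeff_conjBlock Q x f, show x * (x⁻¹ * g * x) * x⁻¹ = g by group]

theorem isPBlock_conjBlock (hM : Cfsg.IsPModular p M) (Q : Subgroup G) (x : G)
    {f : Set (Cfsg.IrrCharacter (Subgroup.centralizer (Q : Set G)))} (hf : Cfsg.IsPBlock M f) :
    Cfsg.IsPBlock M (Cfsg.conjBlock Q x f) := by
  rw [conjBlock_eq]; exact isPBlock_pullSet hM _ hf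

theorem isBrauerPair_conj (hM : Cfsg.IsPModular p M) {Q : Subgroup G} (x : G)
    {f : Set (Cfsg.IrrCharacter (Subgroup.centralizer (Q : Set G)))}
    (h : Cfsg.IsBrauerPair p M Q f) : Cfsg.IsBrauerPair p M (cj Q x) (Cfsg.conjBlock Q x f) :=
  ⟨h.1.map _, isPBlock_conjBlock hM Q x h.2⟩

theorem omega_conj (P : Subgroup G) (x : G) {z w : MonoidAlgebra ℂ G}
    (h : ∀ g, w.coeff (x * g * x⁻¹) = z.coeff g)
    (ξ : Subgroup.centralizer (cj P x : Set G) → ℂ) :
    omega ξ (br (cj P x) w) = omega (ξ ∘ centConj P x) (br P z) :=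
  omega_iso (centConj P x) (fun c => by
    rw [br, br, coeff_restrEl, coeff_restrEl, coe_centConj]; exact h _) ξ

theorem isBrauerPairOf_conj (hM : Cfsg.IsPModular p M) {B : Set (Cfsg.IrrCharacter G)}
    {Q : Subgroup G} (x : G)
    {f : Set (Cfsg.IrrCharacter (Subgroup.centralizer (Q : Set G)))}
    (h : Cfsg.IsBrauerPairOf p M B Q f) :
    Cfsg.IsBrauerPairOf p M B (cj Q x) (Cfsg.conjBlock Q x f) := by
  refine ⟨isBrauerPair_conj hM x h.1, h.2.1, fun ξ hξ => ?_⟩
  rw [conjBlock_eq] at hξ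
  have h' := h.2.2 _ hξ
  rw [brauerOmega_block] at h' ⊢
  rw [omega_conj Q x (z := blockIdem B) fun g => central_blockIdem B g x]
  exact h'

theorem stabilizes_conj {Q : Subgroup G} (x : G)
    {f : Set (Cfsg.IrrCharacter (Subgroup.centralizer (Q : Set G)))} {r : G}
    (hr : r ∈ Subgroup.normalizer (Q : Set G))
    (h : Cfsg.StabilizesBlock (Subgroup.centralizer (Q : Set G)) f r) :
    Cfsg.StabilizesBlock (Subgroup.centralizer (cj Q x : Set G)) (Cfsg.conjBlock Q x f)
      (x * r * x⁻¹) := by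
  refine ⟨normalizer_le_normalizer_centralizer _ (conj_mem_normalizer hr), fun χ' hχ' => ?_⟩
  rw [conjBlock_eq] at hχ' ⊢
  obtain ⟨χ₁, hχ₁, hc⟩ := h.2 _ hχ'
  refine ⟨(irrIso (centConj Q x)).symm χ₁, symm_mem_pullSet hχ₁, fun k k' hk => ?_⟩
  rw [irrIso_symm_apply, hc ((centConj Q x).symm k) ((centConj Q x).symm k') ?_, irrIso_apply,
    MulEquiv.apply_symm_apply]
  show x⁻¹ * (k' : G) * x = r * (x⁻¹ * (k : G) * x) * r⁻¹
  rw [hk]
  group

theorem normalSubpair_conj (hM : Cfsg.IsPModular p M) {Q P : Subgroup G} (x : G)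
    {f : Set (Cfsg.IrrCharacter (Subgroup.centralizer (Q : Set G)))}
    {e : Set (Cfsg.IrrCharacter (Subgroup.centralizer (P : Set G)))}
    (h : Cfsg.IsNormalSubpair p M Q f P e) :
    Cfsg.IsNormalSubpair p M (cj Q x) (Cfsg.conjBlock Q x f) (cj P x) (Cfsg.conjBlock P x e) := by
  obtain ⟨h1, h2, hle, hN, hst, hω⟩ := h
  refine ⟨isBrauerPair_conj hM x h1, isBrauerPair_conj hM x h2, Subgroup.map_mono hle,
    fun y hy => ?_, fun y hy => ?_, fun ξ hξ => ?_⟩
  · obtain ⟨r, hr, rfl⟩ := Subgroup.mem_map.1 hy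
    exact conj_mem_normalizer (hN hr)
  · obtain ⟨r, hr, rfl⟩ := Subgroup.mem_map.1 hy
    exact stabilizes_conj x (hN hr) (hst r hr)
  · rw [conjBlock_eq] at hξ
    have h' := hω _ hξ
    rw [brauerOmega_elF] at h' ⊢
    rw [omega_conj P x (z := elF (Subgroup.centralizer (Q : Set G)) f) (coeff_conjBlock Q x f)]
    exact h'

/-- The conjugate of an indexed pair. -/
def cjPair (x : G) (a : Cfsg.BrauerPairIdx G) : Cfsg.BrauerPairIdx G :=
  ⟨cj a.1 x, Cfsg.conjBlock a.1 x a.2⟩

theorem idx_ext {a b : Cfsg.BrauerPairIdx G} (hQ : a.1 = b.1)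
    (h : ∀ g, (elF (Subgroup.centralizer (a.1 : Set G)) a.2).coeff g =
      (elF (Subgroup.centralizer (b.1 : Set G)) b.2).coeff g) : a = b := by
  obtain ⟨Q, f⟩ := a
  obtain ⟨Q', f'⟩ := b
  simp only at hQ
  subst hQ
  have he : elF (Subgroup.centralizer (Q : Set G)) f = elF (Subgroup.centralizer (Q : Set G)) f' :=
    el_ext h
  have hb : blockIdem f = blockIdem f' := by
    rw [← restrEl_inclEl (Subgroup.centralizer (Q : Set G)) (blockIdem f),
      ← restrEl_inclEl (Subgroup.centralizer (Q : Set G)) (blockIdem f')]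
    exact congrArg _ he
  have hf : f = f' := Set.ext fun ψ => by
    classical
    have hψ := congrArg (omega (ψ : _ → ℂ)) hb
    rw [omega_blockIdem, omega_blockIdem] at hψ
    by_cases h1 : ψ ∈ f <;> by_cases h2 : ψ ∈ f' <;> simp [h1, h2] at hψ ⊢
  subst hf
  rfl

theorem cjPair_one (a : Cfsg.BrauerPairIdx G) : cjPair 1 a = a :=
  idx_ext (map_conj_one a.1) fun g =>
    (coeff_conjBlock' a.1 1 a.2 g).trans (by simp)

theorem cjPair_mul (x y : G) (a : Cfsg.BrauerPairIdx G) :
    cjPair y (cjPair x a) = cjPair (y * x) a := by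
  refine idx_ext ?_ fun g => ?_
  · show cj (cj a.1 x) y = cj a.1 (y * x)
    ext z
    simp only [mem_map_conj_iff]
    rw [show x⁻¹ * (y⁻¹ * z * y) * x = (y * x)⁻¹ * z * (y * x) by group]
  · simp only [cjPair]
    rw [coeff_conjBlock', coeff_conjBlock', coeff_conjBlock']
    congr 1
    group

theorem subpairLE_conj (hM : Cfsg.IsPModular p M) (x : G) {a b : Cfsg.BrauerPairIdx G}
    (h : Relation.ReflTransGen (Cfsg.NormalSubpairRel p M) a b) :
    Relation.ReflTransGen (Cfsg.NormalSubpairRel p M) (cjPair x a) (cjPair x b) := by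
  induction h with
  | refl => exact Relation.ReflTransGen.refl
  | tail _ h ih => exact ih.tail (normalSubpair_conj hM x h)

theorem isMaximal_conj (hM : Cfsg.IsPModular p M) {B : Set (Cfsg.IrrCharacter G)}
    {P : Subgroup G} (x : G)
    {e : Set (Cfsg.IrrCharacter (Subgroup.centralizer (P : Set G)))}
    (h : Cfsg.IsMaximalBrauerPair p M B P e) :
    Cfsg.IsMaximalBrauerPair p M B (cj P x) (Cfsg.conjBlock P x e) := by
  refine ⟨isBrauerPairOf_conj hM x h.1, fun R g hg hle => ?_⟩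
  have h1 : Relation.ReflTransGen (Cfsg.NormalSubpairRel p M) (cjPair x⁻¹ (cjPair x ⟨P, e⟩))
      (cjPair x⁻¹ ⟨R, g⟩) := subpairLE_conj hM x⁻¹ hle
  rw [cjPair_mul, inv_mul_cancel, cjPair_one] at h1
  have h2 : cj R x⁻¹ = P := h.2 _ _ (isBrauerPairOf_conj hM x⁻¹ hg) h1
  rw [← h2]
  ext z
  simp only [mem_map_conj_iff]
  simp [mul_assoc]

/-- Every pair of a block lies below a maximal one. -/
theorem exists_maximal_above (hM : Cfsg.IsPModular p M) {B : Set (Cfsg.IrrCharacter G)}
    {Q : Subgroup G} {f : Set (Cfsg.IrrCharacter (Subgroup.centralizer (Q : Set G)))}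
    (h : Cfsg.IsBrauerPairOf p M B Q f) :
    ∃ R g, Cfsg.IsMaximalBrauerPair p M B R g ∧ Cfsg.SubpairLE p M Q f R g := by
  induction hn : Nat.card G - Nat.card Q using Nat.strong_induction_on generalizing Q f with
  | _ n ih =>
    by_cases hmax : Cfsg.IsMaximalBrauerPair p M B Q f
    · exact ⟨Q, f, hmax, Relation.ReflTransGen.refl⟩
    · obtain ⟨R, g, hg, hle, hne⟩ : ∃ R g, Cfsg.IsBrauerPairOf p M B R g ∧
          Cfsg.SubpairLE p M Q f R g ∧ R ≠ Q := by
        by_contra hcon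
        push Not at hcon
        exact hmax ⟨h, hcon⟩
      have hQR : Q ≤ R := (subpairLE_facts hM hle).1
      have hc : Nat.card Q < Nat.card R := lt_of_not_ge fun hle' =>
        hne (eq_of_le_of_card_le hQR hle').symm
      have hc' : Nat.card R ≤ Nat.card G := Subgroup.card_le_card_group R
      obtain ⟨R', g', hmax', hle'⟩ := ih (Nat.card G - Nat.card R) (by omega) hg rfl
      exact ⟨R', g', hmax', hle.trans hle'⟩

/-- Two maximal pairs on the same subgroup are conjugate in its normaliser. -/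
theorem exists_conj_of_same (hM : Cfsg.IsPModular p M) {B : Set (Cfsg.IrrCharacter G)}
    {P : Subgroup G} {e e' : Set (Cfsg.IrrCharacter (Subgroup.centralizer (P : Set G)))}
    (h : Cfsg.IsMaximalBrauerPair p M B P e) (h' : Cfsg.IsBrauerPairOf p M B P e') :
    ∃ n ∈ Subgroup.normalizer (P : Set G),
      cjPair n (⟨P, e⟩ : Cfsg.BrauerPairIdx G) = ⟨P, e'⟩ := by
  haveI := normal_subgroupOf (H := Subgroup.normalizer (P : Set G)) (P := P) le_rfl
  obtain ⟨b, hb⟩ := exists_brauerPairOf hM (isBrauerPair_inNorm hM h.1.1)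
  obtain ⟨b', hb'⟩ := exists_brauerPairOf hM (isBrauerPair_inNorm hM h'.1)
  have hbb : b = b' := induced_normalizer_unique hM (isDefectGroup_of_maximal hM h)
    (induced_of_pair hM h.1 hb) (induced_of_pair hM h' hb')
  subst hbb
  obtain ⟨θ, hθ⟩ := block_nonempty hM hb'.1.2
  have h1 := omega_restr_of_pair hM hb' hθ
  rw [blockIdem_eq_orbit hM hb, elF, restrEl_inclEl] at h1
  obtain ⟨x, hx⟩ : θ ∈ orbit _ (inNorm e) := by
    by_contra hn
    rw [omega_blockIdem_notMem hn] at h1
    exact zero_ne_one h1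
  have hee : inNorm e' = moveSet (sig _ x) (inNorm e) :=
    block_eq_of_mem hM hb'.1.2 (isPBlock_moveSet hM _ hb.1.2) hθ hx
  have hP : cj P (x : G) = P := by
    ext z
    rw [mem_map_conj_iff]
    have := Subgroup.mem_normalizer_iff.1 (inv_mem x.2) z
    rw [inv_inv] at this
    exact this.symm
  refine ⟨x, x.2, idx_ext hP fun g => ?_⟩
  simp only [cjPair]
  rw [coeff_conjBlock']
  by_cases hg : g ∈ Subgroup.centralizer (P : Set G)
  · rw [show g = ((⟨g, centralizer_le_normalizer' P hg⟩ : Subgroup.normalizer (P : Set G)) : G)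
      from rfl]
    rw [show (x : G)⁻¹ * ((⟨g, centralizer_le_normalizer' P hg⟩ : Subgroup.normalizer (P : Set G))
      : G) * (x : G) = ((x⁻¹ * ⟨g, centralizer_le_normalizer' P hg⟩ * x :
        Subgroup.normalizer (P : Set G)) : G) from rfl, ← coeff_inNorm, ← coeff_inNorm, hee]
    have hgC : (⟨g, centralizer_le_normalizer' P hg⟩ : Subgroup.normalizer (P : Set G)) ∈
        Subgroup.centralizer ((P.subgroupOf (Subgroup.normalizer (P : Set G)) :
          Subgroup (Subgroup.normalizer (P : Set G))) : Set (Subgroup.normalizer (P : Set G))) :=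
      (mem_centralizer_subgroupOf Subgroup.le_normalizer).2 hg
    rw [elF, elF, coeff_inclEl_of_mem _ _ hgC, coeff_inclEl_of_mem _ _
      (show x⁻¹ * ⟨g, centralizer_le_normalizer' P hg⟩ * x ∈ _ from
        ((sig _ x).symm ⟨_, hgC⟩).2), coeff_blockIdem, coeff_blockIdem, blockCoeff_moveSet]
    rfl
  · rw [elF, elF, coeff_inclEl_notMem _ _ hg, coeff_inclEl_notMem]
    intro h2
    refine hg ?_
    have h3 := conj_mem_centralizer (x := (x : G)).2 h2
    rwa [hP, show (x : G) * ((x : G)⁻¹ * g * x) * (x : G)⁻¹ = g by group] at h3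

/-- Every pair of the block is conjugate to one below a given maximal pair. -/
theorem exists_conj_le (hM : Cfsg.IsPModular p M) {B : Set (Cfsg.IrrCharacter G)}
    {P Q : Subgroup G} {e : Set (Cfsg.IrrCharacter (Subgroup.centralizer (P : Set G)))}
    {f : Set (Cfsg.IrrCharacter (Subgroup.centralizer (Q : Set G)))}
    (hmax : Cfsg.IsMaximalBrauerPair p M B P e) (hQf : Cfsg.IsBrauerPairOf p M B Q f) :
    ∃ x : G, Cfsg.SubpairLE p M (cj Q x) (Cfsg.conjBlock Q x f) P e := by
  obtain ⟨R, g, hR, hle⟩ := exists_maximal_above hM hQf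
  obtain ⟨y, hy⟩ := exists_defectGroup_conj_eq hM hmax.1.2.1 (isDefectGroup_of_maximal hM hR)
    (isDefectGroup_of_maximal hM hmax)
  subst hy
  obtain ⟨n, -, hn⟩ := exists_conj_of_same hM (isMaximal_conj hM y hR) hmax.1
  refine ⟨n * y, ?_⟩
  show Relation.ReflTransGen _ (cjPair (n * y) ⟨Q, f⟩) _
  rw [← hn, show (⟨cj R y, Cfsg.conjBlock R y g⟩ : Cfsg.BrauerPairIdx G) = cjPair y ⟨R, g⟩ from rfl,
    cjPair_mul]
  exact subpairLE_conj hM (n * y) hle

end Cfsg.Agent.BlockCharsA.PairConj
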