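import Mathlib
import Cfsg.Prelude.Def_BlockFusion
import Cfsg.Agent.BlockCharsA.PairConj

/-!
# The local blocks of a Brauer pair below a maximal pair
-/

set_option linter.style.haveILetI false
set_option linter.unusedSectionVars false

namespace Cfsg.Agent.BlockCharsA.PairLocal

open Cfsg.Agent.Blocks Cfsg.Agent.Characters Cfsg.Agent.BlockCharsA.BrauerPairs
open Cfsg.Agent.BlockCharsA.PairStab Cfsg.Agent.BlockCharsA.Transport
open Cfsg.Agent.BlockCharsA.PairMax Cfsg.Agent.BlockCharsA.PairConj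

variable {G : Type*} [Group G] [Finite G] {p : ℕ} {M : Ideal Cfsg.AlgInt}

/-- A set of characters is determined by its idempotent coefficients. -/
theorem set_eq_of_blockCoeff {f f' : Set (Cfsg.IrrCharacter G)}
    (h : ∀ g, Cfsg.blockCoeff f g = Cfsg.blockCoeff f' g) : f = f' := Set.ext fun ψ => by
  classical
  have hb : blockIdem f = blockIdem f' := el_ext fun g => by
    rw [coeff_blockIdem, coeff_blockIdem, h]
  have hψ := congrArg (omega (ψ : _ → ℂ)) hb
  rw [omega_blockIdem, omega_blockIdem] at hψ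
  by_cases h1 : ψ ∈ f <;> by_cases h2 : ψ ∈ f' <;> simp [h1, h2] at hψ ⊢

/-- Stabilising a set of characters, read on the coefficients. -/
theorem stabilizes_iff_coeff {K : Subgroup G} {f : Set (Cfsg.IrrCharacter K)} {u : G}
    (hu : u ∈ Subgroup.normalizer (K : Set G)) :
    Cfsg.StabilizesBlock K f u ↔ ∀ g, (elF K f).coeff (u * g * u⁻¹) = (elF K f).coeff g := by
  refine ⟨fun h => invBy_elF (S := ({u} : Set G)) (fun v hv => ?_) u rfl, fun h => ?_⟩
  · rw [Set.mem_singleton_iff.1 hv]; exact h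
  · refine (stabilizes_iff hu f).2 (set_eq_of_blockCoeff fun k => ?_)
    have h1 := h ((conjK hu).symm k : K)
    rw [elF, conjK_symm_coe, show u * (u⁻¹ * (k : G) * u) * u⁻¹ = (k : G) by group,
      coeff_inclEl_of_mem _ _ k.2, coeff_inclEl_of_mem _ _
      (show u⁻¹ * (k : G) * u ∈ K from ((conjK hu).symm k).2), coeff_blockIdem, coeff_blockIdem]
      at h1
    rw [blockCoeff_moveSet, h1]
    rfl

variable {Q : Subgroup G} {f : Set (Cfsg.IrrCharacter (Subgroup.centralizer (Q : Set G)))}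

/-- The stabiliser of a pair. -/
def stab (Q : Subgroup G) (f : Set (Cfsg.IrrCharacter (Subgroup.centralizer (Q : Set G)))) :
    Subgroup G where
  carrier := {y | y ∈ Subgroup.normalizer (Q : Set G) ∧ ∀ g,
    (elF (Subgroup.centralizer (Q : Set G)) f).coeff (y * g * y⁻¹) =
      (elF (Subgroup.centralizer (Q : Set G)) f).coeff g}
  one_mem' := ⟨one_mem _, fun g => by simp⟩
  mul_mem' := fun {a b} ha hb => ⟨mul_mem ha.1 hb.1, fun g => by
    rw [show a * b * g * (a * b)⁻¹ = a * (b * g * b⁻¹) * a⁻¹ by group, ha.2, hb.2]⟩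
  inv_mem' := fun {a} ha => ⟨inv_mem ha.1, fun g => by
    rw [← ha.2 (a⁻¹ * g * a⁻¹⁻¹)]
    congr 1
    group⟩

theorem mem_stab {y : G} : y ∈ stab Q f ↔ y ∈ Subgroup.normalizer (Q : Set G) ∧
    Cfsg.StabilizesBlock (Subgroup.centralizer (Q : Set G)) f y :=
  and_congr_right fun hy =>
    (stabilizes_iff_coeff (normalizer_le_normalizer_centralizer Q hy)).symm

theorem stab_le_normalizer : stab Q f ≤ Subgroup.normalizer (Q : Set G) := fun _ hy => hy.1

theorem centralizer_le_stab : Subgroup.centralizer (Q : Set G) ≤ stab Q f := fun _ hy =>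
  mem_stab.2 ⟨centralizer_le_normalizer' Q hy, stabilizes_self f hy⟩

theorem le_stab : Q ≤ stab Q f := fun _ hy =>
  mem_stab.2 ⟨Subgroup.le_normalizer hy, stabilizes_centralizer f hy⟩

theorem stab_conj (x : G) : stab (cj Q x) (Cfsg.conjBlock Q x f) = cj (stab Q f) x := by
  ext y
  rw [mem_map_conj_iff]
  constructor
  · rintro ⟨hN, hc⟩
    refine ⟨?_, fun g => ?_⟩
    · rw [Subgroup.mem_normalizer_iff]
      intro q
      have h := Subgroup.mem_normalizer_iff.1 hN (x * q * x⁻¹)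
      rw [conj_mem_cj, show y * (x * q * x⁻¹) * y⁻¹ = x * ((x⁻¹ * y * x) * q * (x⁻¹ * y * x)⁻¹) * x⁻¹
        by group, conj_mem_cj] at h
      exact h
    · have h := hc (x * g * x⁻¹)
      rw [coeff_conjBlock', coeff_conjBlock',
        show x⁻¹ * (y * (x * g * x⁻¹) * y⁻¹) * x = (x⁻¹ * y * x) * g * (x⁻¹ * y * x)⁻¹ by group,
        show x⁻¹ * (x * g * x⁻¹) * x = g by group] at h
      exact h
  · intro h
    have hN := conj_mem_normalizer (x := x) h.1
    rw [show x * (x⁻¹ * y * x) * x⁻¹ = y by group] at hN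
    refine ⟨hN, fun g => ?_⟩
    rw [coeff_conjBlock', coeff_conjBlock', ← h.2 (x⁻¹ * g * x)]
    congr 1
    group

theorem cj_centralizer (Q : Subgroup G) (x : G) :
    cj (Subgroup.centralizer (Q : Set G)) x = Subgroup.centralizer (cj Q x : Set G) := by
  ext y
  rw [mem_map_conj_iff, ← conj_mem_centralizer (x := x),
    show x * (x⁻¹ * y * x) * x⁻¹ = y by group]

/-- Conjugation of a subgroup onto its conjugate. -/
def subConj (H : Subgroup G) (x : G) : H ≃* cj H x where
  toFun h := ⟨x * h * x⁻¹, conj_mem_cj.2 h.2⟩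
  invFun h := ⟨x⁻¹ * h * x, (conj_mem_cj (x := x)).1 (by
    rw [show x * (x⁻¹ * (h : G) * x) * x⁻¹ = (h : G) by group]
    exact h.2)⟩
  left_inv h := Subtype.ext (by simp [mul_assoc])
  right_inv h := Subtype.ext (by simp [mul_assoc])
  map_mul' a b := Subtype.ext (by simp only [Subgroup.coe_mul]; group)

theorem blockDefect_pullSet {K L : Type*} [Group K] [Group L] [Finite K] [Finite L] (σ : K ≃* L)
    (b : Set (Cfsg.IrrCharacter K)) :
    Cfsg.blockDefect p (pullSet σ b) = Cfsg.blockDefect p b := by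
  have hdeg : ∀ χ : Cfsg.IrrCharacter L,
      Cfsg.charDegree (irrIso σ χ : K → ℂ) = Cfsg.charDegree (χ : L → ℂ) := fun χ => by
    rw [Cfsg.charDegree, Cfsg.charDegree, irrIso_apply, map_one]
  rw [Cfsg.blockDefect, Cfsg.blockDefect, Nat.card_congr σ.toEquiv]
  congr 2
  ext n
  simp only [Set.mem_image]
  constructor
  · rintro ⟨χ, hχ, rfl⟩; exact ⟨irrIso σ χ, hχ, by rw [hdeg]⟩
  · rintro ⟨χ, hχ, rfl⟩
    refine ⟨(irrIso σ).symm χ, symm_mem_pullSet hχ, ?_⟩
    rw [← hdeg, Equiv.apply_symm_apply]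

/-- Below a pair, a normal step to every intermediate subgroup of the normaliser. -/
theorem normal_step (hM : Cfsg.IsPModular p M) {P R : Subgroup G}
    {e : Set (Cfsg.IrrCharacter (Subgroup.centralizer (P : Set G)))}
    (hPe : Cfsg.IsBrauerPair p M P e) (hQR : Q ≤ R) (hRP : R ≤ P)
    (hRN : R ≤ Subgroup.normalizer (Q : Set G)) (hle : Cfsg.SubpairLE p M Q f P e) :
    ∃ g, Cfsg.IsNormalSubpair p M Q f R g ∧ Cfsg.SubpairLE p M R g P e := by
  obtain ⟨g, -, hg⟩ := exists_subpair hM _ R P e rfl hPe hRP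
  obtain ⟨f', hf', -⟩ := existsUnique_normalSubpair hM ((subpairLE_facts hM hg).2 hPe) hQR hRN
  have : f' = f := subpair_unique hM _ Q P e rfl hPe f' f
    (Relation.ReflTransGen.head (a := (⟨Q, f'⟩ : Cfsg.BrauerPairIdx G)) (b := ⟨R, g⟩) hf' hg) hle
  exact ⟨g, this ▸ hf', hg⟩

theorem inf_normalizer_le_stab (hM : Cfsg.IsPModular p M) {P : Subgroup G}
    {e : Set (Cfsg.IrrCharacter (Subgroup.centralizer (P : Set G)))}
    (hPe : Cfsg.IsBrauerPair p M P e) (hle : Cfsg.SubpairLE p M Q f P e) :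
    P ⊓ Subgroup.normalizer (Q : Set G) ≤ stab Q f := by
  obtain ⟨g, hg, -⟩ := normal_step hM hPe
    (le_inf (subpairLE_facts hM hle).1 Subgroup.le_normalizer) inf_le_left inf_le_right hle
  exact fun y hy => mem_stab.2 ⟨hy.2, hg.2.2.2.2.1 y hy⟩

theorem inf_stab_eq (hM : Cfsg.IsPModular p M) {P : Subgroup G}
    {e : Set (Cfsg.IrrCharacter (Subgroup.centralizer (P : Set G)))}
    (hPe : Cfsg.IsBrauerPair p M P e) (hle : Cfsg.SubpairLE p M Q f P e) :
    P ⊓ stab Q f = P ⊓ Subgroup.normalizer (Q : Set G) :=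
  le_antisymm (inf_le_inf_left _ stab_le_normalizer)
    (le_inf inf_le_left (inf_normalizer_le_stab hM hPe hle))

theorem exists_unit (hM : Cfsg.IsPModular p M) {R : Subgroup G}
    {g : Set (Cfsg.IrrCharacter (Subgroup.centralizer (R : Set G)))}
    (h : Cfsg.IsNormalSubpair p M Q f R g) :
    ∃ c ∈ Subgroup.centralizer (R : Set G),
      ¬ Cfsg.MemLocalIdeal M ((elF (Subgroup.centralizer (Q : Set G)) f).coeff c) := by
  by_contra hcon
  push Not at hcon
  obtain ⟨ξ, hξ⟩ := block_nonempty hM h.2.1.2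
  have h1 := h.2.2.2.2.2 ξ hξ
  rw [brauerOmega_elF] at h1
  refine not_ideal_one hM ((ideal_iff_of_cong hM h1).1 ?_)
  exact omega_ideal hM ξ (central_br (invBy_mono (centralizer_le_centralizer h.2.2.1)
    (invBy_elF_self f))) fun x => by rw [br, coeff_restrEl]; exact hcon _ x.2

variable {H : Subgroup G} {F : Set (Cfsg.IrrCharacter H)}

/-- A subgroup of `H` inside a normal step lies in a defect group of the block of `H`. -/
theorem exists_defect_ge (hM : Cfsg.IsPModular p M)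
    (hCH : Subgroup.centralizer (Q : Set G) ≤ H) (hF : Cfsg.IsPBlock M F)
    (hFf : ∀ t : H, Cfsg.blockCoeff F t = (elF (Subgroup.centralizer (Q : Set G)) f).coeff (t : G))
    {L R : Subgroup G} {g : Set (Cfsg.IrrCharacter (Subgroup.centralizer (R : Set G)))}
    (hLH : L ≤ H) (hLR : L ≤ R) (h : Cfsg.IsNormalSubpair p M Q f R g) :
    ∃ D : Subgroup H, Cfsg.IsDefectGroup p M F D ∧ L.subgroupOf H ≤ D := by
  obtain ⟨c, hc, hcu⟩ := exists_unit hM h
  have hcH : c ∈ H := hCH (centralizer_le_centralizer h.2.2.1 hc)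
  obtain ⟨D, hD⟩ := exists_defectGroup hM hF
  obtain ⟨x, hx⟩ := le_defect_of_coeff hM hF hD (h := ⟨c, hcH⟩) (by rw [hFf]; exact hcu)
    (Q := L.subgroupOf H) (isPGroup_subgroupOf (h.2.1.1.to_le hLR) hLH)
    ((mem_centralizer_subgroupOf hLH).2 (centralizer_le_centralizer hLR hc))
  exact ⟨_, defectGroup_conj hM hD x, hx⟩

theorem card_inf_le (hM : Cfsg.IsPModular p M)
    (hCH : Subgroup.centralizer (Q : Set G) ≤ H) (hHS : H ≤ stab Q f) (hF : Cfsg.IsPBlock M F)
    (hFf : ∀ t : H, Cfsg.blockCoeff F t = (elF (Subgroup.centralizer (Q : Set G)) f).coeff (t : G))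
    {P : Subgroup G} {e : Set (Cfsg.IrrCharacter (Subgroup.centralizer (P : Set G)))}
    (hPe : Cfsg.IsBrauerPair p M P e) (hle : Cfsg.SubpairLE p M Q f P e) :
    (∃ D : Subgroup H, Cfsg.IsDefectGroup p M F D ∧ (P ⊓ H).subgroupOf H ≤ D) ∧
      Nat.card ↥(P ⊓ H) ≤ p ^ Cfsg.blockDefect p F := by
  obtain ⟨g, hg, -⟩ := normal_step hM hPe
    (le_inf (subpairLE_facts hM hle).1 Subgroup.le_normalizer) inf_le_left inf_le_right hle
  obtain ⟨D, hD, hLD⟩ := exists_defect_ge hM hCH hF hFf (L := P ⊓ H) inf_le_right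
    (le_inf inf_le_left (inf_le_right.trans (hHS.trans stab_le_normalizer))) hg
  refine ⟨⟨D, hD, hLD⟩, ?_⟩
  rw [← card_defectGroup hM hF hD,
    ← Nat.card_congr (Subgroup.subgroupOfEquivOfLe (inf_le_right : P ⊓ H ≤ H)).toEquiv]
  exact Subgroup.card_le_of_le hLD

/-- Some conjugate of the pair below the maximal one realises a defect group of the local block. -/
theorem exists_conj_card_eq (hM : Cfsg.IsPModular p M)
    (hCH : Subgroup.centralizer (Q : Set G) ≤ H) (hHS : H ≤ stab Q f) (hF : Cfsg.IsPBlock M F)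
    (hFf : ∀ t : H, Cfsg.blockCoeff F t = (elF (Subgroup.centralizer (Q : Set G)) f).coeff (t : G))
    {B : Set (Cfsg.IrrCharacter G)} {P : Subgroup G}
    {e : Set (Cfsg.IrrCharacter (Subgroup.centralizer (P : Set G)))}
    (hmax : Cfsg.IsMaximalBrauerPair p M B P e) (hQf : Cfsg.IsBrauerPairOf p M B Q f) :
    ∃ (x : G) (D : Subgroup H), Cfsg.IsDefectGroup p M F D ∧
      cj (D.map H.subtype) x ≤ P ⊓ cj H x ∧
      Cfsg.SubpairLE p M (cj Q x) (Cfsg.conjBlock Q x f) P e := by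
  haveI := fact_prime_of_pm hM
  obtain ⟨D, hD⟩ := exists_defectGroup hM hF
  obtain ⟨c, hc, hcs⟩ := isDefectGroup_iff.1 hD
  have hcu : ¬ Cfsg.MemLocalIdeal M ((elF (Subgroup.centralizer (Q : Set G)) f).coeff (c : G)) := by
    rw [← hFf]; exact hc.2.1
  have hcQ : (c : G) ∈ Subgroup.centralizer (Q : Set G) := by
    by_contra h
    refine hcu ?_
    rw [elF, coeff_inclEl_notMem _ _ h]
    exact ideal_zero hM
  have hDS : D.map H.subtype ≤ stab Q f := (Subgroup.map_subtype_le D).trans hHS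
  set R := D.map H.subtype ⊔ Q with hR
  have hRS : R ≤ stab Q f := sup_le hDS le_stab
  have hcR : (c : G) ∈ Subgroup.centralizer (R : Set G) := by
    refine le_centralizer_iff_mem.1 (sup_le ?_ (le_centralizer_iff_mem.2 hcQ))
    rintro _ ⟨d, hd, rfl⟩
    exact Subgroup.mem_centralizer_singleton_iff.2
      (congrArg Subtype.val (isSylCent_mem hcs d hd))
  obtain ⟨g, hg⟩ := exists_above hM (R := R) hQf.1
    (((isPGroup_defect hD).map _).to_sup_of_normal_right' hQf.1.1 (hDS.trans stab_le_normalizer))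
    le_sup_right (hRS.trans stab_le_normalizer) (fun y hy => (mem_stab.1 (hRS hy)).2) hcR hcu
  obtain ⟨x, hx⟩ := exists_conj_le hM hmax (block_of_normalSubpair hM hg hQf)
  refine ⟨x, D, hD, le_inf ((Subgroup.map_mono le_sup_left).trans (subpairLE_facts hM hx).1)
    (Subgroup.map_mono (Subgroup.map_subtype_le D)), ?_⟩
  exact Relation.ReflTransGen.head (a := (⟨cj Q x, Cfsg.conjBlock Q x f⟩ : Cfsg.BrauerPairIdx G))
    (b := ⟨cj R x, Cfsg.conjBlock R x g⟩) (normalSubpair_conj hM x hg) hx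

/-- The transported local block. -/
theorem blockCoeff_subConj
    (hFf : ∀ t : H, Cfsg.blockCoeff F t = (elF (Subgroup.centralizer (Q : Set G)) f).coeff (t : G))
    (x : G) (t : cj H x) : Cfsg.blockCoeff (pullSet (subConj H x) F) t =
      (elF (Subgroup.centralizer (cj Q x : Set G)) (Cfsg.conjBlock Q x f)).coeff (t : G) := by
  obtain ⟨h, rfl⟩ := (subConj H x).surjective t
  rw [blockCoeff_pullSet, hFf]
  exact (coeff_conjBlock Q x f (h : G)).symm

theorem card_inf_conj_le (hM : Cfsg.IsPModular p M)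
    (hCH : Subgroup.centralizer (Q : Set G) ≤ H) (hHS : H ≤ stab Q f) (hF : Cfsg.IsPBlock M F)
    (hFf : ∀ t : H, Cfsg.blockCoeff F t = (elF (Subgroup.centralizer (Q : Set G)) f).coeff (t : G))
    {P : Subgroup G} {e : Set (Cfsg.IrrCharacter (Subgroup.centralizer (P : Set G)))}
    (hPe : Cfsg.IsBrauerPair p M P e) {x : G}
    (hle : Cfsg.SubpairLE p M (cj Q x) (Cfsg.conjBlock Q x f) P e) :
    Nat.card ↥(P ⊓ cj H x) ≤ p ^ Cfsg.blockDefect p F := by
  rw [← blockDefect_pullSet (subConj H x) F]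
  refine (card_inf_le hM (H := cj H x) ?_ ?_ (isPBlock_pullSet hM _ hF)
    (blockCoeff_subConj hFf x) hPe hle).2
  · rw [← cj_centralizer]; exact Subgroup.map_mono hCH
  · rw [stab_conj]; exact Subgroup.map_mono hHS

/-- A defect group bound that is attained. -/
theorem isDefectGroup_of_card (hM : Cfsg.IsPModular p M)
    (hCH : Subgroup.centralizer (Q : Set G) ≤ H) (hHS : H ≤ stab Q f) (hF : Cfsg.IsPBlock M F)
    (hFf : ∀ t : H, Cfsg.blockCoeff F t = (elF (Subgroup.centralizer (Q : Set G)) f).coeff (t : G))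
    {P : Subgroup G} {e : Set (Cfsg.IrrCharacter (Subgroup.centralizer (P : Set G)))}
    (hPe : Cfsg.IsBrauerPair p M P e) (hle : Cfsg.SubpairLE p M Q f P e)
    (h : p ^ Cfsg.blockDefect p F ≤ Nat.card ↥(P ⊓ H)) :
    Cfsg.IsDefectGroup p M F ((P ⊓ H).subgroupOf H) := by
  obtain ⟨D, hD, hLD⟩ := (card_inf_le hM hCH hHS hF hFf hPe hle).1
  suffices (P ⊓ H).subgroupOf H = D by rwa [this]
  refine eq_of_le_of_card_le hLD ?_
  rw [card_defectGroup hM hF hD,
    Nat.card_congr (Subgroup.subgroupOfEquivOfLe (inf_le_right : P ⊓ H ≤ H)).toEquiv]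
  exact h

/-- Some conjugate below the maximal pair has its local intersection as defect group. -/
theorem exists_conj_defect (hM : Cfsg.IsPModular p M)
    (hCH : Subgroup.centralizer (Q : Set G) ≤ H) (hHS : H ≤ stab Q f) (hF : Cfsg.IsPBlock M F)
    (hFf : ∀ t : H, Cfsg.blockCoeff F t = (elF (Subgroup.centralizer (Q : Set G)) f).coeff (t : G))
    {B : Set (Cfsg.IrrCharacter G)} {P : Subgroup G}
    {e : Set (Cfsg.IrrCharacter (Subgroup.centralizer (P : Set G)))}
    (hmax : Cfsg.IsMaximalBrauerPair p M B P e) (hQf : Cfsg.IsBrauerPairOf p M B Q f) :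
    ∃ x : G, Cfsg.SubpairLE p M (cj Q x) (Cfsg.conjBlock Q x f) P e ∧
      p ^ Cfsg.blockDefect p F ≤ Nat.card ↥(P ⊓ cj H x) ∧
      ∀ (H' : Subgroup G) (F' : Set (Cfsg.IrrCharacter H')), H' = cj H x →
        (∀ t : H', Cfsg.blockCoeff F' t =
          (elF (Subgroup.centralizer (cj Q x : Set G)) (Cfsg.conjBlock Q x f)).coeff (t : G)) →
        Cfsg.IsDefectGroup p M F' ((P ⊓ H').subgroupOf H') := by
  obtain ⟨x, D, hD, hDP, hle⟩ := exists_conj_card_eq hM hCH hHS hF hFf hmax hQf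
  have hcard : p ^ Cfsg.blockDefect p F ≤ Nat.card ↥(P ⊓ cj H x) := by
    rw [← card_defectGroup hM hF hD, ← Subgroup.card_map_of_injective H.subtype_injective,
      ← card_map_conj (D.map H.subtype) x]
    exact Subgroup.card_le_of_le hDP
  refine ⟨x, hle, hcard, fun H' F' hH' hF' => ?_⟩
  subst hH'
  have hFeq : F' = pullSet (subConj H x) F :=
    set_eq_of_blockCoeff fun t => by rw [hF', blockCoeff_subConj hFf]
  subst hFeq
  refine isDefectGroup_of_card hM (H := cj H x) ?_ ?_ (isPBlock_pullSet hM _ hF)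
    (blockCoeff_subConj hFf x) hmax.1.1 hle ?_
  · rw [← cj_centralizer]; exact Subgroup.map_mono hCH
  · rw [stab_conj]; exact Subgroup.map_mono hHS
  · rw [blockDefect_pullSet]; exact hcard

/-- The local intersection is a defect group iff it is largest among the conjugates below. -/
theorem defect_iff_largest (hM : Cfsg.IsPModular p M)
    (hCH : Subgroup.centralizer (Q : Set G) ≤ H) (hHS : H ≤ stab Q f) (hF : Cfsg.IsPBlock M F)
    (hFf : ∀ t : H, Cfsg.blockCoeff F t = (elF (Subgroup.centralizer (Q : Set G)) f).coeff (t : G))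
    {B : Set (Cfsg.IrrCharacter G)} {P : Subgroup G}
    {e : Set (Cfsg.IrrCharacter (Subgroup.centralizer (P : Set G)))}
    (hmax : Cfsg.IsMaximalBrauerPair p M B P e) (hle : Cfsg.SubpairLE p M Q f P e) :
    Cfsg.IsDefectGroup p M F ((P ⊓ H).subgroupOf H) ↔
      ∀ x : G, Cfsg.SubpairLE p M (cj Q x) (Cfsg.conjBlock Q x f) P e →
        Nat.card ↥(P ⊓ cj H x) ≤ Nat.card ↥(P ⊓ H) := by
  constructor
  · intro hD x hx
    refine (card_inf_conj_le hM hCH hHS hF hFf hmax.1.1 hx).trans (le_of_eq ?_)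
    rw [← card_defectGroup hM hF hD]
    exact Nat.card_congr (Subgroup.subgroupOfEquivOfLe inf_le_right).toEquiv
  · intro h
    obtain ⟨x, hx, hcard, -⟩ := exists_conj_defect hM hCH hHS hF hFf hmax
      ((block_of_subpairLE hM hle).2 hmax.1)
    exact isDefectGroup_of_card hM hCH hHS hF hFf hmax.1.1 hle (hcard.trans (h x hx))

theorem coeff_self (t : Subgroup.centralizer (Q : Set G)) :
    Cfsg.blockCoeff f t = (elF (Subgroup.centralizer (Q : Set G)) f).coeff (t : G) := by
  rw [elF, coeff_inclEl_mem, coeff_blockIdem]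

/-- The block of the stabiliser. -/
theorem exists_block_stab (hM : Cfsg.IsPModular p M) (hQf : Cfsg.IsBrauerPair p M Q f)
    (T : Subgroup G) (hT : T = stab Q f) :
    ∃ F' : Set (Cfsg.IrrCharacter T), Cfsg.IsPBlock M F' ∧ ∀ t : T, Cfsg.blockCoeff F' t =
      (elF (Subgroup.centralizer (Q : Set G)) f).coeff (t : G) := by
  subst hT
  obtain ⟨E, hE, hEq⟩ := exists_stab_block' hM hQf.1 hQf.2 (stab Q f) centralizer_le_stab le_stab
    stab_le_normalizer fun x hx => (mem_stab.1 hx).2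
  exact ⟨E, hE, fun t => by rw [← coeff_blockIdem, hEq, coeff_restrEl]⟩

theorem eq_stab {T : Subgroup G} (hT : ∀ y : G, y ∈ T ↔ y ∈ Subgroup.normalizer (Q : Set G) ∧
    Cfsg.StabilizesBlock (Subgroup.centralizer (Q : Set G)) f y) : T = stab Q f :=
  SetLike.ext fun y => (hT y).trans mem_stab.symm

/-- Conjugacy in the fusion system of a block. -/
theorem isConj_iff (hM : Cfsg.IsPModular p M) {B : Set (Cfsg.IrrCharacter G)} {P : Subgroup G}
    {e : Set (Cfsg.IrrCharacter (Subgroup.centralizer (P : Set G)))} {S : Cfsg.FusionSystem P}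
    (hS : Cfsg.IsBlockFusionSystemOn p M B P e S) (hle : Cfsg.SubpairLE p M Q f P e)
    (Q' : Subgroup G) :
    S.IsConj Q Q' ↔ ∃ g : G, Q' = cj Q g ∧
      Cfsg.SubpairLE p M (cj Q g) (Cfsg.conjBlock Q g f) P e := by
  constructor
  · rintro ⟨φ, hφ, rfl⟩
    obtain ⟨-, g, hg, -, f₀, hf₀, hconj⟩ := (hS.2 Q φ).1 hφ
    have : f₀ = f := subpair_unique hM _ Q P e rfl hS.1.1.1 f₀ f hf₀ hle
    subst this
    refine ⟨g, ?_, hconj⟩
    ext y
    rw [mem_map_conj_iff]
    constructor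
    · rintro ⟨u, rfl⟩; rw [hg]; simp [mul_assoc]
    · intro hy; exact ⟨⟨_, hy⟩, by rw [hg]; group⟩
  · rintro ⟨g, rfl, hconj⟩
    refine ⟨Cfsg.conjHom Q g, (hS.2 Q _).2 ⟨(subpairLE_facts hM hle).1, g, fun u => rfl,
      (subpairLE_facts hM hconj).1, f, hle, hconj⟩, ?_⟩
    ext y
    rw [mem_map_conj_iff]
    constructor
    · rintro ⟨u, rfl⟩
      show g⁻¹ * (g * (u : G) * g⁻¹) * g ∈ Q
      simp [mul_assoc]
    · intro hy
      exact ⟨⟨_, hy⟩, by show g * (g⁻¹ * y * g) * g⁻¹ = y; group⟩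

end Cfsg.Agent.BlockCharsA.PairLocal
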