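import Mathlib
import Cfsg.Agent.BlockCharsA.PairLocal

/-!
# The Brauer pairs of the principal block
-/

set_option linter.style.haveILetI false
set_option linter.unusedSectionVars false

namespace Cfsg.Agent.BlockCharsA.PairPrincipal

open Cfsg.Agent.Blocks Cfsg.Agent.Characters Cfsg.Agent.BlockCharsA.BrauerPairs
open Cfsg.Agent.BlockCharsA.PairStab Cfsg.Agent.BlockCharsA.Transport
open Cfsg.Agent.BlockCharsA.PairMax Cfsg.Agent.BlockCharsA.PairConj
open Cfsg.Agent.BlockCharsA.PairLocal

variable {G : Type*} [Group G] [Finite G] {p : ℕ} {M : Ideal Cfsg.AlgInt}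

/-- The pair with the principal block. -/
abbrev prin (M : Ideal Cfsg.AlgInt) (Q : Subgroup G) :
    Set (Cfsg.IrrCharacter (Subgroup.centralizer (Q : Set G))) :=
  Cfsg.principalBlock M (Subgroup.centralizer (Q : Set G))

theorem omega_trivIrr (z : MonoidAlgebra ℂ G) [Fintype G] :
    omega ((trivIrr G : Cfsg.IrrCharacter G) : G → ℂ) z = ∑ g : G, z.coeff g := by
  rw [omega, evalChar_eq_sum]
  simp

/-- A coefficient sum only matters modulo the local ideal on the fixed points. -/
theorem cong_sum_centralizer (hM : Cfsg.IsPModular p M) {K R : Subgroup G} (hR : IsPGroup p R)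
    (hRK : R ≤ Subgroup.normalizer (K : Set G)) (hCK : Subgroup.centralizer (R : Set G) ≤ K)
    [Fintype K] [Fintype (Subgroup.centralizer (R : Set G))]
    (β : G → ℂ) (hr : ∀ g ∈ K, Cfsg.MemLocalRing M (β g))
    (hinv : ∀ u ∈ R, ∀ g ∈ K, β (u * g * u⁻¹) = β g) :
    Cong M (∑ k : K, β k) (∑ c : Subgroup.centralizer (R : Set G), β c) := by
  classical
  letI : MulAction R K :=
    { smul := fun u k => conjK (hRK u.2) k
      one_smul := fun k => Subtype.ext (by
        show ((1 : R) : G) * k * ((1 : R) : G)⁻¹ = k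
        simp)
      mul_smul := fun u v k => Subtype.ext (by
        show ((u * v : R) : G) * k * ((u * v : R) : G)⁻¹ = u * (v * k * (v : G)⁻¹) * (u : G)⁻¹
        simp [mul_assoc]) }
  set s := Finset.univ.filter fun k : K => (k : G) ∈ Subgroup.centralizer (R : Set G)
  have h := cong_sum_fixed hM hR (fun k : K => β k) (fun k => hr k k.2)
    (fun u k => hinv u u.2 k k.2) s fun k => by
      simp only [s, Finset.mem_filter, Finset.mem_univ, true_and, ← conj_fixed_iff]
      exact forall_congr' fun u => ⟨fun h => Subtype.ext h, fun h => congrArg Subtype.val h⟩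
  refine cong_trans hM h (cong_of_eq hM ?_)
  refine Finset.sum_bij' (fun k hk => (⟨k, (Finset.mem_filter.1 hk).2⟩ :
      Subgroup.centralizer (R : Set G))) (fun c _ => (⟨c, hCK c.2⟩ : K))
    (fun _ _ => Finset.mem_univ _) (fun c _ => Finset.mem_filter.2 ⟨Finset.mem_univ _, c.2⟩)
    (fun _ _ => rfl) (fun _ _ => rfl) fun _ _ => rfl

theorem isBrauerPair_prin (hM : Cfsg.IsPModular p M) {Q : Subgroup G} (hQ : IsPGroup p Q) :
    Cfsg.IsBrauerPair p M Q (prin M Q) :=
  ⟨hQ, isPBlock_principal M _⟩

/-- A principal pair belongs to the principal block. -/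
theorem isBrauerPairOf_prin (hM : Cfsg.IsPModular p M) {Q : Subgroup G} (hQ : IsPGroup p Q) :
    Cfsg.IsBrauerPairOf p M (Cfsg.principalBlock M G) Q (prin M Q) := by
  haveI := Fintype.ofFinite G
  haveI := Fintype.ofFinite (Subgroup.centralizer (Q : Set G))
  refine ⟨isBrauerPair_prin hM hQ, isPBlock_principal M G, fun ξ hξ => ?_⟩
  rw [brauerOmega_block]
  refine cong_at_member hM (isPBlock_principal M _) (trivIrr_mem_principal hM) hξ
    (intEl_blockIdem hM (isPBlock_principal M G)) (invBy_blockIdem _ _) ?_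
  have h1 := omega_blockIdem_mem (trivIrr_mem_principal (G := G) hM)
  rw [omega_trivIrr] at h1 ⊢
  simp only [br, coeff_restrEl]
  haveI := Fintype.ofFinite (⊤ : Subgroup G)
  have h := cong_sum_centralizer hM (K := ⊤) hQ (fun x _ => Subgroup.le_normalizer trivial)
    (fun x _ => trivial) (fun g => (blockIdem (Cfsg.principalBlock M G)).coeff g)
    (fun g _ => intEl_blockIdem hM (isPBlock_principal M G) g)
    (fun u _ g _ => central_blockIdem _ g u)
  refine cong_trans hM (cong_symm hM h) (cong_of_eq hM ?_)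
  rw [← h1]
  exact Fintype.sum_equiv Subgroup.topEquiv.toEquiv _ _ fun _ => rfl

theorem stabilizes_prin (hM : Cfsg.IsPModular p M) {Q : Subgroup G} {u : G}
    (hu : u ∈ Subgroup.normalizer (Q : Set G)) :
    Cfsg.StabilizesBlock (Subgroup.centralizer (Q : Set G)) (prin M Q) u := by
  have hK := normalizer_le_normalizer_centralizer Q hu
  refine (stabilizes_iff hK _).2 (block_eq_of_mem hM
    (isPBlock_moveSet hM _ (isPBlock_principal M _)) (isPBlock_principal M _) ?_
    (trivIrr_mem_principal hM))
  show irrAutEquiv (conjK hK) (trivIrr _) ∈ _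
  rw [show irrAutEquiv (conjK hK) (trivIrr _) = trivIrr _ from Subtype.ext (funext fun _ => rfl)]
  exact trivIrr_mem_principal hM

theorem normalSubpair_prin (hM : Cfsg.IsPModular p M) {Q R : Subgroup G} (hR : IsPGroup p R)
    (hQR : Q ≤ R) (hRN : R ≤ Subgroup.normalizer (Q : Set G)) :
    Cfsg.IsNormalSubpair p M Q (prin M Q) R (prin M R) := by
  haveI := Fintype.ofFinite (Subgroup.centralizer (R : Set G))
  haveI := Fintype.ofFinite (Subgroup.centralizer (Q : Set G))
  refine ⟨isBrauerPair_prin hM (hR.to_le hQR), isBrauerPair_prin hM hR, hQR, hRN,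
    fun x hx => stabilizes_prin hM (hRN hx), fun ξ hξ => ?_⟩
  rw [brauerOmega_elF]
  refine cong_at_member hM (isPBlock_principal M _) (trivIrr_mem_principal hM) hξ
    (intEl_elF hM (isPBlock_principal M _))
    (invBy_mono (centralizer_le_centralizer hQR) (invBy_elF_self _)) ?_
  have h1 := omega_blockIdem_mem
    (trivIrr_mem_principal (G := Subgroup.centralizer (Q : Set G)) hM)
  rw [omega_trivIrr] at h1 ⊢
  simp only [br, coeff_restrEl]
  have h := cong_sum_centralizer hM (K := Subgroup.centralizer (Q : Set G)) hR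
    (hRN.trans (normalizer_le_normalizer_centralizer Q)) (centralizer_le_centralizer hQR)
    (fun g => (elF (Subgroup.centralizer (Q : Set G)) (prin M Q)).coeff g)
    (fun g _ => intEl_elF hM (isPBlock_principal M _) g)
    (fun u hu g _ => invBy_elF (S := ({u} : Set G)) (fun v hv => by
      rw [Set.mem_singleton_iff.1 hv]; exact stabilizes_prin hM (hRN hu)) u rfl g)
  refine cong_trans hM (cong_symm hM h) (cong_of_eq hM ?_)
  rw [← h1]
  exact Finset.sum_congr rfl fun k _ => by rw [elF, coeff_inclEl_mem]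

/-- Principal pairs are nested. -/
theorem subpairLE_prin (hM : Cfsg.IsPModular p M) :
    ∀ (n : ℕ) (Q P : Subgroup G), Nat.card P - Nat.card Q = n → IsPGroup p P → Q ≤ P →
      Cfsg.SubpairLE p M Q (prin M Q) P (prin M P) := by
  intro n
  induction n using Nat.strong_induction_on with
  | _ n ih =>
    intro Q P hn hP hQP
    rcases eq_or_ne Q P with rfl | hne
    · exact Relation.ReflTransGen.refl
    · have hlt := lt_inf_normalizer hM hP hQP hne
      set R := P ⊓ Subgroup.normalizer (Q : Set G)
      have hc : Nat.card Q < Nat.card R := lt_of_not_ge fun hle =>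
        hlt.ne (eq_of_le_of_card_le hlt.le hle)
      have hc' : Nat.card R ≤ Nat.card P := Subgroup.card_le_of_le inf_le_left
      have h1 := ih (Nat.card P - Nat.card R) (by omega) R P rfl hP inf_le_left
      exact Relation.ReflTransGen.head (a := (⟨Q, prin M Q⟩ : Cfsg.BrauerPairIdx G))
        (b := ⟨R, prin M R⟩) (normalSubpair_prin hM (hP.to_le inf_le_left) hlt.le inf_le_right) h1

theorem isMaximal_prin (hM : Cfsg.IsPModular p M) (S : Sylow p G) :
    Cfsg.IsMaximalBrauerPair p M (Cfsg.principalBlock M G) (S : Subgroup G)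
      (prin M (S : Subgroup G)) :=
  ⟨isBrauerPairOf_prin hM S.2, fun _ _ hg hle => S.3 hg.1.1 (subpairLE_facts hM hle).1⟩

theorem conjBlock_prin (hM : Cfsg.IsPModular p M) (Q : Subgroup G) (x : G) :
    Cfsg.conjBlock Q x (prin M Q) = prin M (cj Q x) := by
  refine block_eq_of_mem hM (isPBlock_conjBlock hM Q x (isPBlock_principal M _))
    (isPBlock_principal M _) (χ := trivIrr _) ⟨trivIrr _, trivIrr_mem_principal hM, fun _ _ _ => rfl⟩
    (trivIrr_mem_principal hM)

/-- The pairs of the principal block are the principal pairs. -/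
theorem eq_prin (hM : Cfsg.IsPModular p M) {Q : Subgroup G}
    {f : Set (Cfsg.IrrCharacter (Subgroup.centralizer (Q : Set G)))}
    (h : Cfsg.IsBrauerPairOf p M (Cfsg.principalBlock M G) Q f) : f = prin M Q := by
  haveI := fact_prime_of_pm hM
  obtain ⟨S⟩ : Nonempty (Sylow p G) := inferInstance
  obtain ⟨x, hx⟩ := exists_conj_le hM (isMaximal_prin hM S) h
  have h1 : Cfsg.conjBlock Q x f = prin M (cj Q x) := subpair_unique hM _ _ _ _ rfl
    (isMaximal_prin hM S).1.1 _ _ hx
    (subpairLE_prin hM _ _ _ rfl S.2 (subpairLE_facts hM hx).1)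
  have hm : trivIrr _ ∈ Cfsg.conjBlock Q x f := by
    rw [h1]; exact trivIrr_mem_principal hM
  obtain ⟨ξ, hξ, hval⟩ := hm
  refine block_eq_of_mem hM h.1.2 (isPBlock_principal M _) hξ ?_
  have : ξ = trivIrr _ := Subtype.ext (funext fun c =>
    ((hval c (centConj Q x c) rfl).symm.trans rfl))
  rw [this]
  exact trivIrr_mem_principal hM

end Cfsg.Agent.BlockCharsA.PairPrincipal
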