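import Mathlib
import Cfsg.Agent.BlockCharsA.PairLocal

/-!
# The fusion system of a block: existence and automizers
-/

set_option linter.style.haveILetI false
set_option linter.unusedSectionVars false

namespace Cfsg.Agent.BlockCharsA.PairFusion

open Cfsg.Agent.Blocks Cfsg.Agent.Characters Cfsg.Agent.BlockCharsA.BrauerPairs
open Cfsg.Agent.BlockCharsA.PairStab Cfsg.Agent.BlockCharsA.Transport
open Cfsg.Agent.BlockCharsA.PairMax Cfsg.Agent.BlockCharsA.PairConj
open Cfsg.Agent.BlockCharsA.PairLocal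

variable {G : Type*} [Group G] [Finite G] {p : ℕ} {M : Ideal Cfsg.AlgInt}
variable {B : Set (Cfsg.IrrCharacter G)} {P : Subgroup G}
  {e : Set (Cfsg.IrrCharacter (Subgroup.centralizer (P : Set G)))}

/-- Two pairs on one subgroup below a pair agree. -/
theorem eq_of_below (hM : Cfsg.IsPModular p M) (hPe : Cfsg.IsBrauerPair p M P e)
    {a b : Cfsg.BrauerPairIdx G} (h : a.1 = b.1)
    (ha : Relation.ReflTransGen (Cfsg.NormalSubpairRel p M) a ⟨P, e⟩)
    (hb : Relation.ReflTransGen (Cfsg.NormalSubpairRel p M) b ⟨P, e⟩) : a = b := by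
  obtain ⟨Q, f⟩ := a
  obtain ⟨Q', f'⟩ := b
  simp only at h
  subst h
  rw [subpair_unique hM _ Q P e rfl hPe f f' ha hb]

/-- A conjugation fixing a pair. -/
theorem mem_stab_iff {Q : Subgroup G}
    {f : Set (Cfsg.IrrCharacter (Subgroup.centralizer (Q : Set G)))} {g : G} :
    g ∈ stab Q f ↔ cjPair g (⟨Q, f⟩ : Cfsg.BrauerPairIdx G) = ⟨Q, f⟩ := by
  constructor
  · intro hg
    refine idx_ext ?_ fun z => ?_
    · show cj Q g = Q
      ext z
      rw [mem_map_conj_iff]
      have := Subgroup.mem_normalizer_iff.1 (inv_mem hg.1) z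
      rw [inv_inv] at this
      exact this.symm
    · simp only [cjPair]
      rw [coeff_conjBlock', ← hg.2 (g⁻¹ * z * g)]
      congr 1
      group
  · intro h
    have h1 : cj Q g = Q := congrArg Sigma.fst h
    refine ⟨?_, fun z => ?_⟩
    · rw [Subgroup.mem_normalizer_iff]
      intro q
      rw [show g * q * g⁻¹ ∈ Q ↔ g * q * g⁻¹ ∈ cj Q g from by rw [h1], conj_mem_cj]
    · have h2 := congrArg (fun a : Cfsg.BrauerPairIdx G =>
        (elF (Subgroup.centralizer (a.1 : Set G)) a.2).coeff (g * z * g⁻¹)) h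
      simp only [cjPair] at h2
      rw [coeff_conjBlock] at h2
      exact h2.symm

theorem cjPair_mem (hM : Cfsg.IsPModular p M) (hPe : Cfsg.IsBrauerPair p M P e) {g : G}
    (hg : g ∈ P) : cjPair g (⟨P, e⟩ : Cfsg.BrauerPairIdx G) = ⟨P, e⟩ :=
  mem_stab_iff.1 (le_stab hg)

theorem range_eq_cj {Q : Subgroup G} {φ : Q →* G} {g : G}
    (h : ∀ u : Q, φ u = g * (u : G) * g⁻¹) : φ.range = cj Q g := by
  ext y
  rw [mem_map_conj_iff]
  constructor
  · rintro ⟨u, rfl⟩; rw [h]; simp [mul_assoc]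
  · intro hy; exact ⟨⟨_, hy⟩, by rw [h]; group⟩

/-- The fusion system of a block. -/
def blockSystem (hM : Cfsg.IsPModular p M) (hmax : Cfsg.IsMaximalBrauerPair p M B P e) :
    Cfsg.FusionSystem P where
  Hom Q := {φ | Q ≤ P ∧ ∃ g : G, (∀ u : Q, φ u = g * (u : G) * g⁻¹) ∧
    Q.map (MulAut.conj g).toMonoidHom ≤ P ∧
    ∃ f : Set (Cfsg.IrrCharacter (Subgroup.centralizer (Q : Set G))),
      Cfsg.SubpairLE p M Q f P e ∧
        Cfsg.SubpairLE p M (Q.map (MulAut.conj g).toMonoidHom) (Cfsg.conjBlock Q g f) P e}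
  le_of_mem := by
    rintro Q φ ⟨hQ, g, hg, hgP, -⟩
    exact ⟨hQ, fun u => hgP (by rw [hg]; exact conj_mem_cj.2 u.2)⟩
  injective_of_mem := by
    rintro Q φ ⟨-, g, hg, -⟩ a b hab
    rw [hg, hg] at hab
    exact Subtype.ext (mul_left_cancel (mul_right_cancel hab))
  conj_mem := by
    intro Q g hQ hg
    obtain ⟨f, -, hf⟩ := exists_subpair hM _ Q P e rfl hmax.1.1 hQ
    have h : Relation.ReflTransGen (Cfsg.NormalSubpairRel p M) (cjPair g ⟨Q, f⟩) ⟨P, e⟩ := by
      rw [← cjPair_mem hM hmax.1.1 hg]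
      exact subpairLE_conj hM g hf
    exact ⟨hQ, g, fun u => rfl, (subpairLE_facts hM h).1, f, hf, h⟩
  comp_mem := by
    rintro Q R φ ψ ⟨hQ, g, hg, -, f, hf, hfg⟩ ⟨-, k, hk, -, fR, hfR, hfRk⟩ h
    have hQR : cj Q g ≤ R := by
      rintro _ ⟨u, hu, rfl⟩
      have := h ⟨u, hu⟩
      rw [hg] at this
      exact this
    obtain ⟨f'', -, hf''⟩ := exists_subpair hM _ (cj Q g) R fR rfl
      ((subpairLE_facts hM hfR).2 hmax.1.1) hQR
    have heq : cjPair g (⟨Q, f⟩ : Cfsg.BrauerPairIdx G) = ⟨cj Q g, f''⟩ :=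
      eq_of_below hM hmax.1.1 rfl hfg (hf''.trans hfR)
    have h2 : Relation.ReflTransGen (Cfsg.NormalSubpairRel p M) (cjPair (k * g) ⟨Q, f⟩) ⟨P, e⟩ := by
      rw [← cjPair_mul, heq]
      exact (subpairLE_conj hM k hf'').trans hfRk
    refine ⟨hQ, k * g, fun u => ?_, (subpairLE_facts hM h2).1, f, hf, h2⟩
    show ψ (φ.codRestrict R h u) = _
    rw [hk]
    show k * φ u * k⁻¹ = _
    rw [hg]
    group
  inv_mem := by
    rintro Q φ ⟨hQ, g, hg, hgP, f, hf, hfg⟩
    have hr : φ.range = cj Q g := range_eq_cj hg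
    obtain ⟨f', -, hf'⟩ := exists_subpair hM _ φ.range P e rfl hmax.1.1 (hr ▸ hgP)
    have heq : cjPair g (⟨Q, f⟩ : Cfsg.BrauerPairIdx G) = ⟨φ.range, f'⟩ :=
      eq_of_below hM hmax.1.1 hr.symm hfg hf'
    have h2 : Relation.ReflTransGen (Cfsg.NormalSubpairRel p M) (cjPair g⁻¹ ⟨φ.range, f'⟩)
        ⟨P, e⟩ := by
      rw [← heq, cjPair_mul, inv_mul_cancel, cjPair_one]
      exact hf
    refine ⟨Cfsg.conjHom φ.range g⁻¹, ⟨hr ▸ hgP, g⁻¹, fun u => rfl, (subpairLE_facts hM h2).1, f',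
      hf', h2⟩, fun x => ?_⟩
    show g⁻¹ * φ x * g⁻¹⁻¹ = x
    rw [hg]
    group

theorem isBlockFusion_blockSystem (hM : Cfsg.IsPModular p M)
    (hmax : Cfsg.IsMaximalBrauerPair p M B P e) :
    Cfsg.IsBlockFusionSystemOn p M B P e (blockSystem hM hmax) :=
  ⟨hmax, fun _ _ => Iff.rfl⟩

/-! ### Automizers -/

variable {Q : Subgroup G} {f : Set (Cfsg.IrrCharacter (Subgroup.centralizer (Q : Set G)))}

/-- The action of the stabiliser on the subgroup. -/
def autHom (Q : Subgroup G) (f : Set (Cfsg.IrrCharacter (Subgroup.centralizer (Q : Set G)))) :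
    stab Q f →* MulAut Q where
  toFun t := conjK t.2.1
  map_one' := MulEquiv.ext fun x => Subtype.ext (by simp [coe_conjK])
  map_mul' a b := MulEquiv.ext fun x => Subtype.ext (by simp [coe_conjK, mul_assoc])

theorem coe_autHom (t : stab Q f) (x : Q) :
    ((autHom Q f t x : Q) : G) = (t : G) * x * (t : G)⁻¹ := rfl

theorem autHom_eq_one {t : stab Q f} (h : (t : G) ∈ Subgroup.centralizer (Q : Set G)) :
    autHom Q f t = 1 := MulEquiv.ext fun x => Subtype.ext (by
  rw [coe_autHom, MulAut.one_apply, ← h x x.2, mul_inv_cancel_right])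

theorem autGroup_eq (hM : Cfsg.IsPModular p M) {S : Cfsg.FusionSystem P}
    (hS : Cfsg.IsBlockFusionSystemOn p M B P e S) (hle : Cfsg.SubpairLE p M Q f P e) :
    S.autGroup Q = (autHom Q f).range := by
  have hiff : ∀ α : MulAut Q, Q.subtype.comp α.toMonoidHom ∈ S.Hom Q ↔ α ∈ (autHom Q f).range := by
    intro α
    rw [hS.2]
    constructor
    · rintro ⟨-, g, hg, -, f₀, hf₀, hconj⟩
      have : f₀ = f := subpair_unique hM _ Q P e rfl hS.1.1.1 f₀ f hf₀ hle
      subst this
      have hcj : cj Q g = Q := by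
        rw [← range_eq_cj hg]
        ext y
        constructor
        · rintro ⟨u, rfl⟩; exact (α u).2
        · exact fun hy => ⟨α.symm ⟨y, hy⟩, by simp⟩
      have hgs : g ∈ stab Q f₀ := mem_stab_iff.2 (eq_of_below hM hS.1.1.1 hcj hconj hle)
      exact ⟨⟨g, hgs⟩, MulEquiv.ext fun x => Subtype.ext (hg x).symm⟩
    · rintro ⟨t, rfl⟩
      have h := mem_stab_iff.1 t.2
      have h1 : cj Q (t : G) = Q := congrArg Sigma.fst h
      refine ⟨(subpairLE_facts hM hle).1, t, fun u => rfl, ?_, f, hle, ?_⟩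
      · show cj Q (t : G) ≤ P
        rw [h1]; exact (subpairLE_facts hM hle).1
      · show Relation.ReflTransGen _ (cjPair (t : G) ⟨Q, f⟩) _
        rw [h]
        exact hle
  refine le_antisymm ((Subgroup.closure_le _).2 fun α hα => (hiff α).1 hα) fun α hα =>
    Subgroup.subset_closure ((hiff α).2 hα)

theorem autInducedBy_eq (hM : Cfsg.IsPModular p M) (hPe : Cfsg.IsBrauerPair p M P e)
    (hle : Cfsg.SubpairLE p M Q f P e) :
    Cfsg.autInducedBy P Q = (P.subgroupOf (stab Q f)).map (autHom Q f) := by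
  refine le_antisymm ((Subgroup.closure_le _).2 ?_) ?_
  · rintro α ⟨g, hg, hα⟩
    have hgN : g ∈ Subgroup.normalizer (Q : Set G) := by
      rw [Subgroup.mem_normalizer_iff]
      intro q
      refine ⟨fun hq => hα ⟨q, hq⟩ ▸ (α ⟨q, hq⟩).2, fun hq => ?_⟩
      have := hα (α.symm ⟨_, hq⟩)
      rw [MulEquiv.apply_symm_apply] at this
      rw [show q = (α.symm ⟨_, hq⟩ : Q) from mul_left_cancel (mul_right_cancel this)]
      exact (α.symm ⟨_, hq⟩).2
    exact ⟨⟨g, inf_normalizer_le_stab hM hPe hle ⟨hg, hgN⟩⟩, hg,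
      MulEquiv.ext fun x => Subtype.ext (hα x).symm⟩
  · rintro _ ⟨t, ht, rfl⟩
    exact Subgroup.subset_closure ⟨t, ht, fun x => rfl⟩

/-- A `p`-subgroup of the stabiliser fixes, up to the centraliser, a class with unit coefficient. -/
theorem exists_fixed_class (hM : Cfsg.IsPModular p M) (hQf : Cfsg.IsBrauerPair p M Q f)
    {S : Subgroup G} (hS : IsPGroup p S) (hSf : S ≤ stab Q f) :
    ∃ c : Subgroup.centralizer (Q : Set G), ¬ Cfsg.MemLocalIdeal M (Cfsg.blockCoeff f c) ∧
      ∀ u ∈ S, ∃ v ∈ Subgroup.centralizer (Q : Set G), v * u * (c : G) * (v * u)⁻¹ = c := by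
  classical
  haveI := Fintype.ofFinite (ConjClasses (Subgroup.centralizer (Q : Set G)))
  have hN : ∀ u : S, (u : G) ∈ Subgroup.normalizer
      ((Subgroup.centralizer (Q : Set G) : Subgroup G) : Set G) :=
    fun u => normalizer_le_normalizer_centralizer Q (hSf u.2).1
  letI act : MulAction S (ConjClasses (Subgroup.centralizer (Q : Set G))) :=
    { smul := fun u => ConjClasses.map (conjK (hN u)).toMonoidHom
      one_smul := by
        intro K
        obtain ⟨k, rfl⟩ := ConjClasses.mk_surjective K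
        show ConjClasses.mk (conjK (hN 1) k) = _
        congr 1
        exact Subtype.ext (by simp [coe_conjK])
      mul_smul := by
        intro u v K
        obtain ⟨k, rfl⟩ := ConjClasses.mk_surjective K
        show ConjClasses.mk (conjK (hN (u * v)) k) = ConjClasses.mk (conjK (hN u) (conjK (hN v) k))
        congr 1
        exact Subtype.ext (by simp [coe_conjK, mul_assoc]) }
  obtain ⟨θ, hθ⟩ := block_nonempty hM hQf.2
  set z := blockIdem f with hz
  have hzc : IsCentralEl z := central_blockIdem f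
  have hzi : IntEl M z := intEl_blockIdem hM hQf.2
  have hclass : ∀ {a b : Subgroup.centralizer (Q : Set G)}, IsConj a b →
      classSum a = classSum b := fun {a b} h => el_ext fun y => by
    simp only [coeff_classSum]
    exact if_congr ⟨fun h' => h.symm.trans h', fun h' => h.trans h'⟩ rfl rfl
  set φ : Subgroup.centralizer (Q : Set G) → ℂ := fun k =>
    z.coeff k * omega (θ : Subgroup.centralizer (Q : Set G) → ℂ) (classSum k) with hφ
  have hφr : ∀ k, Cfsg.MemLocalRing M (φ k) := fun k =>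
    ring_mul hM (hzi k) (omega_ring hM θ (central_classSum k) (intEl_classSum hM k))
  have hφc : ∀ {a b : Subgroup.centralizer (Q : Set G)}, IsConj a b → φ a = φ b := fun h => by
    simp only [φ]
    rw [central_isConj hzc h, hclass h]
  have hφu : ∀ (u : S) (k : Subgroup.centralizer (Q : Set G)),
      Cong M (φ (conjK (hN u) k)) (φ k) := by
    intro u k
    simp only [φ]
    have hst := (hSf u.2).2 (k : G)
    rw [show ((u : G) * (k : G) * (u : G)⁻¹) = (conjK (hN u) k : G) from rfl, elF,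
      coeff_inclEl_mem, coeff_inclEl_mem] at hst
    rw [hz, hst, ← hz]
    refine cong_mul_left hM (hzi k) ?_
    rw [omega_classSum (irr_isClassFunction θ), omega_classSum (irr_isClassFunction θ),
      ← centralChar_comp (conjK (hN u))]
    have hstab : irrAutEquiv (conjK (hN u)) θ ∈ f := by
      rw [← (stabilizes_iff (hN u) f).1 (mem_stab.1 (hSf u.2)).2] at hθ
      exact hθ
    exact sameBlock_of_mem hM hQf.2 hstab hθ k
  have hfund : Cong M 1 (∑ K : ConjClasses (Subgroup.centralizer (Q : Set G)), φ K.out) := by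
    refine cong_of_eq hM ?_
    rw [← omega_blockIdem_mem hθ, ← hz]
    conv_lhs => rw [central_eq_sum hzc, omega_sum]
    exact Finset.sum_congr rfl fun K _ => by rw [omega_smul]
  let r : ConjClasses (Subgroup.centralizer (Q : Set G)) →
      ConjClasses (Subgroup.centralizer (Q : Set G)) := fun K =>
    (Quotient.mk (MulAction.orbitRel S (ConjClasses (Subgroup.centralizer (Q : Set G)))) K).out
  have hr1 : ∀ K, ∃ u : S, u • K = r K := fun K =>
    MulAction.orbitRel_apply.1 (Quotient.mk_out (s := MulAction.orbitRel S _) K)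
  have hr2 : ∀ (u : S) K, r (u • K) = r K := fun u K =>
    congrArg Quotient.out (Quotient.sound (MulAction.orbitRel_apply.2 ⟨u, rfl⟩))
  have hrc : ∀ K, Cong M (φ K.out) (φ (r K).out) := by
    intro K
    obtain ⟨u, hu⟩ := hr1 K
    refine cong_trans hM (cong_symm hM (hφu u K.out)) (cong_of_eq hM (hφc ?_))
    refine ConjClasses.mk_eq_mk_iff_isConj.1 ?_
    refine Eq.trans ?_ (Quotient.out_eq (r K)).symm
    rw [← hu]
    conv_rhs => rw [← Quotient.out_eq K]
    rfl
  set s := Finset.univ.filter fun K : ConjClasses (Subgroup.centralizer (Q : Set G)) =>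
    ∀ u : S, u • K = K
  have hfix := cong_sum_fixed hM hS (fun K => φ (r K).out) (fun K => hφr _)
    (fun u K => by simp only [hr2]) s fun K => by simp [s]
  have htot : Cong M 1 (∑ K ∈ s, φ (r K).out) :=
    cong_trans hM hfund (cong_trans hM (cong_sum hM fun K _ => hrc K) hfix)
  obtain ⟨K, hK, hKu⟩ : ∃ K ∈ s, ¬ Cfsg.MemLocalIdeal M (φ (r K).out) := by
    by_contra h
    push Not at h
    exact not_ideal_one hM ((ideal_iff_of_cong hM htot).2 (ideal_sum hM h))
  obtain ⟨u₀, hu₀⟩ := hr1 K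
  have hKfix : r K = K := by rw [← hu₀]; exact (Finset.mem_filter.1 hK).2 u₀
  rw [hKfix] at hKu
  refine ⟨K.out, fun h => hKu (ideal_mul_right hM (by rwa [hz, coeff_blockIdem])
    (omega_ring hM θ (central_classSum _) (intEl_classSum hM _))), fun u hu => ?_⟩
  have h1 := (Finset.mem_filter.1 hK).2 ⟨u, hu⟩
  have h2 : IsConj (conjK (hN ⟨u, hu⟩) K.out) K.out := by
    refine ConjClasses.mk_eq_mk_iff_isConj.1 ?_
    show ConjClasses.map (conjK (hN ⟨u, hu⟩)).toMonoidHom (ConjClasses.mk K.out) = _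
    rw [show ConjClasses.mk K.out = K from Quotient.out_eq K]
    exact h1
  obtain ⟨v, hv⟩ := isConj_iff.1 h2
  refine ⟨v, v.2, ?_⟩
  have h3 := congrArg Subtype.val hv
  simp only [Subgroup.coe_mul, Subgroup.coe_inv, coe_conjK] at h3
  rw [mul_inv_rev]
  simpa [mul_assoc] using h3

/-- A defect group of the block of the stabiliser covers a Sylow subgroup of the automizer. -/
theorem card_map_le (hM : Cfsg.IsPModular p M) (hQf : Cfsg.IsBrauerPair p M Q f)
    {F : Set (Cfsg.IrrCharacter (stab Q f))} (hF : Cfsg.IsPBlock M F)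
    (hFf : ∀ t : stab Q f, Cfsg.blockCoeff F t =
      (elF (Subgroup.centralizer (Q : Set G)) f).coeff (t : G))
    {D : Subgroup (stab Q f)} (hD : Cfsg.IsDefectGroup p M F D)
    {X : Type*} [Group X] [Finite X] (χ : stab Q f →* X)
    (hχ : ∀ t : stab Q f, (t : G) ∈ Subgroup.centralizer (Q : Set G) → χ t = 1)
    {S : Subgroup (stab Q f)} (hS : IsPGroup p S) :
    Nat.card (S.map χ) ≤ Nat.card (D.map χ) := by
  haveI := fact_prime_of_pm hM
  obtain ⟨c, hc, hcS⟩ := exists_fixed_class hM hQf (hS.map (stab Q f).subtype)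
    (Subgroup.map_subtype_le S)
  have hcT : (c : G) ∈ stab Q f := centralizer_le_stab c.2
  set Z := Subgroup.centralizer ({⟨c, hcT⟩} : Set (stab Q f)) with hZ
  have hSZ : S.map χ ≤ Z.map χ := by
    rintro _ ⟨u, hu, rfl⟩
    obtain ⟨v, hv, hvu⟩ := hcS u (Subgroup.mem_map_of_mem _ hu)
    refine ⟨⟨v, centralizer_le_stab hv⟩ * u, ?_, ?_⟩
    · refine Subgroup.mem_centralizer_singleton_iff.2 (Subtype.ext ?_)
      show v * (u : G) * (c : G) = (c : G) * (v * (u : G))
      exact mul_inv_eq_iff_eq_mul.1 hvu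
    · rw [map_mul, hχ ⟨v, _⟩ hv, one_mul]
  obtain ⟨D₁⟩ : Nonempty (Sylow p Z) := inferInstance
  have hu : ¬ Cfsg.MemLocalIdeal M (Cfsg.blockCoeff F ⟨c, hcT⟩) := by
    rw [hFf, elF, coeff_inclEl_mem, coeff_blockIdem]
    exact hc
  obtain ⟨t, ht⟩ := le_defect_of_coeff hM hF hD hu (Q := (D₁ : Subgroup Z).map Z.subtype)
    (D₁.2.map _) (le_centralizer_iff_mem.1 (Subgroup.map_subtype_le _))
  have hsur := χ.subgroupMap_surjective Z
  set D₂ := D₁.mapSurjective hsur
  have hS' : IsPGroup p ((S.map χ).subgroupOf (Z.map χ)) :=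
    isPGroup_subgroupOf (hS.map χ) hSZ
  obtain ⟨U, hU⟩ := hS'.exists_le_sylow
  calc Nat.card (S.map χ) = Nat.card ((S.map χ).subgroupOf (Z.map χ)) :=
        (Nat.card_congr (Subgroup.subgroupOfEquivOfLe hSZ).toEquiv).symm
    _ ≤ Nat.card (U : Subgroup (Z.map χ)) := Subgroup.card_le_of_le hU
    _ = Nat.card (D₂ : Subgroup (Z.map χ)) := by
        rw [U.card_eq_multiplicity, D₂.card_eq_multiplicity]
    _ = Nat.card (((D₁ : Subgroup Z).map Z.subtype).map χ) := by
        rw [Sylow.coe_mapSurjective,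
          ← Subgroup.card_map_of_injective (Z.map χ).subtype_injective, Subgroup.map_map,
          Subgroup.map_map]
        rfl
    _ ≤ Nat.card ((D.map (MulAut.conj t).toMonoidHom).map χ) :=
        Subgroup.card_le_of_le (Subgroup.map_mono ht)
    _ = Nat.card (D.map χ) := by
        rw [← card_map_conj (D.map χ) (χ t), Subgroup.map_map, Subgroup.map_map]
        congr 3
        ext x
        simp

/-- A fully normalized subgroup is fully automized. -/
theorem isFullyAutomized (hM : Cfsg.IsPModular p M) {S : Cfsg.FusionSystem P}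
    (hS : Cfsg.IsBlockFusionSystemOn p M B P e S) (hle : Cfsg.SubpairLE p M Q f P e)
    {F : Set (Cfsg.IrrCharacter (stab Q f))} (hF : Cfsg.IsPBlock M F)
    (hFf : ∀ t : stab Q f, Cfsg.blockCoeff F t =
      (elF (Subgroup.centralizer (Q : Set G)) f).coeff (t : G))
    (hD : Cfsg.IsDefectGroup p M F ((P ⊓ stab Q f).subgroupOf (stab Q f))) :
    S.IsFullyAutomized p Q := by
  haveI := fact_prime_of_pm hM
  refine ⟨(subpairLE_facts hM hle).1, ?_⟩
  have hA := autGroup_eq hM hS hle
  set χ : stab Q f →* S.autGroup Q :=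
    (autHom Q f).codRestrict (S.autGroup Q) fun t => hA.symm ▸ ⟨t, rfl⟩
  have hsurj : Function.Surjective χ := by
    rintro ⟨α, hα⟩
    obtain ⟨t, rfl⟩ := hA ▸ hα
    exact ⟨t, rfl⟩
  obtain ⟨T⟩ : Nonempty (Sylow p (stab Q f)) := inferInstance
  set R := (P.subgroupOf (stab Q f)).map χ
  have hPp : IsPGroup p (P.subgroupOf (stab Q f)) :=
    hS.1.1.1.1.comap_of_injective _ (stab Q f).subtype_injective
  obtain ⟨U, hU⟩ := (hPp.map χ).exists_le_sylow
  have hD' : P.subgroupOf (stab Q f) = (P ⊓ stab Q f).subgroupOf (stab Q f) :=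
    Subgroup.inf_subgroupOf_right P (stab Q f) |>.symm
  have hcard := card_map_le hM ((subpairLE_facts hM hle).2 hS.1.1.1) hF hFf hD χ
    (fun t ht => Subtype.ext (autHom_eq_one ht)) T.2
  rw [← hD'] at hcard
  have hRU : R = (U : Subgroup (S.autGroup Q)) := by
    refine eq_of_le_of_card_le hU ?_
    rw [U.card_eq_multiplicity, ← (T.mapSurjective hsurj).card_eq_multiplicity,
      Sylow.coe_mapSurjective]
    exact hcard
  refine ⟨U, ?_⟩
  rw [← hRU, autInducedBy_eq hM hS.1.1.1 hle]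
  ext α
  rw [Subgroup.mem_subgroupOf, Subgroup.mem_map, Subgroup.mem_map]
  exact ⟨fun ⟨t, ht, h⟩ => ⟨t, ht, congrArg Subtype.val h⟩,
    fun ⟨t, ht, h⟩ => ⟨t, ht, Subtype.ext h⟩⟩

end Cfsg.Agent.BlockCharsA.PairFusion
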