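import Mathlib
import Cfsg.Agent.BlockCharsA.PairFusion

/-!
# Pairs inside a local subgroup, and receptivity
-/

set_option linter.style.haveILetI false
set_option linter.unusedSectionVars false

namespace Cfsg.Agent.BlockCharsA.PairReceptive

open Cfsg.Agent.Blocks Cfsg.Agent.Characters Cfsg.Agent.BlockCharsA.BrauerPairs
open Cfsg.Agent.BlockCharsA.PairStab Cfsg.Agent.BlockCharsA.Transport
open Cfsg.Agent.BlockCharsA.PairMax Cfsg.Agent.BlockCharsA.PairConj
open Cfsg.Agent.BlockCharsA.PairLocal Cfsg.Agent.BlockCharsA.PairFusion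

variable {G : Type*} [Group G] [Finite G] {p : ℕ} {M : Ideal Cfsg.AlgInt}

variable {H : Subgroup G}

/-- The centraliser in `H` of a subgroup of `H` containing the centraliser in `G`. -/
def downEquiv {A : Subgroup H} {L : Subgroup G} (hA : A.map H.subtype = L)
    (hC : Subgroup.centralizer (L : Set G) ≤ H) :
    Subgroup.centralizer (L : Set G) ≃* Subgroup.centralizer (A : Set H) where
  toFun c := ⟨⟨c, hC c.2⟩, fun y hy => Subtype.ext (c.2 y (hA ▸ ⟨y, hy, rfl⟩))⟩
  invFun c := ⟨c, fun y hy => by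
    rw [← hA] at hy
    obtain ⟨z, hz, rfl⟩ := hy
    exact congrArg Subtype.val (c.2 z hz)⟩
  left_inv _ := rfl
  right_inv _ := rfl
  map_mul' _ _ := rfl

/-- A pair of `H` and a pair of `G` with the same subgroup and the same idempotent. -/
def Match (a : Cfsg.BrauerPairIdx H) (b : Cfsg.BrauerPairIdx G) : Prop :=
  a.1.map H.subtype = b.1 ∧ Subgroup.centralizer (b.1 : Set G) ≤ H ∧
    ∀ t : H, (elF (Subgroup.centralizer (a.1 : Set H)) a.2).coeff t =
      (elF (Subgroup.centralizer (b.1 : Set G)) b.2).coeff (t : G)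

theorem match_pull {A : Subgroup H} {L : Subgroup G} (hA : A.map H.subtype = L)
    (hC : Subgroup.centralizer (L : Set G) ≤ H)
    (a : Set (Cfsg.IrrCharacter (Subgroup.centralizer (A : Set H))))
    (g : Set (Cfsg.IrrCharacter (Subgroup.centralizer (L : Set G))))
    (h : ∀ c, Cfsg.blockCoeff a (downEquiv hA hC c) = Cfsg.blockCoeff g c) :
    Match ⟨A, a⟩ ⟨L, g⟩ := by
  refine ⟨hA, hC, fun t => ?_⟩
  by_cases ht : (t : G) ∈ Subgroup.centralizer (L : Set G)
  · show (elF _ a).coeff t = (elF _ g).coeff (t : G)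
    rw [elF, elF, coeff_inclEl_of_mem _ _ (show t ∈ Subgroup.centralizer (A : Set H) from
      (downEquiv hA hC ⟨_, ht⟩).2), coeff_inclEl_of_mem _ _ ht, coeff_blockIdem, coeff_blockIdem,
      ← h ⟨_, ht⟩]
    rfl
  · show (elF _ a).coeff t = (elF _ g).coeff (t : G)
    rw [elF, elF, coeff_inclEl_notMem _ _ ht, coeff_inclEl_notMem]
    exact fun h' => ht ((downEquiv hA hC).symm ⟨t, h'⟩).2

theorem exists_down (hM : Cfsg.IsPModular p M) {L : Subgroup G} (hLH : L ≤ H)
    (hC : Subgroup.centralizer (L : Set G) ≤ H)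
    {g : Set (Cfsg.IrrCharacter (Subgroup.centralizer (L : Set G)))}
    (hg : Cfsg.IsBrauerPair p M L g) :
    ∃ a : Cfsg.BrauerPairIdx H, Cfsg.IsBrauerPair p M a.1 a.2 ∧ Match a ⟨L, g⟩ := by
  have hA : (L.subgroupOf H).map H.subtype = L := map_subgroupOf_eq hLH
  exact ⟨⟨L.subgroupOf H, pullSet (downEquiv hA hC) g⟩,
    ⟨isPGroup_subgroupOf hg.1 hLH, isPBlock_pullSet hM _ hg.2⟩,
    match_pull hA hC _ _ fun c => blockCoeff_pullSet _ _ c⟩

theorem exists_up (hM : Cfsg.IsPModular p M) (a : Cfsg.BrauerPairIdx H)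
    (ha : Cfsg.IsBrauerPair p M a.1 a.2)
    (hC : Subgroup.centralizer ((a.1.map H.subtype : Subgroup G) : Set G) ≤ H) :
    ∃ g, Cfsg.IsBrauerPair p M (a.1.map H.subtype) g ∧ Match a ⟨a.1.map H.subtype, g⟩ := by
  refine ⟨pullSet (downEquiv rfl hC).symm a.2, ⟨ha.1.map _, isPBlock_pullSet hM _ ha.2⟩,
    match_pull rfl hC _ _ fun c => ?_⟩
  conv_rhs => rw [← (downEquiv rfl hC).symm_apply_apply c]
  rw [blockCoeff_pullSet]

theorem match_unique {a : Cfsg.BrauerPairIdx H} {b b' : Cfsg.BrauerPairIdx G} (h : Match a b)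
    (h' : Match a b') : b = b' := by
  refine idx_ext (h.1.symm.trans h'.1) fun g => ?_
  by_cases hg : g ∈ H
  · exact ((h.2.2 ⟨g, hg⟩).symm.trans (h'.2.2 ⟨g, hg⟩))
  · rw [elF, elF, coeff_inclEl_notMem _ _ fun hc => hg (h.2.1 hc),
      coeff_inclEl_notMem _ _ fun hc => hg (h'.2.1 hc)]

theorem match_conj {a : Cfsg.BrauerPairIdx H} {b : Cfsg.BrauerPairIdx G} (h : Match a b) (x : H) :
    Match (cjPair x a) (cjPair (x : G) b) := by
  refine ⟨?_, ?_, fun t => ?_⟩
  · show (a.1.map (MulAut.conj x).toMonoidHom).map H.subtype = cj b.1 (x : G)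
    rw [← h.1]
    unfold cj
    erw [Subgroup.map_map, Subgroup.map_map]
    rfl
  · show Subgroup.centralizer (cj b.1 (x : G) : Set G) ≤ H
    rw [← cj_centralizer]
    rintro _ ⟨c, hc, rfl⟩
    exact H.mul_mem (H.mul_mem x.2 (h.2.1 hc)) (H.inv_mem x.2)
  · simp only [cjPair]
    rw [coeff_conjBlock', coeff_conjBlock', h.2.2]
    rfl

/-- Central values agree on matching pairs. -/
theorem omega_match {A : Subgroup H} {L : Subgroup G} (hA : A.map H.subtype = L)
    (hC : Subgroup.centralizer (L : Set G) ≤ H) {z' : MonoidAlgebra ℂ H} {z : MonoidAlgebra ℂ G}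
    (h : ∀ t : H, z'.coeff t = z.coeff (t : G)) (ξ : Subgroup.centralizer (A : Set H) → ℂ) :
    omega ξ (br A z') = omega (ξ ∘ downEquiv hA hC) (br L z) :=
  omega_iso (downEquiv hA hC) (fun c => by
    rw [br, br, coeff_restrEl, coeff_restrEl, h]; rfl) ξ

/-- A block of `G`-centraliser containing the pullback of a member. -/
theorem mem_of_match (hM : Cfsg.IsPModular p M) {A : Subgroup H} {L : Subgroup G}
    {a : Set (Cfsg.IrrCharacter (Subgroup.centralizer (A : Set H)))}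
    {g : Set (Cfsg.IrrCharacter (Subgroup.centralizer (L : Set G)))}
    (h : Match ⟨A, a⟩ ⟨L, g⟩) (hA : A.map H.subtype = L)
    (hC : Subgroup.centralizer (L : Set G) ≤ H) : a = pullSet (downEquiv hA hC) g := by
  refine set_eq_of_blockCoeff fun c => ?_
  obtain ⟨d, rfl⟩ := (downEquiv hA hC).surjective c
  rw [blockCoeff_pullSet]
  have h3 : (elF (Subgroup.centralizer (A : Set H)) a).coeff (downEquiv hA hC d : H) =
      (elF (Subgroup.centralizer (L : Set G)) g).coeff (d : G) := h.2.2 (downEquiv hA hC d : H)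
  simp only [elF] at h3
  rw [coeff_inclEl_mem, coeff_inclEl_mem, coeff_blockIdem, coeff_blockIdem] at h3
  exact h3

theorem normalSubpair_up (hM : Cfsg.IsPModular p M) {A B : Subgroup H} {L R : Subgroup G}
    {a : Set (Cfsg.IrrCharacter (Subgroup.centralizer (A : Set H)))}
    {b : Set (Cfsg.IrrCharacter (Subgroup.centralizer (B : Set H)))}
    {g : Set (Cfsg.IrrCharacter (Subgroup.centralizer (L : Set G)))}
    {k : Set (Cfsg.IrrCharacter (Subgroup.centralizer (R : Set G)))}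
    (hAB : Cfsg.IsNormalSubpair p M A a B b) (ha : Match ⟨A, a⟩ ⟨L, g⟩)
    (hb : Match ⟨B, b⟩ ⟨R, k⟩) (hg : Cfsg.IsBrauerPair p M L g) (hk : Cfsg.IsBrauerPair p M R k) :
    Cfsg.IsNormalSubpair p M L g R k := by
  have hA : A.map H.subtype = L := ha.1
  have hB : B.map H.subtype = R := hb.1
  have hLH : ∀ y ∈ L, y ∈ H := fun y hy => by rw [← hA] at hy; exact Subgroup.map_subtype_le A hy
  have hLR : L ≤ R := hA ▸ hB ▸ Subgroup.map_mono hAB.2.2.1
  have hRN : R ≤ Subgroup.normalizer (L : Set G) := by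
    rw [← hB]
    rintro _ ⟨u, hu, rfl⟩
    have hn := Subgroup.mem_normalizer_iff.1 (hAB.2.2.2.1 hu)
    rw [Subgroup.mem_normalizer_iff]
    intro y
    constructor
    · intro hy
      have := (hn ⟨y, hLH y hy⟩).1 (by
        rw [← hA] at hy; obtain ⟨z, hz, hzy⟩ := hy; rwa [← show z = ⟨y, _⟩ from Subtype.ext hzy])
      rw [← hA]
      exact ⟨_, this, rfl⟩
    · intro hy
      have hyH : y ∈ H := by
        have := H.mul_mem (H.mul_mem (H.inv_mem u.2) (hLH _ hy)) u.2
        simpa [mul_assoc] using this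
      rw [← hA] at hy ⊢
      obtain ⟨z, hz, hzy⟩ := hy
      refine ⟨⟨y, hyH⟩, (hn ⟨y, hyH⟩).2 ?_, rfl⟩
      rwa [← show z = u * ⟨y, hyH⟩ * u⁻¹ from Subtype.ext hzy]
  refine ⟨hg, hk, hLR, hRN, fun y hy => ?_, fun η hη => ?_⟩
  · have hyR := hy
    rw [← hB] at hy
    obtain ⟨u, hu, rfl⟩ := hy
    have hu' := normalizer_le_normalizer_centralizer L (hRN hyR)
    refine (stabilizes_iff_coeff hu').2 fun z => ?_
    have hu2 := (stabilizes_iff_coeff
      (normalizer_le_normalizer_centralizer A (hAB.2.2.2.1 hu))).1 (hAB.2.2.2.2.1 u hu)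
    by_cases hz : z ∈ H
    · have h1 := hu2 ⟨z, hz⟩
      have e1 := ha.2.2 (u * ⟨z, hz⟩ * u⁻¹)
      have e2 := ha.2.2 ⟨z, hz⟩
      exact e1.symm.trans (h1.trans e2)
    · rw [elF, coeff_inclEl_notMem _ _ fun hc => hz (ha.2.1 hc), coeff_inclEl_notMem]
      intro hc
      refine hz ?_
      have := H.mul_mem (H.mul_mem (H.inv_mem u.2) (ha.2.1 hc)) u.2
      simpa [mul_assoc] using this
  · have hC : Subgroup.centralizer (R : Set G) ≤ H := hb.2.1
    have hmem : (irrIso (downEquiv hB hC)).symm η ∈ b := by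
      rw [mem_of_match hM hb hB hC]
      exact symm_mem_pullSet hη
    have h1 := hAB.2.2.2.2.2 _ hmem
    rw [brauerOmega_elF] at h1 ⊢
    rw [omega_match hB hC ha.2.2] at h1
    convert h1 using 4
    exact funext fun c => by simp [irrIso_symm_apply]

/-- Chains in `H` give chains in `G`. -/
theorem subpairLE_up (hM : Cfsg.IsPModular p M) {Q : Subgroup G}
    (hC : Subgroup.centralizer (Q : Set G) ≤ H)
    {a b : Cfsg.BrauerPairIdx H} (h : Relation.ReflTransGen (Cfsg.NormalSubpairRel p M) a b)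
    (hQa : Q ≤ a.1.map H.subtype) {a' b' : Cfsg.BrauerPairIdx G} (ha : Match a a')
    (hb : Match b b') (hb' : Cfsg.IsBrauerPair p M b'.1 b'.2) :
    Relation.ReflTransGen (Cfsg.NormalSubpairRel p M) a' b' := by
  induction h using Relation.ReflTransGen.head_induction_on generalizing a' with
  | refl => rw [match_unique ha hb]
  | @head a c hac hcb ih =>
    have hQc : Q ≤ c.1.map H.subtype := hQa.trans (Subgroup.map_mono hac.2.2.1)
    obtain ⟨k, hk, hck⟩ := exists_up hM c hac.2.1 ((centralizer_le_centralizer hQc).trans hC)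
    obtain ⟨g, hg, hag⟩ := exists_up hM a hac.1 ((centralizer_le_centralizer hQa).trans hC)
    obtain rfl : a' = _ := match_unique ha hag
    exact Relation.ReflTransGen.head (b := ⟨_, k⟩) (normalSubpair_up hM hac hag hck hg hk)
      (ih hQc hck)

variable {B : Set (Cfsg.IrrCharacter G)} {P : Subgroup G}
  {e : Set (Cfsg.IrrCharacter (Subgroup.centralizer (P : Set G)))}
variable {Q : Subgroup G} {f : Set (Cfsg.IrrCharacter (Subgroup.centralizer (Q : Set G)))}

/-- The group `N_P(Q) C(Q)`. -/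
def nc (P Q : Subgroup G) : Subgroup G :=
  (P ⊓ Subgroup.normalizer (Q : Set G)) ⊔ Subgroup.centralizer (Q : Set G)

theorem mem_nc {y : G} (hy : y ∈ nc P Q) : ∃ u ∈ P ⊓ Subgroup.normalizer (Q : Set G),
    ∃ c ∈ Subgroup.centralizer (Q : Set G), y = u * c := by
  have h := Subgroup.coe_mul_of_left_le_normalizer_right
    (P ⊓ Subgroup.normalizer (Q : Set G)) (Subgroup.centralizer (Q : Set G))
    (inf_le_right.trans (normalizer_le_normalizer_centralizer Q))
  have hy' : y ∈ ((nc P Q : Subgroup G) : Set G) := hy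
  rw [show ((nc P Q : Subgroup G) : Set G) = _ from h] at hy'
  obtain ⟨u, hu, c, hc, rfl⟩ := hy'
  exact ⟨u, hu, c, hc, rfl⟩

theorem nc_le_stab (hM : Cfsg.IsPModular p M) (hPe : Cfsg.IsBrauerPair p M P e)
    (hle : Cfsg.SubpairLE p M Q f P e) : nc P Q ≤ stab Q f :=
  sup_le (inf_normalizer_le_stab hM hPe hle) centralizer_le_stab

theorem inf_nc (hM : Cfsg.IsPModular p M) (hPe : Cfsg.IsBrauerPair p M P e)
    (hle : Cfsg.SubpairLE p M Q f P e) : P ⊓ nc P Q = P ⊓ Subgroup.normalizer (Q : Set G) :=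
  le_antisymm (le_inf inf_le_left
    (inf_le_right.trans ((nc_le_stab hM hPe hle).trans stab_le_normalizer)))
    (le_inf inf_le_left le_sup_left)

/-- With a fully centralised bottom, every pair of the local group conjugates below the top. -/
theorem exists_centralizer_conj (hM : Cfsg.IsPModular p M)
    (hmax : Cfsg.IsMaximalBrauerPair p M B P e) (hle : Cfsg.SubpairLE p M Q f P e)
    (hfc : Cfsg.IsDefectGroup p M f ((P ⊓ Subgroup.centralizer (Q : Set G)).subgroupOf
      (Subgroup.centralizer (Q : Set G))))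
    {L : Subgroup G} {fL : Set (Cfsg.IrrCharacter (Subgroup.centralizer (L : Set G)))}
    (hL : Cfsg.IsNormalSubpair p M Q f L fL) (hLH : L ≤ nc P Q) :
    ∃ c ∈ Subgroup.centralizer (Q : Set G),
      Relation.ReflTransGen (Cfsg.NormalSubpairRel p M) (cjPair c ⟨L, fL⟩) ⟨P, e⟩ := by
  haveI := fact_prime_of_pm hM
  have hQP := (subpairLE_facts hM hle).1
  have hCH : Subgroup.centralizer (Q : Set G) ≤ nc P Q := le_sup_right
  have hHS : nc P Q ≤ stab Q f := nc_le_stab hM hmax.1.1 hle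
  have hQH : Q ≤ nc P Q := fun y hy =>
    Subgroup.mem_sup_left ⟨hQP hy, Subgroup.le_normalizer hy⟩
  obtain ⟨F, hF, hFeq⟩ := exists_stab_block' hM hL.1.1 hL.1.2 (nc P Q) hCH hQH
    (hHS.trans stab_le_normalizer) fun x hx => (mem_stab.1 (hHS hx)).2
  have hFf : ∀ t : nc P Q, Cfsg.blockCoeff F t =
      (elF (Subgroup.centralizer (Q : Set G)) f).coeff (t : G) :=
    fun t => by rw [← coeff_blockIdem, hFeq, coeff_restrEl]
  -- the intersection with `P` is a defect group
  obtain ⟨D, hD, hle'⟩ := (card_inf_le hM hCH hHS hF hFf hmax.1.1 hle).1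
  have hDeq : (P ⊓ nc P Q).subgroupOf (nc P Q) = D := by
    refine le_antisymm hle' fun d hd => ?_
    obtain ⟨u, hu, c, hc, hdc⟩ := mem_nc d.2
    have hu' : (⟨u, Subgroup.mem_sup_left hu⟩ : nc P Q) ∈ D :=
      hle' ⟨hu.1, Subgroup.mem_sup_left hu⟩
    have hcD : (⟨c, hCH hc⟩ : nc P Q) ∈ D := by
      have : (⟨u, Subgroup.mem_sup_left hu⟩ : nc P Q)⁻¹ * d = ⟨c, hCH hc⟩ :=
        Subtype.ext (by simp [hdc])
      rw [← this]
      exact D.mul_mem (D.inv_mem hu') hd
    obtain ⟨c₀, hc₀, hc₀s⟩ := isDefectGroup_iff.1 hD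
    have hcu : ¬ Cfsg.MemLocalIdeal M
        ((elF (Subgroup.centralizer (Q : Set G)) f).coeff (c₀ : G)) := by
      rw [← hFf]; exact hc₀.2.1
    have hc₀Q : (c₀ : G) ∈ Subgroup.centralizer (Q : Set G) := by
      by_contra h
      refine hcu ?_
      rw [elF, coeff_inclEl_notMem _ _ h]
      exact ideal_zero hM
    set E := D.map (nc P Q).subtype ⊓ Subgroup.centralizer (Q : Set G)
    have hPE : P ⊓ Subgroup.centralizer (Q : Set G) ≤ E := fun y hy =>
      ⟨⟨⟨y, hCH hy.2⟩, hle' ⟨hy.1, hCH hy.2⟩, rfl⟩, hy.2⟩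
    have hEeq : P ⊓ Subgroup.centralizer (Q : Set G) = E := by
      refine eq_of_le_of_card_le hPE ?_
      obtain ⟨x, hx⟩ := le_defect_of_coeff hM hL.1.2 hfc (h := ⟨c₀, hc₀Q⟩)
        (by rw [coeff_self]; exact hcu)
        (Q := E.subgroupOf (Subgroup.centralizer (Q : Set G)))
        (isPGroup_subgroupOf (((isPGroup_defect hD).map _).to_le inf_le_left) inf_le_right)
        ((mem_centralizer_subgroupOf inf_le_right).2 (centralizer_le_centralizer inf_le_left
          (le_centralizer_iff_mem.1 (by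
            rintro _ ⟨y, hy, rfl⟩
            exact Subgroup.mem_centralizer_singleton_iff.2
              (congrArg Subtype.val (isSylCent_mem hc₀s y hy))))))
      rw [← Nat.card_congr (Subgroup.subgroupOfEquivOfLe (inf_le_right : E ≤ _)).toEquiv,
        ← Nat.card_congr (Subgroup.subgroupOfEquivOfLe (inf_le_right :
          P ⊓ Subgroup.centralizer (Q : Set G) ≤ _)).toEquiv,
        ← card_map_conj ((P ⊓ Subgroup.centralizer (Q : Set G)).subgroupOf _) x]
      exact Subgroup.card_le_of_le hx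
    have hcP : c ∈ P := ((hEeq.ge ⟨⟨_, hcD, rfl⟩, hc⟩ : c ∈ P ⊓ _)).1
    refine ⟨?_, d.2⟩
    show (d : G) ∈ P
    rw [hdc]
    exact P.mul_mem hu.1 hcP
  -- the two pairs inside the local group
  obtain ⟨g₀, hg₀, hg₀P⟩ := normal_step hM hmax.1.1 (R := P ⊓ nc P Q) (le_inf hQP hQH) inf_le_left
    (inf_le_right.trans (hHS.trans stab_le_normalizer)) hle
  obtain ⟨a, ha, ham⟩ := exists_down hM hLH ((centralizer_le_centralizer hL.2.2.1).trans hCH) hL.2.1
  obtain ⟨b, hb, hbm⟩ := exists_down hM (inf_le_right : P ⊓ nc P Q ≤ nc P Q)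
    ((centralizer_le_centralizer hg₀.2.2.1).trans hCH) hg₀.2.1
  have hpair : ∀ (a : Cfsg.BrauerPairIdx (nc P Q)) (R : Subgroup G)
      (g : Set (Cfsg.IrrCharacter (Subgroup.centralizer (R : Set G)))),
      Cfsg.IsBrauerPair p M a.1 a.2 → Match a ⟨R, g⟩ → Cfsg.IsNormalSubpair p M Q f R g →
      Cfsg.IsBrauerPairOf p M F a.1 a.2 := by
    rintro ⟨A, a⟩ R g ha hm hn
    refine ⟨ha, hF, fun ξ hξ => ?_⟩
    have hA' : A.map (nc P Q).subtype = R := hm.1
    have hC' : Subgroup.centralizer (R : Set G) ≤ nc P Q := hm.2.1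
    rw [mem_of_match hM hm hA' hC'] at hξ
    have h1 := hn.2.2.2.2.2 _ hξ
    rw [brauerOmega_elF] at h1
    rw [brauerOmega_block, omega_match hA' hC' (z := elF (Subgroup.centralizer (Q : Set G)) f)
      fun t => by rw [coeff_blockIdem, hFf]]
    exact h1
  have haF := hpair a L fL ha ham hL
  have hbF := hpair b _ g₀ hb hbm hg₀
  have hbmax : Cfsg.IsMaximalBrauerPair p M F b.1 b.2 := by
    refine ⟨hbF, fun R g hR hle2 => ?_⟩
    obtain ⟨R', g', hR', hle3⟩ := exists_maximal_above hM hR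
    have hb1 : b.1 = D := by
      rw [← hDeq]
      refine Subgroup.map_injective (nc P Q).subtype_injective ?_
      exact hbm.1.trans (map_subgroupOf_eq inf_le_right).symm
    have h1 : b.1 ≤ R := (subpairLE_facts hM hle2).1
    have h2 : R ≤ R' := (subpairLE_facts hM hle3).1
    have h3 : Nat.card R' ≤ Nat.card b.1 := by
      rw [hb1, card_defectGroup hM hF hD,
        card_defectGroup hM hF (isDefectGroup_of_maximal hM hR')]
    exact (eq_of_le_of_card_le h1 ((Subgroup.card_le_of_le h2).trans h3)).symm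
  obtain ⟨x, hx⟩ := exists_conj_le hM hbmax haF
  obtain ⟨u, hu, c, hc, hxc⟩ := mem_nc x.2
  refine ⟨c, hc, ?_⟩
  have hxQ : Q ≤ (cj a.1 x).map (nc P Q).subtype := by
    have hcj : (cj a.1 x).map (nc P Q).subtype = cj L (x : G) := (match_conj ham x).1
    rw [hcj]
    intro y hy
    rw [mem_map_conj_iff]
    refine hL.2.2.1 ?_
    have := (Subgroup.mem_normalizer_iff.1 (inv_mem ((hHS.trans stab_le_normalizer) x.2)) y).1 hy
    rwa [inv_inv] at this
  have hup := subpairLE_up hM hCH (a := cjPair x a) (b := b) hx hxQ (match_conj ham x) hbm hg₀.2.1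
  have h4 := subpairLE_conj hM u⁻¹ (hup.trans hg₀P)
  rw [cjPair_mul, cjPair_mem hM hmax.1.1 (P.inv_mem hu.1), hxc, inv_mul_cancel_left] at h4
  exact h4

/-- A fully centralised subgroup is receptive. -/
theorem isReceptive (hM : Cfsg.IsPModular p M) {S : Cfsg.FusionSystem P}
    (hS : Cfsg.IsBlockFusionSystemOn p M B P e S) (hle : Cfsg.SubpairLE p M Q f P e)
    (hfc : Cfsg.IsDefectGroup p M f ((P ⊓ Subgroup.centralizer (Q : Set G)).subgroupOf
      (Subgroup.centralizer (Q : Set G)))) :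
    S.IsReceptive Q := by
  refine ⟨(subpairLE_facts hM hle).1, fun R φ hφ hr => ?_⟩
  obtain ⟨hRP, g, hg, -, fR, hfR, hfRg⟩ := (hS.2 R φ).1 hφ
  have hcjR : cj R g = Q := (range_eq_cj hg).symm.trans hr
  have hpair : cjPair g (⟨R, fR⟩ : Cfsg.BrauerPairIdx G) = ⟨Q, f⟩ :=
    eq_of_below hM hS.1.1.1 hcjR hfRg hle
  set N := Cfsg.FusionSystem.extender P R φ with hN
  have hQP := (subpairLE_facts hM hle).1
  have hgen : N ≤ (P ⊓ Subgroup.normalizer (R : Set G)) ⊓
      (nc P Q).comap (MulAut.conj g).toMonoidHom := by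
    refine (Subgroup.closure_le _).2 ?_
    rintro y ⟨hyP, hyN, h, hh, hact⟩
    refine ⟨⟨hyP, hyN⟩, ?_⟩
    show g * y * g⁻¹ ∈ nc P Q
    set v := h⁻¹ * (g * y * g⁻¹) with hv
    have hvC : v ∈ Subgroup.centralizer (Q : Set G) := by
      intro q hq
      rw [SetLike.mem_coe, ← hr] at hq
      obtain ⟨x, rfl⟩ := hq
      have hx := hact x ((Subgroup.mem_normalizer_iff.1 hyN x).1 x.2)
      rw [hg, hg] at hx
      rw [hg]
      have h1 : v * (g * x * g⁻¹) * v⁻¹ = g * x * g⁻¹ := by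
        calc v * (g * x * g⁻¹) * v⁻¹ = h⁻¹ * (g * (y * x * y⁻¹) * g⁻¹) * h := by rw [hv]; group
          _ = h⁻¹ * (h * (g * x * g⁻¹) * h⁻¹) * h := by rw [← hx]
          _ = g * x * g⁻¹ := by group
      exact (mul_inv_eq_iff_eq_mul.1 h1).symm
    have hgy : g * y * g⁻¹ = h * v := by rw [hv]; group
    have hN' : g * y * g⁻¹ ∈ Subgroup.normalizer (Q : Set G) := by
      rw [← hcjR]; exact conj_mem_normalizer hyN
    rw [hgy]
    refine Subgroup.mul_mem_sup ⟨hh, ?_⟩ hvC
    have h2 : h = g * y * g⁻¹ * v⁻¹ := by rw [hgy, mul_inv_cancel_right]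
    rw [h2]
    exact (Subgroup.normalizer (Q : Set G)).mul_mem hN'
      ((Subgroup.normalizer (Q : Set G)).inv_mem (centralizer_le_normalizer' Q hvC))
  have hRN : R ≤ N := fun x hx => Subgroup.subset_closure ⟨hRP hx, Subgroup.le_normalizer hx,
    φ ⟨x, hx⟩, (S.le_of_mem hφ).2 _, fun y hy => by
      rw [show (⟨x * y * x⁻¹, hy⟩ : R) = ⟨x, hx⟩ * y * (⟨x, hx⟩ : R)⁻¹ from Subtype.ext rfl,
        map_mul, map_mul, map_inv]⟩
  obtain ⟨fN, hfN, hfNP⟩ := normal_step hM hS.1.1.1 hRN (fun y hy => (hgen hy).1.1)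
    (fun y hy => (hgen hy).1.2) hfR
  have hL : Cfsg.NormalSubpairRel p M (cjPair g ⟨R, fR⟩) (cjPair g ⟨N, fN⟩) :=
    normalSubpair_conj hM g hfN
  rw [hpair] at hL
  obtain ⟨c, hc, hcL⟩ := exists_centralizer_conj hM hS.1 hle hfc (L := cj N g)
    (fL := Cfsg.conjBlock N g fN) hL (by
      rintro _ ⟨y, hy, rfl⟩
      exact (hgen hy).2)
  have hcg : Relation.ReflTransGen (Cfsg.NormalSubpairRel p M) (cjPair (c * g) ⟨N, fN⟩) ⟨P, e⟩ := by
    rw [← cjPair_mul]; exact hcL
  refine ⟨Cfsg.conjHom N (c * g), (hS.2 N _).2 ⟨fun y hy => (hgen hy).1.1, c * g, fun u => rfl,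
    (subpairLE_facts hM hcg).1, fN, hfNP, hcg⟩, fun x hx hxN => ?_⟩
  show c * g * x * (c * g)⁻¹ = φ ⟨x, hx⟩
  rw [hg]
  have hq : g * x * g⁻¹ ∈ Q := hcjR ▸ conj_mem_cj.2 hx
  calc c * g * x * (c * g)⁻¹ = c * (g * x * g⁻¹) * c⁻¹ := by group
    _ = g * x * g⁻¹ * c * c⁻¹ := by rw [← hc _ hq]
    _ = g * x * g⁻¹ := by group

/-- The block of the stabiliser and the block of the centraliser at a fully normalised pair. -/
theorem defect_centralizer_of_stab (hM : Cfsg.IsPModular p M)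
    (hPe : Cfsg.IsBrauerPair p M P e) (hle : Cfsg.SubpairLE p M Q f P e)
    {F : Set (Cfsg.IrrCharacter (stab Q f))} (hF : Cfsg.IsPBlock M F)
    (hFf : ∀ t : stab Q f, Cfsg.blockCoeff F t =
      (elF (Subgroup.centralizer (Q : Set G)) f).coeff (t : G))
    (hD : Cfsg.IsDefectGroup p M F ((P ⊓ stab Q f).subgroupOf (stab Q f))) :
    Cfsg.IsDefectGroup p M f ((P ⊓ Subgroup.centralizer (Q : Set G)).subgroupOf
      (Subgroup.centralizer (Q : Set G))) := by
  haveI := fact_prime_of_pm hM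
  have hQf := (subpairLE_facts hM hle).2 hPe
  refine isDefectGroup_of_card hM le_rfl centralizer_le_stab hQf.2 coeff_self hPe hle ?_
  obtain ⟨E, hE⟩ := exists_defectGroup hM hQf.2
  rw [← card_defectGroup hM hQf.2 hE,
    ← Subgroup.card_map_of_injective (Subgroup.centralizer (Q : Set G)).subtype_injective]
  obtain ⟨c, hc, hcs⟩ := isDefectGroup_iff.1 hE
  set E' := E.map (Subgroup.centralizer (Q : Set G)).subtype with hE'
  have hE'S : E' ≤ stab Q f := (Subgroup.map_subtype_le E).trans centralizer_le_stab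
  obtain ⟨t, ht⟩ := le_defect_of_coeff hM hF hD (h := ⟨c, centralizer_le_stab c.2⟩)
    (by rw [hFf, ← coeff_self]; exact hc.2.1) (Q := E'.subgroupOf (stab Q f))
    (isPGroup_subgroupOf ((isPGroup_defect hE).map _) hE'S)
    ((mem_centralizer_subgroupOf hE'S).2 (le_centralizer_iff_mem.1 (by
      rintro _ ⟨y, hy, rfl⟩
      exact Subgroup.mem_centralizer_singleton_iff.2
        (congrArg Subtype.val (isSylCent_mem hcs y hy)))))
  rw [← card_map_conj (P ⊓ Subgroup.centralizer (Q : Set G)) (t : G)]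
  refine Subgroup.card_le_of_le fun y hy => ?_
  have h1 := ht (show (⟨y, hE'S hy⟩ : stab Q f) ∈ E'.subgroupOf (stab Q f) from hy)
  rw [mem_map_conj_iff, Subgroup.mem_subgroupOf] at h1
  rw [mem_map_conj_iff]
  refine ⟨h1.1, ?_⟩
  have h2 := (Subgroup.mem_normalizer_iff.1
    (normalizer_le_normalizer_centralizer Q (inv_mem t.2.1)) y).1 (Subgroup.map_subtype_le E hy)
  rwa [inv_inv] at h2

/-- The fusion system of a block is saturated. -/
theorem isSaturated (hM : Cfsg.IsPModular p M) {S : Cfsg.FusionSystem P}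
    (hS : Cfsg.IsBlockFusionSystemOn p M B P e S) : S.IsSaturated p := by
  haveI := fact_prime_of_pm hM
  intro R hRP
  obtain ⟨f, -, hle⟩ := exists_subpair hM _ R P e rfl hS.1.1.1 hRP
  have hRf := (block_of_subpairLE hM hle).2 hS.1.1
  obtain ⟨F₀, hF₀, hFf₀⟩ := exists_block_stab hM hRf.1 _ rfl
  obtain ⟨x, hx, -, hdef⟩ := exists_conj_defect hM centralizer_le_stab le_rfl hF₀ hFf₀ hS.1 hRf
  obtain ⟨F, hF, hFf⟩ := exists_block_stab hM (isBrauerPair_conj hM x hRf.1) _ rfl
  have hD := hdef _ F (stab_conj x) hFf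
  exact ⟨cj R x, (isConj_iff hM hS hle _).2 ⟨x, rfl, hx⟩,
    isFullyAutomized hM hS hx hF hFf hD,
    isReceptive hM hS hx (defect_centralizer_of_stab hM hS.1.1.1 hx hF hFf hD)⟩

end Cfsg.Agent.BlockCharsA.PairReceptive
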