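import Mathlib
import Cfsg.Agent.BlockCharsA.PairReceptive
import Cfsg.Agent.BlockCharsA.PairPrincipal
import Cfsg.Agent.Lib.Fusion.Alperin
import Cfsg.Agent.Lib.Fusion.Abelian
import Cfsg.Agent.Lib.Transfer.Frobenius

/-!
# Nilpotent blocks and blocks with abelian defect groups
-/

set_option linter.style.haveILetI false
set_option linter.unusedSectionVars false

namespace Cfsg.Agent.BlockCharsA.PairNilpotent

open Cfsg.Agent.Blocks Cfsg.Agent.Characters Cfsg.Agent.BlockCharsA.BrauerPairs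
open Cfsg.Agent.BlockCharsA.PairStab Cfsg.Agent.BlockCharsA.Transport
open Cfsg.Agent.BlockCharsA.PairMax Cfsg.Agent.BlockCharsA.PairConj
open Cfsg.Agent.BlockCharsA.PairLocal Cfsg.Agent.BlockCharsA.PairFusion
open Cfsg.Agent.BlockCharsA.PairReceptive
open Cfsg.Agent.Fusion.Basic

variable {G : Type*} [Group G] [Finite G] {p : ℕ} {M : Ideal Cfsg.AlgInt}
variable {B : Set (Cfsg.IrrCharacter G)} {P : Subgroup G}
  {e : Set (Cfsg.IrrCharacter (Subgroup.centralizer (P : Set G)))}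
variable {Q : Subgroup G} {f : Set (Cfsg.IrrCharacter (Subgroup.centralizer (Q : Set G)))}

theorem mem_centralizer_of_autHom {t : stab Q f} (h : autHom Q f t = 1) :
    (t : G) ∈ Subgroup.centralizer (Q : Set G) := fun q hq => by
  have h1 := congrArg (fun α : MulAut Q => ((α ⟨q, hq⟩ : Q) : G)) h
  simp only [coe_autHom, MulAut.one_apply] at h1
  exact (mul_inv_eq_iff_eq_mul.1 h1).symm

/-- In a nilpotent block the automizers are `p`-groups. -/
theorem isPGroup_autGroup (hM : Cfsg.IsPModular p M) {S : Cfsg.FusionSystem P}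
    (hS : Cfsg.IsBlockFusionSystemOn p M B P e S) (hnil : Cfsg.IsNilpotentBlock p M B)
    (hle : Cfsg.SubpairLE p M Q f P e) : IsPGroup p (S.autGroup Q) := by
  haveI := fact_prime_of_pm hM
  rintro ⟨α, hα⟩
  obtain ⟨t, rfl⟩ := (autGroup_eq hM hS hle) ▸ hα
  obtain ⟨x, y, hxy, -, ⟨k, hk⟩, hy⟩ := exists_ppart hM.1 t
  have hyC : autHom Q f y = 1 := autHom_eq_one (hnil.2 Q f ((block_of_subpairLE hM hle).2 hS.1.1)
    y y.2.1 (mem_stab.1 y.2).2 (by rwa [Cfsg.IsPRegular, Subgroup.orderOf_coe]))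
  refine ⟨k, Subtype.ext ?_⟩
  show autHom Q f t ^ p ^ k = 1
  rw [← hxy, map_mul, hyC, mul_one, ← map_pow, ← hk, pow_orderOf_eq_one, map_one]

/-- A block with inner fusion is nilpotent. -/
theorem isNilpotent_of_inner (hM : Cfsg.IsPModular p M) {S : Cfsg.FusionSystem P}
    (hS : Cfsg.IsBlockFusionSystemOn p M B P e S)
    (hin : ∀ Q : Subgroup G, S.Hom Q ⊆ (Cfsg.innerFusionSystem P).Hom Q) :
    Cfsg.IsNilpotentBlock p M B := by
  haveI := fact_prime_of_pm hM
  refine ⟨hS.1.1.2.1, fun Q f hQf x hxN hxst hxreg => ?_⟩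
  obtain ⟨g, hg⟩ := exists_conj_le hM hS.1 hQf
  have hy : g * x * g⁻¹ ∈ stab (cj Q g) (Cfsg.conjBlock Q g f) := by
    rw [stab_conj]; exact conj_mem_cj.2 (mem_stab.2 ⟨hxN, hxst⟩)
  set y : stab (cj Q g) (Cfsg.conjBlock Q g f) := ⟨g * x * g⁻¹, hy⟩
  set α := autHom (cj Q g) (Cfsg.conjBlock Q g f) y
  have hα : α ∈ S.autGroup (cj Q g) := (autGroup_eq hM hS hg).ge ⟨y, rfl⟩
  have hQP : cj Q g ≤ P := (subpairLE_facts hM hg).1
  obtain ⟨φ, hφ, hφe⟩ : ∃ φ ∈ S.Hom (cj Q g), ∀ z : cj Q g, φ z = (α z : G) := by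
    obtain ⟨φ, hφ, he⟩ := (mem_autGroup_iff hQP).1 hα
    exact ⟨φ, hφ, fun z => (he z).trans ((autFun_apply α z).trans rfl)⟩
  obtain ⟨-, u, hu, hφu⟩ := hin _ hφ
  obtain ⟨k, hk⟩ := IsPGroup.iff_orderOf.1 hS.1.1.1.1 ⟨u, hu⟩
  rw [Subgroup.orderOf_mk] at hk
  have hpow : ∀ (n : ℕ) (z : cj Q g), ((α ^ n) z : G) = u ^ n * z * (u ^ n)⁻¹ := by
    intro n
    induction n with
    | zero => intro z; simp
    | succ n ih =>
      intro z
      rw [pow_succ', MulAut.mul_apply, ← hφe, hφu, ih, pow_succ']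
      group
  have h1 : α ^ p ^ k = 1 := MulEquiv.ext fun z => Subtype.ext (by
    rw [hpow, ← hk, pow_orderOf_eq_one]; simp)
  have h2 : α ^ orderOf (g * x * g⁻¹) = 1 := by
    rw [show orderOf (g * x * g⁻¹) = orderOf y from Subgroup.orderOf_mk .. |>.symm, ← map_pow,
      pow_orderOf_eq_one, map_one]
  have hα1 : α = 1 := by
    have hco : (p ^ k).Coprime (orderOf (g * x * g⁻¹)) := by
      refine Nat.Coprime.pow_left k (hM.1.coprime_iff_not_dvd.2 ?_)
      rw [show orderOf (g * x * g⁻¹) = orderOf x from MulEquiv.orderOf_eq (MulAut.conj g) x]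
      exact hxreg
    rw [← orderOf_eq_one_iff]
    exact Nat.eq_one_of_dvd_coprimes hco (orderOf_dvd_of_pow_eq_one h1)
      (orderOf_dvd_of_pow_eq_one h2)
  exact conj_mem_centralizer.1 (mem_centralizer_of_autHom hα1)

/-- A nilpotent block has inner fusion. -/
theorem eq_inner_of_nilpotent (hM : Cfsg.IsPModular p M) {S : Cfsg.FusionSystem P}
    (hS : Cfsg.IsBlockFusionSystemOn p M B P e S) (hnil : Cfsg.IsNilpotentBlock p M B) :
    S = Cfsg.innerFusionSystem P := by
  haveI := fact_prime_of_pm hM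
  refine Fusion.Alperin.eq_inner_of_isPGroup hS.1.1.1.1 (isSaturated hM hS) (fun R hR => ?_)
    (isPGroup_autGroup hM hS hnil Relation.ReflTransGen.refl)
  obtain ⟨f', -, hf'⟩ := exists_subpair hM _ R P e rfl hS.1.1.1 hR.1.1
  exact Fusion.Alperin.not_isPGroup_of_essential hR (isPGroup_autGroup hM hS hnil hf')

/-- With an abelian defect group the inertial quotient decides nilpotency. -/
theorem nilpotent_iff_inertial (hM : Cfsg.IsPModular p M)
    (hmax : Cfsg.IsMaximalBrauerPair p M B P e) (hab : ∀ x ∈ P, ∀ y ∈ P, x * y = y * x) :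
    Cfsg.IsNilpotentBlock p M B ↔ ∀ x : G, x ∈ Subgroup.normalizer (P : Set G) →
      Cfsg.StabilizesBlock (Subgroup.centralizer (P : Set G)) e x →
        x ∈ Subgroup.centralizer (P : Set G) := by
  haveI := fact_prime_of_pm hM
  have hS := isBlockFusion_blockSystem hM hmax
  have hsat := isSaturated hM hS
  have hP := hmax.1.1.1
  constructor
  · intro hnil x hxN hxst
    obtain ⟨k, hk⟩ := isPGroup_autGroup hM hS hnil (Q := P) (f := e) Relation.ReflTransGen.refl
      ⟨autHom P e ⟨x, mem_stab.2 ⟨hxN, hxst⟩⟩,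
        (autGroup_eq hM hS Relation.ReflTransGen.refl).ge ⟨_, rfl⟩⟩
    exact mem_centralizer_of_autHom (t := ⟨x, mem_stab.2 ⟨hxN, hxst⟩⟩)
      (Fusion.Abelian.eq_one_of_pow hP hsat hab
        ((autGroup_eq hM hS Relation.ReflTransGen.refl).ge ⟨_, rfl⟩) (congrArg Subtype.val hk))
  · intro h
    refine isNilpotent_of_inner hM hS fun R φ hφ => ?_
    obtain ⟨α, hα, he⟩ := Fusion.Abelian.exists_aut hP hsat hab (IsMap.of_hom hφ)
    obtain ⟨t, rfl⟩ := (autGroup_eq hM hS (Q := P) (f := e) Relation.ReflTransGen.refl) ▸ hα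
    have ht : autHom P e t = 1 := autHom_eq_one (h t t.2.1 (mem_stab.1 t.2).2)
    refine ⟨((blockSystem hM hmax).le_of_mem hφ).1, 1, P.one_mem, fun z => ?_⟩
    have := he z z.2
    rw [ht, autFun_one, ext_apply] at this
    rw [← this]
    simp

/-- The principal block is nilpotent exactly for groups with a normal `p`-complement. -/
theorem principal_nilpotent_iff (hM : Cfsg.IsPModular p M) :
    Cfsg.IsNilpotentBlock p M (Cfsg.principalBlock M G) ↔ Cfsg.HasNormalPComplement p G := by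
  haveI := fact_prime_of_pm hM
  rw [Transfer.Frobenius.hasNormalPComplement_iff_condition]
  constructor
  · intro hnil Q hQ g hg ho
    exact hnil.2 Q _ (PairPrincipal.isBrauerPairOf_prin hM hQ) g hg
      (PairPrincipal.stabilizes_prin hM hg) (hM.1.coprime_iff_not_dvd.1 ho.symm)
  · exact fun h => ⟨isPBlock_principal M G, fun Q f hQf x hx _ hreg =>
      h Q hQf.1.1 x hx (hM.1.coprime_iff_not_dvd.2 hreg).symm⟩

/-- Fusion is controlled by the inertial group when the defect group is abelian. -/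
theorem exists_factor (hM : Cfsg.IsPModular p M)
    (hmax : Cfsg.IsMaximalBrauerPair p M B P e) (hab : ∀ x ∈ P, ∀ y ∈ P, x * y = y * x)
    (hle : Cfsg.SubpairLE p M Q f P e) {x : G} (hx : x ∈ stab Q f) :
    ∃ y ∈ stab P e, ∃ c ∈ Subgroup.centralizer (Q : Set G), x = y * c := by
  haveI := fact_prime_of_pm hM
  have hS := isBlockFusion_blockSystem hM hmax
  have hQP := (subpairLE_facts hM hle).1
  have hα : autHom Q f ⟨x, hx⟩ ∈ (blockSystem hM hmax).autGroup Q :=
    (autGroup_eq hM hS hle).ge ⟨_, rfl⟩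
  obtain ⟨β, hβ, he⟩ := Fusion.Abelian.exists_aut hmax.1.1.1 (isSaturated hM hS) hab
    ((mem_autGroup_iff hQP).1 hα)
  obtain ⟨t, rfl⟩ := (autGroup_eq hM hS (Q := P) (f := e) Relation.ReflTransGen.refl) ▸ hβ
  refine ⟨t, t.2, (t : G)⁻¹ * x, fun q hq => ?_, by rw [mul_inv_cancel_left]⟩
  have h1 := he q hq
  rw [autFun_of_mem _ hq, autFun_of_mem _ (hQP hq), coe_autHom, coe_autHom] at h1
  simp only at h1
  calc q * ((t : G)⁻¹ * x) = (t : G)⁻¹ * ((t : G) * q * (t : G)⁻¹) * x := by group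
    _ = (t : G)⁻¹ * (x * q * x⁻¹) * x := by rw [h1]
    _ = (t : G)⁻¹ * x * q := by group

theorem inf_normalizer_le (hM : Cfsg.IsPModular p M) (hPe : Cfsg.IsBrauerPair p M P e)
    (hle : Cfsg.SubpairLE p M Q f P e) :
    stab P e ⊓ Subgroup.normalizer (Q : Set G) ≤ stab Q f := by
  rintro y ⟨hy, hyN⟩
  refine mem_stab_iff.2 (eq_of_below hM hPe ?_ ?_ hle)
  · show cj Q y = Q
    ext z
    rw [mem_map_conj_iff]
    have := Subgroup.mem_normalizer_iff.1 (inv_mem hyN) z
    rw [inv_inv] at this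
    exact this.symm
  · rw [← mem_stab_iff.1 hy]
    exact subpairLE_conj hM y hle

theorem index_eq (hM : Cfsg.IsPModular p M)
    (hmax : Cfsg.IsMaximalBrauerPair p M B P e) (hab : ∀ x ∈ P, ∀ y ∈ P, x * y = y * x)
    (hle : Cfsg.SubpairLE p M Q f P e) :
    ((Subgroup.centralizer (Q : Set G)).subgroupOf (stab Q f)).index =
      ((stab P e ⊓ Subgroup.centralizer (Q : Set G)).subgroupOf
        (stab P e ⊓ Subgroup.normalizer (Q : Set G))).index := by
  set ψ := (autHom Q f).comp (Subgroup.inclusion (inf_normalizer_le hM hmax.1.1 hle))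
  have h1 : (autHom Q f).ker = (Subgroup.centralizer (Q : Set G)).subgroupOf (stab Q f) :=
    SetLike.ext fun t => ⟨fun h => mem_centralizer_of_autHom h, fun h => autHom_eq_one h⟩
  have h2 : ψ.ker = (stab P e ⊓ Subgroup.centralizer (Q : Set G)).subgroupOf
      (stab P e ⊓ Subgroup.normalizer (Q : Set G)) :=
    SetLike.ext fun t => ⟨fun h => Subgroup.mem_subgroupOf.2 ⟨t.2.1, mem_centralizer_of_autHom
      (t := Subgroup.inclusion (inf_normalizer_le hM hmax.1.1 hle) t) h⟩,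
      fun h => autHom_eq_one (Subgroup.mem_subgroupOf.1 h).2⟩
  rw [← h1, ← h2, Subgroup.index_ker, Subgroup.index_ker]
  congr 1
  congr 1
  refine le_antisymm ?_ ?_
  · rintro _ ⟨⟨x, hx⟩, rfl⟩
    obtain ⟨y, hy, c, hc, rfl⟩ := exists_factor hM hmax hab hle hx
    have hyN : y ∈ Subgroup.normalizer (Q : Set G) := by
      have := mul_mem (stab_le_normalizer hx) (inv_mem (centralizer_le_normalizer' Q hc))
      rwa [mul_inv_cancel_right] at this
    refine ⟨⟨y, hy, hyN⟩, ?_⟩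
    rw [show (⟨y * c, hx⟩ : stab Q f) = (⟨y, inf_normalizer_le hM hmax.1.1 hle ⟨hy, hyN⟩⟩ : stab Q f)
      * ⟨c, centralizer_le_stab hc⟩ from rfl, map_mul, autHom_eq_one (t := ⟨c, _⟩) hc, mul_one]
    rfl
  · rintro _ ⟨t, rfl⟩
    exact ⟨_, rfl⟩

end Cfsg.Agent.BlockCharsA.PairNilpotent
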