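import Mathlib
import Cfsg.Agent.BlockCharsA.PairNilpotent

/-!
# Brauer correspondence over a group containing the normaliser; centric pairs; nilpotency
of local blocks
-/

set_option linter.style.haveILetI false
set_option linter.unusedSectionVars false

namespace Cfsg.Agent.BlockCharsA.PairCorr

open Cfsg.Agent.Blocks Cfsg.Agent.Characters Cfsg.Agent.BlockCharsA.BrauerPairs
open Cfsg.Agent.BlockCharsA.PairStab Cfsg.Agent.BlockCharsA.Transport
open Cfsg.Agent.BlockCharsA.PairMax Cfsg.Agent.BlockCharsA.PairConj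
open Cfsg.Agent.BlockCharsA.PairLocal Cfsg.Agent.BlockCharsA.PairFusion
open Cfsg.Agent.BlockCharsA.PairReceptive

variable {G : Type*} [Group G] [Finite G] {p : ℕ} {M : Ideal Cfsg.AlgInt}

/-- Idempotents with congruent central characters are congruent. -/
theorem congEl_of_omega (hM : Cfsg.IsPModular p M) {a b : MonoidAlgebra ℂ G}
    (ha : IsCentralEl a) (hb : IsCentralEl b) (hai : IntEl M a) (hbi : IntEl M b)
    (ha2 : CongEl M (a * a) a) (hb2 : CongEl M (b * b) b)
    (h : ∀ χ : Cfsg.IrrCharacter G, Cong M (omega (χ : G → ℂ) a) (omega (χ : G → ℂ) b)) :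
    CongEl M a b := by
  obtain ⟨n, hn⟩ := exists_pow_idealEl hM (central_sub ha hb) fun χ => by
    rw [omega_sub]; exact h χ
  exact congEl_of_idem_of_nilp hM (central_commute ha b) hai hbi ha2 hb2 (hn n le_rfl)

variable {P H : Subgroup G}

theorem br_blockIdem_idem (hM : Cfsg.IsPModular p M) (hP : IsPGroup p P)
    {B : Set (Cfsg.IrrCharacter G)} (hB : Cfsg.IsPBlock M B) :
    CongEl M (br P (blockIdem B) * br P (blockIdem B)) (br P (blockIdem B)) := by
  have h := br_mul hM hP (intEl_blockIdem hM hB) (intEl_blockIdem hM hB) (invBy_blockIdem _ _)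
    (invBy_blockIdem _ _)
  rw [blockIdem_mul_self] at h
  exact congEl_symm hM h

theorem pairOf_iff (hM : Cfsg.IsPModular p M) (hP : IsPGroup p P)
    {B : Set (Cfsg.IrrCharacter G)} (hB : Cfsg.IsPBlock M B)
    (ξ : Cfsg.IrrCharacter (Subgroup.centralizer (P : Set G))) :
    (Cfsg.IsBrauerPairOf p M B P (Cfsg.blockOf M (ξ : Subgroup.centralizer (P : Set G) → ℂ)) →
      Cong M (omega (ξ : Subgroup.centralizer (P : Set G) → ℂ) (br P (blockIdem B))) 1) ∧
    (¬ Cfsg.IsBrauerPairOf p M B P (Cfsg.blockOf M (ξ : Subgroup.centralizer (P : Set G) → ℂ)) →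
      Cong M (omega (ξ : Subgroup.centralizer (P : Set G) → ℂ) (br P (blockIdem B))) 0) := by
  refine ⟨fun h => ?_, fun h => ?_⟩
  · have h1 := h.2.2 ξ (mem_blockOf_self hM ξ)
    rw [brauerOmega_block] at h1
    exact h1
  · rw [cong_zero_iff]
    by_contra hn
    refine h ⟨⟨hP, isPBlock_blockOf M ξ⟩, hB, fun η hη => ?_⟩
    rw [brauerOmega_block]
    refine cong_at_member hM (isPBlock_blockOf M ξ) (mem_blockOf_self hM ξ) hη
      (intEl_blockIdem hM hB) (invBy_blockIdem _ _) (cong_one_of_idem hM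
        (omega_br_ring hM ξ (intEl_blockIdem hM hB) (invBy_blockIdem _ _)) ?_ hn)
    rw [← omega_mul ξ (central_br (invBy_blockIdem _ _))]
    exact omega_cong hM ξ (central_mul (central_br (invBy_blockIdem _ _))
      (central_br (invBy_blockIdem _ _))) (central_br (invBy_blockIdem _ _))
      (br_blockIdem_idem hM hP hB)

/-- The Brauer images of `B` and of the block `c` of `H` agree at `P`. -/
def SameImage (M : Ideal Cfsg.AlgInt) (P H : Subgroup G) (B : Set (Cfsg.IrrCharacter G))
    (c : Set (Cfsg.IrrCharacter H)) : Prop :=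
  ∀ x : G, x ∈ Subgroup.centralizer (P : Set G) →
    Cfsg.MemLocalIdeal M (Cfsg.blockCoeff B x - Cfsg.subgroupBlockCoeff H c x)

variable {B : Set (Cfsg.IrrCharacter G)} {c : Set (Cfsg.IrrCharacter H)}

theorem mem_centralizer_H {f : Set (Cfsg.IrrCharacter (Subgroup.centralizer (P : Set G)))}
    {a : Cfsg.BrauerPairIdx H} (hm : Match a ⟨P, f⟩) :
    Subgroup.centralizer (P : Set G) ≤ H := hm.2.1

theorem pairOf_transfer (hM : Cfsg.IsPModular p M) (h : SameImage M P H B c)
    {f : Set (Cfsg.IrrCharacter (Subgroup.centralizer (P : Set G)))}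
    {a : Cfsg.BrauerPairIdx H} (ha : Cfsg.IsBrauerPair p M a.1 a.2) (hm : Match a ⟨P, f⟩)
    (hf : Cfsg.IsBrauerPair p M P f) (hB : Cfsg.IsPBlock M B) (hc : Cfsg.IsPBlock M c) :
    Cfsg.IsBrauerPairOf p M B P f ↔ Cfsg.IsBrauerPairOf p M c a.1 a.2 := by
  obtain ⟨A, a⟩ := a
  have hA : A.map H.subtype = P := hm.1
  have hC : Subgroup.centralizer (P : Set G) ≤ H := hm.2.1
  have hae := mem_of_match hM hm hA hC
  have hval : ∀ η : Cfsg.IrrCharacter (Subgroup.centralizer (A : Set H)),
      Cong M (omega ((irrIso (downEquiv hA hC) η : Cfsg.IrrCharacter _) :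
        Subgroup.centralizer (P : Set G) → ℂ) (br P (blockIdem B)))
      (omega (η : Subgroup.centralizer (A : Set H) → ℂ) (br A (blockIdem c))) := by
    intro η
    rw [omega_match hA hC (z := inclEl H (blockIdem c)) fun t => by rw [coeff_inclEl_mem]]
    refine omega_cong hM _ (central_br (invBy_blockIdem _ _)) (central_br ?_) fun k => ?_
    · exact invBy_mono hC (invBy_elF_self c)
    · rw [MonoidAlgebra.coeff_sub, Finsupp.sub_apply, br, br, coeff_restrEl, coeff_restrEl,
        coeff_blockIdem, ← elF, coeff_elF]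
      exact h _ k.2
  constructor
  · intro hp
    refine ⟨ha, hc, fun η hη => ?_⟩
    rw [brauerOmega_block]
    simp only at hη
    rw [hae] at hη
    have h1 := hp.2.2 _ hη
    rw [brauerOmega_block] at h1
    exact cong_trans hM (cong_symm hM (hval η)) h1
  · intro hp
    refine ⟨hf, hB, fun η hη => ?_⟩
    rw [brauerOmega_block]
    obtain ⟨η', rfl⟩ := (irrIso (downEquiv hA hC)).surjective η
    have h1 := hp.2.2 η' (by simp only; rw [hae]; exact hη)
    rw [brauerOmega_block] at h1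
    exact cong_trans hM (hval η') h1

/-- The images agree when both blocks have matching maximal pairs at `P`. -/
theorem sameImage_of_match (hM : Cfsg.IsPModular p M)
    (hH : Subgroup.normalizer (P : Set G) ≤ H)
    {f : Set (Cfsg.IrrCharacter (Subgroup.centralizer (P : Set G)))}
    {a : Cfsg.BrauerPairIdx H} (hm : Match a ⟨P, f⟩)
    (hmax : Cfsg.IsMaximalBrauerPair p M B P f) (hamax : Cfsg.IsMaximalBrauerPair p M c a.1 a.2) :
    SameImage M P H B c := by
  obtain ⟨A, a⟩ := a
  have hA : A.map H.subtype = P := hm.1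
  have hC : Subgroup.centralizer (P : Set G) ≤ H := hm.2.1
  have hPH : P ≤ H := (Subgroup.le_normalizer).trans hH
  have hAp : IsPGroup p A := hamax.1.1.1
  have key : ∀ ξ : Cfsg.IrrCharacter (Subgroup.centralizer (P : Set G)),
      Cfsg.IsBrauerPairOf p M B P (Cfsg.blockOf M (ξ : Subgroup.centralizer (P : Set G) → ℂ)) ↔
      Cfsg.IsBrauerPairOf p M c A (pullSet (downEquiv hA hC)
        (Cfsg.blockOf M (ξ : Subgroup.centralizer (P : Set G) → ℂ))) := by
    intro ξ
    set f₁ := Cfsg.blockOf M (ξ : Subgroup.centralizer (P : Set G) → ℂ) with hf₁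
    have hm₁ : Match ⟨A, pullSet (downEquiv hA hC) f₁⟩ ⟨P, f₁⟩ :=
      match_pull hA hC _ _ fun d => blockCoeff_pullSet _ _ d
    constructor
    · intro hp
      obtain ⟨n, hn, hne⟩ := exists_conj_of_same hM hmax hp
      have h1 := match_conj hm ⟨n, hH hn⟩
      rw [hne] at h1
      have h2 : cjPair (⟨n, hH hn⟩ : H) (⟨A, a⟩ : Cfsg.BrauerPairIdx H) =
          ⟨A, pullSet (downEquiv hA hC) f₁⟩ := by
        refine idx_ext (Subgroup.map_injective H.subtype_injective (h1.1.trans hA.symm))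
          fun t => ?_
        rw [h1.2.2, hm₁.2.2]
      have h3 := isBrauerPairOf_conj hM (⟨n, hH hn⟩ : H) hamax.1
      have h4 : Cfsg.IsBrauerPairOf p M c (cjPair (⟨n, hH hn⟩ : H) (⟨A, a⟩ : Cfsg.BrauerPairIdx H)).1
          (cjPair (⟨n, hH hn⟩ : H) (⟨A, a⟩ : Cfsg.BrauerPairIdx H)).2 := h3
      rw [h2] at h4
      exact h4
    · intro hp
      obtain ⟨n, hn, hne⟩ := exists_conj_of_same hM hamax hp
      have h1 := match_conj hm n
      rw [hne] at h1
      have h2 := match_unique h1 hm₁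
      have h4 : Cfsg.IsBrauerPairOf p M B (cjPair (n : G) (⟨P, f⟩ : Cfsg.BrauerPairIdx G)).1
          (cjPair (n : G) (⟨P, f⟩ : Cfsg.BrauerPairIdx G)).2 := isBrauerPairOf_conj hM (n : G) hmax.1
      rw [h2] at h4
      exact h4
  have hid : CongEl M (br P (inclEl H (blockIdem c)) * br P (inclEl H (blockIdem c)))
      (br P (inclEl H (blockIdem c))) := by
    have hinv : InvBy (P : Set G) (inclEl H (blockIdem c)) := invBy_mono hPH (invBy_elF_self c)
    have h := br_mul hM hmax.1.1.1 (intEl_elF hM hamax.1.2.1) (intEl_elF hM hamax.1.2.1) hinv hinv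
    rw [elF_mul_self] at h
    exact congEl_symm hM h
  have hcong : CongEl M (br P (blockIdem B)) (br P (inclEl H (blockIdem c))) := by
    refine congEl_of_omega hM (central_br (invBy_blockIdem _ _))
      (central_br (invBy_mono hC (invBy_elF_self c)))
      (intEl_restrEl _ (intEl_blockIdem hM hmax.1.2.1))
      (intEl_restrEl _ (intEl_elF hM hamax.1.2.1))
      (br_blockIdem_idem hM hmax.1.1.1 hmax.1.2.1) hid fun ξ => ?_
    have h5 : omega (ξ : Subgroup.centralizer (P : Set G) → ℂ) (br P (inclEl H (blockIdem c))) =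
        omega (((irrIso (downEquiv hA hC)).symm ξ : Cfsg.IrrCharacter _) :
          Subgroup.centralizer (A : Set H) → ℂ) (br A (blockIdem c)) := by
      rw [omega_match hA hC (z := inclEl H (blockIdem c)) fun t => by rw [coeff_inclEl_mem]]
      refine congrArg (fun φ => omega φ (br P (inclEl H (blockIdem c)))) ?_
      exact funext fun k => by simp [irrIso_symm_apply]
    rw [h5]
    have hblk : Cfsg.blockOf M (((irrIso (downEquiv hA hC)).symm ξ : Cfsg.IrrCharacter _) :
        Subgroup.centralizer (A : Set H) → ℂ) = pullSet (downEquiv hA hC)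
          (Cfsg.blockOf M (ξ : Subgroup.centralizer (P : Set G) → ℂ)) :=
      (block_eq_blockOf hM (isPBlock_pullSet hM _ (isPBlock_blockOf M ξ))
        (symm_mem_pullSet (mem_blockOf_self hM ξ))).symm
    obtain ⟨a1, a2⟩ := pairOf_iff hM hmax.1.1.1 hmax.1.2.1 ξ
    obtain ⟨b1, b2⟩ := pairOf_iff hM hAp hamax.1.2.1 ((irrIso (downEquiv hA hC)).symm ξ)
    rw [hblk, ← key ξ] at b1 b2
    by_cases hp : Cfsg.IsBrauerPairOf p M B P
        (Cfsg.blockOf M (ξ : Subgroup.centralizer (P : Set G) → ℂ))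
    · exact cong_trans hM (a1 hp) (cong_symm hM (b1 hp))
    · exact cong_trans hM (a2 hp) (cong_symm hM (b2 hp))
  intro x hx
  have h6 := congEl_iff.1 hcong ⟨x, hx⟩
  rw [br, br, coeff_restrEl, coeff_restrEl, coeff_blockIdem, ← elF, coeff_elF] at h6
  exact h6

theorem exists_maximal_on (hM : Cfsg.IsPModular p M) (hB : Cfsg.IsPBlock M B)
    (hD : Cfsg.IsDefectGroup p M B P) :
    ∃ f, Cfsg.IsMaximalBrauerPair p M B P f := by
  haveI := fact_prime_of_pm hM
  obtain ⟨g, hg, hs⟩ := isDefectGroup_iff.1 hD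
  have hbr : ¬ ∀ ξ : Cfsg.IrrCharacter (Subgroup.centralizer (P : Set G)), Cfsg.MemLocalIdeal M
      (omega (ξ : Subgroup.centralizer (P : Set G) → ℂ) (br P (blockIdem B))) := by
    intro hcon
    have h := idealEl_of_omega hM (central_br (invBy_blockIdem _ _))
      (intEl_restrEl _ (intEl_blockIdem hM hB)) (br_blockIdem_idem hM (isPGroup_defect hD) hB) hcon
      ⟨g, isSylCent_mem hs⟩
    rw [br, coeff_restrEl, coeff_blockIdem] at h
    exact hg.2.1 h
  push Not at hbr
  obtain ⟨ξ, hξ⟩ := hbr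
  have hp : Cfsg.IsBrauerPairOf p M B P
      (Cfsg.blockOf M (ξ : Subgroup.centralizer (P : Set G) → ℂ)) := by
    by_contra h
    exact hξ (cong_zero_iff.1 ((pairOf_iff hM (isPGroup_defect hD) hB ξ).2 h))
  refine ⟨_, hp, fun R r hR hle => ?_⟩
  obtain ⟨R', r', hR', hle'⟩ := exists_maximal_above hM hR
  refine (eq_of_le_of_card_le (subpairLE_facts hM hle).1 ?_).symm
  refine (Subgroup.card_le_of_le (subpairLE_facts hM hle').1).trans (le_of_eq ?_)
  rw [card_defectGroup hM hB hD, card_defectGroup hM hB (isDefectGroup_of_maximal hM hR')]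

/-- From a maximal pair of `G` down to `H`. -/
theorem correspond_down (hM : Cfsg.IsPModular p M) (hH : Subgroup.normalizer (P : Set G) ≤ H)
    (hB : Cfsg.IsPBlock M B) (hD : Cfsg.IsDefectGroup p M B P) :
    ∃! c : Set (Cfsg.IrrCharacter H), Cfsg.IsPBlock M c ∧
      Cfsg.IsDefectGroup p M c (P.subgroupOf H) ∧ SameImage M P H B c := by
  haveI := fact_prime_of_pm hM
  have hPH : P ≤ H := (Subgroup.le_normalizer).trans hH
  have hCH : Subgroup.centralizer (P : Set G) ≤ H := (centralizer_le_normalizer' P).trans hH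
  obtain ⟨f, hmax⟩ := exists_maximal_on hM hB hD
  obtain ⟨a, ha, hm⟩ := exists_down hM hPH hCH hmax.1.1
  obtain ⟨c, hc⟩ := exists_brauerPairOf hM ha
  have hamax : Cfsg.IsMaximalBrauerPair p M c a.1 a.2 := by
    refine ⟨hc, fun R r hR hle => ?_⟩
    have hPR : a.1 ≤ R := (subpairLE_facts hM hle).1
    have hPR' : P ≤ R.map H.subtype := by
      have := Subgroup.map_mono (f := H.subtype) hPR
      rwa [hm.1] at this
    obtain ⟨g, hg, hrg⟩ := exists_up hM ⟨R, r⟩ hR.1
      ((centralizer_le_centralizer hPR').trans hCH)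
    have hup := subpairLE_up hM hCH (a := a) (b := ⟨R, r⟩) hle (by rw [hm.1]) hm hrg hg
    have hb := (block_of_subpairLE hM hup).1 hmax.1
    have := hmax.2 _ _ hb hup
    exact Subgroup.map_injective H.subtype_injective (this.trans hm.1.symm)
  have hdef : Cfsg.IsDefectGroup p M c (P.subgroupOf H) := by
    have h := isDefectGroup_of_maximal hM hamax
    rwa [show a.1 = P.subgroupOf H from Subgroup.map_injective H.subtype_injective
      (hm.1.trans (map_subgroupOf_eq hPH).symm)] at h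
  refine ⟨c, ⟨hc.2.1, hdef, sameImage_of_match hM hH hm hmax hamax⟩, fun c' hc' => ?_⟩
  exact brauerPairOf_unique hM ((pairOf_transfer hM hc'.2.2 ha hm hmax.1.1 hB hc'.1).1 hmax.1) hc

/-- From a maximal pair of `H` up to `G`. -/
theorem correspond_up (hM : Cfsg.IsPModular p M) (hP : IsPGroup p P)
    (hH : Subgroup.normalizer (P : Set G) ≤ H)
    (hc : Cfsg.IsPBlock M c) (hD : Cfsg.IsDefectGroup p M c (P.subgroupOf H)) :
    ∃! B : Set (Cfsg.IrrCharacter G), Cfsg.IsPBlock M B ∧
      Cfsg.IsDefectGroup p M B P ∧ SameImage M P H B c := by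
  haveI := fact_prime_of_pm hM
  have hPH : P ≤ H := (Subgroup.le_normalizer).trans hH
  have hCH : Subgroup.centralizer (P : Set G) ≤ H := (centralizer_le_normalizer' P).trans hH
  obtain ⟨fa, hamax⟩ := exists_maximal_on hM hc hD
  obtain ⟨f, hf, hm'⟩ : ∃ f, Cfsg.IsBrauerPair p M P f ∧
      Match (⟨P.subgroupOf H, fa⟩ : Cfsg.BrauerPairIdx H) ⟨P, f⟩ := by
    have hA : (P.subgroupOf H).map H.subtype = P := map_subgroupOf_eq hPH
    refine ⟨pullSet (downEquiv hA hCH).symm fa, ⟨hP, isPBlock_pullSet hM _ hamax.1.1.2⟩,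
      match_pull hA hCH _ _ fun d => ?_⟩
    conv_rhs => rw [← (downEquiv hA hCH).symm_apply_apply d]
    rw [blockCoeff_pullSet]
  obtain ⟨B, hB⟩ := exists_brauerPairOf hM hf
  have hmax : Cfsg.IsMaximalBrauerPair p M B P f := by
    refine ⟨hB, fun R r hR hle => ?_⟩
    by_contra hne
    have hlt := lt_inf_normalizer hM hR.1.1 (subpairLE_facts hM hle).1 (Ne.symm hne)
    obtain ⟨g, hg, -⟩ := normal_step hM hR.1 (R := R ⊓ Subgroup.normalizer (P : Set G))
      hlt.le inf_le_left inf_le_right hle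
    set R₀ := R ⊓ Subgroup.normalizer (P : Set G)
    have hR₀H : R₀ ≤ H := inf_le_right.trans hH
    obtain ⟨b, hb, hbm⟩ := exists_down hM hR₀H
      ((centralizer_le_centralizer hlt.le).trans hCH) hg.2.1
    obtain ⟨B₀, b₀⟩ := b
    have hB₀ : B₀.map H.subtype = R₀ := hbm.1
    have hAB : P.subgroupOf H ≤ B₀ := by
      intro y hy
      obtain ⟨z, hz, hzy⟩ := (hB₀.ge (hlt.le hy) : (y : G) ∈ B₀.map H.subtype)
      rwa [← show z = y from Subtype.ext hzy]
    have hBN : B₀ ≤ Subgroup.normalizer (P.subgroupOf H : Set H) := by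
      intro u hu
      have huN : (u : G) ∈ Subgroup.normalizer (P : Set G) := by
        have : (u : G) ∈ R₀ := hB₀ ▸ ⟨u, hu, rfl⟩
        exact this.2
      rw [Subgroup.mem_normalizer_iff]
      exact fun y => Subgroup.mem_normalizer_iff.1 huN y
    obtain ⟨f₁, hf₁, -⟩ := existsUnique_normalSubpair hM hb hAB hBN
    obtain ⟨k, hk, hkm⟩ := exists_up hM ⟨P.subgroupOf H, f₁⟩ hf₁.1
      (by rw [map_subgroupOf_eq hPH]; exact hCH)
    have hupn := normalSubpair_up hM hf₁ hkm hbm hk hg.2.1
    have heq : (⟨P, f⟩ : Cfsg.BrauerPairIdx G) = ⟨(P.subgroupOf H).map H.subtype, k⟩ :=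
      eq_of_below hM hg.2.1 (map_subgroupOf_eq hPH).symm (Relation.ReflTransGen.single hg)
        (Relation.ReflTransGen.single hupn)
    have hff : f₁ = fa := by
      refine set_eq_of_blockCoeff fun d => ?_
      rw [coeff_self, coeff_self, hkm.2.2, hm'.2.2, heq]
    subst hff
    have := hamax.2 B₀ b₀ (block_of_normalSubpair hM hf₁ hamax.1) (Relation.ReflTransGen.single hf₁)
    exact hlt.ne (hB₀.symm.trans (by rw [this]; exact map_subgroupOf_eq hPH)).symm
  refine ⟨B, ⟨hB.2.1, isDefectGroup_of_maximal hM hmax,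
    sameImage_of_match hM hH hm' hmax hamax⟩, fun B' hB' => ?_⟩
  exact brauerPairOf_unique hM
    ((pairOf_transfer hM hB'.2.2 hamax.1.1 hm' hf hB'.1 hc).2 hamax.1) hB

/-! ### Centric pairs and local blocks of nilpotent blocks -/

variable {Q : Subgroup G} {f : Set (Cfsg.IrrCharacter (Subgroup.centralizer (Q : Set G)))}

theorem mem_centralizer_of_regular (hM : Cfsg.IsPModular p M) (hQ : IsPGroup p Q) {x : G}
    (hx : x ∈ Q ⊔ Subgroup.centralizer (Q : Set G)) (hreg : Cfsg.IsPRegular p x) :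
    x ∈ Subgroup.centralizer (Q : Set G) := by
  haveI := fact_prime_of_pm hM
  have hprod := Subgroup.coe_mul_of_left_le_normalizer_right Q (Subgroup.centralizer (Q : Set G))
    (Subgroup.le_normalizer.trans (normalizer_le_normalizer_centralizer Q))
  have hx' : x ∈ ((Q ⊔ Subgroup.centralizer (Q : Set G) : Subgroup G) : Set G) := hx
  rw [hprod] at hx'
  obtain ⟨q, hq, c, hc, rfl⟩ := hx'
  have hN : q * c ∈ Subgroup.normalizer (Q : Set G) :=
    mul_mem (Subgroup.le_normalizer hq) (centralizer_le_normalizer' Q hc)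
  set α : MulAut Q := conjK hN
  have hpow : ∀ n : ℕ, ∀ z : Q, ((α ^ n) z : G) = (q * c) ^ n * z * ((q * c) ^ n)⁻¹ ∧
      ((α ^ n) z : G) = q ^ n * z * (q ^ n)⁻¹ := by
    intro n
    induction n with
    | zero => intro z; simp
    | succ n ih =>
      intro z
      rw [pow_succ', MulAut.mul_apply, coe_conjK, pow_succ', pow_succ']
      constructor
      · rw [(ih z).1, mul_inv_rev (q * c)]; simp only [mul_assoc]
      · calc q * c * ((α ^ n) z : G) * (q * c)⁻¹ = q * (c * ((α ^ n) z : G)) * c⁻¹ * q⁻¹ := by group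
          _ = q * (((α ^ n) z : G) * c) * c⁻¹ * q⁻¹ := by rw [hc _ ((α ^ n) z).2]
          _ = q * ((α ^ n) z : G) * q⁻¹ := by group
          _ = q * q ^ n * z * (q * q ^ n)⁻¹ := by rw [(ih z).2]; group
  obtain ⟨k, hk⟩ := IsPGroup.iff_orderOf.1 hQ ⟨q, hq⟩
  rw [Subgroup.orderOf_mk] at hk
  have h1 : α ^ p ^ k = 1 := MulEquiv.ext fun z => Subtype.ext (by
    rw [(hpow _ z).2, ← hk, pow_orderOf_eq_one]; simp)
  have h2 : α ^ orderOf (q * c) = 1 := MulEquiv.ext fun z => Subtype.ext (by
    rw [(hpow _ z).1, pow_orderOf_eq_one]; simp)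
  have hα1 : α = 1 := orderOf_eq_one_iff.1 (Nat.eq_one_of_dvd_coprimes
    (Nat.Coprime.pow_left k (hM.1.coprime_iff_not_dvd.2 hreg))
    (orderOf_dvd_of_pow_eq_one h1) (orderOf_dvd_of_pow_eq_one h2))
  intro z hz
  have h3 := congrArg (fun β : MulAut Q => ((β ⟨z, hz⟩ : Q) : G)) hα1
  simp only [α, coe_conjK, MulAut.one_apply] at h3
  exact (mul_inv_eq_iff_eq_mul.1 h3).symm

/-- The block of `Q C(Q)` at a centric pair is nilpotent. -/
theorem exists_nilpotent_centric (hM : Cfsg.IsPModular p M) (hQf : Cfsg.IsBrauerPair p M Q f)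
    (hfD : Cfsg.IsDefectGroup p M f ((Q ⊓ Subgroup.centralizer (Q : Set G)).subgroupOf
      (Subgroup.centralizer (Q : Set G)))) :
    ∃ F' : Set (Cfsg.IrrCharacter ↥(Q ⊔ Subgroup.centralizer (Q : Set G))), Cfsg.IsPBlock M F' ∧
      (∀ t : ↥(Q ⊔ Subgroup.centralizer (Q : Set G)), Cfsg.blockCoeff F' t =
        Cfsg.subgroupBlockCoeff (Subgroup.centralizer (Q : Set G)) f (t : G)) ∧
      Cfsg.IsNilpotentBlock p M F' := by
  haveI := fact_prime_of_pm hM
  set T := Q ⊔ Subgroup.centralizer (Q : Set G) with hT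
  have hTS : T ≤ stab Q f := sup_le le_stab centralizer_le_stab
  obtain ⟨F, hF, hFeq⟩ := exists_stab_block' hM hQf.1 hQf.2 T le_sup_right le_sup_left
    (hTS.trans stab_le_normalizer) fun x hx => (mem_stab.1 (hTS hx)).2
  have hFf : ∀ t : T, Cfsg.blockCoeff F t =
      (elF (Subgroup.centralizer (Q : Set G)) f).coeff (t : G) :=
    fun t => by rw [← coeff_blockIdem, hFeq, coeff_restrEl]
  haveI hQn := normal_subgroupOf (hTS.trans stab_le_normalizer)
  have hDle : ∀ D : Subgroup T, Cfsg.IsDefectGroup p M F D → D ≤ Q.subgroupOf T := by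
    intro D hD d hd
    have hQD : Q.subgroupOf T ≤ D :=
      normal_le_defect hM (isPGroup_subgroupOf hQf.1 le_sup_left) hF hD
    obtain ⟨c₀, hc₀, hc₀s⟩ := isDefectGroup_iff.1 hD
    have hcu : ¬ Cfsg.MemLocalIdeal M
        ((elF (Subgroup.centralizer (Q : Set G)) f).coeff (c₀ : G)) := by
      rw [← hFf]; exact hc₀.2.1
    have hc₀Q : (c₀ : G) ∈ Subgroup.centralizer (Q : Set G) := by
      by_contra h
      refine hcu ?_
      rw [elF, coeff_inclEl_notMem _ _ h]
      exact ideal_zero hM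
    set E := D.map T.subtype ⊓ Subgroup.centralizer (Q : Set G)
    have hEeq : Q ⊓ Subgroup.centralizer (Q : Set G) = E := by
      refine eq_of_le_of_card_le (fun y hy => ⟨⟨⟨y, Subgroup.mem_sup_left hy.1⟩, hQD hy.1, rfl⟩,
        hy.2⟩) ?_
      obtain ⟨x, hx⟩ := le_defect_of_coeff hM hQf.2 hfD (h := ⟨c₀, hc₀Q⟩)
        (by rw [coeff_self]; exact hcu)
        (Q := E.subgroupOf (Subgroup.centralizer (Q : Set G)))
        (isPGroup_subgroupOf (((isPGroup_defect hD).map _).to_le inf_le_left) inf_le_right)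
        ((mem_centralizer_subgroupOf inf_le_right).2 (centralizer_le_centralizer inf_le_left
          (le_centralizer_iff_mem.1 (by
            rintro _ ⟨y, hy, rfl⟩
            exact Subgroup.mem_centralizer_singleton_iff.2
              (congrArg Subtype.val (isSylCent_mem hc₀s y hy))))))
      rw [← Nat.card_congr (Subgroup.subgroupOfEquivOfLe (inf_le_right : E ≤ _)).toEquiv,
        ← Nat.card_congr (Subgroup.subgroupOfEquivOfLe (inf_le_right :
          Q ⊓ Subgroup.centralizer (Q : Set G) ≤ _)).toEquiv,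
        ← card_map_conj ((Q ⊓ Subgroup.centralizer (Q : Set G)).subgroupOf _) x]
      exact Subgroup.card_le_of_le hx
    have hprod := Subgroup.coe_mul_of_left_le_normalizer_right Q
      (Subgroup.centralizer (Q : Set G))
      (Subgroup.le_normalizer.trans (normalizer_le_normalizer_centralizer Q))
    have hd' : (d : G) ∈ ((Q ⊔ Subgroup.centralizer (Q : Set G) : Subgroup G) : Set G) := d.2
    rw [hprod] at hd'
    obtain ⟨q, hq, c, hc, hqc⟩ := hd'
    have hcD : (⟨c, Subgroup.mem_sup_right hc⟩ : T) ∈ D := by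
      have : (⟨q, Subgroup.mem_sup_left hq⟩ : T)⁻¹ * d = ⟨c, Subgroup.mem_sup_right hc⟩ :=
        Subtype.ext (by simp [← hqc])
      rw [← this]
      exact D.mul_mem (D.inv_mem (hQD hq)) hd
    rw [Subgroup.mem_subgroupOf, ← hqc]
    exact Q.mul_mem hq (hEeq.ge ⟨⟨_, hcD, rfl⟩, hc⟩).1
  refine ⟨F, hF, fun t => by rw [hFf, coeff_elF], hF, fun R h hR x hxN _ hxreg => ?_⟩
  obtain ⟨R', h', hR', hle⟩ := exists_maximal_above hM hR
  have hRQ : R ≤ Q.subgroupOf T :=
    (subpairLE_facts hM hle).1.trans (hDle R' (isDefectGroup_of_maximal hM hR'))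
  have hxC : (x : G) ∈ Subgroup.centralizer (Q : Set G) :=
    mem_centralizer_of_regular hM hQf.1 x.2 (by rwa [Cfsg.IsPRegular, Subgroup.orderOf_coe])
  exact fun y hy => Subtype.ext (hxC y (hRQ hy))

theorem centric_iff_card (hM : Cfsg.IsPModular p M) {B : Set (Cfsg.IrrCharacter G)}
    {P : Subgroup G} {e : Set (Cfsg.IrrCharacter (Subgroup.centralizer (P : Set G)))}
    {S : Cfsg.FusionSystem P} (hS : Cfsg.IsBlockFusionSystemOn p M B P e S)
    (hle : Cfsg.SubpairLE p M Q f P e) (hcen : S.IsCentric Q) :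
    Cfsg.IsDefectGroup p M f ((Q ⊓ Subgroup.centralizer (Q : Set G)).subgroupOf
      (Subgroup.centralizer (Q : Set G))) := by
  have hQP := (subpairLE_facts hM hle).1
  have hQf := (block_of_subpairLE hM hle).2 hS.1.1
  have heq : P ⊓ Subgroup.centralizer (Q : Set G) = Q ⊓ Subgroup.centralizer (Q : Set G) :=
    le_antisymm (le_inf (hcen.2 Q ((isConj_iff hM hS hle Q).2
      ⟨1, (map_conj_one Q).symm, by
        show Relation.ReflTransGen _ (cjPair 1 ⟨Q, f⟩) _
        rw [cjPair_one]; exact hle⟩)) inf_le_right) (inf_le_inf_right _ hQP)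
  rw [← heq, defect_iff_largest hM le_rfl centralizer_le_stab hQf.1.2 coeff_self hS.1 hle]
  intro x hx
  have h1 : P ⊓ cj (Subgroup.centralizer (Q : Set G)) x ≤
      cj (P ⊓ Subgroup.centralizer (Q : Set G)) x := by
    rw [heq]
    intro y hy
    have hy' := hcen.2 _ ((isConj_iff hM hS hle _).2 ⟨x, rfl, hx⟩)
      (show y ∈ P ⊓ Subgroup.centralizer (cj Q x : Set G) by rwa [← cj_centralizer])
    rw [mem_map_conj_iff] at hy' ⊢
    exact ⟨hy', mem_map_conj_iff.1 hy.2⟩
  exact (Subgroup.card_le_of_le h1).trans_eq (card_map_conj _ x)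

theorem coeff_eq_of_invariant (hM : Cfsg.IsPModular p M) {B : Set (Cfsg.IrrCharacter G)}
    (hQf : Cfsg.IsBrauerPairOf p M B Q f)
    (hG : ∀ x : G, x ∈ Subgroup.normalizer (Q : Set G) ∧
      Cfsg.StabilizesBlock (Subgroup.centralizer (Q : Set G)) f x) (g : G) :
    Cfsg.blockCoeff B g = Cfsg.subgroupBlockCoeff (Subgroup.centralizer (Q : Set G)) f g := by
  classical
  haveI := Fintype.ofFinite G
  haveI : Q.Normal := ⟨fun n hn x => (Subgroup.mem_normalizer_iff.1 (hG x).1 n).1 hn⟩
  rw [blockCoeff_trace hM hQf ⊤ (fun x => ⟨fun _ => (hG x).2, fun _ => trivial⟩) g]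
  have : ∀ x : G, Cfsg.subgroupBlockCoeff (Subgroup.centralizer (Q : Set G)) f (x⁻¹ * g * x) =
      Cfsg.subgroupBlockCoeff (Subgroup.centralizer (Q : Set G)) f g := fun x => by
    rw [← coeff_elF, ← coeff_elF]
    have h := (stabilizes_iff_coeff (normalizer_le_normalizer_centralizer Q (hG x⁻¹).1)).1
      (hG x⁻¹).2 g
    rwa [inv_inv] at h
  simp only [this, Finset.sum_const, Finset.card_univ, nsmul_eq_mul]
  rw [← Nat.card_eq_fintype_card, Subgroup.card_top, inv_mul_cancel_left₀ natCard_ne_zero]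

/-- Local blocks of a nilpotent block are nilpotent. -/
theorem isNilpotent_local (hM : Cfsg.IsPModular p M) {B : Set (Cfsg.IrrCharacter G)}
    (hnil : Cfsg.IsNilpotentBlock p M B) (hQf : Cfsg.IsBrauerPairOf p M B Q f) :
    Cfsg.IsNilpotentBlock p M f := by
  haveI := fact_prime_of_pm hM
  refine ⟨hQf.1.2, fun R h hR x hxN hxst hxreg => ?_⟩
  set L := R.map (Subgroup.centralizer (Q : Set G)).subtype ⊔ Q with hL
  have hRC : R.map (Subgroup.centralizer (Q : Set G)).subtype ≤ (Subgroup.centralizer (Q : Set G)) := Subgroup.map_subtype_le R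
  have hCL : ∀ c : G, c ∈ Subgroup.centralizer (L : Set G) →
      c ∈ (Subgroup.centralizer (Q : Set G)) ∧ ∀ r ∈ R.map (Subgroup.centralizer (Q : Set G)).subtype, r * c = c * r := fun c hc =>
    ⟨centralizer_le_centralizer le_sup_right hc, fun r hr => hc r (Subgroup.mem_sup_left hr)⟩
  let τ : Subgroup.centralizer (L : Set G) ≃* Subgroup.centralizer (R : Set (Subgroup.centralizer (Q : Set G))) :=
    { toFun := fun c => ⟨⟨c, (hCL c c.2).1⟩,
        fun r hr => Subtype.ext ((hCL c c.2).2 r ⟨r, hr, rfl⟩)⟩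
      invFun := fun c => ⟨c, by
        refine le_centralizer_iff_mem.1 (sup_le ?_ (le_centralizer_iff_mem.2 c.1.2))
        rintro _ ⟨r, hr, rfl⟩
        exact Subgroup.mem_centralizer_singleton_iff.2 (congrArg Subtype.val (c.2 r hr))⟩
      left_inv := fun _ => rfl
      right_inv := fun _ => rfl
      map_mul' := fun _ _ => rfl }
  set g := pullSet τ.symm h with hg
  have hLp : IsPGroup p L := (hR.1.1.map (Subgroup.centralizer (Q : Set G)).subtype).to_sup_of_normal_right' hQf.1.1
    (hRC.trans (centralizer_le_normalizer' Q))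
  have hcoef : ∀ z : G, ∀ hz : z ∈ (Subgroup.centralizer (Q : Set G)), (elF (Subgroup.centralizer (L : Set G)) g).coeff z =
      (elF (Subgroup.centralizer (R : Set (Subgroup.centralizer (Q : Set G)))) h).coeff ⟨z, hz⟩ := by
    intro z hz
    by_cases hzL : z ∈ Subgroup.centralizer (L : Set G)
    · rw [elF, elF, coeff_inclEl_of_mem _ _ hzL, coeff_inclEl_of_mem _ _
        (show (⟨z, hz⟩ : (Subgroup.centralizer (Q : Set G))) ∈ Subgroup.centralizer (R : Set (Subgroup.centralizer (Q : Set G))) from (τ ⟨z, hzL⟩).2),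
        coeff_blockIdem, coeff_blockIdem]
      exact blockCoeff_pullSet τ.symm h (τ ⟨z, hzL⟩)
    · rw [elF, elF, coeff_inclEl_notMem _ _ hzL, coeff_inclEl_notMem]
      exact fun h' => hzL (τ.symm ⟨⟨z, hz⟩, h'⟩).2
  have hLS : L ≤ stab Q f := sup_le (hRC.trans centralizer_le_stab) le_stab
  have hsub : Cfsg.IsNormalSubpair p M Q f L g := by
    refine ⟨hQf.1, ⟨hLp, isPBlock_pullSet hM _ hR.1.2⟩, le_sup_right,
      hLS.trans stab_le_normalizer, fun y hy => (mem_stab.1 (hLS hy)).2, fun η hη => ?_⟩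
    have h1 := hR.2.2 _ hη
    rw [brauerOmega_block] at h1
    rw [brauerOmega_elF]
    rw [omega_iso τ.symm (z := br R (blockIdem f)) fun c => by
      rw [br, br, coeff_restrEl, coeff_restrEl, coeff_blockIdem, coeff_self]
      rfl]
    exact h1
  have hxL : (x : G) ∈ Subgroup.normalizer (L : Set G) := by
    have hxR : (x : G) ∈ Subgroup.normalizer (R.map (Subgroup.centralizer (Q : Set G)).subtype : Set G) :=
      Subgroup.le_normalizer_map (Subgroup.centralizer (Q : Set G)).subtype ⟨x, hxN, rfl⟩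
    have hxQ : (x : G) ∈ Subgroup.normalizer (Q : Set G) := centralizer_le_normalizer' Q x.2
    rw [Subgroup.mem_normalizer_iff]
    have hmap : L.map (MulAut.conj (x : G)).toMonoidHom = L := by
      rw [hL, Subgroup.map_sup]
      congr 1
      · ext z
        rw [mem_map_conj_iff]
        have := Subgroup.mem_normalizer_iff.1 (inv_mem hxR) z
        rw [inv_inv] at this
        exact this.symm
      · ext z
        rw [mem_map_conj_iff]
        have := Subgroup.mem_normalizer_iff.1 (inv_mem hxQ) z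
        rw [inv_inv] at this
        exact this.symm
    intro z
    rw [show (x : G) * z * (x : G)⁻¹ ∈ L ↔ (x : G) * z * (x : G)⁻¹ ∈
      L.map (MulAut.conj (x : G)).toMonoidHom from by rw [hmap], conj_mem_cj]
  have hxst' : Cfsg.StabilizesBlock (Subgroup.centralizer (L : Set G)) g (x : G) := by
    refine (stabilizes_iff_coeff (normalizer_le_normalizer_centralizer L hxL)).2 fun z => ?_
    by_cases hz : z ∈ (Subgroup.centralizer (Q : Set G))
    · have hz' : (x : G) * z * (x : G)⁻¹ ∈ (Subgroup.centralizer (Q : Set G)) := (Subgroup.centralizer (Q : Set G)).mul_mem ((Subgroup.centralizer (Q : Set G)).mul_mem x.2 hz) ((Subgroup.centralizer (Q : Set G)).inv_mem x.2)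
      rw [hcoef z hz, hcoef _ hz']
      exact (stabilizes_iff_coeff (normalizer_le_normalizer_centralizer R hxN)).1 hxst ⟨z, hz⟩
    · rw [elF, coeff_inclEl_notMem _ _ fun h' => hz (hCL _ h').1, coeff_inclEl_notMem]
      intro h'
      refine hz ?_
      have := (Subgroup.centralizer (Q : Set G)).mul_mem ((Subgroup.centralizer (Q : Set G)).mul_mem ((Subgroup.centralizer (Q : Set G)).inv_mem x.2) (hCL _ h').1) x.2
      simpa [mul_assoc] using this
  have hxc := hnil.2 L g (block_of_normalSubpair hM hsub hQf) x hxL hxst'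
    (by rwa [Cfsg.IsPRegular, Subgroup.orderOf_coe])
  exact fun r hr => Subtype.ext (hxc r (Subgroup.mem_sup_left ⟨r, hr, rfl⟩))

/-- In a nilpotent block every subgroup is fully centralised. -/
theorem defect_local_of_nilpotent (hM : Cfsg.IsPModular p M) {B : Set (Cfsg.IrrCharacter G)}
    {P : Subgroup G} {e : Set (Cfsg.IrrCharacter (Subgroup.centralizer (P : Set G)))}
    (hmax : Cfsg.IsMaximalBrauerPair p M B P e) (hnil : Cfsg.IsNilpotentBlock p M B)
    (hle : Cfsg.SubpairLE p M Q f P e) :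
    Cfsg.IsDefectGroup p M f ((P ⊓ Subgroup.centralizer (Q : Set G)).subgroupOf
      (Subgroup.centralizer (Q : Set G))) := by
  have hS := isBlockFusion_blockSystem hM hmax
  have hin := PairNilpotent.eq_inner_of_nilpotent hM hS hnil
  rw [defect_iff_largest hM le_rfl centralizer_le_stab ((subpairLE_facts hM hle).2 hmax.1.1).2
    coeff_self hmax hle]
  intro x hx
  have hφ : Cfsg.conjHom Q x ∈ (blockSystem hM hmax).Hom Q :=
    ⟨(subpairLE_facts hM hle).1, x, fun _ => rfl, (subpairLE_facts hM hx).1, f, hle, hx⟩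
  rw [hin] at hφ
  obtain ⟨-, u, hu, hφu⟩ := hφ
  have hQ : cj Q x = cj Q u :=
    ((range_eq_cj (φ := Cfsg.conjHom Q x) (g := x) fun _ => rfl).symm).trans (range_eq_cj hφu)
  rw [cj_centralizer, hQ, ← cj_centralizer]
  refine le_of_eq ?_
  rw [← card_map_conj (P ⊓ Subgroup.centralizer (Q : Set G)) u]
  refine Nat.card_congr (MulEquiv.subgroupCongr ?_).toEquiv
  ext y
  rw [mem_map_conj_iff, Subgroup.mem_inf, Subgroup.mem_inf, mem_map_conj_iff]
  refine and_congr_left fun _ => ⟨fun h => P.mul_mem (P.mul_mem (P.inv_mem hu) h) hu, fun h => ?_⟩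
  have := P.mul_mem (P.mul_mem hu h) (P.inv_mem hu)
  simpa [mul_assoc] using this

end Cfsg.Agent.BlockCharsA.PairCorr
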