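import Mathlib
import Cfsg.Agent.BlockCharsA.CentralDefect
import Cfsg.Agent.BlockCharsA.PairCorr
import Cfsg.Agent.S0188

/-!
# Blocks of a group `D C(D)` with defect group `D`
-/

set_option linter.style.haveILetI false
set_option linter.unusedSectionVars false

namespace Cfsg.Agent.BlockCharsA.CentralDefectLift

open Cfsg.Agent.Blocks Cfsg.Agent.Characters Cfsg.Agent.BlockCharsA.Weight
open Cfsg.Agent.BlockCharsA.CentralDefect Cfsg.Agent.BlockCharsA.NormalSupport
open scoped ComplexConjugate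

variable {G : Type*} [Group G] [Finite G] {p : ℕ} {M : Ideal Cfsg.AlgInt}

/-- The product map of `D` and its centraliser. -/
def prodHom (D : Subgroup G) : D × Subgroup.centralizer (D : Set G) →* G where
  toFun yc := (yc.1 : G) * (yc.2 : G)
  map_one' := by simp
  map_mul' a b := by
    simp only [Prod.fst_mul, Prod.snd_mul, Subgroup.coe_mul]
    have h : (b.1 : G) * a.2 = a.2 * b.1 := Subgroup.mem_centralizer_iff.1 a.2.2 _ b.1.2
    rw [mul_assoc, ← mul_assoc (b.1 : G), h, mul_assoc, mul_assoc]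

/-- The condition that `θ` is the product of `ζ` and `χ` on the sections of `D`. -/
def IsProd (p : ℕ) (D : Subgroup G) (ζ : D → ℂ) (χ θ : G → ℂ) : Prop :=
  (∀ (y : D) (x : G), ¬ p ∣ orderOf x → Commute (y : G) x →
      θ ((y : G) * x) = ζ y * χ x) ∧
    ∀ z : G, (∀ y : G, Cfsg.IsPPart p z y → y ∉ D) → θ z = 0

theorem isProd_unique (hp : p.Prime) {D : Subgroup G} {ζ : D → ℂ} {χ θ θ' : G → ℂ}
    (h : IsProd p D ζ χ θ) (h' : IsProd p D ζ χ θ') : θ = θ' := by
  funext z
  by_cases hz : ∀ y : G, Cfsg.IsPPart p z y → y ∉ D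
  · rw [h.2 z hz, h'.2 z hz]
  · push Not at hz
    obtain ⟨y, ⟨x, hyx, hc, -, hx⟩, hyD⟩ := hz
    rw [← hyx, h.1 ⟨y, hyD⟩ x hx hc, h'.1 ⟨y, hyD⟩ x hx hc]

theorem members (hM : Cfsg.IsPModular p M) {D : Subgroup G} (hD : IsPGroup p D)
    (hG : D ⊔ Subgroup.centralizer (D : Set G) = ⊤) {B : Set (Cfsg.IrrCharacter G)}
    (hB : Cfsg.IsPBlock M B) (hBD : Cfsg.IsDefectGroup p M B D) {χ : Cfsg.IrrCharacter G}
    (hχ : χ ∈ B) (hχD : ∀ y ∈ D, (χ : G → ℂ) y = (χ : G → ℂ) 1) :
    (∀ η ∈ B, ∃ ζ : Cfsg.IrrCharacter D, IsProd p D (ζ : D → ℂ) (χ : G → ℂ) (η : G → ℂ)) ∧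
      ∀ ζ : Cfsg.IrrCharacter D, ∃ η ∈ B, IsProd p D (ζ : D → ℂ) (χ : G → ℂ) (η : G → ℂ) := by
  classical
  haveI := fact_prime_of_pm hM
  haveI := Fintype.ofFinite G
  haveI := Fintype.ofFinite D
  haveI hDn : D.Normal := Subgroup.normalizer_eq_top_iff.1 (top_le_iff.1
    (hG.symm.le.trans (sup_le Subgroup.le_normalizer (centralizer_le_normalizer' D))))
  haveI hCn : (Subgroup.centralizer (D : Set G)).Normal := inferInstance
  haveI := Fintype.ofFinite (Subgroup.centralizer (D : Set G))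
  set f := prodHom D
  have hf : Function.Surjective f := by
    intro g
    obtain ⟨y, hy, c, hc, hyc⟩ :=
      Subgroup.mem_sup_of_normal_right.1 (hG ▸ Subgroup.mem_top g)
    exact ⟨(⟨y, hy⟩, ⟨c, hc⟩), hyc⟩
  set Z := D.subgroupOf (Subgroup.centralizer (D : Set G)) with hZ
  have hZc : ∀ t ∈ Z, ∀ x : Subgroup.centralizer (D : Set G), Commute t x := fun t ht x =>
    Subtype.ext (x.2 _ ht)
  haveI := normal_of_central hZc
  have hZp : IsPGroup p Z := hD.comap_of_injective _ (Subgroup.subtype_injective _)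
  -- the orders
  have hker : Nat.card f.ker = Nat.card Z := by
    refine Nat.card_congr
      { toFun := fun yc => ⟨yc.1.2, ?_⟩
        invFun := fun t => ⟨(⟨((t : Subgroup.centralizer (D : Set G)) : G)⁻¹,
          D.inv_mem t.2⟩, t.1), ?_⟩
        left_inv := ?_
        right_inv := fun t => rfl }
    · have h : (yc.1.1 : G) * yc.1.2 = 1 := yc.2
      show (yc.1.2 : G) ∈ D
      rw [← inv_eq_of_mul_eq_one_right h]
      exact D.inv_mem yc.1.1.2
    · show ((t : Subgroup.centralizer (D : Set G)) : G)⁻¹ * (t : Subgroup.centralizer (D : Set G)) = 1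
      exact inv_mul_cancel _
    · intro yc
      have h : (yc.1.1 : G) * yc.1.2 = 1 := yc.2
      refine Subtype.ext (Prod.ext (Subtype.ext ?_) rfl)
      exact (eq_inv_of_mul_eq_one_left h).symm
  have hcard : (Nat.card D).factorization p +
      (Nat.card (Subgroup.centralizer (D : Set G))).factorization p =
      (Nat.card G).factorization p + (Nat.card Z).factorization p := by
    have h := factorization_card_quotient f.ker p
    rw [Nat.card_congr (QuotientGroup.quotientKerEquivOfSurjective f hf).toEquiv, hker,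
      Nat.card_prod, Nat.factorization_mul Nat.card_pos.ne' Nat.card_pos.ne',
      Finsupp.add_apply] at h
    omega
  -- the restriction of `χ`
  have hres : ∀ (y : D) (c : Subgroup.centralizer (D : Set G)),
      (χ : G → ℂ) ((y : G) * c) = (χ : G → ℂ) c := fun y c =>
    char_mul_of_eq_one (irr_isCharacter χ) (hχD _ y.2) _
  have hμirr : Cfsg.IsIrrCharacter (Subgroup.centralizer (D : Set G))
      (fun c : Subgroup.centralizer (D : Set G) => (χ : G → ℂ) c) := by
    refine isIrr_of_isCharacter_of_norm_one (isCharacter_restrict _ (irr_isCharacter χ)) ?_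
    have h1 := classInner_isIrr_self χ.2
    rw [← classInner_comp_surjective f hf, classInner_def, Fintype.sum_prod_type,
      Nat.card_prod, Nat.cast_mul] at h1
    have e : ∀ y : D, ∑ c : Subgroup.centralizer (D : Set G),
        ((χ : G → ℂ) ∘ f) (y, c) * conj (((χ : G → ℂ) ∘ f) (y, c)) =
        ∑ c : Subgroup.centralizer (D : Set G), (χ : G → ℂ) c * conj ((χ : G → ℂ) c) :=
      fun y => Finset.sum_congr rfl fun c _ => by
        show (χ : G → ℂ) ((y : G) * c) * conj ((χ : G → ℂ) ((y : G) * c)) = _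
        rw [hres]
    rw [Finset.sum_congr rfl fun y _ => e y, Finset.sum_const, Finset.card_univ,
      ← Nat.card_eq_fintype_card, nsmul_eq_mul, mul_inv] at h1
    rw [classInner_def, ← h1]
    field_simp [natCard_ne_zero (G := D)]
  set μ₀ : Cfsg.IrrCharacter (Subgroup.centralizer (D : Set G)) := ⟨_, hμirr⟩
  have hμ₀ : ∀ c : Subgroup.centralizer (D : Set G),
      (μ₀ : Subgroup.centralizer (D : Set G) → ℂ) c = (χ : G → ℂ) c := fun c => rfl
  have hμker : ∀ t ∈ Z, (μ₀ : Subgroup.centralizer (D : Set G) → ℂ) t = (μ₀ : Subgroup.centralizer (D : Set G) → ℂ) 1 := fun t ht => by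
    rw [hμ₀ t, hμ₀ 1, OneMemClass.coe_one]; exact hχD _ ht
  have hdegeq : Cfsg.charDegree (μ₀ : Subgroup.centralizer (D : Set G) → ℂ) =
      Cfsg.charDegree (χ : G → ℂ) := by
    rw [Cfsg.charDegree, Cfsg.charDegree, hμ₀, OneMemClass.coe_one]
  have hdeg : (Nat.card (Subgroup.centralizer (D : Set G))).factorization p ≤
      (Cfsg.charDegree (μ₀ : Subgroup.centralizer (D : Set G) → ℂ)).factorization p +
        (Nat.card Z).factorization p := by
    rw [hdegeq]
    have h1 := degree_factorization_eq hM hB hχ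
    have h2 : (Nat.card D).factorization p = Cfsg.blockDefect p B := by
      rw [card_defectGroup hM hB hBD, hM.1.factorization_pow, Finsupp.single_eq_same]
    have := blockDefect_le p B
    omega
  have hmax : (Nat.card (Subgroup.centralizer (D : Set G))).factorization p =
      (Cfsg.charDegree (μ₀ : Subgroup.centralizer (D : Set G) → ℂ)).factorization p +
        (Nat.card Z).factorization p := by
    refine le_antisymm hdeg ?_
    obtain ⟨φ, -, hφ, hirr⟩ := exists_deflate_quotient Z (irr_isCharacter μ₀) hμker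
    have hd : Cfsg.charDegree (μ₀ : Subgroup.centralizer (D : Set G) → ℂ) = Cfsg.charDegree φ := by
      rw [Cfsg.charDegree, Cfsg.charDegree, ← hφ 1, QuotientGroup.mk_one]
    have h3 : (Cfsg.charDegree φ).factorization p ≤ _ :=
      (Nat.factorization_le_iff_dvd (charDegree_pos ⟨φ, hirr μ₀.2⟩).ne'
        Nat.card_pos.ne').2 (char_degree_dvd_card ⟨φ, hirr μ₀.2⟩) p
    have h4 := factorization_card_quotient Z p
    rw [hd]
    omega
  set b := Cfsg.blockOf M (μ₀ : Subgroup.centralizer (D : Set G) → ℂ)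
  have hb : Cfsg.IsPBlock M b := isPBlock_blockOf M μ₀
  have hdata : Data p M b Z μ₀ := ⟨hM, hb, hZp, hZc, mem_blockOf_self hM μ₀, hμker, hdeg⟩
  have hbdef : Cfsg.blockDefect p b = (Nat.card Z).factorization p := by
    rw [card_defectGroup hM hb
        (isDefectGroup_central hM hb hZp hZc (mem_blockOf_self hM μ₀) hμker hdeg),
      hM.1.factorization_pow, Finsupp.single_eq_same]
  have hmem : ∀ μ ∈ b,
      (∀ y : Subgroup.centralizer (D : Set G), ¬ p ∣ orderOf y →
        (μ : Subgroup.centralizer (D : Set G) → ℂ) y = (χ : G → ℂ) y) ∧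
      ∀ g : Subgroup.centralizer (D : Set G), (μ : Subgroup.centralizer (D : Set G) → ℂ) g ≠ 0 →
        ∃ y t, ¬ p ∣ orderOf y ∧ t ∈ Z ∧ y * t = g := fun μ hμ => by
    refine member_eq hdata hmax hμ ?_
    have h1 := degree_factorization_eq hM hb hμ
    have := blockDefect_le p b
    omega
  -- `B` corresponds to `b`
  set z := res (Subgroup.centralizer (D : Set G)) (blockIdem B)
  have hzinv : IsInvEl z := isInvEl_res (central_blockIdem B)
  have hpush : push (Subgroup.centralizer (D : Set G)) z = blockIdem B :=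
    push_res fun g hg => by
      rw [coeff_blockIdem]
      exact blockCoeff_eq_zero hM hD le_rfl hB hg
  have hzi : IntEl M z := intEl_res (intEl_blockIdem hM hB)
  have homega : ∀ (η : Cfsg.IrrCharacter G)
      (μ : Cfsg.IrrCharacter (Subgroup.centralizer (D : Set G))),
      Cfsg.classInner (fun c : Subgroup.centralizer (D : Set G) => (η : G → ℂ) c)
        (μ : Subgroup.centralizer (D : Set G) → ℂ) ≠ 0 →
      omega (η : G → ℂ) (blockIdem B) = omega (μ : Subgroup.centralizer (D : Set G) → ℂ) z := fun η μ h => by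
    rw [← hpush]; exact omega_push_eq η μ h hzinv
  have hcon : ∀ (η : Cfsg.IrrCharacter G) (ζ : D → ℂ)
      (μ : Cfsg.IrrCharacter (Subgroup.centralizer (D : Set G))),
      ζ 1 ≠ 0 → (∀ y c, ((η : G → ℂ) ∘ f) (y, c) = ζ y * (μ : Subgroup.centralizer (D : Set G) → ℂ) c) →
      Cfsg.classInner (fun c : Subgroup.centralizer (D : Set G) => (η : G → ℂ) c)
        (μ : Subgroup.centralizer (D : Set G) → ℂ) ≠ 0 := fun η ζ μ hζ hprod => by
    rw [show (fun c : Subgroup.centralizer (D : Set G) => (η : G → ℂ) c) = ζ 1 • (μ : Subgroup.centralizer (D : Set G) → ℂ)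
      from funext fun c => by simpa [f, prodHom] using hprod 1 c, classInner_smul_left,
      classInner_isIrr_self μ.2, mul_one]
    exact hζ
  have hμ₀η : Cfsg.classInner (fun c : Subgroup.centralizer (D : Set G) => (χ : G → ℂ) c)
      (μ₀ : Subgroup.centralizer (D : Set G) → ℂ) ≠ 0 := by
    rw [show (fun c : Subgroup.centralizer (D : Set G) => (χ : G → ℂ) c) =
      (μ₀ : Subgroup.centralizer (D : Set G) → ℂ) from rfl, classInner_isIrr_self hμirr]
    exact one_ne_zero
  have hconj : ∀ g : G, conjIrr g μ₀ = μ₀ := fun g => Subtype.ext (funext fun c => by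
    rw [coe_conjIrr, CharTheory.Clifford.conjBy_apply, hμ₀, hμ₀]
    exact irr_isClassFunction χ (c : G) g)
  have hiff : ∀ (η : Cfsg.IrrCharacter G) (ζ : D → ℂ)
      (μ : Cfsg.IrrCharacter (Subgroup.centralizer (D : Set G))),
      ζ 1 ≠ 0 → (∀ y c, ((η : G → ℂ) ∘ f) (y, c) = ζ y * (μ : Subgroup.centralizer (D : Set G) → ℂ) c) →
      (η ∈ B ↔ μ ∈ b) := by
    intro η ζ μ hζ hprod
    have hη := hcon η ζ μ hζ hprod
    constructor
    · intro hηB
      obtain ⟨g, hg⟩ := constituents_conj_block hM (sameBlock_of_mem hM hB hχ hηB) hμ₀η hη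
      rw [hconj] at hg
      exact hg
    · intro hμ
      by_contra hne
      have h1 := omega_cong_of_mem hM hb (mem_blockOf_self hM μ₀) hμ
        (central_of_isInvEl hzinv) hzi
      rw [← homega χ μ₀ hμ₀η, ← homega η μ hη, omega_blockIdem_mem hχ,
        omega_blockIdem_notMem hne] at h1
      exact not_cong_zero_one hM (cong_symm hM h1)
  have hprodval : ∀ (η : Cfsg.IrrCharacter G) (ζ : D → ℂ)
      (μ : Cfsg.IrrCharacter (Subgroup.centralizer (D : Set G))), μ ∈ b →
      (∀ y c, ((η : G → ℂ) ∘ f) (y, c) = ζ y * (μ : Subgroup.centralizer (D : Set G) → ℂ) c) →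
      IsProd p D ζ (χ : G → ℂ) (η : G → ℂ) := by
    intro η ζ μ hμ hprod
    obtain ⟨h1, h2⟩ := hmem μ hμ
    refine ⟨fun y x hx _ => ?_, fun g hg => ?_⟩
    · have hxC := PairCorr.mem_centralizer_of_regular hM hD (hG ▸ Subgroup.mem_top x) hx
      have h := hprod y ⟨x, hxC⟩
      rw [h1 ⟨x, hxC⟩ (by rwa [Subgroup.orderOf_mk])] at h
      exact h
    · obtain ⟨⟨y, c⟩, rfl⟩ := hf g
      show (η : G → ℂ) (f (y, c)) = 0
      rw [show (η : G → ℂ) (f (y, c)) = ζ y * (μ : Subgroup.centralizer (D : Set G) → ℂ) c from hprod y c]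
      by_contra hne
      obtain ⟨x, t, hx, ht, hxt⟩ := h2 c (right_ne_zero_of_mul hne)
      refine hg ((y : G) * (t : Subgroup.centralizer (D : Set G))) ?_ (D.mul_mem y.2 ht)
      have hyx : Commute (y : G) (x : G) := x.2 _ y.2
      have htx : Commute (t : G) (x : G) := congrArg Subtype.val (hZc t ht x).eq
      refine ⟨(x : G), ?_, hyx.mul_left htx, ?_, by rwa [Subgroup.orderOf_coe]⟩
      · show (y : G) * t * x = (y : G) * c
        rw [← hxt, Subgroup.coe_mul, mul_assoc, htx.eq]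
      · obtain ⟨k, hk⟩ := IsPGroup.iff_orderOf.1 hD
          ⟨(y : G) * (t : Subgroup.centralizer (D : Set G)), D.mul_mem y.2 ht⟩
        exact ⟨k, by rw [← hk, Subgroup.orderOf_mk]⟩
  constructor
  · intro η hη
    obtain ⟨φ, ψ, hφ, hψ, heq⟩ := (S0188.result ((η : G → ℂ) ∘ f)).1
      (isIrrCharacter_comp_surjective f hf η.2)
    have hprod : ∀ y c, ((η : G → ℂ) ∘ f) (y, c) = φ y * ψ c := fun y c => congrFun heq (y, c)
    exact ⟨⟨φ, hφ⟩, hprodval η φ ⟨ψ, hψ⟩
      ((hiff η φ ⟨ψ, hψ⟩ (irr_one_ne_zero hφ) hprod).1 hη) hprod⟩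
  · intro ζ
    have hcD : ∀ t : Z, ∀ x : D, Commute (⟨((t : Subgroup.centralizer (D : Set G)) : G), t.2⟩ : D) x :=
      fun t x => Subtype.ext ((t : Subgroup.centralizer (D : Set G)).2 _ x.2).symm
    set lam : Z → ℂ := fun t =>
      (ζ : D → ℂ) ⟨((t : Subgroup.centralizer (D : Set G)) : G), t.2⟩ / (ζ : D → ℂ) 1 with hlam
    obtain ⟨μ, hμ, hμt⟩ := exists_scalar hdata lam (fun s t => by
      simp only [lam]
      rw [show (⟨((s * t : Z) : Subgroup.centralizer (D : Set G)), (s * t : Z).2⟩ : D) =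
        (⟨((s : Subgroup.centralizer (D : Set G)) : G), s.2⟩ : D) *
          ⟨((t : Subgroup.centralizer (D : Set G)) : G), t.2⟩ from rfl,
        value_mul_central ζ (hcD s)]
      ring) (by
      simp only [lam]
      exact div_self (irr_one_ne_zero ζ.2))
    have hirr := (S0188.result (fun yc : D × Subgroup.centralizer (D : Set G) =>
      (ζ : D → ℂ) yc.1 * (μ : Subgroup.centralizer (D : Set G) → ℂ) yc.2)).2 ⟨_, _, ζ.2, μ.2, rfl⟩
    obtain ⟨η, -, hη, hηirr⟩ := exists_deflate f hf (isCharacter_of_isIrr hirr) (fun yc hyc => by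
      have h : (yc.1 : G) * yc.2 = 1 := hyc
      have hc : (yc.2 : G) ∈ D := by
        rw [← inv_eq_of_mul_eq_one_right h]; exact D.inv_mem yc.1.2
      have hy : yc.1 = (⟨(yc.2 : G), hc⟩ : D)⁻¹ :=
        Subtype.ext (eq_inv_of_mul_eq_one_left h)
      simp only [Prod.fst_one, Prod.snd_one]
      rw [hμt ⟨yc.2, hc⟩, hlam]
      simp only
      rw [hy]
      have h2 := value_mul_central ζ (hcD ⟨yc.2, hc⟩) (⟨(yc.2 : G), hc⟩ : D)⁻¹
      rw [mul_inv_cancel] at h2
      linear_combination -((μ : Subgroup.centralizer (D : Set G) → ℂ) 1) * h2)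
    have hprod : ∀ y c, ((η ∘ f) (y, c)) = (ζ : D → ℂ) y * (μ : Subgroup.centralizer (D : Set G) → ℂ) c := fun y c => by
      rw [hη]
    exact ⟨⟨η, hηirr hirr⟩, (hiff _ _ μ (irr_one_ne_zero ζ.2) hprod).2 hμ,
      hprodval ⟨η, hηirr hirr⟩ _ μ hμ hprod⟩

end Cfsg.Agent.BlockCharsA.CentralDefectLift
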