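import Mathlib
import Cfsg.Agent.Lib.Blocks.CentralDefect
import Cfsg.Agent.Lib.CharTheory.Clifford
import Cfsg.Agent.Lib.CharTheory.Basics

/-!
Groups in which every nontrivial element of a Sylow subgroup `P` has the centralizer of `P`:
a nonprincipal irreducible character of degree `x` with `x ^ 2 + 1 < |P|` is linear unless a proper
normal subgroup contains `P`.
-/

set_option autoImplicit false
set_option linter.style.haveILetI false

namespace Cfsg.Agent.BlockCharsA.CentralizerStar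

open Cfsg.Agent.Characters Cfsg.Agent.CharTheory
open scoped ComplexConjugate

universe u

section General

variable {G : Type u} [Group G] [Fintype G]

/-- The multiplicities in a character are natural, so a vanishing subgroup sum passes to the
constituents. -/
theorem sum_eq_zero_of_constituent (S : Subgroup G) [Fintype S] {Φ ψ : G → ℂ}
    (hΦ : Cfsg.IsCharacter G Φ) (hψ : Cfsg.IsIrrCharacter G ψ)
    (h : Cfsg.classInner Φ ψ ≠ 0) (h0 : ∑ y : S, Φ y = 0) : ∑ y : S, ψ y = 0 := by
  classical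
  haveI := Fintype.ofFinite (Cfsg.IrrCharacter G)
  choose n hn using fun χ : Cfsg.IrrCharacter G => classInner_char_nat hΦ (irr_isCharacter χ)
  choose k hk using fun χ : Cfsg.IrrCharacter G =>
    classInner_char_nat (isCharacter_restrict S (irr_isCharacter χ)) (isCharacter_one (G := S))
  have hs : ∀ χ : Cfsg.IrrCharacter G, ∑ y : S, (χ : G → ℂ) y = (Nat.card S : ℂ) * k χ := by
    intro χ
    rw [← hk χ, classInner_def, mul_inv_cancel_left₀ natCard_ne_zero]
    simp
  have hexp : ∑ y : S, Φ y = (Nat.card S : ℂ) * ((∑ χ, n χ * k χ : ℕ) : ℂ) := by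
    rw [classFun_eq_sum (char_isClassFunction hΦ)]
    simp only [hn, Finset.sum_apply, Pi.smul_apply, smul_eq_mul]
    rw [Finset.sum_comm, Nat.cast_sum, Finset.mul_sum]
    refine Finset.sum_congr rfl fun χ _ => ?_
    rw [← Finset.mul_sum, hs, Nat.cast_mul]
    ring
  rw [hexp, mul_eq_zero] at h0
  have h1 : ∑ χ, n χ * k χ = 0 := by exact_mod_cast h0.resolve_left natCard_ne_zero
  have h2 := (Finset.sum_eq_zero_iff.mp h1) ⟨ψ, hψ⟩ (Finset.mem_univ _)
  rcases mul_eq_zero.mp h2 with h3 | h3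
  · exact absurd ((hn ⟨ψ, hψ⟩).trans (by rw [h3, Nat.cast_zero])) h
  · rw [show ∑ y : S, ψ y = _ from hs ⟨ψ, hψ⟩, h3, Nat.cast_zero, mul_zero]

/-- A virtual character of norm two vanishing at `1`. -/
theorem norm_two {Φ : G → ℂ} (hcl : Cfsg.IsClassFunction G Φ)
    (hint : ∀ ψ : Cfsg.IrrCharacter G, ∃ v : ℤ, Cfsg.classInner Φ (ψ : G → ℂ) = (v : ℂ))
    (h2 : Cfsg.classInner Φ Φ = 2) (h1 : Φ 1 = 0) {a : Cfsg.IrrCharacter G}
    (ha : Cfsg.classInner Φ (a : G → ℂ) ≠ 0) :
    ∃ b : Cfsg.IrrCharacter G, b ≠ a ∧ Cfsg.classInner Φ (b : G → ℂ) ≠ 0 ∧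
      (a : G → ℂ) 1 = (b : G → ℂ) 1 ∧
      Φ = Cfsg.classInner Φ (a : G → ℂ) • ((a : G → ℂ) - (b : G → ℂ)) ∧
      ∀ c : Cfsg.IrrCharacter G, Cfsg.classInner Φ (c : G → ℂ) ≠ 0 → c = a ∨ c = b := by
  classical
  haveI := Fintype.ofFinite (Cfsg.IrrCharacter G)
  choose v hv using hint
  have hsum : ∑ χ, v χ * v χ = 2 := by
    have := classInner_eq_sum Φ hcl
    rw [h2] at this
    simp only [fun ψ : Cfsg.IrrCharacter G => classInner_conj_symm Φ (ψ : G → ℂ), hv,
      map_intCast] at this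
    exact_mod_cast this.symm
  have hva : v a ≠ 0 := fun h => ha (by rw [hv, h, Int.cast_zero])
  have ha1 : v a * v a = 1 := by
    have hle : v a * v a ≤ 2 := hsum ▸ Finset.single_le_sum (f := fun χ => v χ * v χ)
      (fun χ _ => mul_self_nonneg _) (Finset.mem_univ a)
    have h3 : v a < 2 := by nlinarith
    have h4 : -2 < v a := by nlinarith
    obtain h | h | h : v a = -1 ∨ v a = 0 ∨ v a = 1 := by omega
    · rw [h]; ring
    · exact absurd h hva
    · rw [h]; ring
  rw [← Finset.add_sum_erase _ _ (Finset.mem_univ a), ha1] at hsum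
  have hrest : ∑ χ ∈ Finset.univ.erase a, v χ * v χ = 1 := by omega
  obtain ⟨b, hb, hvb⟩ : ∃ b ∈ Finset.univ.erase a, v b ≠ 0 := by
    by_contra hh
    push Not at hh
    rw [Finset.sum_eq_zero fun χ hχ => by rw [hh χ hχ, mul_zero]] at hrest
    exact zero_ne_one hrest
  rw [← Finset.add_sum_erase _ _ hb] at hrest
  have hnn : 0 ≤ ∑ χ ∈ (Finset.univ.erase a).erase b, v χ * v χ :=
    Finset.sum_nonneg fun χ _ => mul_self_nonneg _
  have hvb1 : v b * v b = 1 := by
    have : 0 < v b * v b := mul_self_pos.mpr hvb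
    omega
  have hothers : ∀ χ, χ ≠ a → χ ≠ b → v χ = 0 := by
    intro χ h3 h4
    have h5 : ∑ χ ∈ (Finset.univ.erase a).erase b, v χ * v χ = 0 := by omega
    exact mul_self_eq_zero.mp ((Finset.sum_eq_zero_iff_of_nonneg
      fun χ _ => mul_self_nonneg (v χ)).mp h5 χ (by simp [h3, h4]))
  have hba : b ≠ a := (Finset.mem_erase.mp hb).1
  have hexp : Φ = (v a : ℂ) • (a : G → ℂ) + (v b : ℂ) • (b : G → ℂ) := by
    conv_lhs => rw [classFun_eq_sum hcl]
    simp only [hv]
    rw [← Finset.sum_pair hba.symm (f := fun χ : Cfsg.IrrCharacter G => (v χ : ℂ) • (χ : G → ℂ))]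
    refine (Finset.sum_subset (Finset.subset_univ _) fun χ _ hχ => ?_).symm
    simp only [Finset.mem_insert, Finset.mem_singleton, not_or] at hχ
    rw [hothers χ hχ.1 hχ.2, Int.cast_zero, zero_smul]
  obtain ⟨da, hda0, hda⟩ := irr_one_pos a.2
  obtain ⟨db, hdb0, hdb⟩ := irr_one_pos b.2
  have hdeg : v a * da + v b * db = 0 := by
    have := congrFun hexp 1
    simp only [h1, Pi.add_apply, Pi.smul_apply, smul_eq_mul, hda, hdb] at this
    exact_mod_cast this.symm
  have hab : v b = -v a := by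
    rcases mul_self_eq_one_iff.mp ha1 with h | h <;>
      rcases mul_self_eq_one_iff.mp hvb1 with h' | h' <;> rw [h, h'] at hdeg ⊢ <;> simp <;> omega
  have hdd : (a : G → ℂ) 1 = (b : G → ℂ) 1 := by
    rw [hab, neg_mul, ← sub_eq_add_neg, ← mul_sub] at hdeg
    have : (da : ℤ) = db := sub_eq_zero.mp ((mul_eq_zero.mp hdeg).resolve_left hva)
    rw [hda, hdb]
    exact_mod_cast this
  refine ⟨b, hba, fun h => hvb (by rw [hv] at h; exact_mod_cast h), hdd, ?_, fun c hc => ?_⟩
  · rw [hv a, hexp, hab, Int.cast_neg, smul_sub, neg_smul, sub_eq_add_neg]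
  · by_contra hcc
    push Not at hcc
    exact hc (by rw [hv, hothers c hcc.1 hcc.2, Int.cast_zero])

end General

section Star

variable {G : Type u} [Group G] [Fintype G] {P : Subgroup G} {j : ℕ}

local notation "C" => Subgroup.centralizer (P : Set G)

/-- The hypotheses: every nontrivial element of `P` has centralizer `C`, and the `j`-th power is
the projection of `C` onto `P`. -/
structure Setting (P : Subgroup G) (j : ℕ) : Prop where
  star : ∀ y ∈ P, y ≠ 1 → Subgroup.centralizer ({y} : Set G) = Subgroup.centralizer (P : Set G)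
  le : P ≤ Subgroup.centralizer (P : Set G)
  pow_mem : ∀ c ∈ Subgroup.centralizer (P : Set G), c ^ j ∈ P
  pow_eq : ∀ y ∈ P, y ^ j = y
  pow_mul : ∀ c ∈ Subgroup.centralizer (P : Set G), ∀ d ∈ Subgroup.centralizer (P : Set G),
    (c * d) ^ j = c ^ j * d ^ j

/-- The projection of `C` onto `P`. -/
def proj (S : Setting P j) : C →* P where
  toFun c := ⟨(c : G) ^ j, S.pow_mem _ c.2⟩
  map_one' := Subtype.ext (by simp)
  map_mul' c d := Subtype.ext (S.pow_mul _ c.2 _ d.2)

variable (S : Setting P j)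
include S

omit [Fintype G] in
theorem comm {y z : G} (hy : y ∈ P) (hz : z ∈ P) : y * z = z * y :=
  (Subgroup.mem_centralizer_iff.mp (S.le hz)) y hy

omit [Fintype G] in
theorem mem_normalizer_of_conj {c x : G} (hc : c ∈ C) (hx : x⁻¹ * c * x ∈ C)
    (h : (x⁻¹ * c * x) ^ j ≠ 1) :
    x ∈ Subgroup.normalizer (P : Set G) ∧ c ^ j ≠ 1 := by
  have hconj : (x⁻¹ * c * x) ^ j = x⁻¹ * c ^ j * x := by
    have h' := conj_pow (i := j) (a := x⁻¹) (b := c)
    simpa using h'
  have hne : c ^ j ≠ 1 := fun h0 => h (by rw [hconj, h0, mul_one, inv_mul_cancel])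
  have h1 := S.pow_mem c hc
  have h2 := S.pow_mem _ hx
  rw [hconj] at h h2
  have e1 := S.star _ h1 hne
  have e2 := S.star _ h2 h
  -- conjugation by `x` maps `C` to itself
  have key : ∀ d : G, d ∈ C ↔ x⁻¹ * d * x ∈ C := by
    intro d
    conv_lhs => rw [← e1]
    conv_rhs => rw [← e2]
    rw [Subgroup.mem_centralizer_singleton_iff, Subgroup.mem_centralizer_singleton_iff]
    constructor <;> intro hd
    · calc x⁻¹ * d * x * (x⁻¹ * c ^ j * x) = x⁻¹ * (d * c ^ j) * x := by group
        _ = x⁻¹ * (c ^ j * d) * x := by rw [hd]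
        _ = _ := by group
    · have : x⁻¹ * (d * c ^ j) * x = x⁻¹ * (c ^ j * d) * x := by
        calc x⁻¹ * (d * c ^ j) * x = x⁻¹ * d * x * (x⁻¹ * c ^ j * x) := by group
          _ = x⁻¹ * c ^ j * x * (x⁻¹ * d * x) := hd
          _ = _ := by group
      exact mul_left_cancel (mul_right_cancel this)
  refine ⟨?_, hne⟩
  rw [← inv_mem_iff, Subgroup.mem_normalizer_iff]
  intro y
  rw [inv_inv]
  constructor
  · intro hy
    have hC : x⁻¹ * y * x ∈ C := (key y).mp (S.le hy)
    have := S.pow_mem _ hC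
    have he : (x⁻¹ * y * x) ^ j = x⁻¹ * y ^ j * x := by
      have h' := conj_pow (i := j) (a := x⁻¹) (b := y)
      simpa using h'
    rwa [he, S.pow_eq y hy] at this
  · intro hy
    have hC : y ∈ C := (key y).mpr (S.le hy)
    have he : (x⁻¹ * y * x) ^ j = x⁻¹ * y ^ j * x := by
      have h' := conj_pow (i := j) (a := x⁻¹) (b := y)
      simpa using h'
    rw [S.pow_eq _ hy] at he
    have : y ^ j = y := mul_left_cancel (mul_right_cancel he.symm)
    rw [← this]
    exact S.pow_mem _ hC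

omit [Fintype G] S in
theorem normalizer_mem_iff {x : G} (hx : x ∈ Subgroup.normalizer (P : Set G)) (y : G) :
    y ∈ P ↔ x⁻¹ * y * x ∈ P := by
  have := Subgroup.mem_normalizer_iff.mp (inv_mem hx) y
  simpa using this

omit [Fintype G] S in
theorem conj_mem {x : G} (hx : x ∈ Subgroup.normalizer (P : Set G)) {c : G} (hc : c ∈ C) :
    x⁻¹ * c * x ∈ C := by
  rw [Subgroup.mem_centralizer_iff] at hc ⊢
  intro y hy
  have h2 : x * y * x⁻¹ ∈ P := (Subgroup.mem_normalizer_iff.mp hx y).mp hy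
  calc y * (x⁻¹ * c * x) = x⁻¹ * ((x * y * x⁻¹) * c) * x := by group
    _ = x⁻¹ * (c * (x * y * x⁻¹)) * x := by rw [hc _ h2]
    _ = _ := by group

omit [Fintype G] S in
theorem le_normalizer : C ≤ Subgroup.normalizer (P : Set G) :=
  Subgroup.centralizer_le_normalizer _

/-- Conjugate of a function on `C`. -/
noncomputable def tw (x : G) (θ : C → ℂ) : C → ℂ := fun c =>
  Cfsg.extendByZero C θ (x⁻¹ * c * x)

omit [Fintype G] in
theorem tw_apply {x : G} (hx : x ∈ Subgroup.normalizer (P : Set G)) (θ : C → ℂ) (c : C) :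
    tw (P := P) x θ c = θ ⟨x⁻¹ * c * x, conj_mem hx c.2⟩ :=
  IndBasic.extendByZero_of_mem _ _ _

omit [Fintype G] in
theorem tw_of_mem {x : G} (hx : x ∈ C) {θ : C → ℂ} (hθ : Cfsg.IsClassFunction C θ) :
    tw (P := P) x θ = θ := by
  funext c
  rw [tw_apply S (le_normalizer hx), ← hθ c ⟨x, hx⟩⁻¹]
  congr 1
  exact Subtype.ext (by simp)

/-- Conjugation by an element of the normalizer as an automorphism of `C`. -/
def conjEquiv {x : G} (hx : x ∈ Subgroup.normalizer (P : Set G)) : C ≃* C where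
  toFun c := ⟨x⁻¹ * c * x, conj_mem hx c.2⟩
  invFun c := ⟨x * c * x⁻¹, by simpa using conj_mem (inv_mem hx) c.2⟩
  left_inv c := Subtype.ext (by simp [mul_assoc])
  right_inv c := Subtype.ext (by simp [mul_assoc])
  map_mul' c d := Subtype.ext (by simp [mul_assoc])

omit [Fintype G] in
theorem tw_eq_comp {x : G} (hx : x ∈ Subgroup.normalizer (P : Set G)) (θ : C → ℂ) :
    tw (P := P) x θ = θ ∘ conjEquiv hx := funext fun c => tw_apply S hx θ c

theorem isIrr_tw {x : G} (hx : x ∈ Subgroup.normalizer (P : Set G)) {θ : C → ℂ}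
    (hθ : Cfsg.IsIrrCharacter C θ) : Cfsg.IsIrrCharacter C (tw (P := P) x θ) := by
  rw [tw_eq_comp S hx]
  exact (isIrrCharacter_comp_mulEquiv _).2 hθ

theorem inner_tw {x : G} (hx : x ∈ Subgroup.normalizer (P : Set G)) [Fintype C]
    {Φ : G → ℂ} (hΦ : Cfsg.IsClassFunction G Φ) (θ : C → ℂ) :
    Cfsg.classInner (fun c : C => Φ c) (tw (P := P) x θ) =
      Cfsg.classInner (fun c : C => Φ c) θ := by
  have h : (fun c : C => Φ c) = (fun c : C => Φ c) ∘ conjEquiv hx := by
    funext c
    show Φ c = Φ (x⁻¹ * c * x)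
    have := hΦ (c : G) x⁻¹
    simpa using this.symm
  conv_lhs => rw [h, tw_eq_comp S hx]
  exact Basics.classInner_comp_equiv (conjEquiv hx) _ _

omit [Fintype G] in
theorem proj_conj {x : G} (hx : x ∈ Subgroup.normalizer (P : Set G)) (c : C) :
    ((proj S (conjEquiv hx c) : P) : G) = x⁻¹ * (proj S c : P) * x := by
  have h' := conj_pow (i := j) (a := x⁻¹) (b := (c : G))
  show (x⁻¹ * (c : G) * x) ^ j = x⁻¹ * (c : G) ^ j * x
  simpa using h'

omit [Fintype G] in
theorem proj_coe {y : G} (hy : y ∈ P) : proj S ⟨y, S.le hy⟩ = ⟨y, hy⟩ :=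
  Subtype.ext (S.pow_eq y hy)

/-- Functions vanishing off the elements with nontrivial projection induce through the
normalizer. -/
theorem indFun_coe [Fintype (Subgroup.normalizer (P : Set G))] {θ : C → ℂ}
    (hθ : ∀ c : C, proj S c = 1 → θ c = 0) (c : C) :
    (Nat.card C : ℂ) * Cfsg.indFun C θ c =
      ∑ x : Subgroup.normalizer (P : Set G), tw (P := P) (x : G) θ c := by
  rw [IndBasic.card_mul_indFun]
  symm
  refine Fintype.sum_of_injective (fun x : Subgroup.normalizer (P : Set G) => (x : G))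
    Subtype.val_injective _ _ ?_ fun x => rfl
  intro x hx
  by_cases hm : x⁻¹ * (c : G) * x ∈ C
  · rw [IndBasic.extendByZero_of_mem _ _ hm]
    refine hθ _ (Subtype.ext ?_)
    by_contra h
    exact hx ⟨⟨x, (mem_normalizer_of_conj S c.2 hm h).1⟩, rfl⟩
  · exact IndBasic.extendByZero_of_notMem _ _ hm

theorem indFun_eq_zero_of_proj {θ : C → ℂ} (hθ : ∀ c : C, proj S c = 1 → θ c = 0) {c : C}
    (hc : proj S c = 1) : Cfsg.indFun C θ c = 0 := by
  haveI := Fintype.ofFinite (Subgroup.normalizer (P : Set G))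
  haveI := Fintype.ofFinite C
  apply mul_left_cancel₀ (natCard_ne_zero (G := C))
  rw [indFun_coe S hθ c, mul_zero]
  refine Finset.sum_eq_zero fun x _ => ?_
  rw [tw_apply S x.2]
  refine hθ _ (Subtype.ext ?_)
  have := proj_conj S x.2 c
  rw [hc, OneMemClass.coe_one, mul_one, inv_mul_cancel] at this
  exact this

/-- The twist of a character of `C` by a linear character of `P`. -/
noncomputable def twist (η : C → ℂ) (ν : P →* ℂˣ) : C → ℂ :=
  fun c => (ν (proj S c) : ℂ) * η c

theorem isIrr_twist {η : C → ℂ} (hη : Cfsg.IsIrrCharacter C η) (ν : P →* ℂˣ) :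
    Cfsg.IsIrrCharacter C (twist S η ν) :=
  isIrrCharacter_mul_linear hη (ν.comp (proj S))

omit [Fintype G] in
theorem twist_coe {η : C → ℂ} (h0 : ∀ y : P, η ⟨y, S.le y.2⟩ = η 1) (ν : P →* ℂˣ) (y : P) :
    twist S η ν ⟨y, S.le y.2⟩ = (ν y : ℂ) * η 1 := by
  rw [twist, proj_coe S y.2, h0]

omit [Fintype G] in
theorem twist_eq_iff {η : C → ℂ} (h0 : ∀ y : P, η ⟨y, S.le y.2⟩ = η 1) (hne : η 1 ≠ 0)
    {ν ν' : P →* ℂˣ} : twist S η ν = twist S η ν' ↔ ν = ν' := by
  refine ⟨fun h => MonoidHom.ext fun y => Units.ext ?_, fun h => by rw [h]⟩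
  have := congrFun h ⟨y, S.le y.2⟩
  rw [twist_coe S h0, twist_coe S h0] at this
  exact mul_right_cancel₀ hne this

/-- Only `C` fixes a character of `C` with nontrivial restriction to `P`. -/
theorem mem_of_tw_eq {η : C → ℂ} (h0 : ∀ y : P, η ⟨y, S.le y.2⟩ = η 1) (hne : η 1 ≠ 0)
    {ν : P →* ℂˣ} (hν : ν ≠ 1) {x : G} (hx : x ∈ Subgroup.normalizer (P : Set G))
    (h : tw (P := P) x (twist S η ν) = twist S η ν) : x ∈ C := by
  by_contra hxC
  refine hν (MonoidHom.ext fun z => ?_)
  have hmem : ∀ y : P, x⁻¹ * (y : G) * x ∈ P := fun y => (normalizer_mem_iff hx _).mp y.2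
  have hval : ∀ y : P, ν ⟨_, hmem y⟩ = ν y := by
    intro y
    have h' := congrFun h ⟨y, S.le y.2⟩
    rw [tw_apply S hx] at h'
    have h1 := twist_coe S h0 ν ⟨_, hmem y⟩
    rw [twist_coe S h0 ν y, show twist S η ν ⟨x⁻¹ * ((⟨(y : G), S.le y.2⟩ : C) : G) * x, _⟩ = _
      from h1] at h'
    exact Units.ext (mul_right_cancel₀ hne h')
  let f : P →* P :=
    { toFun := fun y => y⁻¹ * ⟨_, hmem y⟩
      map_one' := Subtype.ext (by simp)
      map_mul' := fun y w => by
        letI : CommGroup P :=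
          { (inferInstance : Group P) with mul_comm := fun a b => Subtype.ext (comm S a.2 b.2) }
        have : (⟨_, hmem (y * w)⟩ : P) = ⟨_, hmem y⟩ * ⟨_, hmem w⟩ :=
          Subtype.ext (by simp [mul_assoc])
        rw [this, mul_inv_rev, mul_comm w⁻¹ y⁻¹, mul_mul_mul_comm] }
  have hf : Function.Injective f := by
    rw [injective_iff_map_eq_one]
    intro y hy
    by_contra hy1
    have hfix : x⁻¹ * (y : G) * x = y := congrArg Subtype.val (inv_mul_eq_one.mp hy).symm
    refine hxC ?_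
    rw [← S.star y y.2 fun h => hy1 (Subtype.ext h), Subgroup.mem_centralizer_singleton_iff]
    calc x * (y : G) = x * (x⁻¹ * y * x) := by rw [hfix]
      _ = y * x := by group
  obtain ⟨y, rfl⟩ := (Finite.injective_iff_surjective.mp hf) z
  show ν (y⁻¹ * ⟨_, hmem y⟩) = 1
  rw [map_mul, hval, map_inv, inv_mul_cancel]

theorem tw_twist_proj {η : C → ℂ} (h0 : ∀ y : P, η ⟨y, S.le y.2⟩ = η 1) (hne : η 1 ≠ 0)
    {x : G} (hx : x ∈ Subgroup.normalizer (P : Set G)) {ν ν' : P →* ℂˣ}
    (h : tw (P := P) x (twist S η ν) = twist S η ν') (y : P) :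
    ν ⟨x⁻¹ * (y : G) * x, (normalizer_mem_iff hx _).mp y.2⟩ = ν' y := by
  have h' := congrFun h ⟨y, S.le y.2⟩
  rw [tw_apply S hx, twist_coe S h0 ν' y] at h'
  have h1 := twist_coe S h0 ν ⟨x⁻¹ * (y : G) * x, (normalizer_mem_iff hx _).mp y.2⟩
  exact Units.ext (mul_right_cancel₀ hne (h1.symm.trans h'))

/-- A difference of two inequivalent twists induces a virtual character of norm two. -/
theorem induced_pair {η : C → ℂ} (hη : Cfsg.IsIrrCharacter C η)
    (h0 : ∀ y : P, η ⟨y, S.le y.2⟩ = η 1) {ν ν' : P →* ℂˣ} (hν : ν ≠ 1) (hν' : ν' ≠ 1)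
    (hsep : ∀ x ∈ Subgroup.normalizer (P : Set G),
      tw (P := P) x (twist S η ν) ≠ twist S η ν') [Fintype P] :
    Cfsg.IsClassFunction G (Cfsg.indFun C (twist S η ν - twist S η ν')) ∧
    (∀ ψ : Cfsg.IrrCharacter G, ∃ v : ℤ,
      Cfsg.classInner (Cfsg.indFun C (twist S η ν - twist S η ν')) (ψ : G → ℂ) = (v : ℂ)) ∧
    Cfsg.classInner (Cfsg.indFun C (twist S η ν - twist S η ν'))
      (Cfsg.indFun C (twist S η ν - twist S η ν')) = 2 ∧
    Cfsg.indFun C (twist S η ν - twist S η ν') 1 = 0 ∧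
    (∀ c : C, proj S c = 1 → Cfsg.indFun C (twist S η ν - twist S η ν') c = 0) ∧
    ∑ y : P, Cfsg.indFun C (twist S η ν - twist S η ν') y = 0 := by
  classical
  haveI := Fintype.ofFinite C
  haveI := Fintype.ofFinite (Subgroup.normalizer (P : Set G))
  have hne : η 1 ≠ 0 := irr_one_ne_zero hη
  have h1 := isIrr_twist S hη ν
  have h2 := isIrr_twist S hη ν'
  set θ := twist S η ν - twist S η ν' with hθdef
  have hvan : ∀ c : C, proj S c = 1 → θ c = 0 := fun c hc => by
    simp [hθdef, twist, hc]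
  have hnu : ν ≠ ν' := by
    intro h
    exact hsep 1 (one_mem _) (by
      rw [tw_of_mem S (one_mem _) (char_isClassFunction (isCharacter_of_isIrr h1)), h])
  refine ⟨indFun_isClassFunction _ _, fun ψ => ?_, ?_, ?_,
    fun c hc => indFun_eq_zero_of_proj S hvan hc, ?_⟩
  · obtain ⟨a, ha⟩ := classInner_char_nat (isCharacter_restrict C (irr_isCharacter ψ))
      (isCharacter_of_isIrr h1)
    obtain ⟨b, hb⟩ := classInner_char_nat (isCharacter_restrict C (irr_isCharacter ψ))
      (isCharacter_of_isIrr h2)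
    refine ⟨(a : ℤ) - b, ?_⟩
    rw [frobenius_reciprocity C θ (irr_isClassFunction ψ), hθdef, classInner_sub_left,
      classInner_conj_symm _ (twist S η ν), classInner_conj_symm _ (twist S η ν'), ha, hb]
    simp
  · rw [frobenius_reciprocity C θ (indFun_isClassFunction _ _)]
    have hres : (fun c : C => Cfsg.indFun C θ c) = (Nat.card C : ℂ)⁻¹ •
        ∑ x : Subgroup.normalizer (P : Set G), tw (P := P) (x : G) θ := by
      funext c
      simp only [Pi.smul_apply, Finset.sum_apply, smul_eq_mul]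
      rw [← indFun_coe S hvan c, inv_mul_cancel_left₀ natCard_ne_zero]
    rw [hres, classInner_smul_right, classInner_sum_right]
    have hterm : ∀ x : Subgroup.normalizer (P : Set G),
        Cfsg.classInner θ (tw (P := P) (x : G) θ) = if (x : G) ∈ C then 2 else 0 := by
      intro x
      have htw : tw (P := P) (x : G) θ =
          tw (P := P) (x : G) (twist S η ν) - tw (P := P) (x : G) (twist S η ν') := by
        simp only [tw_eq_comp S x.2]
        rfl
      have t1 := isIrr_tw S x.2 h1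
      have t2 := isIrr_tw S x.2 h2
      have c12 : Cfsg.classInner (twist S η ν) (tw (P := P) (x : G) (twist S η ν')) = 0 := by
        refine classInner_isIrr_ne h1 t2 fun h => ?_
        refine hsep _ (inv_mem x.2) ?_
        rw [h, tw_eq_comp S (inv_mem x.2), tw_eq_comp S x.2]
        funext c
        exact congrArg (twist S η ν') (Subtype.ext (by simp [conjEquiv, mul_assoc]))
      have c21 : Cfsg.classInner (twist S η ν') (tw (P := P) (x : G) (twist S η ν)) = 0 :=
        classInner_isIrr_ne h2 t1 fun h => hsep _ x.2 h.symm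
      rw [htw, hθdef, classInner_sub_left, classInner_sub_right, classInner_sub_right, c12, c21]
      by_cases hx : (x : G) ∈ C
      · rw [if_pos hx, tw_of_mem S hx (char_isClassFunction (isCharacter_of_isIrr h1)),
          tw_of_mem S hx (char_isClassFunction (isCharacter_of_isIrr h2)),
          classInner_isIrr_self h1, classInner_isIrr_self h2]
        norm_num
      · rw [if_neg hx, classInner_isIrr_ne h1 t1 fun h => hx (mem_of_tw_eq S h0 hne hν x.2 h.symm),
          classInner_isIrr_ne h2 t2 fun h => hx (mem_of_tw_eq S h0 hne hν' x.2 h.symm)]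
        norm_num
    rw [Finset.sum_congr rfl fun x _ => hterm x, ← Finset.sum_filter, Finset.sum_const,
      nsmul_eq_mul, map_inv₀, Complex.conj_natCast, ← mul_assoc, ← Fintype.card_subtype,
      ← Nat.card_eq_fintype_card]
    rw [Nat.card_congr (Equiv.subtypeSubtypeEquivSubtype
      (fun {x} (hx : x ∈ C) => le_normalizer hx))]
    rw [inv_mul_cancel₀ natCard_ne_zero, one_mul]
  · rw [indFun_one]
    simp [hθdef, twist]
  · apply mul_left_cancel₀ (natCard_ne_zero (G := C))
    rw [mul_zero, Finset.mul_sum, Finset.sum_congr rfl fun (y : P) _ =>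
      indFun_coe S hvan ⟨y, S.le y.2⟩, Finset.sum_comm]
    refine Finset.sum_eq_zero fun x _ => ?_
    have hrei : ∑ y : P, tw (P := P) (x : G) θ ⟨y, S.le y.2⟩ = ∑ y : P, θ ⟨y, S.le y.2⟩ := by
      refine Fintype.sum_equiv
        { toFun := fun y : P => ⟨(x : G)⁻¹ * y * x, (normalizer_mem_iff x.2 _).mp y.2⟩
          invFun := fun y : P => ⟨(x : G) * y * (x : G)⁻¹,
            (normalizer_mem_iff x.2 _).mpr (by simpa [mul_assoc] using y.2)⟩
          left_inv := fun y => Subtype.ext (by simp [mul_assoc])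
          right_inv := fun y => Subtype.ext (by simp [mul_assoc]) } _ _ fun y => ?_
      rw [tw_apply S x.2]
      rfl
    have horth : ∀ μ : P →* ℂˣ, μ ≠ 1 → ∑ y : P, (μ y : ℂ) = 0 := fun μ hμ => by
      refine sum_hom_units_eq_zero ((Units.coeHom ℂ).comp μ) fun h => hμ (MonoidHom.ext fun y => ?_)
      exact Units.ext (DFunLike.congr_fun h y)
    rw [hrei]
    simp only [hθdef, Pi.sub_apply, twist_coe S h0]
    rw [Finset.sum_sub_distrib, ← Finset.sum_mul, ← Finset.sum_mul, horth ν hν, horth ν' hν']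
    simp

/-- Splitting off the linear character on `P`. -/
theorem exists_twist {η : C → ℂ} (hη : Cfsg.IsIrrCharacter C η) :
    ∃ (η₀ : C → ℂ) (ν : P →* ℂˣ), Cfsg.IsIrrCharacter C η₀ ∧
      (∀ y : P, η₀ ⟨y, S.le y.2⟩ = η₀ 1) ∧ η = twist S η₀ ν := by
  classical
  have hne : η 1 ≠ 0 := irr_one_ne_zero hη
  have hsc : ∀ y : P, ∃ l : ℂ, ∀ c : C, η (c * ⟨y, S.le y.2⟩) = l * η c := by
    intro y
    have hy : (⟨(y : G), S.le y.2⟩ : C) ∈ Subgroup.center C := Subgroup.mem_center_iff.mpr fun d =>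
      Subtype.ext ((Subgroup.mem_centralizer_iff.mp d.2 y y.2).symm)
    obtain ⟨l, -, hl⟩ := Blocks.exists_central_scalar ⟨η, hη⟩ hy
    exact ⟨l, hl⟩
  choose l hl using hsc
  have hl1 : ∀ y : P, η ⟨y, S.le y.2⟩ = l y * η 1 := fun y => by
    rw [← hl y 1, one_mul]
  let lam : P →* ℂ :=
    { toFun := l
      map_one' := by
        apply mul_right_cancel₀ hne
        rw [← hl1, one_mul]
        rfl
      map_mul' := fun y w => by
        apply mul_right_cancel₀ hne
        rw [← hl1, mul_assoc, ← hl1 w, ← hl y ⟨w, S.le w.2⟩]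
        exact congrArg η (Subtype.ext (comm S y.2 w.2)) }
  refine ⟨twist S η lam.toHomUnits⁻¹, lam.toHomUnits, isIrr_twist S hη _, fun y => ?_,
    funext fun c => ?_⟩
  · simp only [twist, proj_coe S y.2, map_one, Units.val_one, one_mul, hl1,
      MonoidHom.inv_apply, Units.val_inv_eq_inv_val]
    rw [← mul_assoc, show ((lam.toHomUnits y : ℂˣ) : ℂ) = l y from rfl, inv_mul_cancel₀, one_mul]
    intro h
    have := (lam.toHomUnits y).ne_zero
    exact this h
  · simp only [twist, MonoidHom.inv_apply]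
    rw [← mul_assoc, ← Units.val_mul, mul_inv_cancel, Units.val_one, one_mul]

end Star

end Cfsg.Agent.BlockCharsA.CentralizerStar
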