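import Mathlib
import Cfsg.Agent.BlockCharsA.CentralizerStar

/-!
The small-degree theorem for groups in which every nontrivial element of a Sylow subgroup `P` has
the centralizer of `P`.
-/

set_option autoImplicit false
set_option linter.style.haveILetI false

namespace Cfsg.Agent.BlockCharsA.CentralizerStar

open Cfsg.Agent.Characters Cfsg.Agent.CharTheory
open scoped ComplexConjugate

universe u

/-- Two functions with the same value at two points are constant or separated together. -/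
theorem exists_separated {α : Type*} {β γ : Type*} {f : α → β} {g : α → γ} {D : Set α}
    {a b : α} (ha : a ∈ D) (hb : b ∈ D) (hf : f a ≠ f b) {a' b' : α} (ha' : a' ∈ D) (hb' : b' ∈ D)
    (hg : g a' ≠ g b') : ∃ u ∈ D, ∃ v ∈ D, f u ≠ f v ∧ g u ≠ g v := by
  by_cases h : g a = g b
  · obtain ⟨c, hc, hgc⟩ : ∃ c ∈ D, g c ≠ g a := by
      by_cases h' : g a' = g a
      · exact ⟨b', hb', fun h'' => hg (h'.trans h''.symm)⟩
      · exact ⟨a', ha', h'⟩
    by_cases hfc : f c = f a
    · exact ⟨c, hc, b, hb, hfc ▸ hf, h ▸ hgc⟩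
    · exact ⟨c, hc, a, ha, hfc, hgc⟩
  · exact ⟨a, ha, b, hb, hf, h⟩

variable {G : Type u} [Group G] [Fintype G] {P : Subgroup G} {j : ℕ}

local notation "C" => Subgroup.centralizer (P : Set G)
local notation "N" => Subgroup.normalizer (P : Set G)

theorem sum_linear_orth [Fintype P] {μ ν : P →* ℂˣ} (h : μ ≠ ν) :
    ∑ y : P, (μ y : ℂ) * conj (ν y : ℂ) = 0 := by
  have := classInner_isIrr_ne (isIrrCharacter_linear μ) (isIrrCharacter_linear ν) fun he =>
    h (MonoidHom.ext fun y => Units.ext (congrFun he y))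
  rw [classInner_def, mul_eq_zero] at this
  exact this.resolve_left (inv_ne_zero natCard_ne_zero)

variable (S : Setting P j)
include S

theorem card_linear : Nat.card (P →* ℂˣ) = Nat.card P := by
  rw [card_linear_hom, ← Subgroup.index_bot]
  congr 1
  rw [commutator_def, Subgroup.commutator_eq_bot_iff_le_centralizer]
  intro a _
  rw [Subgroup.mem_centralizer_iff]
  exact fun b _ => Subtype.ext (comm S b.2 a.2)

theorem main {χ : Cfsg.IrrCharacter G}
    (h1 : (χ : G → ℂ) ≠ fun _ => 1) {x : ℕ} (hx : (χ : G → ℂ) 1 = (x : ℂ))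
    (hlt : x ^ 2 + 1 < Nat.card P)
    (hnoK : ¬ ∃ K : Subgroup G, K.Normal ∧ K ≠ ⊤ ∧ P ≤ K) : x = 1 ∧ N ≤ C := by
  classical
  haveI := Fintype.ofFinite C
  haveI := Fintype.ofFinite N
  haveI := Fintype.ofFinite P
  haveI := Fintype.ofFinite (Cfsg.IrrCharacter G)
  haveI := Fintype.ofFinite (Cfsg.IrrCharacter C)
  haveI := Fintype.ofFinite (P →* ℂˣ)
  have hχc := irr_isCharacter χ
  have hx0 : 0 < x := by
    obtain ⟨d, hd, hd'⟩ := irr_one_pos χ.2
    rw [hx] at hd'
    rw [show x = d by exact_mod_cast hd']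
    exact hd
  have htriv : Cfsg.IsIrrCharacter G (fun _ => (1 : ℂ)) :=
    isIrr_of_isCharacter_of_norm_one isCharacter_one (by
      rw [classInner_def]; simp)
  -- no nonprincipal irreducible character is trivial on `P`
  have hker : ∀ ω : Cfsg.IrrCharacter G, (ω : G → ℂ) ≠ (fun _ => 1) →
      ∃ y : P, (ω : G → ℂ) y ≠ (ω : G → ℂ) 1 := by
    intro ω hω
    by_contra hh
    push Not at hh
    refine hnoK ⟨charKernel _ (irr_isCharacter ω), charKernel_normal _, fun htop => hω ?_,
      fun y hy => mem_charKernel.mpr (hh ⟨y, hy⟩)⟩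
    have hval : (ω : G → ℂ) = (ω : G → ℂ) 1 • (fun _ => (1 : ℂ)) := funext fun g => by
      simp only [Pi.smul_apply, smul_eq_mul, mul_one]
      exact mem_charKernel.mp (htop ▸ Subgroup.mem_top g)
    by_contra hne
    have := classInner_isIrr_self ω.2
    conv_lhs at this => arg 1; rw [hval]
    rw [classInner_smul_left, classInner_isIrr_ne htriv ω.2 (fun h => hne h.symm), mul_zero] at this
    exact zero_ne_one this
  -- hence it has a constituent on `C` nontrivial on `P`
  have hcon : ∀ ω : Cfsg.IrrCharacter G, (ω : G → ℂ) ≠ (fun _ => 1) →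
      ∃ (η₀ : C → ℂ) (ν : P →* ℂˣ), Cfsg.IsIrrCharacter C η₀ ∧
        (∀ y : P, η₀ ⟨y, S.le y.2⟩ = η₀ 1) ∧ ν ≠ 1 ∧
        Cfsg.classInner (fun c : C => (ω : G → ℂ) c) (twist S η₀ ν) ≠ 0 := by
    intro ω hω
    obtain ⟨y, hy⟩ := hker ω hω
    by_contra hh
    push Not at hh
    have hexp : ∀ c : C, (ω : G → ℂ) c = ∑ ξ : Cfsg.IrrCharacter C,
        Cfsg.classInner (fun c : C => (ω : G → ℂ) c) (ξ : C → ℂ) * (ξ : C → ℂ) c := fun c => by
      have := congrFun (classFun_eq_sum
        (char_isClassFunction (isCharacter_restrict C (irr_isCharacter ω)))) c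
      simpa using this
    refine hy ((hexp ⟨y, S.le y.2⟩).trans (Eq.trans ?_ (hexp 1).symm))
    refine Finset.sum_congr rfl fun ξ _ => ?_
    obtain ⟨η₀, ν, hη₀, h0, hξ⟩ := exists_twist S ξ.2
    by_cases hν : ν = 1
    · congr 1
      rw [hξ, twist_coe S h0 ν y, hν]
      simp [twist]
    · have hz := hh η₀ ν hη₀ h0 hν
      rw [← hξ] at hz
      rw [hz, zero_mul, zero_mul]
  obtain ⟨η, lam, hη, h0, hlam, hm⟩ := hcon χ h1
  have hne : η 1 ≠ 0 := irr_one_ne_zero hη
  have hξ := isIrr_twist S hη lam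
  set ξ := twist S η lam with hξdef
  obtain ⟨m, hm'⟩ := classInner_char_nat (isCharacter_restrict C hχc) (isCharacter_of_isIrr hξ)
  have hm1 : 1 ≤ m := Nat.pos_of_ne_zero fun h => hm (by rw [hm', h, Nat.cast_zero])
  obtain ⟨A, hA⟩ := classInner_char_nat (isCharacter_restrict C hχc) (isCharacter_restrict C hχc)
  have hCN : C ≤ N := le_normalizer
  set e := (Subgroup.subgroupOf C N).index with he
  have hcardN : Nat.card N = Nat.card C * e := by
    rw [he, ← Nat.card_congr (Subgroup.subgroupOfEquivOfLe hCN).toEquiv, Subgroup.card_mul_index]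
  -- the norm bound
  have hAe : A ≤ e := by
    set D := Finset.univ.filter fun c : C => proj S c ≠ 1 with hD
    have hTI : ∑ c ∈ D, ‖(χ : G → ℂ) c‖ ^ 2 ≤ (Nat.card N : ℝ) := by
      have hfib : ∀ g : G, ((Finset.univ ×ˢ D).filter
          fun q : G × C => q.1 * (q.2 : G) * q.1⁻¹ = g).card ≤ Nat.card N := by
        intro g
        rcases ((Finset.univ ×ˢ D).filter
          fun q : G × C => q.1 * (q.2 : G) * q.1⁻¹ = g).eq_empty_or_nonempty with h | ⟨q₀, hq₀⟩
        · simp [h]
        rw [Finset.mem_filter, Finset.mem_product, hD, Finset.mem_filter] at hq₀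
        have key : ∀ q ∈ (Finset.univ ×ˢ D).filter
            (fun q : G × C => q.1 * (q.2 : G) * q.1⁻¹ = g), q₀.1⁻¹ * q.1 ∈ N := by
          intro q hq
          rw [Finset.mem_filter, Finset.mem_product, hD, Finset.mem_filter] at hq
          have hqe : (q₀.1⁻¹ * q.1)⁻¹ * (q₀.2 : G) * (q₀.1⁻¹ * q.1) = (q.2 : G) := by
            calc (q₀.1⁻¹ * q.1)⁻¹ * (q₀.2 : G) * (q₀.1⁻¹ * q.1)
                = q.1⁻¹ * (q₀.1 * (q₀.2 : G) * q₀.1⁻¹) * q.1 := by group
              _ = q.1⁻¹ * (q.1 * (q.2 : G) * q.1⁻¹) * q.1 := by rw [hq₀.2, hq.2]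
              _ = _ := by group
          exact (mem_normalizer_of_conj S q₀.2.2 (hqe ▸ q.2.2) (by
            rw [hqe]
            exact fun h => hq.1.2.2 (Subtype.ext h))).1
        rw [Nat.card_eq_fintype_card, ← Finset.card_univ, ← Finset.card_attach]
        refine Finset.card_le_card_of_injOn (fun q => (⟨_, key q.1 q.2⟩ : N))
          (fun _ _ => Finset.mem_coe.mpr (Finset.mem_univ _)) ?_
        rintro ⟨q, hq⟩ _ ⟨q', hq'⟩ _ h
        have h' : q.1 = q'.1 := by simpa using congrArg Subtype.val h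
        rw [Finset.mem_filter] at hq hq'
        refine Subtype.ext (Prod.ext h' (Subtype.ext ?_))
        have := hq.2.trans hq'.2.symm
        rw [h'] at this
        simpa using this
      have hsum : (Nat.card G : ℝ) * ∑ c ∈ D, ‖(χ : G → ℂ) c‖ ^ 2 ≤
          (Nat.card N : ℝ) * ∑ g : G, ‖(χ : G → ℂ) g‖ ^ 2 := by
        calc (Nat.card G : ℝ) * ∑ c ∈ D, ‖(χ : G → ℂ) c‖ ^ 2
            = ∑ q ∈ (Finset.univ : Finset G) ×ˢ D, ‖(χ : G → ℂ) (q.1 * (q.2 : G) * q.1⁻¹)‖ ^ 2 := by
              rw [Finset.sum_product, Nat.card_eq_fintype_card, ← Finset.card_univ,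
                ← nsmul_eq_mul, ← Finset.sum_const]
              exact Finset.sum_congr rfl fun g _ => Finset.sum_congr rfl fun c _ => by
                rw [irr_isClassFunction χ]
          _ = ∑ g : G, ∑ q ∈ ((Finset.univ : Finset G) ×ˢ D).filter
                (fun q : G × C => q.1 * (q.2 : G) * q.1⁻¹ = g), ‖(χ : G → ℂ) g‖ ^ 2 := by
              rw [← Finset.sum_fiberwise ((Finset.univ : Finset G) ×ˢ D)
                (fun q : G × C => q.1 * (q.2 : G) * q.1⁻¹)]
              exact Finset.sum_congr rfl fun g _ => Finset.sum_congr rfl fun q hq => by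
                rw [(Finset.mem_filter.mp hq).2]
          _ ≤ ∑ g : G, (Nat.card N : ℝ) * ‖(χ : G → ℂ) g‖ ^ 2 :=
              Finset.sum_le_sum fun g _ => by
                rw [Finset.sum_const, nsmul_eq_mul]
                exact mul_le_mul_of_nonneg_right (Nat.cast_le.mpr (hfib g)) (sq_nonneg _)
          _ = _ := by rw [Finset.mul_sum]
      have hnorm : ∑ g : G, ‖(χ : G → ℂ) g‖ ^ 2 = (Nat.card G : ℝ) := by
        have h := classInner_isIrr_self χ.2
        rw [classInner_def, inv_mul_eq_iff_eq_mul₀ natCard_ne_zero, mul_one] at h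
        simp only [Complex.mul_conj'] at h
        exact_mod_cast h
      rw [hnorm, mul_comm (Nat.card N : ℝ)] at hsum
      exact le_of_mul_le_mul_left hsum (Nat.cast_pos.mpr Nat.card_pos)
    have hall : (Nat.card C : ℝ) * A = ∑ c : C, ‖(χ : G → ℂ) c‖ ^ 2 := by
      have h := hA
      rw [classInner_def, inv_mul_eq_iff_eq_mul₀ natCard_ne_zero] at h
      simp only [Complex.mul_conj'] at h
      exact_mod_cast h.symm
    have hcardK : Nat.card P * (Finset.univ.filter fun c : C => proj S c = 1).card = Nat.card C := by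
      rw [← Fintype.card_subtype, ← Nat.card_eq_fintype_card,
        Subgroup.card_eq_card_quotient_mul_card_subgroup (proj S).ker,
        Nat.card_congr (QuotientGroup.quotientKerEquivOfSurjective (proj S)
          fun y => ⟨⟨y, S.le y.2⟩, proj_coe S y.2⟩).toEquiv]
      rfl
    set k := (Finset.univ.filter fun c : C => proj S c = 1).card
    have hKb : ∑ c ∈ Finset.univ.filter (fun c : C => proj S c = 1), ‖(χ : G → ℂ) c‖ ^ 2 ≤
        (k : ℝ) * (x : ℝ) ^ 2 := by
      rw [← nsmul_eq_mul]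
      refine Finset.sum_le_card_nsmul _ _ _ fun c _ => pow_le_pow_left₀ (norm_nonneg _) ?_ 2
      have := char_norm_le hχc (c : G)
      rwa [hx, Complex.norm_natCast] at this
    rw [← Finset.sum_filter_add_sum_filter_not _ (fun c : C => proj S c = 1), ← hcardK,
      Nat.cast_mul] at hall
    rw [hcardN, ← hcardK] at hTI
    push_cast at hTI
    have hk : (0 : ℝ) < k := by
      have : 0 < Nat.card P * k := hcardK ▸ Nat.card_pos
      exact_mod_cast Nat.pos_of_mul_pos_left this
    by_contra hcon'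
    push Not at hcon'
    have h2 : (e : ℝ) + 1 ≤ A := by exact_mod_cast hcon'
    have h3 : (x : ℝ) ^ 2 < Nat.card P := by exact_mod_cast (show x ^ 2 < Nat.card P by omega)
    have h4 : (Nat.card P : ℝ) * k * (e + 1) ≤ Nat.card P * k * A :=
      mul_le_mul_of_nonneg_left h2 (by positivity)
    have h5 : (k : ℝ) * (x : ℝ) ^ 2 < k * Nat.card P := mul_lt_mul_of_pos_left h3 hk
    nlinarith [hall, hTI, hKb]
  -- the restriction of `χ` is one orbit
  set L : C → ℂ := (Nat.card C : ℂ)⁻¹ • ∑ z : N, tw (P := P) (z : G) ξ with hL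
  have hclξ := char_isClassFunction (isCharacter_of_isIrr hξ)
  have hχL : Cfsg.classInner (fun c : C => (χ : G → ℂ) c) L = (m : ℂ) * e := by
    rw [hL, classInner_smul_right, classInner_sum_right,
      Finset.sum_congr rfl fun (z : N) _ =>
        (inner_tw S z.2 (irr_isClassFunction χ) ξ).trans hm',
      Finset.sum_const, Finset.card_univ, nsmul_eq_mul, ← Nat.card_eq_fintype_card, hcardN,
      map_inv₀, Complex.conj_natCast, Nat.cast_mul, ← mul_assoc, ← mul_assoc,
      inv_mul_cancel₀ natCard_ne_zero, one_mul, mul_comm]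
  have htwξ : ∀ z : N, Cfsg.classInner (tw (P := P) (z : G) ξ) L = 1 := by
    intro z
    rw [hL, classInner_smul_right, classInner_sum_right]
    have hterm : ∀ w : N, Cfsg.classInner (tw (P := P) (z : G) ξ) (tw (P := P) (w : G) ξ) =
        if ((z⁻¹ * w : N) : G) ∈ C then 1 else 0 := by
      intro w
      have hcomp : tw (P := P) ((z⁻¹ * w : N) : G) ξ =
          tw (P := P) (w : G) ξ ∘ conjEquiv (inv_mem z.2) := by
        funext c
        rw [tw_apply S (z⁻¹ * w : N).2, Function.comp_apply, tw_apply S w.2]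
        exact congrArg ξ (Subtype.ext (by simp [conjEquiv, mul_assoc]))
      have hcompz : tw (P := P) (z : G) ξ ∘ conjEquiv (inv_mem z.2) = ξ := by
        funext c
        rw [Function.comp_apply, tw_apply S z.2]
        exact congrArg ξ (Subtype.ext (by simp [conjEquiv, mul_assoc]))
      rw [← Basics.classInner_comp_equiv (conjEquiv (inv_mem z.2)), hcompz, ← hcomp]
      by_cases hw : ((z⁻¹ * w : N) : G) ∈ C
      · rw [if_pos hw, tw_of_mem S hw hclξ, classInner_isIrr_self hξ]
      · rw [if_neg hw]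
        exact classInner_isIrr_ne hξ (isIrr_tw S (z⁻¹ * w : N).2 hξ)
          fun h => hw (mem_of_tw_eq S h0 hne hlam (z⁻¹ * w : N).2 h.symm)
    rw [Finset.sum_congr rfl fun w _ => hterm w,
      ← Equiv.sum_comp (Equiv.mulLeft z) (fun w : N => if ((z⁻¹ * w : N) : G) ∈ C then (1 : ℂ) else 0)]
    simp only [Equiv.coe_mulLeft, inv_mul_cancel_left]
    rw [← Finset.sum_filter, Finset.sum_const, nsmul_eq_mul, mul_one, map_inv₀,
      Complex.conj_natCast, ← Fintype.card_subtype, ← Nat.card_eq_fintype_card,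
      Nat.card_congr (Equiv.subtypeSubtypeEquivSubtype (fun {y} (hy : y ∈ C) => hCN hy))]
    exact inv_mul_cancel₀ natCard_ne_zero
  have hLL : Cfsg.classInner L L = (e : ℂ) := by
    conv_lhs => arg 1; rw [hL]
    rw [classInner_smul_left, classInner_sum_left,
      Finset.sum_congr rfl fun z _ => htwξ z, Finset.sum_const, Finset.card_univ, nsmul_one,
      ← Nat.card_eq_fintype_card, hcardN, Nat.cast_mul, ← mul_assoc,
      inv_mul_cancel₀ natCard_ne_zero, one_mul]
  have hLχ : Cfsg.classInner L (fun c : C => (χ : G → ℂ) c) = (m : ℂ) * e := by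
    rw [classInner_conj_symm, hχL, map_mul, Complex.conj_natCast, Complex.conj_natCast]
  set R := (fun c : C => (χ : G → ℂ) c) - L with hR
  have hRR : Cfsg.classInner R R = ((A : ℝ) - 2 * m * e + e : ℝ) := by
    rw [hR, classInner_sub_left, classInner_sub_right, classInner_sub_right, hA, hχL, hLχ, hLL]
    push_cast
    ring
  have hRnn : 0 ≤ (A : ℝ) - 2 * m * e + e := by
    have h : (Nat.card C : ℝ)⁻¹ * ∑ c : C, ‖R c‖ ^ 2 = (A : ℝ) - 2 * m * e + e := by
      have h := hRR
      rw [classInner_def] at h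
      simp only [Complex.mul_conj'] at h
      apply Complex.ofReal_injective
      rw [← h]
      push_cast
      rfl
    rw [← h]
    positivity
  have he0 : 0 < e := Nat.pos_of_ne_zero (Subgroup.index_ne_zero_of_finite)
  have hm_one : m = 1 ∧ A = e := by
    have h1' : 2 * m * e ≤ A + e := by
      have : (2 * m * e : ℝ) ≤ A + e := by linarith
      exact_mod_cast this
    have h2' : 2 * e ≤ 2 * m * e := by
      calc 2 * e = 2 * 1 * e := by ring
        _ ≤ 2 * m * e := by gcongr
    refine ⟨?_, by omega⟩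
    have : 2 * m * e = 2 * 1 * e := by rw [mul_one]; omega
    exact Nat.eq_of_mul_eq_mul_left two_pos (Nat.eq_of_mul_eq_mul_right he0 this)
  obtain ⟨hmone, hAeq⟩ := hm_one
  have hres : (fun c : C => (χ : G → ℂ) c) = L := by
    have : Cfsg.classInner R R = 0 := by
      rw [hRR, hmone, hAeq]; push_cast; ring
    exact sub_eq_zero.mp (classInner_self_eq_zero.mp this)
  -- few conjugates of `lam`
  obtain ⟨d, hd0, hd⟩ := irr_one_pos hη
  have hxd : x = e * d := by
    have h := congrFun hres 1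
    simp only [hL, OneMemClass.coe_one, hx, Pi.smul_apply, Finset.sum_apply, smul_eq_mul] at h
    rw [Finset.sum_congr rfl (g := fun _ => (d : ℂ)) (fun z _ => ?_), Finset.sum_const,
      Finset.card_univ, nsmul_eq_mul, ← Nat.card_eq_fintype_card, hcardN, Nat.cast_mul,
      ← mul_assoc, ← mul_assoc, inv_mul_cancel₀ natCard_ne_zero, one_mul] at h
    · exact_mod_cast h
    · rw [tw_apply S z.2, hξdef, twist, ← hd]
      have h1 : (⟨(z : G)⁻¹ * ((1 : C) : G) * z, conj_mem z.2 (1 : C).2⟩ : C) = 1 :=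
        Subtype.ext (by simp)
      rw [h1]
      simp
  have hmemP : ∀ (z : N) (y : P), (z : G)⁻¹ * (y : G) * z ∈ P := fun z y =>
    (normalizer_mem_iff z.2 _).mp y.2
  let cj : N → (P →* ℂˣ) := fun z =>
    { toFun := fun y => lam ⟨_, hmemP z y⟩
      map_one' := by
        rw [← map_one lam]; exact congrArg lam (Subtype.ext (by simp))
      map_mul' := fun y w => by
        rw [← map_mul]; exact congrArg lam (Subtype.ext (by simp [mul_assoc])) }
  have hkey : ∀ (z : N) (ν : P →* ℂˣ), tw (P := P) (z : G) ξ = twist S η ν → cj z = ν :=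
    fun z ν h => MonoidHom.ext fun y => tw_twist_proj S h0 hne z.2 h y
  have hcj : (Finset.univ.image cj).card ≤ e := by
    have hfac : ∀ (z z' : N), (z⁻¹ * z' : N) ∈ Subgroup.subgroupOf C N → cj z = cj z' := by
      intro z z' h
      rw [Subgroup.mem_subgroupOf] at h
      refine MonoidHom.ext fun y => congrArg lam (Subtype.ext ?_)
      have h' := Subgroup.mem_centralizer_iff.mp h _ (hmemP z y)
      calc (z : G)⁻¹ * (y : G) * z
          = ((z⁻¹ * z' : N) : G)⁻¹ * (((z⁻¹ * z' : N) : G) * ((z : G)⁻¹ * (y : G) * z)) := by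
            group
        _ = ((z⁻¹ * z' : N) : G)⁻¹ * (((z : G)⁻¹ * (y : G) * z) * ((z⁻¹ * z' : N) : G)) := by
            rw [h']
        _ = (z' : G)⁻¹ * (y : G) * z' := by simp [mul_assoc]
    let f : (N ⧸ Subgroup.subgroupOf C N) → (P →* ℂˣ) := Quotient.lift cj fun z z' h =>
      hfac z z' (QuotientGroup.leftRel_apply.mp h)
    haveI := Fintype.ofFinite (N ⧸ Subgroup.subgroupOf C N)
    calc (Finset.univ.image cj).card ≤ (Finset.univ.image f).card := by
          refine Finset.card_le_card fun ν hν => ?_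
          obtain ⟨z, -, rfl⟩ := Finset.mem_image.mp hν
          exact Finset.mem_image.mpr ⟨QuotientGroup.mk z, Finset.mem_univ _, rfl⟩
      _ ≤ Fintype.card (N ⧸ Subgroup.subgroupOf C N) := Finset.card_image_le
      _ = e := by rw [← Nat.card_eq_fintype_card]; rfl
  obtain ⟨lam', hlam', hlamn⟩ : ∃ ν : P →* ℂˣ, ν ≠ 1 ∧ ν ∉ Finset.univ.image cj := by
    by_contra hh
    push Not at hh
    have hsub : (Finset.univ : Finset (P →* ℂˣ)) ⊆ insert 1 (Finset.univ.image cj) := by
      intro ν _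
      by_cases hν : ν = 1
      · simp [hν]
      · exact Finset.mem_insert_of_mem (hh ν hν)
    have h := (Finset.card_le_card hsub).trans (Finset.card_insert_le _ _)
    rw [Finset.card_univ, ← Nat.card_eq_fintype_card, card_linear S] at h
    have : e ≤ x ^ 2 := by
      calc e ≤ e * d := Nat.le_mul_of_pos_right e hd0
        _ = x := hxd.symm
        _ ≤ x ^ 2 := Nat.le_self_pow two_ne_zero x
    omega
  have hsep : ∀ z ∈ N, tw (P := P) z ξ ≠ twist S η lam' := fun z hz h =>
    hlamn (Finset.mem_image.mpr ⟨⟨z, hz⟩, Finset.mem_univ _, hkey ⟨z, hz⟩ lam' h⟩)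
  obtain ⟨hΦcl, hΦint, hΦ2, hΦ1, hΦK, hΦP⟩ := induced_pair S hη h0 hlam hlam' hsep
  set θ := ξ - twist S η lam' with hθ
  set Φ := Cfsg.indFun C θ with hΦ
  have hξ' := isIrr_twist S hη lam'
  have hΦχ : Cfsg.classInner Φ (χ : G → ℂ) = 1 := by
    rw [hΦ, frobenius_reciprocity C θ (irr_isClassFunction χ), hθ, classInner_sub_left,
      classInner_conj_symm _ ξ, hm', hmone]
    have : Cfsg.classInner L (twist S η lam') = 0 := by
      rw [hL, classInner_smul_left, classInner_sum_left, Finset.sum_eq_zero, mul_zero]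
      intro z _
      exact classInner_isIrr_ne (isIrr_tw S z.2 hξ) hξ' (hsep z z.2)
    rw [classInner_conj_symm (fun c : C => (χ : G → ℂ) c) (twist S η lam'), hres, this]
    simp
  obtain ⟨χ', hne', -, hdeg', hΦeq, -⟩ :=
    norm_two hΦcl hΦint hΦ2 hΦ1 (a := χ) (by rw [hΦχ]; exact one_ne_zero)
  rw [hΦχ, one_smul] at hΦeq
  -- the two characters have no common constituent on `P`
  have hχP : ∀ y : P, (χ : G → ℂ) y = (Nat.card C : ℂ)⁻¹ * ∑ z : N, (cj z y : ℂ) * η 1 := by
    intro y
    have h := congrFun hres ⟨y, S.le y.2⟩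
    simp only [hL, Pi.smul_apply, Finset.sum_apply, smul_eq_mul] at h
    rw [show (χ : G → ℂ) y = _ from h]
    congr 1
    refine Finset.sum_congr rfl fun z _ => ?_
    rw [tw_apply S z.2]
    exact twist_coe S h0 lam ⟨_, hmemP z y⟩
  have hχ'P : ∀ y : P, (χ' : G → ℂ) y =
      (Nat.card C : ℂ)⁻¹ * ∑ z : N, (lam' ⟨_, hmemP z y⟩ : ℂ) * η 1 := by
    intro y
    have hvan : ∀ c : C, proj S c = 1 → θ c = 0 := fun c hc => by
      simp [hθ, hξdef, twist, hc]
    have h := congrFun hΦeq (y : G)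
    simp only [Pi.sub_apply] at h
    have hΦy : Φ y = (Nat.card C : ℂ)⁻¹ * ∑ z : N, tw (P := P) (z : G) θ ⟨y, S.le y.2⟩ := by
      rw [← indFun_coe S hvan ⟨y, S.le y.2⟩, inv_mul_cancel_left₀ natCard_ne_zero]
    have h2 : (χ' : G → ℂ) y = (χ : G → ℂ) y - Φ y := by rw [h]; ring
    rw [h2, hΦy, hχP, ← mul_sub, ← Finset.sum_sub_distrib]
    congr 1
    refine Finset.sum_congr rfl fun z _ => ?_
    rw [tw_apply S z.2, hθ, Pi.sub_apply,
      show ξ ⟨_, _⟩ = _ from twist_coe S h0 lam ⟨_, hmemP z y⟩,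
      show twist S η lam' ⟨_, _⟩ = _ from twist_coe S h0 lam' ⟨_, hmemP z y⟩]
    show (lam _ : ℂ) * η 1 - _ = _
    ring
  have horthP : ∑ y : P, (χ' : G → ℂ) y * conj ((χ : G → ℂ) y) = 0 := by
    simp only [hχP, hχ'P, map_mul, map_sum, map_inv₀, Complex.conj_natCast, Finset.mul_sum,
      Finset.sum_mul]
    rw [Finset.sum_comm]
    refine Finset.sum_eq_zero fun z _ => ?_
    rw [Finset.sum_comm]
    refine Finset.sum_eq_zero fun w _ => ?_
    let μ : P →* ℂˣ :=
      { toFun := fun y => lam' ⟨_, hmemP w y⟩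
        map_one' := by rw [← map_one lam']; exact congrArg lam' (Subtype.ext (by simp))
        map_mul' := fun y y' => by
          rw [← map_mul]; exact congrArg lam' (Subtype.ext (by simp [mul_assoc])) }
    have hne2 : μ ≠ cj z := by
      intro h
      refine hlamn (Finset.mem_image.mpr ⟨w⁻¹ * z, Finset.mem_univ _, MonoidHom.ext fun y => ?_⟩)
      have hy : (w : G) * (y : G) * (w : G)⁻¹ ∈ P := (Subgroup.mem_normalizer_iff.mp w.2 y).mp y.2
      have := (DFunLike.congr_fun h ⟨_, hy⟩).symm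
      show lam ⟨_, hmemP (w⁻¹ * z) y⟩ = lam' y
      refine Eq.trans (congrArg lam (Subtype.ext ?_)) (this.trans (congrArg lam' (Subtype.ext ?_)))
      · simp [mul_assoc]
      · simp [mul_assoc]
    have := sum_linear_orth hne2
    calc _ = ((Nat.card C : ℂ)⁻¹ * η 1 * ((Nat.card C : ℂ)⁻¹ * conj (η 1))) *
          ∑ y : P, (μ y : ℂ) * conj (cj z y : ℂ) := by
          rw [Finset.mul_sum]
          refine Finset.sum_congr rfl fun y _ => ?_
          show _ = _ * ((lam' ⟨_, hmemP w y⟩ : ℂ) * conj (cj z y : ℂ))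
          ring
      _ = 0 := by rw [this, mul_zero]
  -- the products
  set Ψ : G → ℂ := fun g => (χ : G → ℂ) g * conj ((χ : G → ℂ) g) with hΨ
  set Ψ' : G → ℂ := fun g => (χ' : G → ℂ) g * conj ((χ : G → ℂ) g) with hΨ'
  have hΨc : Cfsg.IsCharacter G Ψ := isCharacter_mul hχc (Basics.isCharacter_conj hχc)
  have hΨ'c : Cfsg.IsCharacter G Ψ' :=
    isCharacter_mul (irr_isCharacter χ') (Basics.isCharacter_conj hχc)
  have hKeq : ∀ c : C, proj S c = 1 → Ψ c = Ψ' c := by
    intro c hc
    have h := congrFun hΦeq (c : G)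
    rw [hΦK c hc, Pi.sub_apply, eq_comm, sub_eq_zero] at h
    simp only [hΨ, hΨ', h]
  have hzero : ∀ ω : Cfsg.IrrCharacter G, (ω : G → ℂ) ≠ (fun _ => 1) →
      Cfsg.classInner Ψ (ω : G → ℂ) ≠ 0 → ∑ y : P, (ω : G → ℂ) y = 0 := by
    intro ω hω1 hω
    obtain ⟨η₂, ν₂, hη₂, h02, hν₂, hm₂⟩ := hcon ω hω1
    have hne₂ : η₂ 1 ≠ 0 := irr_one_ne_zero hη₂
    have htot : ∀ {F : G → ℂ}, Cfsg.IsCharacter G F → ∃ n : (P →* ℂˣ) → ℕ,
        ∀ ν, Cfsg.classInner (fun c : C => F c) (twist S η₂ ν) = (n ν : ℂ) := fun hF => by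
      choose n hn using fun ν => classInner_char_nat (isCharacter_restrict C hF)
        (isCharacter_of_isIrr (isIrr_twist S hη₂ ν))
      exact ⟨n, hn⟩
    obtain ⟨nΨ, hnΨ⟩ := htot hΨc
    obtain ⟨nΨ', hnΨ'⟩ := htot hΨ'c
    have hsumν : ∀ (F : G → ℂ) (c : C), ∑ ν : P →* ℂˣ, F c * conj (twist S η₂ ν c) =
        if proj S c = 1 then F c * conj (η₂ c) * (Fintype.card (P →* ℂˣ) : ℂ) else 0 := by
      intro F c
      simp only [twist, map_mul]
      rw [Finset.sum_congr rfl (g := fun ν : P →* ℂˣ =>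
        F c * conj (η₂ c) * conj (ν (proj S c) : ℂ)) fun ν _ => by ring, ← Finset.mul_sum, ← map_sum]
      by_cases hc : proj S c = 1
      · simp [hc]
      · rw [if_neg hc]
        letI : CommGroup P :=
          { (inferInstance : Group P) with mul_comm := fun a b => Subtype.ext (comm S a.2 b.2) }
        haveI : NeZero (Monoid.exponent P : ℂ) :=
          ⟨Nat.cast_ne_zero.2 Monoid.exponent_ne_zero_of_finite⟩
        obtain ⟨μ, hμ⟩ := CommGroup.exists_apply_ne_one_of_hasEnoughRootsOfUnity P ℂ hc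
        have hs : (μ (proj S c) : ℂ) * ∑ ν : P →* ℂˣ, (ν (proj S c) : ℂ) =
            ∑ ν : P →* ℂˣ, (ν (proj S c) : ℂ) := by
          rw [Finset.mul_sum]
          refine Fintype.sum_equiv (Equiv.mulLeft μ) _ _ fun ν => ?_
          simp
        have h0s : ∑ ν : P →* ℂˣ, (ν (proj S c) : ℂ) = 0 := by
          by_contra hs0
          exact hμ (Units.ext ((mul_eq_right₀ hs0).mp hs))
        rw [h0s, map_zero, mul_zero]
    have hS : ∑ ν, nΨ ν = ∑ ν, nΨ' ν := by
      have : ((∑ ν, nΨ ν : ℕ) : ℂ) = ((∑ ν, nΨ' ν : ℕ) : ℂ) := by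
        push_cast
        simp only [← hnΨ, ← hnΨ', classInner_def, ← Finset.mul_sum]
        congr 1
        conv_lhs => rw [Finset.sum_comm]
        conv_rhs => rw [Finset.sum_comm]
        simp only [hsumν]
        refine Finset.sum_congr rfl fun c _ => ?_
        split_ifs with hc
        · rw [hKeq c hc]
        · rfl
      exact_mod_cast this
    have hpos : nΨ ν₂ ≠ 0 := by
      intro h
      have := Clifford.classInner_restrict_ne_zero C hΨc ω.2
        (isCharacter_of_isIrr (isIrr_twist S hη₂ ν₂)) hω hm₂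
      rw [hnΨ, h, Nat.cast_zero] at this
      exact this rfl
    obtain ⟨ν₃, -, hν₃⟩ : ∃ ν₃ ∈ (Finset.univ : Finset (P →* ℂˣ)), nΨ' ν₃ ≠ 0 := by
      refine Finset.exists_ne_zero_of_sum_ne_zero ?_
      rw [← hS]
      exact (Finset.sum_pos' (fun _ _ => Nat.zero_le _)
        ⟨ν₂, Finset.mem_univ _, Nat.pos_of_ne_zero hpos⟩).ne'
    obtain ⟨ω', hω'Ψ, hω'⟩ : ∃ ω' : Cfsg.IrrCharacter G, Cfsg.classInner Ψ' (ω' : G → ℂ) ≠ 0 ∧
        Cfsg.classInner (fun c : C => (ω' : G → ℂ) c) (twist S η₂ ν₃) ≠ 0 := by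
      by_contra hh
      push Not at hh
      apply hν₃
      have hexp : (fun c : C => Ψ' c) = ∑ ψ : Cfsg.IrrCharacter G,
          Cfsg.classInner Ψ' (ψ : G → ℂ) • (fun c : C => (ψ : G → ℂ) c) := by
        funext c
        have := congrFun (classFun_eq_sum (char_isClassFunction hΨ'c)) (c : G)
        simpa [Finset.sum_apply] using this
      have hz := hnΨ' ν₃
      rw [hexp, classInner_sum_left, Finset.sum_eq_zero fun ψ _ => ?_] at hz
      · exact_mod_cast hz.symm
      · rw [classInner_smul_left]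
        by_cases h : Cfsg.classInner Ψ' (ψ : G → ℂ) = 0
        · rw [h, zero_mul]
        · rw [hh ψ h, mul_zero]
    have hTω' : ∑ y : P, (ω' : G → ℂ) y = 0 :=
      sum_eq_zero_of_constituent P hΨ'c ω'.2 hω'Ψ horthP
    obtain ⟨nω, hnω⟩ := htot (irr_isCharacter ω)
    obtain ⟨nω', hnω'⟩ := htot (irr_isCharacter ω')
    -- degree bounds
    have hsmall : ∀ (ψ : Cfsg.IrrCharacter G) (F : G → ℂ), Cfsg.IsCharacter G F →
        F 1 = ((x ^ 2 : ℕ) : ℂ) → Cfsg.classInner F (ψ : G → ℂ) ≠ 0 → ∀ n : (P →* ℂˣ) → ℕ,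
        (∀ ν, Cfsg.classInner (fun c : C => (ψ : G → ℂ) c) (twist S η₂ ν) = (n ν : ℂ)) →
        ∃ ν, ν ≠ 1 ∧ n ν = 0 := by
      intro ψ F hF hF1 hne n hn
      by_contra hh
      push Not at hh
      obtain ⟨mψ, hmψ⟩ := classInner_char_nat hF (irr_isCharacter ψ)
      obtain ⟨dψ, -, hdψ⟩ := irr_one_pos ψ.2
      have hmψ0 : 0 < mψ := Nat.pos_of_ne_zero fun h => hne (by rw [hmψ, h, Nat.cast_zero])
      have hle := Basics.degree_le hF ψ.2 hmψ hF1 hdψ
      obtain ⟨dη, hdη0, hdη⟩ := irr_one_pos hη₂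
      have hres' : (Nat.card P - 1) * dη ≤ dψ := by
        have hc := isCharacter_restrict C (irr_isCharacter ψ)
        choose a ha using fun ξ : Cfsg.IrrCharacter C =>
          classInner_char_nat hc (irr_isCharacter ξ)
        choose b hb using fun ξ : Cfsg.IrrCharacter C => irr_one_pos ξ.2
        have h1 : dψ = ∑ ξ : Cfsg.IrrCharacter C, a ξ * b ξ := by
          have h := congrFun (classFun_eq_sum (char_isClassFunction hc)) 1
          simp only [Finset.sum_apply, Pi.smul_apply, smul_eq_mul, ha, (hb _).2,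
            OneMemClass.coe_one, hdψ] at h
          exact_mod_cast h
        let emb : (P →* ℂˣ) → Cfsg.IrrCharacter C := fun ν => ⟨_, isIrr_twist S hη₂ ν⟩
        have hemb : Function.Injective emb := fun ν ν' h =>
          (twist_eq_iff S h02 hne₂).mp (congrArg Subtype.val h)
        rw [h1]
        calc (Nat.card P - 1) * dη
            = ∑ _ν ∈ (Finset.univ : Finset (P →* ℂˣ)).erase 1, dη := by
              rw [Finset.sum_const, Finset.card_erase_of_mem (Finset.mem_univ _),
                Finset.card_univ, ← Nat.card_eq_fintype_card, card_linear S, smul_eq_mul]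
          _ ≤ ∑ ν ∈ (Finset.univ : Finset (P →* ℂˣ)).erase 1, a (emb ν) * b (emb ν) := by
              refine Finset.sum_le_sum fun ν hν => ?_
              have ha' : a (emb ν) = n ν := by
                have := (ha (emb ν)).symm.trans (hn ν)
                exact_mod_cast this
              have hb' : b (emb ν) = dη := by
                have := (hb (emb ν)).2
                simp only [emb, twist, map_one, Units.val_one, one_mul, hdη] at this
                exact_mod_cast this.symm
              rw [ha', hb']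
              exact Nat.le_mul_of_pos_left _
                (Nat.pos_of_ne_zero (hh ν (Finset.mem_erase.mp hν).1))
          _ = ∑ ξ ∈ ((Finset.univ : Finset (P →* ℂˣ)).erase 1).image emb, a ξ * b ξ :=
              (Finset.sum_image (f := fun ξ => a ξ * b ξ) (g := emb) fun ν _ ν' _ h => hemb h).symm
          _ ≤ _ := Finset.sum_le_sum_of_subset (Finset.subset_univ _)
      have h7 : Nat.card P - 1 ≤ dψ := le_trans (Nat.le_mul_of_pos_right _ hdη0) hres'
      have h8 : dψ ≤ mψ * dψ := Nat.le_mul_of_pos_left _ hmψ0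
      omega
    have hΨ1 : Ψ 1 = ((x ^ 2 : ℕ) : ℂ) := by
      simp only [hΨ, hx, Complex.conj_natCast]; push_cast; ring
    have hΨ'1 : Ψ' 1 = ((x ^ 2 : ℕ) : ℂ) := by
      simp only [hΨ', hx, Complex.conj_natCast, ← hdeg']; push_cast; ring
    obtain ⟨νa, hνa, hna⟩ := hsmall ω Ψ hΨc hΨ1 hω nω hnω
    obtain ⟨νb, hνb, hnb⟩ := hsmall ω' Ψ' hΨ'c hΨ'1 hω'Ψ nω' hnω'
    have hω'0 : nω' 1 = 0 := by
      by_contra h
      have hne1 : Cfsg.classInner (fun c : C => (ω' : G → ℂ) c) (twist S η₂ 1) ≠ 0 := by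
        rw [hnω']; exact_mod_cast h
      haveI := Fintype.ofFinite (Subgroup.subgroupOf P C)
      have h9 := sum_eq_zero_of_constituent (Subgroup.subgroupOf P C)
        (isCharacter_restrict C (irr_isCharacter ω')) (isIrr_twist S hη₂ 1) hne1 (by
          refine Eq.trans ?_ hTω'
          exact Fintype.sum_equiv (Subgroup.subgroupOfEquivOfLe S.le).toEquiv _ _ fun y => rfl)
      have hval : ∀ y : Subgroup.subgroupOf P C, twist S η₂ 1 (y : C) = η₂ 1 := fun y => by
        have := twist_coe S h02 1 ⟨((y : C) : G), y.2⟩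
        simpa using this
      rw [Finset.sum_congr rfl fun y _ => hval y, Finset.sum_const, Finset.card_univ,
        nsmul_eq_mul] at h9
      rcases mul_eq_zero.mp h9 with h | h
      · exact Fintype.card_ne_zero (Nat.cast_eq_zero.mp h)
      · exact hne₂ h
    have hν₃1 : ν₃ ≠ 1 := fun h => hω' (by rw [h, hnω', hω'0, Nat.cast_zero])
    have hω₂ : nω ν₂ ≠ 0 := fun h => hm₂ (by rw [hnω, h, Nat.cast_zero])
    have hω₃ : nω' ν₃ ≠ 0 := fun h => hω' (by rw [hnω', h, Nat.cast_zero])
    obtain ⟨u, hu, v, hv, huv, huv'⟩ := exists_separated (f := nω) (g := nω')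
      (D := {ν : P →* ℂˣ | ν ≠ 1}) (show ν₂ ∈ _ from hν₂) (show νa ∈ _ from hνa)
      (by rw [hna]; exact hω₂) (show ν₃ ∈ _ from hν₃1) (show νb ∈ _ from hνb)
      (by rw [hnb]; exact hω₃)
    have hsep' : ∀ z ∈ N, tw (P := P) z (twist S η₂ u) ≠ twist S η₂ v := by
      intro z hz h
      apply huv
      have h10 := inner_tw S hz (irr_isClassFunction ω) (twist S η₂ u)
      rw [h, hnω, hnω] at h10
      exact_mod_cast h10.symm
    obtain ⟨hcl₂, hint₂, h22, h12, -, hP2⟩ := induced_pair S hη₂ h02 hu hv hsep'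
    set Φ₂ := Cfsg.indFun C (twist S η₂ u - twist S η₂ v) with hΦ₂
    have hval : ∀ (ψ : Cfsg.IrrCharacter G) (n : (P →* ℂˣ) → ℕ),
        (∀ ν, Cfsg.classInner (fun c : C => (ψ : G → ℂ) c) (twist S η₂ ν) = (n ν : ℂ)) →
        n u ≠ n v → Cfsg.classInner Φ₂ (ψ : G → ℂ) ≠ 0 := by
      intro ψ n hn hne hz
      rw [hΦ₂, frobenius_reciprocity C _ (irr_isClassFunction ψ), classInner_sub_left,
        classInner_conj_symm _ (twist S η₂ u), classInner_conj_symm _ (twist S η₂ v), hn, hn,
        Complex.conj_natCast, Complex.conj_natCast, sub_eq_zero] at hz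
      exact hne (by exact_mod_cast hz)
    have hωv := hval ω nω hnω huv
    obtain ⟨b, -, -, -, hΦ₂eq, honly⟩ := norm_two hcl₂ hint₂ h22 h12 (a := ω) hωv
    rcases honly ω' (hval ω' nω' hnω' huv') with rfl | rfl
    · exact hTω'
    · have h := hP2
      have heq : ∀ y : P, Φ₂ (y : G) = Cfsg.classInner Φ₂ (ω : G → ℂ) *
          ((ω : G → ℂ) y - (ω' : G → ℂ) y) := fun y => congrFun hΦ₂eq (y : G)
      rw [Finset.sum_congr rfl fun y _ => heq y, ← Finset.mul_sum, Finset.sum_sub_distrib] at h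
      rw [hTω', sub_zero] at h
      exact (mul_eq_zero.mp h).resolve_left hωv
  -- `χ` restricted to `P` is irreducible
  have hnormP : ∑ y : P, Ψ y = (Nat.card P : ℂ) := by
    have hexp := classFun_eq_sum (char_isClassFunction hΨc)
    have hsum : ∑ y : P, Ψ y = ∑ ψ : Cfsg.IrrCharacter G,
        Cfsg.classInner Ψ (ψ : G → ℂ) * ∑ y : P, (ψ : G → ℂ) y := by
      conv_lhs => rw [hexp]
      simp only [Finset.sum_apply, Pi.smul_apply, smul_eq_mul]
      rw [Finset.sum_comm]
      simp only [Finset.mul_sum]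
    rw [hsum, Finset.sum_eq_single ⟨_, htriv⟩]
    · have : Cfsg.classInner Ψ (fun _ : G => (1 : ℂ)) = 1 := by
        conv_rhs => rw [← classInner_isIrr_self χ.2]
        rw [classInner_def, classInner_def]
        simp only [hΨ, map_one, mul_one]
      rw [show Cfsg.classInner Ψ ((⟨_, htriv⟩ : Cfsg.IrrCharacter G) : G → ℂ) = 1 from this]
      simp
    · intro ψ _ hψ
      by_cases h : Cfsg.classInner Ψ (ψ : G → ℂ) = 0
      · rw [h, zero_mul]
      · rw [hzero ψ (fun h' => hψ (Subtype.ext h')) h, mul_zero]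
    · exact fun h => absurd (Finset.mem_univ _) h
  have hirrP : Cfsg.IsIrrCharacter P (fun y : P => (χ : G → ℂ) y) := by
    refine isIrr_of_isCharacter_of_norm_one (isCharacter_restrict P hχc) ?_
    rw [classInner_def, show ∑ y : P, (χ : G → ℂ) y * conj ((χ : G → ℂ) y) = _ from hnormP,
      inv_mul_cancel₀ natCard_ne_zero]
  have hx1 : x = 1 := by
    have := irr_degree_one_of_comm (fun a b => Subtype.ext (comm S a.2 b.2)) hirrP
    simp only [OneMemClass.coe_one, hx] at this
    exact_mod_cast this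
  refine ⟨hx1, fun z hz => ?_⟩
  have he1 : e = 1 := Nat.eq_one_of_mul_eq_one_right (hxd ▸ hx1)
  have := Subgroup.index_eq_one.mp (he ▸ he1)
  exact (Subgroup.subgroupOf_eq_top.mp this) hz

end Cfsg.Agent.BlockCharsA.CentralizerStar
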