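import Mathlib
import Cfsg.Agent.BlockCharsA.CentralizerStarMain

/-!
Applications of the small-degree theorem for groups with the centralizer condition on a Sylow
subgroup.
-/

set_option autoImplicit false
set_option linter.style.haveILetI false

namespace Cfsg.Agent.BlockCharsA.CentralizerStar

open Cfsg.Agent.Characters Cfsg.Agent.CharTheory

universe u

variable {G : Type u} [Group G] [Fintype G] {p : ℕ}

theorem exists_setting [Fact p.Prime] (hpG : p ∣ Nat.card G) (P : Sylow p G)
    (hstar : ∀ x ∈ (P : Subgroup G), x ≠ 1 →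
      Subgroup.centralizer ({x} : Set G) = Subgroup.centralizer ((P : Subgroup G) : Set G)) :
    ∃ j, Setting (P : Subgroup G) j := by
  classical
  have hle : (P : Subgroup G) ≤ Subgroup.centralizer ((P : Subgroup G) : Set G) := by
    intro y hy
    by_cases h1 : y = 1
    · rw [h1]; exact one_mem _
    · rw [← hstar y hy h1, Subgroup.mem_centralizer_singleton_iff]
  set H := Subgroup.centralizer ((P : Subgroup G) : Set G) with hH
  let P' : Sylow p H := P.subtype hle
  have hcoe : (P' : Subgroup H) = (P : Subgroup G).subgroupOf H := rfl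
  have hcen : Subgroup.normalizer ((P' : Subgroup H) : Set H) ≤
      Subgroup.centralizer ((P' : Subgroup H) : Set H) := by
    intro c _
    rw [Subgroup.mem_centralizer_iff]
    intro y hy
    exact Subtype.ext (Subgroup.mem_centralizer_iff.mp c.2 (y : G) hy)
  have hK := MonoidHom.ker_transferSylow_isComplement' P' hcen
  set K := (MonoidHom.transferSylow P' hcen).ker
  have hdec : ∀ c : H, ∃ x ∈ (P' : Subgroup H), ∃ k ∈ K, c = k * x := fun c => by
    obtain ⟨⟨⟨k, hk⟩, ⟨x, hx⟩⟩, h⟩ := hK.existsUnique c |>.exists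
    exact ⟨x, hx, k, hk, h.symm⟩
  set q := Nat.card (P : Subgroup G) with hq
  set m := Nat.card K with hm
  have hcop : Nat.Coprime m q := by
    have h1 : Nat.card K = (P' : Subgroup H).index := hK.index_eq_card.symm
    obtain ⟨k, hk⟩ := IsPGroup.iff_card.mp P.isPGroup'
    rw [hm, h1, hq, hk]
    exact (((Fact.out : p.Prime).coprime_iff_not_dvd.mpr P'.not_dvd_index).pow_left k).symm
  obtain ⟨j, hj0, hj1⟩ := Nat.chineseRemainder hcop 0 1
  have hP : ∀ y ∈ (P : Subgroup G), y ^ j = y := by
    intro y hy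
    have hd : orderOf y ∣ q := by
      rw [show orderOf y = orderOf (⟨y, hy⟩ : (P : Subgroup G)) from (Subgroup.orderOf_coe ⟨y, hy⟩)]
      exact orderOf_dvd_natCard _
    conv_rhs => rw [← pow_one y]
    exact pow_eq_pow_iff_modEq.mpr (hj1.of_dvd hd)
  have hKpow : ∀ k ∈ K, k ^ j = 1 := by
    intro k hk
    have hd : orderOf k ∣ m := by
      rw [show orderOf k = orderOf (⟨k, hk⟩ : K) from (Subgroup.orderOf_coe ⟨k, hk⟩)]
      exact orderOf_dvd_natCard _
    exact orderOf_dvd_iff_pow_eq_one.mp (hd.trans (Nat.modEq_zero_iff_dvd.mp hj0))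
  have hpow : ∀ c : H, ∀ x ∈ (P' : Subgroup H), ∀ k ∈ K, c = k * x → c ^ j = x := by
    intro c x hx k hk hc
    have hcomm : Commute k x :=
      Subtype.ext (Subgroup.mem_centralizer_iff.mp k.2 (x : G) hx).symm
    rw [hc, hcomm.mul_pow, hKpow k hk, one_mul]
    exact Subtype.ext (by rw [SubmonoidClass.coe_pow]; exact hP _ hx)
  refine ⟨j, hstar, hle, fun c hc => ?_, hP, fun c hc d hd => ?_⟩
  · obtain ⟨x, hx, k, hk, hck⟩ := hdec ⟨c, hc⟩
    have := congrArg (fun z : H => (z : G)) (hpow _ x hx k hk hck)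
    simp only [SubmonoidClass.coe_pow] at this
    rw [this]
    exact hx
  · obtain ⟨x, hx, k, hk, hck⟩ := hdec ⟨c, hc⟩
    obtain ⟨y, hy, l, hl, hdl⟩ := hdec ⟨d, hd⟩
    have hcomm : Commute l x :=
      Subtype.ext (Subgroup.mem_centralizer_iff.mp l.2 (x : G) hx).symm
    have h3 : (⟨c, hc⟩ : H) * ⟨d, hd⟩ = (k * l) * (x * y) := by
      rw [hck, hdl, mul_assoc, ← mul_assoc x, ← hcomm.eq]
      group
    have e1 := congrArg (fun z : H => (z : G)) (hpow _ x hx k hk hck)
    have e2 := congrArg (fun z : H => (z : G)) (hpow _ y hy l hl hdl)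
    have e3 := congrArg (fun z : H => (z : G))
      (hpow _ (x * y) (mul_mem hx hy) (k * l) (mul_mem hk hl) h3)
    simp only [SubmonoidClass.coe_pow, Subgroup.coe_mul] at e1 e2 e3
    rw [e1, e2, e3]

theorem dichotomy [Fact p.Prime] (hpG : p ∣ Nat.card G) (P : Sylow p G)
    (hstar : ∀ x ∈ (P : Subgroup G), x ≠ 1 →
      Subgroup.centralizer ({x} : Set G) = Subgroup.centralizer ((P : Subgroup G) : Set G))
    {χ : Cfsg.IrrCharacter G} (h1 : (χ : G → ℂ) ≠ fun _ => 1)
    (hdeg : Cfsg.charDegree (χ : G → ℂ) ^ 2 + 1 < Nat.card P) :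
    (∃ K : Subgroup G, K.Normal ∧ K ≠ ⊤ ∧ (P : Subgroup G) ≤ K) ∨
      ((∃ N : Subgroup G, N.Normal ∧ N.index = Nat.card P) ∧
        Cfsg.charDegree (χ : G → ℂ) = 1) := by
  classical
  by_cases hK : ∃ K : Subgroup G, K.Normal ∧ K ≠ ⊤ ∧ (P : Subgroup G) ≤ K
  · exact Or.inl hK
  obtain ⟨j, S⟩ := exists_setting hpG P hstar
  obtain ⟨d, -, hd⟩ := irr_one_pos χ.2
  have hdd : Cfsg.charDegree (χ : G → ℂ) = d := by simp [Cfsg.charDegree, hd]
  rw [hdd] at hdeg ⊢
  obtain ⟨hd1, hN⟩ := main S h1 hd hdeg hK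
  have hC := MonoidHom.ker_transferSylow_isComplement' P hN
  exact Or.inr ⟨⟨_, MonoidHom.normal_ker _, hC.symm.index_eq_card⟩, hd1⟩

theorem normal_of_small (n : ℕ) : ∀ (G : Type u) [Group G] [Fintype G], Nat.card G = n →
    ∀ [Fact p.Prime] (P : Sylow p G),
    (∀ x ∈ (P : Subgroup G), x ≠ 1 →
      Subgroup.centralizer ({x} : Set G) = Subgroup.centralizer ((P : Subgroup G) : Set G)) →
    ∀ χ : G → ℂ, Cfsg.IsCharacter G χ → (∀ g : G, χ g = χ 1 → g = 1) →
      Cfsg.charDegree χ ^ 2 + 1 < Nat.card P → (P : Subgroup G).Normal := by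
  classical
  induction n using Nat.strong_induction_on with | _ n ih => ?_
  intro G _ _ hn _ P hstar χ hχ hfaith hdeg
  haveI := Fintype.ofFinite (Cfsg.IrrCharacter G)
  have hpG : p ∣ Nat.card G := by
    obtain ⟨k, hk⟩ := IsPGroup.iff_card.mp P.isPGroup'
    have hk0 : k ≠ 0 := fun h => by rw [hk, h, pow_zero] at hdeg; omega
    exact (dvd_pow_self p hk0).trans (hk ▸ Subgroup.card_subgroup_dvd_card _)
  by_cases hK : ∃ K : Subgroup G, K.Normal ∧ K ≠ ⊤ ∧ (P : Subgroup G) ≤ K
  · obtain ⟨K, hKn, hKtop, hPK⟩ := hK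
    haveI := hKn
    haveI := Fintype.ofFinite K
    have hlt : Nat.card K < n := by
      rw [← hn]
      exact lt_of_le_of_ne (Nat.le_of_dvd Nat.card_pos (Subgroup.card_subgroup_dvd_card K))
        fun h => hKtop (Subgroup.eq_top_of_card_eq K h)
    have hcard : Nat.card (P.subtype hPK : Sylow p K) = Nat.card P :=
      Nat.card_congr (Subgroup.subgroupOfEquivOfLe hPK).toEquiv
    have hnorm := ih _ hlt K rfl (P.subtype hPK) (fun x hx hx1 => by
      ext k
      have h := congrArg (fun L : Subgroup G => (k : G) ∈ L)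
        (hstar (x : G) hx fun h => hx1 (Subtype.ext h))
      simp only [eq_iff_iff] at h
      rw [Subgroup.mem_centralizer_singleton_iff] at h
      rw [Subgroup.mem_centralizer_singleton_iff, Subgroup.mem_centralizer_iff]
      constructor
      · intro hk y hy
        exact Subtype.ext (Subgroup.mem_centralizer_iff.mp
          (h.mp (congrArg Subtype.val hk)) (y : G) hy)
      · intro hk
        exact (hk x hx).symm)
      (fun k : K => χ k) (isCharacter_restrict K hχ)
      (fun g hg => Subtype.ext (hfaith g hg)) (by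
        rw [hcard]
        simpa [Cfsg.charDegree] using hdeg)
    haveI := hnorm
    haveI : ((P.subtype hPK : Sylow p K) : Subgroup K).Characteristic :=
      Sylow.characteristic_of_normal _ hnorm
    have := ConjAct.normal_of_characteristic_of_normal
      (H := K) (K := ((P.subtype hPK : Sylow p K) : Subgroup K))
    rwa [Sylow.coe_subtype, Subgroup.subgroupOf_map_subtype, inf_of_le_left hPK] at this
  · -- all constituents are linear, so `G` is abelian
    choose n' hn' using fun ψ : Cfsg.IrrCharacter G => classInner_char_nat hχ (irr_isCharacter ψ)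
    obtain ⟨D, hD⟩ := char_one_nat hχ
    have hDeg : Cfsg.charDegree χ = D := by simp [Cfsg.charDegree, hD]
    have hlin : ∀ ψ : Cfsg.IrrCharacter G, n' ψ ≠ 0 → (ψ : G → ℂ) 1 = 1 := by
      intro ψ hψ
      by_cases h1 : (ψ : G → ℂ) = fun _ => 1
      · rw [h1]
      obtain ⟨d, -, hd⟩ := irr_one_pos ψ.2
      have hle := Basics.degree_le hχ ψ.2 (hn' ψ) hD hd
      have hdle : d ≤ D := le_trans (Nat.le_mul_of_pos_left d (Nat.pos_of_ne_zero hψ)) hle
      have hdd : Cfsg.charDegree (ψ : G → ℂ) = d := by simp [Cfsg.charDegree, hd]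
      rcases dichotomy hpG P hstar h1 (by
          rw [hdd]; rw [hDeg] at hdeg
          have := Nat.pow_le_pow_left hdle 2
          omega) with h | ⟨-, h⟩
      · exact absurd h hK
      · rw [hdd] at h
        rw [hd, h, Nat.cast_one]
    have hab : ∀ a b : G, a * b = b * a := by
      intro a b
      have h : a * b * a⁻¹ * b⁻¹ = 1 := by
        refine hfaith _ ?_
        rw [classFun_eq_sum (char_isClassFunction hχ)]
        simp only [Finset.sum_apply, Pi.smul_apply, smul_eq_mul, hn']
        refine Finset.sum_congr rfl fun ψ _ => ?_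
        by_cases hψ : n' ψ = 0
        · simp [hψ]
        congr 1
        set l := linearOfDegreeOne (irr_isCharacter ψ) (hlin ψ hψ) with hl
        have hl' : ∀ g, (ψ : G → ℂ) g = (l g : ℂ) := fun g =>
          (linearOfDegreeOne_apply _ _ g).symm
        rw [hl', hl']
        simp
      calc a * b = (a * b * a⁻¹ * b⁻¹) * (b * a) := by group
        _ = b * a := by rw [h, one_mul]
    exact ⟨fun x hx g => by rwa [hab g x, mul_inv_cancel_right]⟩

end Cfsg.Agent.BlockCharsA.CentralizerStar
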