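import Mathlib
import Cfsg.Agent.BlockCharsA.NormalSupport
import Cfsg.Agent.Lib.Blocks.Covering
import Cfsg.Agent.Lib.CharTheory.ExtendChar

/-!
# The principal block of a product of two commuting subgroups meeting in a `p`-group
-/

set_option linter.style.haveILetI false
set_option linter.unusedSectionVars false

namespace Cfsg.Agent.BlockCharsA.CommutingProduct

open Cfsg.Agent.Blocks Cfsg.Agent.Characters Cfsg.Agent.CharTheory
open Cfsg.Agent.BlockCharsA.NormalSupport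

universe u

variable {G : Type u} [Group G] [Finite G] {p : ℕ} {M : Ideal Cfsg.AlgInt}

/-- Membership of the principal block is decided on the `p`-regular elements. -/
theorem mem_principal_of_regular (hM : Cfsg.IsPModular p M) {χ : Cfsg.IrrCharacter G}
    (h : ∀ g : G, ¬ p ∣ orderOf g →
      Cong M (Cfsg.centralChar (trivIrr G : G → ℂ) g) (Cfsg.centralChar (χ : G → ℂ) g)) :
    χ ∈ Cfsg.principalBlock M G := by
  classical
  haveI := Fintype.ofFinite (ConjClasses G)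
  have hB := isPBlock_principal M G
  have h1 : Cong M (omega (trivIrr G : G → ℂ) (blockIdem (Cfsg.principalBlock M G)))
      (omega (χ : G → ℂ) (blockIdem (Cfsg.principalBlock M G))) := by
    rw [central_eq_sum (central_blockIdem _), omega_sum, omega_sum]
    refine cong_sum hM fun C _ => ?_
    simp only [omega_smul, omega_classSum (irr_isClassFunction _), coeff_blockIdem]
    by_cases hC : p ∣ orderOf (Quotient.out C)
    · rw [blockCoeff_eq_zero_of_singular hM (intEl_blockIdem hM hB) hC, zero_mul, zero_mul]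
      exact cong_refl hM _
    · exact cong_mul_left hM (blockCoeff_ring hM hB _) (h _ hC)
  by_contra hne
  rw [omega_blockIdem_mem (trivIrr_mem_principal hM), omega_blockIdem_notMem hne] at h1
  exact not_cong_zero_one hM (cong_symm hM h1)

variable {U V : Subgroup G}

/-- Classes of a factor are classes of the product. -/
theorem isConj_coe_iff (hcomm : ∀ u ∈ U, ∀ v ∈ V, u * v = v * u) (hgen : U ⊔ V = ⊤) [V.Normal]
    (a b : U) : IsConj a b ↔ IsConj (a : G) (b : G) := by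
  refine ⟨fun h => ?_, fun h => ?_⟩
  · obtain ⟨c, hc⟩ := isConj_iff.1 h
    exact isConj_iff.2 ⟨c, congrArg Subtype.val hc⟩
  · obtain ⟨c, hc⟩ := isConj_iff.1 h
    obtain ⟨c₁, h₁, c₂, h₂, rfl⟩ :=
      Subgroup.mem_sup_of_normal_right.1 (hgen.symm ▸ Subgroup.mem_top c : c ∈ U ⊔ V)
    refine isConj_iff.2 ⟨⟨c₁, h₁⟩, Subtype.ext ?_⟩
    rw [← hc]
    show c₁ * a * c₁⁻¹ = c₁ * c₂ * a * (c₁ * c₂)⁻¹
    rw [mul_assoc c₁ c₂, ← hcomm a a.2 c₂ h₂]
    group

theorem normal_left (hcomm : ∀ u ∈ U, ∀ v ∈ V, u * v = v * u) (hgen : U ⊔ V = ⊤) : U.Normal := by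
  rw [← Subgroup.normalizer_eq_top_iff, eq_top_iff, ← hgen]
  refine sup_le Subgroup.le_normalizer fun v hv => Subgroup.mem_normalizer_iff.2 fun g => ?_
  refine ⟨fun hg => ?_, fun hg => ?_⟩
  · rw [← hcomm g hg v hv, mul_inv_cancel_right]; exact hg
  · have h := hcomm _ hg v hv
    have e : v * g * v⁻¹ = g := by
      calc v * g * v⁻¹ = v⁻¹ * (v * g * v⁻¹ * v) := by rw [h]; group
        _ = g := by group
    rwa [e] at hg

/-- The central character on a factor is that of a constituent. -/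
theorem centralChar_factor [Fintype U] (hcomm : ∀ u ∈ U, ∀ v ∈ V, u * v = v * u)
    (hgen : U ⊔ V = ⊤) (χ : Cfsg.IrrCharacter G) (ψ : Cfsg.IrrCharacter U)
    (h : Cfsg.classInner (fun u : U => (χ : G → ℂ) u) (ψ : U → ℂ) ≠ 0) (u : U) :
    Cfsg.centralChar (χ : G → ℂ) (u : G) = Cfsg.centralChar (ψ : U → ℂ) u := by
  classical
  haveI := normal_left hcomm hgen
  haveI := normal_left (U := V) (V := U) (fun a ha b hb => (hcomm b hb a ha).symm)
    (by rw [sup_comm]; exact hgen)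
  rw [← omega_classSum (irr_isClassFunction χ), ← omega_classSum (irr_isClassFunction ψ),
    ← push_res_classSum u, omega_push_eq χ ψ h (isInvEl_res (central_classSum _))]
  refine congrArg _ (el_ext fun x => ?_)
  rw [coeff_res, coeff_classSum, coeff_classSum, isConj_coe_iff hcomm hgen]

/-- On `p`-regular elements the central characters multiply. -/
theorem centralChar_mul (hM : Cfsg.IsPModular p M) (hcomm : ∀ u ∈ U, ∀ v ∈ V, u * v = v * u)
    (hgen : U ⊔ V = ⊤) (hZ : IsPGroup p ↥(U ⊓ V)) {a b : G} (ha : a ∈ U) (hb : b ∈ V)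
    (hra : ¬ p ∣ orderOf a) (χ : Cfsg.IrrCharacter G) :
    Cfsg.centralChar (χ : G → ℂ) (a * b) =
      Cfsg.centralChar (χ : G → ℂ) a * Cfsg.centralChar (χ : G → ℂ) b := by
  classical
  haveI := Fintype.ofFinite G
  haveI hUn := normal_left hcomm hgen
  haveI hVn := normal_left (U := V) (V := U) (fun x hx y hy => (hcomm y hy x hx).symm)
    (by rw [sup_comm]; exact hgen)
  simp only [← omega_classSum (irr_isClassFunction χ)]
  rw [← omega_mul χ (central_classSum a)]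
  refine congrArg _ (el_ext fun x => ?_)
  have hmemU : ∀ y, IsConj a y → y ∈ U := fun y hy => by
    obtain ⟨c, rfl⟩ := isConj_iff.1 hy; exact hUn.conj_mem a ha c
  have hmemV : ∀ y, IsConj b y → y ∈ V := fun y hy => by
    obtain ⟨c, rfl⟩ := isConj_iff.1 hy; exact hVn.conj_mem b hb c
  simp only [coeff_mul', coeff_classSum, ite_mul, one_mul, zero_mul, ← ite_and]
  symm
  rw [Finset.sum_congr rfl (g := fun y : G =>
    (((if IsConj a y ∧ IsConj b (y⁻¹ * x) then 1 else 0 : ℕ)) : ℂ))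
    fun y _ => by by_cases h : IsConj a y ∧ IsConj b (y⁻¹ * x) <;> simp [h],
    ← Nat.cast_sum, Finset.sum_boole, Nat.cast_id]
  split_ifs with hx
  · obtain ⟨c, rfl⟩ := isConj_iff.1 hx
    rw [Finset.card_eq_one.2 ⟨c * a * c⁻¹, Finset.eq_singleton_iff_unique_mem.2 ⟨?_, ?_⟩⟩,
      Nat.cast_one]
    · refine Finset.mem_filter.2 ⟨Finset.mem_univ _, isConj_iff.2 ⟨c, rfl⟩, isConj_iff.2 ⟨c, ?_⟩⟩
      group
    · intro y hy
      obtain ⟨-, hy1, hy2⟩ := Finset.mem_filter.1 hy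
      set a₀ := c * a * c⁻¹
      set b₀ := c * b * c⁻¹
      have ha₀ : a₀ ∈ U := hUn.conj_mem a ha c
      have hb₀ : b₀ ∈ V := hVn.conj_mem b hb c
      have he : y⁻¹ * (c * (a * b) * c⁻¹) = y⁻¹ * a₀ * b₀ := by simp only [a₀, b₀]; group
      rw [he] at hy2
      have hz : y⁻¹ * a₀ ∈ U ⊓ V := Subgroup.mem_inf.2
        ⟨U.mul_mem (inv_mem (hmemU y hy1)) ha₀, by
          simpa using V.mul_mem (hmemV _ hy2) (inv_mem hb₀)⟩
      obtain ⟨k, hk⟩ := hZ ⟨_, hz⟩
      have hk' : (y⁻¹ * a₀) ^ p ^ k = 1 := by simpa using congrArg Subtype.val hk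
      have hcz : Commute y⁻¹ a₀ := by
        have h1 : y * (y⁻¹ * a₀) = y⁻¹ * a₀ * y :=
          hcomm y (hmemU y hy1) _ (Subgroup.mem_inf.1 hz).2
        have h2 : a₀ = y⁻¹ * a₀ * y := by rw [← h1]; group
        show y⁻¹ * a₀ = a₀ * y⁻¹
        calc y⁻¹ * a₀ = (y⁻¹ * a₀ * y) * y⁻¹ := by group
          _ = _ := by rw [← h2]
      have hya : ∀ y, IsConj a y → y ^ orderOf a = 1 := fun y hy => by
        obtain ⟨d, rfl⟩ := isConj_iff.1 hy
        rw [conj_pow, pow_orderOf_eq_one, mul_one, mul_inv_cancel]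
      have hm : (y⁻¹ * a₀) ^ orderOf a = 1 := by
        rw [hcz.mul_pow, inv_pow, hya y hy1, hya a₀ (isConj_iff.2 ⟨c, rfl⟩), inv_one, one_mul]
      have := ExtendChar.eq_one_of_pow_coprime hm hk'
        (Nat.Coprime.pow_right _ ((Nat.Prime.coprime_iff_not_dvd hM.1).2 hra).symm)
      exact inv_mul_eq_one.1 this
  · rw [Finset.card_eq_zero.2 (Finset.filter_eq_empty_iff.2 fun y _ hy => hx ?_), Nat.cast_zero]
    obtain ⟨c, hc⟩ := isConj_iff.1 hy.1
    obtain ⟨d, hd⟩ := isConj_iff.1 hy.2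
    obtain ⟨c₁, hc₁, c₂, hc₂, rfl⟩ :=
      Subgroup.mem_sup_of_normal_right.1 (hgen.symm ▸ Subgroup.mem_top c : c ∈ U ⊔ V)
    obtain ⟨d₁, hd₁, d₂, hd₂, rfl⟩ :=
      Subgroup.mem_sup_of_normal_right.1 (hgen.symm ▸ Subgroup.mem_top d : d ∈ U ⊔ V)
    refine isConj_iff.2 ⟨c₁ * d₂, ?_⟩
    have e1 : c₂ * a * c₂⁻¹ = a := by rw [← hcomm a ha c₂ hc₂, mul_inv_cancel_right]
    have e2 : d₁ * (d₂ * b * d₂⁻¹) * d₁⁻¹ = d₂ * b * d₂⁻¹ := by
      rw [hcomm d₁ hd₁ _ (hVn.conj_mem b hb d₂), mul_inv_cancel_right]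
    have hy0 : y = c₁ * a * c₁⁻¹ := by
      rw [← hc]
      calc c₁ * c₂ * a * (c₁ * c₂)⁻¹ = c₁ * (c₂ * a * c₂⁻¹) * c₁⁻¹ := by group
        _ = _ := by rw [e1]
    have hy1 : y⁻¹ * x = d₂ * b * d₂⁻¹ := by
      rw [← hd]
      calc d₁ * d₂ * b * (d₁ * d₂)⁻¹ = d₁ * (d₂ * b * d₂⁻¹) * d₁⁻¹ := by group
        _ = _ := e2
    have e3 : d₂ * a * d₂⁻¹ = a := by rw [← hcomm a ha d₂ hd₂, mul_inv_cancel_right]
    have e4 : c₁ * (d₂ * b * d₂⁻¹) * c₁⁻¹ = d₂ * b * d₂⁻¹ := by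
      rw [hcomm c₁ hc₁ _ (hVn.conj_mem b hb d₂), mul_inv_cancel_right]
    calc c₁ * d₂ * (a * b) * (c₁ * d₂)⁻¹
        = (c₁ * (d₂ * a * d₂⁻¹) * c₁⁻¹) * (c₁ * (d₂ * b * d₂⁻¹) * c₁⁻¹) := by group
      _ = y * (y⁻¹ * x) := by rw [e3, e4, hy0, ← hy1, hy0]
      _ = x := by group

/-- A `p`-regular element is a product of `p`-regular elements of the factors. -/
theorem exists_regular_factors (hp : p.Prime) (hcomm : ∀ u ∈ U, ∀ v ∈ V, u * v = v * u)
    (hgen : U ⊔ V = ⊤) {g : G} (hg : ¬ p ∣ orderOf g) :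
    ∃ a ∈ U, ∃ b ∈ V, ¬ p ∣ orderOf a ∧ ¬ p ∣ orderOf b ∧ a * b = g := by
  haveI := normal_left hcomm hgen
  obtain ⟨a, ha, b, hb, rfl⟩ :=
    Subgroup.mem_sup_of_normal_left.1 (hgen.symm ▸ Subgroup.mem_top g : g ∈ U ⊔ V)
  set P := p ^ (Nat.card G).factorization p with hPdef
  have hcopg : P.Coprime (orderOf (a * b)) := Nat.Coprime.pow_left _ (hp.coprime_iff_not_dvd.2 hg)
  obtain ⟨e, he0, he1⟩ := Nat.chineseRemainder hcopg 0 1
  obtain ⟨k, hk⟩ := Nat.modEq_zero_iff_dvd.1 he0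
  have hcl : ∀ x : G, ¬ p ∣ orderOf (x ^ e) := fun x hx => by
    have h1 : orderOf (x ^ e) ∣ Nat.card G / P := by
      refine orderOf_dvd_of_pow_eq_one ?_
      rw [← pow_mul, hk, mul_comm P k, mul_assoc, Nat.mul_div_cancel'
        (Nat.ordProj_dvd _ p), mul_comm, pow_mul, pow_card_eq_one', one_pow]
    exact Nat.not_dvd_ordCompl hp Nat.card_pos.ne' (hx.trans h1)
  refine ⟨a ^ e, U.pow_mem ha e, b ^ e, V.pow_mem hb e, hcl a, hcl b, ?_⟩
  rw [← (show Commute a b from hcomm a ha b hb).mul_pow]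
  conv_rhs => rw [← pow_one (a * b)]
  exact pow_eq_pow_iff_modEq.2 he1

end Cfsg.Agent.BlockCharsA.CommutingProduct
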