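import Mathlib
import Cfsg.Agent.BlockCharsA.RegularPart
import Cfsg.Agent.BlockCharsA.Rank

/-!
# Contributions of the regular elements
-/

set_option linter.style.haveILetI false
set_option linter.unusedSectionVars false

namespace Cfsg.Agent.BlockCharsA.Contrib

open Cfsg.Agent.Blocks Cfsg.Agent.Characters Cfsg.Agent.BlockCharsA.RegularPart
open scoped ComplexConjugate

universe u

variable {G : Type u} [Group G] [Finite G] {p : ℕ} {M : Ideal Cfsg.AlgInt}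

/-- `p ^ d` times the inner product on the regular elements. -/
noncomputable def contrib (p : ℕ) (B : Set (Cfsg.IrrCharacter G)) (χ ψ : Cfsg.IrrCharacter G) : ℂ :=
  ((p ^ Cfsg.blockDefect p B : ℕ) : ℂ) / (Nat.card G : ℂ) * regSum p (χ : G → ℂ) (ψ : G → ℂ)

theorem classInner_hat_regSum [Fintype G] (c : ℂ) (χ ψ : Cfsg.IrrCharacter G) :
    Cfsg.classInner (hat p c (χ : G → ℂ)) (ψ : G → ℂ) =
      c / (Nat.card G : ℂ) * regSum p (χ : G → ℂ) (ψ : G → ℂ) := by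
  classical
  rw [classInner_def, regSum_eq_sum, Finset.mul_sum, Finset.mul_sum]
  refine Finset.sum_congr rfl fun x _ => ?_
  by_cases h : p ∣ orderOf x
  · simp [hat, h]
  · simp only [hat, h, if_false, not_false_eq_true, if_true]; ring

theorem contrib_comm (B : Set (Cfsg.IrrCharacter G)) (χ ψ : Cfsg.IrrCharacter G) :
    contrib p B ψ χ = conj (contrib p B χ ψ) := by
  classical
  haveI := Fintype.ofFinite G
  rw [contrib, contrib, regSum_eq_sum, regSum_eq_sum, map_mul, map_div₀, Complex.conj_natCast,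
    Complex.conj_natCast, map_sum]
  congr 1
  refine Finset.sum_congr rfl fun x _ => ?_
  split
  · rw [map_mul, Complex.conj_conj, mul_comm]
  · exact (map_zero _).symm

variable {B : Set (Cfsg.IrrCharacter G)}

theorem finsum_split {R : Type*} [AddCommMonoid R] {χ : Cfsg.IrrCharacter G} (hχ : χ ∈ B)
    (f : Cfsg.IrrCharacter G → R) : ∑ᶠ ψ ∈ B, f ψ = f χ + ∑ᶠ ψ ∈ B \ {χ}, f ψ := by
  rw [← finsum_mem_insert f (by simp) (Set.toFinite _), Set.insert_diff_singleton,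
    Set.insert_eq_self.2 hχ]

/-- The contributions are integers; they are divisible by the `p`-part of the height, exactly for
a partner of height zero, and more for a partner of positive height. -/
theorem exists_int (hM : Cfsg.IsPModular p M) (hB : Cfsg.IsPBlock M B)
    {χ ψ : Cfsg.IrrCharacter G} (hχ : χ ∈ B) (hψ : ψ ∈ B) :
    ∃ z : ℤ, contrib p B χ ψ = (z : ℂ) ∧
      (p : ℤ) ^ Cfsg.blockHeight p B (ψ : G → ℂ) ∣ z ∧
      (Cfsg.blockHeight p B (χ : G → ℂ) = 0 → z ≠ 0) ∧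
      (Cfsg.blockHeight p B (χ : G → ℂ) ≠ 0 →
        (p : ℤ) ^ (Cfsg.blockHeight p B (ψ : G → ℂ) + 1) ∣ z) := by
  haveI := fact_prime_of_pm hM
  haveI := Fintype.ofFinite G
  obtain ⟨z, hz, hz', hdvd⟩ := exists_coeff hM χ ψ
  have hdeg := degree_factorization_eq hM hB hψ
  have hle := blockDefect_le p B
  set a := (Nat.card G).factorization p
  set d := Cfsg.blockDefect p B
  set h := Cfsg.blockHeight p B (ψ : G → ℂ)
  set m := (Cfsg.charDegree (ψ : G → ℂ)).factorization p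
  have hm : m = a - d + h := by omega
  rw [hm, pow_add] at hdvd
  obtain ⟨w, hw⟩ := hdvd
  have hp0 : (p : ℤ) ^ (a - d) ≠ 0 := pow_ne_zero _ (Int.natCast_ne_zero.2 hM.1.ne_zero)
  refine ⟨(p : ℤ) ^ h * w, ?_, dvd_mul_right _ _, fun h0 => ?_, fun h0 => ?_⟩
  · rw [classInner_hat_regSum, hw] at hz
    rw [contrib]
    apply mul_left_cancel₀ (natCast_p_pow_ne_zero hM (a - d))
    rw [← mul_assoc, mul_div, ← Nat.cast_mul, ← pow_add, Nat.sub_add_cancel hle, hz]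
    push_cast
    ring
  · intro h1
    have hu := (ratio_unit_iff hM hB hχ hψ).2 h0
    refine hu ?_
    have hz0 : z = 0 := by rw [hw, mul_assoc, h1, mul_zero]
    rw [hz0, Int.cast_zero] at hz'
    rw [(mul_eq_zero.1 hz'.symm).resolve_left (Nat.cast_ne_zero.2 (charDegree_pos ψ).ne')]
    exact ideal_zero hM
  · have hi : Cfsg.MemLocalIdeal M (ratio p (χ : G → ℂ) (ψ : G → ℂ)) := by
      by_contra hne
      exact h0 ((ratio_unit_iff hM hB hχ hψ).1 hne)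
    obtain ⟨u, -, hu⟩ := exists_natCast_eq_pow_mul hM (charDegree_pos ψ).ne'
    have hwi : Cfsg.MemLocalIdeal M (w : ℂ) := by
      have hp : ((p : ℂ) ^ m) ≠ 0 := pow_ne_zero _ (Nat.cast_ne_zero.2 hM.1.ne_zero)
      have e : (w : ℂ) = (u : ℂ) * ratio p (χ : G → ℂ) (ψ : G → ℂ) := by
        refine mul_left_cancel₀ hp ?_
        rw [← mul_assoc, ← hu, ← hz', hw, hm, pow_add]
        push_cast
        ring
      rw [e]
      exact ideal_mul_left hM (ring_natCast hM u) hi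
    rw [pow_succ]
    exact mul_dvd_mul_left _ ((ideal_intCast_iff hM w).1 hwi)

theorem sum_mul_contrib (hM : Cfsg.IsPModular p M) (hB : Cfsg.IsPBlock M B)
    {χ ψ : Cfsg.IrrCharacter G} (hχ : χ ∈ B) :
    ∑ᶠ θ ∈ B, contrib p B χ θ * contrib p B θ ψ =
      ((p ^ Cfsg.blockDefect p B : ℕ) : ℂ) * contrib p B χ ψ := by
  classical
  haveI := Fintype.ofFinite G
  haveI := Fintype.ofFinite (Cfsg.IrrCharacter G)
  set P : ℂ := ((p ^ Cfsg.blockDefect p B : ℕ) : ℂ)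
  have hfg : Cfsg.classInner (hat p P (χ : G → ℂ)) (hat p 1 (ψ : G → ℂ)) = contrib p B χ ψ := by
    rw [contrib, classInner_def, regSum_eq_sum, Finset.mul_sum, Finset.mul_sum]
    refine Finset.sum_congr rfl fun x _ => ?_
    by_cases h : p ∣ orderOf x
    · simp [hat, h]
    · simp only [hat, h, if_false, not_false_eq_true, if_true, one_mul]; ring
  rw [classFun_eq_sum (hat_isClassFunction (p := p) (c := P) (irr_isClassFunction χ)),
    classInner_sum_left] at hfg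
  rw [← hfg, Finset.mul_sum, ZStar.Principal.finsum_mem_eq_sum_filter]
  refine Eq.trans ?_ (Finset.sum_subset (s₁ := Finset.univ.filter fun θ => θ ∈ B)
    (Finset.subset_univ _) fun θ _ hθ => ?_)
  · refine Finset.sum_congr rfl fun θ _ => ?_
    have e : Cfsg.classInner (θ : G → ℂ) (hat p 1 (ψ : G → ℂ)) =
        (Nat.card G : ℂ)⁻¹ * regSum p (θ : G → ℂ) (ψ : G → ℂ) := by
      rw [classInner_conj_symm, classInner_hat_regSum, map_mul, map_div₀, map_one,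
        Complex.conj_natCast, one_div]
      congr 1
      rw [regSum_eq_sum, regSum_eq_sum, map_sum]
      refine Finset.sum_congr rfl fun x _ => ?_
      split
      · rw [map_mul, Complex.conj_conj, mul_comm]
      · exact map_zero _
    rw [classInner_smul_left, e, classInner_hat_regSum, contrib, contrib]
    ring
  · rw [classInner_smul_left, classInner_hat_regSum,
      regSum_eq_zero_of_not_sameBlock hM fun h => hθ (Finset.mem_filter.2
        ⟨Finset.mem_univ _, mem_of_sameBlock hM hB hχ h⟩), mul_zero, zero_mul, mul_zero]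

theorem sum_contrib_self (hM : Cfsg.IsPModular p M) (hB : Cfsg.IsPBlock M B) :
    ∑ᶠ χ ∈ B, contrib p B χ χ =
      ((p ^ Cfsg.blockDefect p B : ℕ) : ℂ) * (Cfsg.blockRank p B : ℂ) := by
  classical
  haveI := Fintype.ofFinite G
  haveI := Fintype.ofFinite (Cfsg.IrrCharacter G)
  rw [Rank.blockRank_eq_trace hM (intEl_blockIdem hM hB), Finset.mul_sum,
    ZStar.Principal.finsum_mem_eq_sum_filter]
  simp only [contrib, regSum_eq_sum, blockKernelAt_eq_sum, Finset.mul_sum]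
  rw [Finset.sum_comm]
  refine Finset.sum_congr rfl fun y _ => ?_
  by_cases h : p ∣ orderOf y
  · simp [h]
  · simp only [h, not_false_eq_true, if_true, Finset.mul_sum, Finset.sum_filter]
    refine Finset.sum_congr rfl fun χ _ => ?_
    split
    · ring
    · ring

theorem contrib_self_pos (hM : Cfsg.IsPModular p M) (B : Set (Cfsg.IrrCharacter G))
    (χ : Cfsg.IrrCharacter G) {z : ℤ} (hz : contrib p B χ χ = (z : ℂ)) : 0 < z := by
  classical
  haveI := Fintype.ofFinite G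
  set f : G → ℝ := fun x => if ¬ p ∣ orderOf x then ‖(χ : G → ℂ) x‖ ^ 2 else 0
  have he : contrib p B χ χ =
      (((p ^ Cfsg.blockDefect p B : ℕ) : ℝ) / (Nat.card G : ℝ) * ∑ x, f x : ℝ) := by
    rw [contrib, regSum_eq_sum]
    push_cast
    congr 1
    refine Finset.sum_congr rfl fun x _ => ?_
    simp only [f]
    split
    · rw [Complex.mul_conj', Complex.ofReal_pow]
    · exact Complex.ofReal_zero.symm
  rw [hz] at he
  have hr : (z : ℝ) = ((p ^ Cfsg.blockDefect p B : ℕ) : ℝ) / (Nat.card G : ℝ) * ∑ x, f x := by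
    exact_mod_cast he
  have hpos : (0 : ℝ) < z := by
    rw [hr]
    refine mul_pos (div_pos (Nat.cast_pos.2 (Nat.pow_pos hM.1.pos)) (Nat.cast_pos.2 Nat.card_pos)) ?_
    refine Finset.sum_pos' (fun x _ => ?_) ⟨1, Finset.mem_univ _, ?_⟩
    · simp only [f]; split <;> positivity
    · simp only [f, orderOf_one, hM.1.ne_one, Nat.dvd_one, not_false_eq_true, if_true]
      exact pow_pos (norm_pos_iff.2 (irr_one_ne_zero χ.2)) 2
  exact_mod_cast hpos

/-- The integer contributions. -/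
theorem exists_matrix (hM : Cfsg.IsPModular p M) (hB : Cfsg.IsPBlock M B) :
    ∃ z : Cfsg.IrrCharacter G → Cfsg.IrrCharacter G → ℤ,
      (∀ χ ∈ B, ∀ ψ ∈ B, contrib p B χ ψ = (z χ ψ : ℂ)) ∧
      (∀ χ ∈ B, ∀ ψ ∈ B, z ψ χ = z χ ψ) ∧
      (∀ χ ∈ B, ∀ ψ ∈ B, (p : ℤ) ^ Cfsg.blockHeight p B (ψ : G → ℂ) ∣ z χ ψ) ∧
      (∀ χ ∈ B, ∀ ψ ∈ B, Cfsg.blockHeight p B (χ : G → ℂ) = 0 → z χ ψ ≠ 0) ∧
      (∀ χ ∈ B, ∀ ψ ∈ B, Cfsg.blockHeight p B (χ : G → ℂ) ≠ 0 →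
        (p : ℤ) ^ (Cfsg.blockHeight p B (ψ : G → ℂ) + 1) ∣ z χ ψ) ∧
      (∀ χ ∈ B, 0 < z χ χ) ∧
      (∀ χ ∈ B, ∑ᶠ θ ∈ B, z χ θ ^ 2 = (p : ℤ) ^ Cfsg.blockDefect p B * z χ χ) ∧
      (∀ χ ∈ B, ∀ ψ ∈ B, ∑ᶠ θ ∈ B, z χ θ * z θ ψ = (p : ℤ) ^ Cfsg.blockDefect p B * z χ ψ) ∧
      ∑ᶠ χ ∈ B, z χ χ = (p : ℤ) ^ Cfsg.blockDefect p B * (Cfsg.blockRank p B : ℤ) := by
  classical
  haveI := Fintype.ofFinite (Cfsg.IrrCharacter G)
  have hex : ∀ χ ψ : Cfsg.IrrCharacter G, ∃ z : ℤ, χ ∈ B → ψ ∈ B →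
      contrib p B χ ψ = (z : ℂ) := fun χ ψ => by
    by_cases h : χ ∈ B ∧ ψ ∈ B
    · obtain ⟨z, hz, -⟩ := exists_int hM hB h.1 h.2
      exact ⟨z, fun _ _ => hz⟩
    · exact ⟨0, fun h1 h2 => absurd ⟨h1, h2⟩ h⟩
  choose z hz using hex
  have hprop : ∀ χ ∈ B, ∀ ψ ∈ B,
      (p : ℤ) ^ Cfsg.blockHeight p B (ψ : G → ℂ) ∣ z χ ψ ∧
      (Cfsg.blockHeight p B (χ : G → ℂ) = 0 → z χ ψ ≠ 0) ∧
      (Cfsg.blockHeight p B (χ : G → ℂ) ≠ 0 →
        (p : ℤ) ^ (Cfsg.blockHeight p B (ψ : G → ℂ) + 1) ∣ z χ ψ) := fun χ hχ ψ hψ => by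
    obtain ⟨w, hw, h⟩ := exists_int hM hB hχ hψ
    rw [hz χ ψ hχ hψ, Int.cast_inj] at hw
    rwa [hw]
  have hsymm : ∀ χ ∈ B, ∀ ψ ∈ B, z ψ χ = z χ ψ := fun χ hχ ψ hψ => by
    have h := contrib_comm (p := p) B χ ψ
    rw [hz χ ψ hχ hψ, hz ψ χ hψ hχ, map_intCast, Int.cast_inj] at h
    exact h
  have hprod : ∀ χ ∈ B, ∀ ψ ∈ B,
      ∑ᶠ θ ∈ B, z χ θ * z θ ψ = (p : ℤ) ^ Cfsg.blockDefect p B * z χ ψ := fun χ hχ ψ hψ => by
    have h := sum_mul_contrib hM hB (ψ := ψ) hχ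
    rw [ZStar.Principal.finsum_mem_eq_sum_filter] at h ⊢
    rw [Finset.sum_congr rfl fun θ hθ => by
      rw [hz χ θ hχ (Finset.mem_filter.1 hθ).2, hz θ ψ (Finset.mem_filter.1 hθ).2 hψ],
      hz χ ψ hχ hψ] at h
    apply Int.cast_injective (α := ℂ)
    push_cast at h ⊢
    exact h
  refine ⟨z, fun χ h ψ => hz χ ψ h, hsymm, fun χ h ψ h' => (hprop χ h ψ h').1,
    fun χ h ψ h' => (hprop χ h ψ h').2.1, fun χ h ψ h' => (hprop χ h ψ h').2.2,
    fun χ h => contrib_self_pos hM B χ (hz χ χ h h), fun χ hχ => ?_, hprod, ?_⟩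
  · rw [← hprod χ hχ χ hχ]
    exact finsum_congr fun θ => finsum_congr fun hθ => by rw [hsymm χ hχ θ hθ, sq]
  · have h := sum_contrib_self hM hB
    rw [ZStar.Principal.finsum_mem_eq_sum_filter] at h ⊢
    rw [Finset.sum_congr rfl fun θ hθ => hz θ θ (Finset.mem_filter.1 hθ).2
      (Finset.mem_filter.1 hθ).2] at h
    apply Int.cast_injective (α := ℂ)
    push_cast at h ⊢
    exact h

/-- The row of a character of the block, apart from the diagonal, is at most a quarter of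
`p ^ (2 d)`. -/
theorem four_mul_row_le (hM : Cfsg.IsPModular p M) (hB : Cfsg.IsPBlock M B)
    {χ : Cfsg.IrrCharacter G} (hχ : χ ∈ B) :
    ∃ z : Cfsg.IrrCharacter G → ℤ,
      (∀ ψ ∈ B, contrib p B χ ψ = (z ψ : ℂ)) ∧
      (∀ ψ ∈ B, (p : ℤ) ^ Cfsg.blockHeight p B (ψ : G → ℂ) ∣ z ψ) ∧
      (Cfsg.blockHeight p B (χ : G → ℂ) = 0 → ∀ ψ ∈ B, z ψ ≠ 0) ∧
      (Cfsg.blockHeight p B (χ : G → ℂ) ≠ 0 → ∀ ψ ∈ B,
        (p : ℤ) ^ (Cfsg.blockHeight p B (ψ : G → ℂ) + 1) ∣ z ψ ∧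
        (Cfsg.blockHeight p B (ψ : G → ℂ) = 0 → z ψ ≠ 0 ∧
          (p : ℤ) ^ Cfsg.blockHeight p B (χ : G → ℂ) ∣ z ψ) ∧
        (p : ℤ) ^ (Cfsg.blockHeight p B (χ : G → ℂ) + 1) ∣ z χ) ∧
      0 < z χ ∧ 4 * ∑ᶠ ψ ∈ B \ {χ}, z ψ ^ 2 ≤ (p : ℤ) ^ (2 * Cfsg.blockDefect p B) ∧
      z χ * z χ + ∑ᶠ ψ ∈ B \ {χ}, z ψ ^ 2 = (p : ℤ) ^ Cfsg.blockDefect p B * z χ := by
  classical
  haveI := Fintype.ofFinite (Cfsg.IrrCharacter G)
  obtain ⟨z, hz, hs, h1, h2, h3, h4, h5, -, -⟩ := exists_matrix hM hB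
  have heq : z χ χ * z χ χ + ∑ᶠ ψ ∈ B \ {χ}, z χ ψ ^ 2 =
      (p : ℤ) ^ Cfsg.blockDefect p B * z χ χ := by
    rw [← h5 χ hχ, ← sq, finsum_split hχ (fun ψ => z χ ψ ^ 2)]
  refine ⟨z χ, fun ψ h => hz χ hχ ψ h, fun ψ h => h1 χ hχ ψ h, fun h ψ h' => h2 χ hχ ψ h' h,
    fun h ψ h' => ⟨h3 χ hχ ψ h' h, fun h0 => ?_, h3 χ hχ χ hχ h⟩, h4 χ hχ, ?_, heq⟩
  · rw [← hs χ hχ ψ h']
    exact ⟨h2 ψ h' χ hχ h0, h1 ψ h' χ hχ⟩
  · rw [mul_comm 2, pow_mul]
    nlinarith [sq_nonneg ((p : ℤ) ^ Cfsg.blockDefect p B - 2 * z χ χ), heq]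

theorem sq_pow_le_of_dvd {p h : ℕ} {z : ℤ} (hd : (p : ℤ) ^ h ∣ z) (hz : z ≠ 0) :
    (p : ℤ) ^ (2 * h) ≤ z ^ 2 := by
  rw [mul_comm, pow_mul, ← sq_abs z]
  refine pow_le_pow_left₀ (by positivity) ?_ 2
  exact Int.le_of_dvd (abs_pos.2 hz) ((dvd_abs _ _).2 hd)

/-- The sum of `p ^ (2 h)` over a block. -/
theorem sum_heights_le (hM : Cfsg.IsPModular p M) (hB : Cfsg.IsPBlock M B) :
    4 * ∑ᶠ χ ∈ B, p ^ (2 * Cfsg.blockHeight p B (χ : G → ℂ)) ≤
      p ^ (2 * Cfsg.blockDefect p B) + 4 := by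
  classical
  obtain ⟨χ, hχ, h0⟩ := exists_height_zero hM hB
  obtain ⟨z, -, hd, hne, -, -, hle, -⟩ := four_mul_row_le hM hB hχ
  have hkey : ((∑ᶠ ψ ∈ B \ {χ}, p ^ (2 * Cfsg.blockHeight p B (ψ : G → ℂ)) : ℕ) : ℤ) ≤
      ∑ᶠ ψ ∈ B \ {χ}, z ψ ^ 2 := by
    haveI := Fintype.ofFinite (Cfsg.IrrCharacter G)
    rw [ZStar.Principal.finsum_mem_eq_sum_filter, ZStar.Principal.finsum_mem_eq_sum_filter,
      Nat.cast_sum]
    refine Finset.sum_le_sum fun ψ hψ => ?_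
    have hψ' : ψ ∈ B := by
      simp only [Finset.mem_filter, Set.mem_sdiff] at hψ
      exact hψ.2.1
    push_cast
    exact sq_pow_le_of_dvd (hd ψ hψ') (hne h0 ψ hψ')
  rw [finsum_split hχ (fun ψ => p ^ (2 * Cfsg.blockHeight p B (ψ : G → ℂ))), h0, mul_zero,
    pow_zero]
  have hfin : (4 : ℤ) * ((∑ᶠ ψ ∈ B \ {χ}, p ^ (2 * Cfsg.blockHeight p B (ψ : G → ℂ)) : ℕ) : ℤ) ≤
      ((p ^ (2 * Cfsg.blockDefect p B) : ℕ) : ℤ) := by
    rw [Nat.cast_pow]
    exact (mul_le_mul_of_nonneg_left hkey (by norm_num)).trans hle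
  have : 4 * (∑ᶠ ψ ∈ B \ {χ}, p ^ (2 * Cfsg.blockHeight p B (ψ : G → ℂ))) ≤
      p ^ (2 * Cfsg.blockDefect p B) := by exact_mod_cast hfin
  omega

/-- Positive heights are at most `d - 2`. -/
theorem height_add_two_le (hM : Cfsg.IsPModular p M) (hB : Cfsg.IsPBlock M B)
    {χ : Cfsg.IrrCharacter G} (hχ : χ ∈ B) (h : Cfsg.blockHeight p B (χ : G → ℂ) ≠ 0) :
    Cfsg.blockHeight p B (χ : G → ℂ) + 2 ≤ Cfsg.blockDefect p B := by
  classical
  obtain ⟨ψ, hψ, h0⟩ := exists_height_zero hM hB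
  obtain ⟨z, -, -, -, h3, hpos, -, heq⟩ := four_mul_row_le hM hB hχ
  obtain ⟨-, hne, hdiag⟩ := h3 h ψ hψ
  set d := Cfsg.blockDefect p B
  by_contra hlt
  have hne' : ψ ≠ χ := fun e => h (e ▸ h0)
  have hge : (p : ℤ) ^ d ≤ z χ := by
    refine le_trans ?_ (Int.le_of_dvd hpos hdiag)
    exact pow_le_pow_right₀ (Int.ofNat_le.2 hM.1.one_lt.le) (by omega)
  have hpos2 : 0 < ∑ᶠ θ ∈ B \ {χ}, z θ ^ 2 := by
    haveI := Fintype.ofFinite (Cfsg.IrrCharacter G)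
    rw [ZStar.Principal.finsum_mem_eq_sum_filter]
    exact Finset.sum_pos' (fun θ _ => sq_nonneg _)
      ⟨ψ, by simp [hψ, hne'], sq_pos_of_ne_zero (hne h0).1⟩
  have hmul : (p : ℤ) ^ d * z χ ≤ z χ * z χ := mul_le_mul_of_nonneg_right hge hpos.le
  linarith

/-- With a character of positive height there are at most `p ^ (2 d - 2) / 2` characters. -/
theorem two_mul_card_le (hM : Cfsg.IsPModular p M) (hB : Cfsg.IsPBlock M B)
    {χ : Cfsg.IrrCharacter G} (hχ : χ ∈ B) (h : Cfsg.blockHeight p B (χ : G → ℂ) ≠ 0) :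
    2 * Nat.card B ≤ p ^ (2 * Cfsg.blockDefect p B - 2) := by
  classical
  haveI := Fintype.ofFinite (Cfsg.IrrCharacter G)
  obtain ⟨ψ₀, hψ₀, hψh⟩ := exists_height_zero hM hB
  obtain ⟨z, hz, hs, h1, h2, h3, h4, h5, -, -⟩ := exists_matrix hM hB
  obtain ⟨w, hw, -, hwne, -, -, hle, -⟩ := four_mul_row_le hM hB hψ₀
  set d := Cfsg.blockDefect p B with hd
  have hd2 := height_add_two_le hM hB hχ h
  set hh := Cfsg.blockHeight p B (χ : G → ℂ)
  -- every off-diagonal entry of the row of a height-zero character is nonzero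
  obtain ⟨v, hv, -, -, hv3, -, hvle, -⟩ := four_mul_row_le hM hB hχ
  have hk0 : ∀ ψ ∈ B \ {χ}, Cfsg.blockHeight p B (ψ : G → ℂ) = 0 →
      ((p : ℤ) ^ 2) ≤ v ψ ^ 2 := fun ψ hψ h0 => by
    obtain ⟨h6, h7⟩ := (hv3 h ψ hψ.1).2.1 h0
    refine le_trans ?_ (sq_pow_le_of_dvd (h := 1) ((pow_dvd_pow _ (Nat.one_le_iff_ne_zero.2 h)).trans h7) h6)
    norm_num
  -- the row of `χ` bounds the characters of height zero, that of `ψ₀` those of positive height
  set S0 := Finset.univ.filter fun ψ => ψ ∈ B ∧ Cfsg.blockHeight p B (ψ : G → ℂ) = 0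
  set S1 := Finset.univ.filter fun ψ => ψ ∈ B ∧ Cfsg.blockHeight p B (ψ : G → ℂ) ≠ 0
  have hcard : Nat.card B = S0.card + S1.card := by
    rw [← Finset.card_union_of_disjoint (Finset.disjoint_filter.2 fun ψ _ a b => b.2 a.2),
      Nat.card_eq_fintype_card, ← Set.toFinset_card]
    congr 1
    ext ψ
    simp only [S0, S1, Set.mem_toFinset, Finset.mem_union, Finset.mem_filter, Finset.mem_univ,
      true_and, ← and_or_left]
    exact ⟨fun hb => ⟨hb, em _⟩, fun hb => hb.1⟩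
  have hA : 4 * ((p : ℤ) ^ 2 * S0.card) ≤ (p : ℤ) ^ (2 * d) := by
    refine le_trans ?_ hvle
    refine mul_le_mul_of_nonneg_left ?_ (by norm_num)
    rw [ZStar.Principal.finsum_mem_eq_sum_filter, mul_comm, ← nsmul_eq_mul, ← Finset.sum_const]
    refine le_trans (Finset.sum_le_sum fun ψ hψ => ?_)
      (Finset.sum_le_sum_of_subset_of_nonneg ?_ fun _ _ _ => sq_nonneg _)
    · obtain ⟨-, hψB, h0⟩ := Finset.mem_filter.1 hψ
      exact hk0 ψ ⟨hψB, fun e => h (by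
        show Cfsg.blockHeight p B (χ : G → ℂ) = 0
        rw [← Set.mem_singleton_iff.1 e]; exact h0)⟩ h0
    · intro ψ hψ
      obtain ⟨-, hψB, h0⟩ := Finset.mem_filter.1 hψ
      simp only [Finset.mem_filter, Finset.mem_univ, true_and, Set.mem_sdiff,
        Set.mem_singleton_iff]
      exact ⟨hψB, fun e => h (by subst e; exact h0)⟩
  have hB1 : 4 * ((p : ℤ) ^ 2 * S1.card) ≤ (p : ℤ) ^ (2 * d) := by
    refine le_trans ?_ hle
    refine mul_le_mul_of_nonneg_left ?_ (by norm_num)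
    rw [ZStar.Principal.finsum_mem_eq_sum_filter, mul_comm, ← nsmul_eq_mul, ← Finset.sum_const]
    refine le_trans (Finset.sum_le_sum fun ψ hψ => ?_)
      (Finset.sum_le_sum_of_subset_of_nonneg ?_ fun _ _ _ => sq_nonneg _)
    · obtain ⟨-, hψB, h0⟩ := Finset.mem_filter.1 hψ
      have e : w ψ = z ψ₀ ψ := Int.cast_injective (α := ℂ)
        ((hw ψ hψB).symm.trans (hz ψ₀ hψ₀ ψ hψB))
      rw [e]
      refine le_trans ?_ (sq_pow_le_of_dvd (h := 1)
        ((pow_dvd_pow _ (Nat.one_le_iff_ne_zero.2 h0)).trans (h1 ψ₀ hψ₀ ψ hψB))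
        (h2 ψ₀ hψ₀ ψ hψB hψh))
      norm_num
    · intro ψ hψ
      obtain ⟨-, hψB, h0⟩ := Finset.mem_filter.1 hψ
      simp only [Finset.mem_filter, Finset.mem_univ, true_and, Set.mem_sdiff,
        Set.mem_singleton_iff]
      exact ⟨hψB, fun e => h0 (by rw [e]; exact hψh)⟩
  have h2d : 2 * d = 2 + (2 * d - 2) := by omega
  rw [h2d, pow_add] at hA hB1
  have hp2 : (0 : ℤ) < (p : ℤ) ^ 2 := pow_pos (Int.natCast_pos.2 hM.1.pos) 2
  have hA' : 4 * (S0.card : ℤ) ≤ (p : ℤ) ^ (2 * d - 2) :=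
    le_of_mul_le_mul_left (by linarith) hp2
  have hB' : 4 * (S1.card : ℤ) ≤ (p : ℤ) ^ (2 * d - 2) :=
    le_of_mul_le_mul_left (by linarith) hp2
  have : ((2 * Nat.card B : ℕ) : ℤ) ≤ ((p ^ (2 * d - 2) : ℕ) : ℤ) := by
    rw [hcard]; push_cast; linarith
  exact_mod_cast this

/-- A character of degree divisible by all but one of the `p`-part of the order forces the same
for its block. -/
theorem factorization_degree_ge (hM : Cfsg.IsPModular p M) (hB : Cfsg.IsPBlock M B)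
    {χ : Cfsg.IrrCharacter G} (hχ : χ ∈ B)
    (hdeg : (Nat.card G).factorization p ≤ (Cfsg.charDegree (χ : G → ℂ)).factorization p + 1)
    {ψ : Cfsg.IrrCharacter G} (hψ : ψ ∈ B) :
    (Nat.card G).factorization p ≤ (Cfsg.charDegree (ψ : G → ℂ)).factorization p + 1 := by
  have hχd := degree_factorization_eq hM hB hχ
  have hψd := degree_factorization_eq hM hB hψ
  have hle := blockDefect_le p B
  by_cases h : Cfsg.blockHeight p B (χ : G → ℂ) = 0
  · omega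
  · have := height_add_two_le hM hB hχ h
    omega

end Cfsg.Agent.BlockCharsA.Contrib
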