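import Mathlib
import Cfsg.Agent.BlockCharsA.GlaubermanSolvable
import Cfsg.Agent.BlockCharsA.AbelianIndex

/-!
# Invariant constituents under coprime operators, solvable quotient

Over an invariant character of a normal subgroup with solvable quotient of order prime to that
of the operator group there is an invariant irreducible character: in the commutative case the
twisting characters are averaged.
-/

set_option linter.style.haveILetI false
set_option linter.unusedSectionVars false

namespace Cfsg.Agent.BlockCharsA.CoprimeAbelianStep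

open Cfsg.Agent.Blocks Cfsg.Agent.Characters Cfsg.Agent.CharTheory
open Cfsg.Agent.BlockCharsA.Glauberman Cfsg.Agent.BlockCharsA.GlaubermanSolvable
open Cfsg.Agent.BlockCharsA.NormalSupport
open scoped commutatorElement

universe u

variable {G S : Type u} [Group G] [Finite G] [Group S] [Finite S] [MulDistribMulAction S G]

/-- Two characters with a common constituent on `L`, with `G ⧸ L` commutative, differ by a
linear character. -/
theorem exists_twist {L : Subgroup G} [L.Normal] [Fintype L] (hcomm : ∀ a b : G ⧸ L, a * b = b * a)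
    {χ χ' : Cfsg.IrrCharacter G} {η : Cfsg.IrrCharacter L}
    (h : Cfsg.classInner (fun x : L => (χ : G → ℂ) x) (η : L → ℂ) ≠ 0)
    (h' : Cfsg.classInner (fun x : L => (χ' : G → ℂ) x) (η : L → ℂ) ≠ 0) :
    ∃ l : G →* ℂˣ, (∀ x ∈ L, l x = 1) ∧
      (χ' : G → ℂ) = fun g => (l g : ℂ) * (χ : G → ℂ) g := by
  classical
  haveI := Fintype.ofFinite G
  haveI := Fintype.ofFinite (G ⧸ L)
  haveI := Fintype.ofFinite (Cfsg.IrrCharacter (G ⧸ L))
  haveI := Fintype.ofFinite (Cfsg.IrrCharacter L)
  -- the restrictions are not orthogonal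
  have hres : Cfsg.classInner (fun x : L => (χ : G → ℂ) x) (fun x : L => (χ' : G → ℂ) x) ≠ 0 := by
    choose a ha using fun ψ : Cfsg.IrrCharacter L =>
      classInner_char_nat (isCharacter_restrict L (irr_isCharacter χ)) (irr_isCharacter ψ)
    choose b hb using fun ψ : Cfsg.IrrCharacter L =>
      classInner_char_nat (isCharacter_restrict L (irr_isCharacter χ')) (irr_isCharacter ψ)
    have hexp := classFun_eq_sum (classFun_restrict L (irr_isClassFunction χ))
    rw [hexp, classInner_sum_left]
    simp only [classInner_smul_left, ha,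
      fun ψ : Cfsg.IrrCharacter L => classInner_conj_symm (fun x : L => (χ' : G → ℂ) x) (ψ : L → ℂ),
      hb, Complex.conj_natCast, ← Nat.cast_mul, ← Nat.cast_sum, Nat.cast_ne_zero]
    intro h0
    rcases mul_eq_zero.1 (Finset.sum_eq_zero_iff.1 h0 η (Finset.mem_univ _)) with e | e
    · exact h (by rw [ha, e, Nat.cast_zero])
    · exact h' (by rw [hb, e, Nat.cast_zero])
  by_contra hno
  have hzero : ∀ ξ : Cfsg.IrrCharacter (G ⧸ L),
      Cfsg.classInner (AbelianIndex.tw hcomm ξ χ : G → ℂ) (χ' : G → ℂ) = 0 := fun ξ => by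
    refine classInner_isIrr_ne (AbelianIndex.tw hcomm ξ χ).2 χ'.2 fun e => hno ?_
    refine ⟨AbelianIndex.lam hcomm ξ, fun x hx => Units.ext ?_, funext fun g => ?_⟩
    · rw [AbelianIndex.lam_apply, (QuotientGroup.eq_one_iff x).2 hx,
        irr_degree_one_of_comm hcomm ξ.2]
      rfl
    · rw [← e]; rfl
  have hs : ∑ ξ : Cfsg.IrrCharacter (G ⧸ L), ∑ g : G,
      (AbelianIndex.tw hcomm ξ χ : G → ℂ) g * starRingEnd ℂ ((χ' : G → ℂ) g) = 0 :=
    Finset.sum_eq_zero fun ξ _ => by
      have := hzero ξ
      rw [classInner_def, mul_eq_zero, inv_eq_zero] at this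
      exact this.resolve_left natCard_ne_zero
  have hone : ∀ g : G, ∑ ξ : Cfsg.IrrCharacter (G ⧸ L), (ξ : G ⧸ L → ℂ) g =
      if g ∈ L then (L.index : ℂ) else 0 := by
    intro g
    have h := second_orthogonality (g : G ⧸ L) 1
    simp only [fun ξ : Cfsg.IrrCharacter (G ⧸ L) => irr_degree_one_of_comm hcomm ξ.2, map_one,
      mul_one] at h
    rw [h, Subgroup.centralizer_eq_top_iff_subset.2 (by
      intro a ha; rw [Set.mem_singleton_iff.1 ha]; exact Subgroup.one_mem _), Subgroup.card_top,
      ← Subgroup.index_eq_card]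
    simp only [isConj_one_left, QuotientGroup.eq_one_iff]
  rw [Finset.sum_comm] at hs
  simp only [AbelianIndex.tw_apply, mul_assoc, ← Finset.sum_mul, hone, ite_mul, zero_mul] at hs
  rw [← Finset.sum_filter, ← Finset.mul_sum, mul_eq_zero,
    Finset.sum_subtype (Finset.univ.filter (· ∈ L)) (p := (· ∈ L)) (fun x => by simp)] at hs
  refine hres ?_
  rw [classInner_def, hs.resolve_left (Nat.cast_ne_zero.2 Subgroup.index_ne_zero_of_finite),
    mul_zero]

/-- The commutative step. -/
theorem comm_step {L : Subgroup G} [L.Normal] [Fintype L] (hcomm : ∀ a b : G ⧸ L, a * b = b * a)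
    (hL : ∀ (s : S), ∀ g ∈ L, s • g ∈ L) (hcop : L.index.Coprime (Nat.card S))
    {η : Cfsg.IrrCharacter L}
    (hη : ∀ (s : S) (x : L), (η : L → ℂ) ⟨s • (x : G), hL s x x.2⟩ = (η : L → ℂ) x) :
    ∃ χ : Cfsg.IrrCharacter G,
      Cfsg.classInner (fun x : L => (χ : G → ℂ) x) (η : L → ℂ) ≠ 0 ∧ IsInv S χ := by
  classical
  haveI := Fintype.ofFinite G
  haveI := Fintype.ofFinite S
  obtain ⟨χ₀, h₀⟩ := exists_over (N := L) η
  have htw : ∀ t : S, Cfsg.classInner (fun x : L => (twist G t χ₀ : G → ℂ) x) (η : L → ℂ) ≠ 0 := by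
    intro t
    letI : MulDistribMulAction S L := restrictAct L hL
    refine ne_of_eq_of_ne ?_ h₀
    rw [classInner_def, classInner_def]
    congr 1
    refine Fintype.sum_equiv (MulDistribMulAction.toMulEquiv L t).toEquiv _ _ fun x => ?_
    show (χ₀ : G → ℂ) (t • (x : G)) * starRingEnd ℂ ((η : L → ℂ) x) =
      (χ₀ : G → ℂ) (t • (x : G)) * starRingEnd ℂ ((η : L → ℂ) ⟨t • (x : G), hL t x x.2⟩)
    rw [hη]
  choose lam hlam₁ hlam₂ using fun t : S => exists_twist hcomm h₀ (htw t)
  let Stab : Subgroup (G →* ℂˣ) :=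
    { carrier := {l | ∀ g, (l g : ℂ) * (χ₀ : G → ℂ) g = (χ₀ : G → ℂ) g}
      one_mem' := fun g => by simp
      mul_mem' := fun {a b} ha hb g => by
        rw [MonoidHom.mul_apply, Units.val_mul, mul_assoc, hb g, ha g]
      inv_mem' := fun {a} ha g => by
        rw [MonoidHom.inv_apply]
        conv_lhs => rw [← ha g]
        rw [← mul_assoc, ← Units.val_mul, inv_mul_cancel, Units.val_one, one_mul] }
  haveI : Stab.Normal := ⟨fun a ha b => by
    intro g
    rw [MonoidHom.mul_apply, MonoidHom.mul_apply, MonoidHom.inv_apply, mul_comm (b g), mul_inv_cancel_right]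
    exact ha g⟩
  let mk := QuotientGroup.mk' Stab
  have hmk : ∀ {a b : G →* ℂˣ}, (∀ g, (a g : ℂ) * (χ₀ : G → ℂ) g = (b g : ℂ) * (χ₀ : G → ℂ) g) →
      mk a = mk b := fun {a b} h => QuotientGroup.eq.2 fun g => by
    rw [MonoidHom.mul_apply, MonoidHom.inv_apply, Units.val_mul, mul_assoc, ← h g, ← mul_assoc,
      ← Units.val_mul, inv_mul_cancel, Units.val_one, one_mul]
  let act : S → (G →* ℂˣ) →* (G →* ℂˣ) := fun t =>
    { toFun := fun l => l.comp (MulDistribMulAction.toMonoidHom G t)
      map_one' := rfl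
      map_mul' := fun _ _ => rfl }
  have hco : ∀ s t : S, mk (lam (s * t)) = mk (act t (lam s) * lam t) := fun s t => hmk fun g => by
    have e1 := congrFun (hlam₂ (s * t)) g
    have e2 := congrFun (hlam₂ s) (t • g)
    have e3 := congrFun (hlam₂ t) g
    simp only [twist] at e1 e2 e3
    rw [mul_smul, e2, e3, ← mul_assoc, ← Units.val_mul] at e1
    exact e1.symm
  set b := ∏ s : S, lam s with hb
  have hbt : ∀ t : S, mk b = mk (act t b) * mk (lam t) ^ Nat.card S := fun t => by
    rw [hb, map_prod (act t), map_prod, map_prod, Nat.card_eq_fintype_card, ← Finset.card_univ,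
      ← Finset.prod_const, ← Finset.prod_mul_distrib]
    refine (Fintype.prod_equiv (Equiv.mulRight t) _ _ fun s => ?_).symm
    rw [Equiv.coe_mulRight, hco, map_mul]
  obtain ⟨e, -, he⟩ : ∃ e, 0 ≤ e ∧ Nat.card S * e ≡ 1 [MOD L.index] := by
    rcases Nat.eq_or_lt_of_le (Nat.one_le_iff_ne_zero.2 (Subgroup.index_ne_zero_of_finite (H := L)))
      with h1 | h1
    · exact ⟨0, le_rfl, by rw [← h1]; exact Nat.modEq_one⟩
    · obtain ⟨e, he⟩ := Nat.exists_mul_mod_eq_one_of_coprime hcop.symm h1
      exact ⟨e, Nat.zero_le _, by rw [Nat.ModEq, he.2, Nat.mod_eq_of_lt h1]⟩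
  have hpow : ∀ t : S, lam t ^ L.index = 1 := fun t => MonoidHom.ext fun g => by
    rw [MonoidHom.pow_apply, ← map_pow, hlam₁ t _ (L.pow_index_mem g), MonoidHom.one_apply]
  have hlt : ∀ t : S, mk (lam t) ^ (Nat.card S * e) = mk (lam t) := fun t => by
    conv_rhs => rw [← pow_one (mk (lam t))]
    refine pow_eq_pow_iff_modEq.2 (he.of_dvd (orderOf_dvd_of_pow_eq_one ?_))
    rw [← map_pow, hpow, map_one]
  set a := b ^ e with ha
  have hat : ∀ t : S, mk a = mk (act t a * lam t) := fun t => by
    have e1 : mk (b ^ e) = mk b ^ e := map_pow mk b e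
    have e2 : mk (act t (b ^ e)) = mk (act t b) ^ e :=
      (congrArg mk (map_pow (act t) b e)).trans (map_pow mk _ e)
    rw [ha, map_mul, e1, e2, hbt t, mul_pow, ← pow_mul, hlt]
  refine ⟨⟨fun g => (a g : ℂ) * (χ₀ : G → ℂ) g, isIrrCharacter_mul_linear χ₀.2 a⟩, ?_, ?_⟩
  · have hker : ∀ x ∈ L, a x = 1 := fun x hx => by
      rw [ha, MonoidHom.pow_apply, hb, MonoidHom.finsetProd_apply,
        Finset.prod_eq_one fun s _ => hlam₁ s x hx, one_pow]
    refine ne_of_eq_of_ne ?_ h₀
    congr 1
    funext x
    show (a x : ℂ) * _ = _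
    rw [hker x x.2, Units.val_one, one_mul]
  · intro t g
    show (a (t • g) : ℂ) * (χ₀ : G → ℂ) (t • g) = (a g : ℂ) * (χ₀ : G → ℂ) g
    have e1 := congrFun (hlam₂ t) g
    simp only [twist] at e1
    rw [e1, ← mul_assoc, ← Units.val_mul]
    have h := QuotientGroup.eq.1 (hat t) g
    rw [MonoidHom.mul_apply, MonoidHom.inv_apply, Units.val_mul, mul_assoc] at h
    conv_rhs => rw [← h, ← mul_assoc, ← Units.val_mul, mul_inv_cancel, Units.val_one, one_mul]
    rfl

/-- Invariant constituents for a solvable quotient. -/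
theorem solvable_over : ∀ (n : ℕ) (G S : Type u) [Group G] [Finite G] [Group S] [Finite S]
    [MulDistribMulAction S G] (N : Subgroup G) [N.Normal] [Fintype N], Nat.card G ≤ n →
    N.index.Coprime (Nat.card S) → Group.IsSolvable (G ⧸ N) →
    ∀ (hN : ∀ (s : S), ∀ g ∈ N, s • g ∈ N) (θ : Cfsg.IrrCharacter N),
    (∀ (s : S) (x : N), (θ : N → ℂ) ⟨s • (x : G), hN s x x.2⟩ = (θ : N → ℂ) x) →
    ∃ χ : Cfsg.IrrCharacter G,
      Cfsg.classInner (fun x : N => (χ : G → ℂ) x) (θ : N → ℂ) ≠ 0 ∧ IsInv S χ := by
  intro n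
  induction n with
  | zero => intro G S _ _ _ _ _ N _ _ h; exact absurd h (not_le.2 Nat.card_pos)
  | succ n ih =>
    intro G S _ _ _ _ _ N _ _ hn hcop hsolv hN θ hθ
    classical
    haveI := Fintype.ofFinite G
    by_cases htop : N = ⊤
    · refine comm_step (L := N) (fun a b => ?_) hN hcop hθ
      subst htop
      induction a using QuotientGroup.induction_on with | _ a => ?_
      induction b using QuotientGroup.induction_on with | _ b => ?_
      rw [(QuotientGroup.eq_one_iff a).2 (Subgroup.mem_top a),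
        (QuotientGroup.eq_one_iff b).2 (Subgroup.mem_top b)]
    haveI : Nontrivial (G ⧸ N) := QuotientGroup.nontrivial_iff.2 htop
    set L : Subgroup G := N ⊔ commutator G with hLdef
    have hNL : N ≤ L := le_sup_left
    haveI : L.Normal := inferInstance
    haveI := Fintype.ofFinite L
    have hLtop : L ≠ ⊤ := by
      intro h
      refine (Group.IsSolvable.commutator_lt_of_ne_bot (H := (⊤ : Subgroup (G ⧸ N))) top_ne_bot).ne ?_
      have h1 : (commutator G).map (QuotientGroup.mk' N) = ⊤ := by
        have := congrArg (Subgroup.map (QuotientGroup.mk' N)) h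
        rwa [hLdef, Subgroup.map_sup, QuotientGroup.map_mk'_self, bot_sup_eq,
          Subgroup.map_top_of_surjective _ (QuotientGroup.mk'_surjective N)] at this
      rw [commutator_def, Subgroup.map_commutator,
        Subgroup.map_top_of_surjective _ (QuotientGroup.mk'_surjective N)] at h1
      exact h1
    have hcomm : ∀ a b : G ⧸ L, a * b = b * a := by
      intro a b
      induction a using QuotientGroup.induction_on with | _ a => ?_
      induction b using QuotientGroup.induction_on with | _ b => ?_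
      rw [← QuotientGroup.mk_mul, ← QuotientGroup.mk_mul, QuotientGroup.eq]
      refine Subgroup.mem_sup_right ?_
      rw [show (a * b)⁻¹ * (b * a) = ⁅b⁻¹, a⁻¹⁆ by rw [commutatorElement_def]; group,
        commutator_def]
      exact Subgroup.commutator_mem_commutator (Subgroup.mem_top _) (Subgroup.mem_top _)
    have hLs : ∀ (s : S), ∀ g ∈ L, s • g ∈ L := by
      intro s g hg
      have hle : L.map (MulDistribMulAction.toMonoidHom G s) ≤ L := by
        rw [hLdef, Subgroup.map_sup]
        refine sup_le_sup (Subgroup.map_le_iff_le_comap.2 fun x hx => hN s x hx) ?_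
        rw [commutator_def, Subgroup.map_commutator]
        exact Subgroup.commutator_mono le_top le_top
      exact hle ⟨g, hg, rfl⟩
    letI : MulDistribMulAction S L := restrictAct L hLs
    have hN' : ∀ (s : S), ∀ g ∈ N.subgroupOf L, s • g ∈ N.subgroupOf L := fun s g hg => hN s _ hg
    haveI := Fintype.ofFinite (N.subgroupOf L)
    let e := Subgroup.subgroupOfEquivOfLe hNL
    let θ' : Cfsg.IrrCharacter (N.subgroupOf L) :=
      ⟨(θ : N → ℂ) ∘ e, (isIrrCharacter_comp_mulEquiv e).2 θ.2⟩
    have hcard : Nat.card L ≤ n := by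
      have h1 : Nat.card L < Nat.card G := by
        rw [← Subgroup.index_mul_card L]
        refine lt_mul_of_one_lt_left Nat.card_pos ?_
        rcases Nat.eq_or_lt_of_le (Nat.one_le_iff_ne_zero.2
          (Subgroup.index_ne_zero_of_finite (H := L))) with h | h
        · exact absurd (Subgroup.index_eq_one.1 h.symm) hLtop
        · exact h
      omega
    have hsol' : Group.IsSolvable (L ⧸ N.subgroupOf L) := by
      haveI := hsolv
      refine solvable_of_solvable_injective (f := QuotientGroup.map (N.subgroupOf L) N L.subtype (fun _ h => h)) ?_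
      rw [injective_iff_map_eq_one]
      intro x hx
      induction x using QuotientGroup.induction_on with | _ x => ?_
      replace hx : ((x : G) : G ⧸ N) = 1 := hx
      rw [QuotientGroup.eq_one_iff] at hx
      exact (QuotientGroup.eq_one_iff x).2 hx
    obtain ⟨η, hη, hηinv⟩ := ih L S (N.subgroupOf L) hcard
      (hcop.coprime_dvd_left (Subgroup.relIndex_dvd_index_of_normal N L)) hsol' hN' θ'
      (fun s x => hθ s (e x))
    obtain ⟨χ, hχ, hχinv⟩ := comm_step (L := L) hcomm hLs
      (hcop.coprime_dvd_left (Subgroup.index_dvd_of_le hNL)) (η := η) hηinv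
    refine ⟨χ, ?_, hχinv⟩
    have h1 := Clifford.classInner_restrict_ne_zero (N.subgroupOf L)
      (isCharacter_restrict L (irr_isCharacter χ)) η.2 (irr_isCharacter θ') hχ hη
    refine ne_of_eq_of_ne ?_ h1
    rw [classInner_def, classInner_def, Nat.card_congr e.toEquiv]
    congr 1
    exact (Fintype.sum_equiv e.toEquiv _ _ fun x => rfl).symm

end Cfsg.Agent.BlockCharsA.CoprimeAbelianStep
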