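import Mathlib
import Cfsg.Agent.BlockCharsA.CoprimeAbelianStep
import Cfsg.Agent.Lib.CharTheory.Extension
import Cfsg.Agent.Lib.CharTheory.Average

/-!
# Invariant constituents for normal subgroups of coprime index

`N ≤ G` normal in `Γ` with `θ ∈ Irr N` invariant in `Γ`: the pairs `(g, S)` of the lifting group,
cut down by a determinant-like character, give a finite central extension of `G ⧸ N` by roots of
unity on which a complement acts; its invariant characters give invariant characters of `G` over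
`θ`.
-/

set_option linter.style.haveILetI false
set_option linter.unusedSectionVars false

namespace Cfsg.Agent.BlockCharsA.CoprimeLift

open Cfsg.Agent.Characters Cfsg.Agent.CharTheory Cfsg.Agent.CharTheory.Extension
open Cfsg.Agent.BlockCharsA.Glauberman
open scoped ComplexConjugate

universe u

variable {Γ : Type u} [Group Γ] [Finite Γ] {N : Subgroup Γ} [hN : N.Normal] {d : ℕ}
  (ρ : Representation ℂ N (Fin d → ℂ)) [hρ : ρ.IsIrreducible]

/-- An element of the lifting group over `N` is a scalar times an element of `N`. -/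
theorem decomp {z : LiftGroup ρ} (h : proj ρ z ∈ N) :
    ∃ (c : ℂˣ) (n : N), z = sc ρ c * incl ρ n := by
  obtain ⟨c, hc⟩ := proj_eq_one ρ (e := z * (incl ρ ⟨_, h⟩)⁻¹) (by
    rw [map_mul, map_inv, proj_incl, mul_inv_cancel])
  exact ⟨c, ⟨_, h⟩, by rw [← hc, inv_mul_cancel_right]⟩

include ρ hρ in
theorem scU_injective : Function.Injective (scU d) := fun a b h => by
  have h1 := congrArg (fun w : W d => LinearMap.trace ℂ _ (w : (Fin d → ℂ) →ₗ[ℂ] _)) h
  simp only [scU_coe, map_smul, LinearMap.trace_id, smul_eq_mul] at h1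
  exact Units.ext (mul_right_cancel₀ (Nat.cast_ne_zero.mpr (finrank_pos_of_isIrreducible ρ).ne') h1)

/-- An irreducible constituent fixed by `Γ`, from a solvability assumption on either side. -/
theorem exists_invariant [Fintype N] {G : Subgroup Γ} [hG : G.Normal] [Fintype G] (hNG : N ≤ G)
    (hcop : (G.index).Coprime (N.relIndex G))
    (hsolv : Group.IsSolvable (Γ ⧸ G) ∨ Group.IsSolvable (G ⧸ N.subgroupOf G))
    (hinv : ∀ g : Γ, Clifford.conjBy N g ρ.character = ρ.character) :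
    ∃ χ : Cfsg.IrrCharacter G,
      Cfsg.classInner (fun n : N => (χ : G → ℂ) ⟨n, hNG n.2⟩) ρ.character ≠ 0 ∧
      ∀ (x : Γ) (g : G), (χ : G → ℂ) ⟨x * g * x⁻¹, hG.conj_mem g g.2 x⟩ = (χ : G → ℂ) g := by
  classical
  have hsurj := proj_surjective ρ hinv
  set N' := N.subgroupOf G with hN'def
  set m := N'.index with hm
  have hmrel : m = N.relIndex G := rfl
  have hm0 : m ≠ 0 := Subgroup.index_ne_zero_of_finite
  let en := Subgroup.subgroupOfEquivOfLe hNG
  -- the determinant-like character on the part over `G`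
  let ρ' : Representation ℂ N' (Fin d → ℂ) := ρ.comp en.toMonoidHom
  haveI hρ' : ρ'.IsIrreducible := (isIrreducible_iff ρ').2
    ⟨nontrivial_of_isIrreducible ρ, fun U hU => ((isIrreducible_iff ρ).1 hρ).2 U fun n v hv => by
      have := hU (en.symm n) v hv
      simpa [ρ'] using this⟩
  let EG : Subgroup (LiftGroup ρ) := G.comap (proj ρ)
  have hconj : ∀ (g : G) (n : N'), en (MulAut.conjNormal g n) = MulAut.conjNormal (g : Γ) (en n) :=
    fun g n => Subtype.ext rfl
  let ψ : EG →* LiftGroup ρ' :=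
    { toFun := fun x => ⟨(⟨proj ρ x, x.2⟩, mat ρ x), fun n => by
        have h := rel ρ (x : LiftGroup ρ) (en n)
        rw [show MulAut.conjNormal (proj ρ (x : LiftGroup ρ)) (en n) =
          en (MulAut.conjNormal (⟨proj ρ x, x.2⟩ : G) n) from (hconj ⟨_, x.2⟩ n).symm] at h
        exact h⟩
      map_one' := Subtype.ext (Prod.ext (Subtype.ext rfl) rfl)
      map_mul' := fun a b => Subtype.ext (Prod.ext (Subtype.ext rfl) rfl) }
  have hsurj' : Function.Surjective (proj ρ') := fun g => by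
    obtain ⟨y, hy⟩ := hsurj (g : Γ)
    exact ⟨ψ ⟨y, show proj ρ y ∈ G by rw [hy]; exact g.2⟩, Subtype.ext hy⟩
  obtain ⟨R₁, hR₁, hR₁'⟩ := index_mem_exponents ρ' hsurj' N' le_rfl (η := ρ'.character)
    (isCharacter_character ρ') (fun n => rfl)
  let R : EG →* ℂˣ := R₁.comp ψ
  have hsc : ∀ c : ℂˣ, sc ρ c ∈ EG := fun c => by
    show proj ρ (sc ρ c) ∈ G
    rw [proj_sc]; exact G.one_mem
  have hin : ∀ n : N, incl ρ n ∈ EG := fun n => by
    show proj ρ (incl ρ n) ∈ G
    rw [proj_incl]; exact hNG n.2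
  have hRsc : ∀ c : ℂˣ, R ⟨sc ρ c, hsc c⟩ = c ^ m := fun c => by
    show R₁ (ψ ⟨sc ρ c, hsc c⟩) = _
    rw [show ψ ⟨sc ρ c, hsc c⟩ = sc ρ' c from Subtype.ext (Prod.ext (Subtype.ext rfl) rfl), hR₁]
    simp [hm]
  have hRin : ∀ n : N, R ⟨incl ρ n, hin n⟩ = 1 := fun n => by
    show R₁ (ψ ⟨incl ρ n, hin n⟩) = _
    rw [show ψ ⟨incl ρ n, hin n⟩ = incl ρ' (en.symm n) from Subtype.ext (Prod.ext (Subtype.ext rfl)
      (Units.ext (by
        show ρ n = ρ (en (en.symm n))
        rw [MulEquiv.apply_symm_apply]))), hR₁']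
  have hRdec : ∀ (z : EG) (c : ℂˣ) (n : N), (z : LiftGroup ρ) = sc ρ c * incl ρ n →
      R z = c ^ m := fun z c n h => by
    rw [show z = (⟨sc ρ c, hsc c⟩ : EG) * ⟨incl ρ n, hin n⟩ from Subtype.ext h, map_mul, hRsc, hRin,
      mul_one]
  have hpowN : ∀ x : EG, proj ρ ((x : LiftGroup ρ) ^ m) ∈ N := fun x => by
    have h := N'.pow_index_mem (⟨proj ρ x, x.2⟩ : G)
    rw [Subgroup.mem_subgroupOf] at h
    rw [map_pow]
    simpa using h
  let K : Subgroup (LiftGroup ρ) := ((powMonoidHom m).comp R).ker.map EG.subtype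
  have hKmem : ∀ z, z ∈ K ↔ ∃ h : z ∈ EG, R ⟨z, h⟩ ^ m = 1 := by
    intro z
    constructor
    · rintro ⟨x, hx, rfl⟩
      exact ⟨x.2, by simpa using hx⟩
    · rintro ⟨h, hz⟩
      exact ⟨⟨z, h⟩, by simpa using hz, rfl⟩
  haveI hKn : K.Normal := ⟨fun z hz y => by
    obtain ⟨hzE, hzR⟩ := (hKmem z).1 hz
    have hzE' : y * z * y⁻¹ ∈ EG := by
      show proj ρ (y * z * y⁻¹) ∈ G
      rw [map_mul, map_mul, map_inv]
      exact hG.conj_mem _ hzE _
    refine (hKmem _).2 ⟨hzE', ?_⟩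
    obtain ⟨c, n, hcn⟩ := decomp ρ (hpowN ⟨z, hzE⟩)
    have h1 : R ⟨z, hzE⟩ ^ m = c ^ m := by
      rw [← map_pow]; exact hRdec _ c n hcn
    have h2 : R ⟨_, hzE'⟩ ^ m = c ^ m := by
      rw [← map_pow]
      refine hRdec _ c (MulAut.conjNormal (proj ρ y) n) ?_
      show (y * z * y⁻¹) ^ m = _
      rw [conj_pow, show z ^ m = sc ρ c * incl ρ n from hcn, ← mul_assoc, ← sc_comm, mul_assoc,
        mul_assoc, ← mul_assoc y, conj_incl]
    rw [h2, ← h1, hzR]⟩
  have hKdec : ∀ (c : ℂˣ) (n : N), sc ρ c * incl ρ n ∈ K ↔ c ^ (m * m) = 1 := by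
    intro c n
    rw [hKmem, pow_mul]
    refine ⟨fun ⟨h, e⟩ => by rwa [hRdec ⟨_, h⟩ c n rfl] at e,
      fun e => ⟨mul_mem (hsc c) (hin n), by rwa [hRdec ⟨_, _⟩ c n rfl]⟩⟩
  -- the projection onto `G`
  let f : K →* G := ((proj ρ).comp K.subtype).codRestrict G fun z => ((hKmem z).1 z.2).1
  have hf : Function.Surjective f := by
    intro g
    obtain ⟨y, hy⟩ := hsurj (g : Γ)
    have hyE : y ∈ EG := show proj ρ y ∈ G by rw [hy]; exact g.2
    obtain ⟨z, hz⟩ := IsAlgClosed.exists_pow_nat_eq (((R ⟨y, hyE⟩ ^ m)⁻¹ : ℂˣ) : ℂ)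
      (Nat.mul_pos (Nat.pos_of_ne_zero hm0) (Nat.pos_of_ne_zero hm0))
    have hz0 : z ≠ 0 := fun h => by
      rw [h, zero_pow (Nat.mul_ne_zero hm0 hm0)] at hz
      exact Units.ne_zero _ hz.symm
    refine ⟨⟨sc ρ (Units.mk0 z hz0) * y, (hKmem _).2 ⟨mul_mem (hsc _) hyE, ?_⟩⟩, Subtype.ext ?_⟩
    · rw [show (⟨_, mul_mem (hsc (Units.mk0 z hz0)) hyE⟩ : EG) = ⟨_, hsc _⟩ * ⟨y, hyE⟩ from rfl,
        map_mul, hRsc, mul_pow, ← pow_mul,
        show Units.mk0 z hz0 ^ (m * m) = (R ⟨y, hyE⟩ ^ m)⁻¹ from Units.ext (by simpa using hz),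
        inv_mul_cancel]
    · show proj ρ (sc ρ _ * y) = g
      rw [map_mul, proj_sc, one_mul, hy]
  haveI : NeZero (m * m) := ⟨Nat.mul_ne_zero hm0 hm0⟩
  let scK : rootsOfUnity (m * m) ℂ →* K :=
    ((sc ρ).comp (rootsOfUnity (m * m) ℂ).subtype).codRestrict K fun ζ => by
      have h := (hKdec (ζ : ℂˣ) 1).2 ((mem_rootsOfUnity _ _).1 ζ.2)
      rwa [map_one, mul_one] at h
  have hkerK : ∀ z : K, f z = 1 → ∃ ζ, scK ζ = z := by
    intro z hz
    obtain ⟨c, hc⟩ := proj_eq_one ρ (e := (z : LiftGroup ρ))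
      (congrArg (fun g : G => (g : Γ)) hz)
    have h := (hKdec c 1).1 (by rw [map_one, mul_one, ← hc]; exact z.2)
    exact ⟨⟨c, (mem_rootsOfUnity _ _).2 h⟩, Subtype.ext hc.symm⟩
  haveI : Finite f.ker := Finite.of_surjective
    (fun ζ : rootsOfUnity (m * m) ℂ => (⟨scK ζ, Subtype.ext (proj_sc ρ (ζ : ℂˣ))⟩ : f.ker))
    fun z => by
      obtain ⟨ζ, h⟩ := hkerK z.1 z.2
      exact ⟨ζ, Subtype.ext h⟩
  haveI : Finite (K ⧸ f.ker) :=
    Finite.of_equiv G (QuotientGroup.quotientKerEquivOfSurjective f hf).symm.toEquiv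
  haveI : Finite K := Finite.of_equiv _ (Subgroup.groupEquivQuotientProdSubgroup (s := f.ker)).symm
  haveI := Fintype.ofFinite K
  -- the copy of `N` and the quotient
  let inK : N →* K := (incl ρ).codRestrict K fun n => by
    have h := (hKdec 1 n).2 (one_pow _)
    rwa [map_one, one_mul] at h
  have hinK : Function.Injective inK := fun a b h => Subtype.ext (by
    have := congrArg (fun z : K => proj ρ (z : LiftGroup ρ)) h
    exact this)
  set I := inK.range with hI
  haveI : I.Normal := ⟨by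
    rintro _ ⟨n, rfl⟩ y
    exact ⟨MulAut.conjNormal (proj ρ (y : LiftGroup ρ)) n, Subtype.ext (conj_incl ρ _ n).symm⟩⟩
  haveI := Fintype.ofFinite I
  haveI := Fintype.ofFinite (K ⧸ I)
  let j : rootsOfUnity (m * m) ℂ →* K ⧸ I := (QuotientGroup.mk' I).comp scK
  have hj : Function.Injective j := by
    rw [injective_iff_map_eq_one]
    intro ζ h
    obtain ⟨n, hn⟩ := (QuotientGroup.eq_one_iff _).1 h
    have hn' : incl ρ n = sc ρ (ζ : ℂˣ) := congrArg Subtype.val hn
    have h1 := congrArg (proj ρ) hn'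
    rw [proj_incl, proj_sc] at h1
    rw [show n = 1 from Subtype.ext h1, map_one] at hn'
    have h2 := congrArg (mat ρ) hn'
    rw [map_one, mat_sc, ← map_one (scU d)] at h2
    exact Subtype.ext (scU_injective ρ h2.symm)
  set Z := j.range with hZ
  have hZc : ∀ (ζ : rootsOfUnity (m * m) ℂ) (k : K ⧸ I), k * j ζ = j ζ * k := by
    intro ζ k
    induction k using QuotientGroup.induction_on with | _ k => ?_
    exact congrArg (QuotientGroup.mk' I) (Subtype.ext (sc_comm ρ (ζ : ℂˣ) k).symm :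
      k * scK ζ = scK ζ * k)
  haveI : Z.Normal := ⟨by
    rintro _ ⟨ζ, rfl⟩ k
    exact ⟨ζ, by rw [hZc, mul_inv_cancel_right]⟩⟩
  haveI := Fintype.ofFinite Z
  let lamZ : Z →* ℂˣ :=
    ((rootsOfUnity (m * m) ℂ).subtype⁻¹).comp (MonoidHom.ofInjective hj).symm.toMonoidHom
  have hlamZ : ∀ ζ, lamZ ⟨j ζ, ζ, rfl⟩ = (ζ : ℂˣ)⁻¹ := fun ζ => by
    have h : (MonoidHom.ofInjective hj).symm ⟨j ζ, ζ, rfl⟩ = ζ := by
      rw [MulEquiv.symm_apply_eq]; exact Subtype.ext rfl
    show ((rootsOfUnity (m * m) ℂ).subtype ((MonoidHom.ofInjective hj).symm ⟨j ζ, ζ, rfl⟩))⁻¹ = _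
    rw [h]; rfl
  let θZ : Cfsg.IrrCharacter Z := ⟨_, isIrrCharacter_linear lamZ⟩
  -- conjugation
  have hImap : ∀ y : LiftGroup ρ, I.map (MulAut.conjNormal y : K ≃* K).toMonoidHom = I := by
    intro y
    refine le_antisymm ?_ ?_
    · rintro _ ⟨_, ⟨n, rfl⟩, rfl⟩
      exact ⟨MulAut.conjNormal (proj ρ y) n, Subtype.ext (conj_incl ρ y n).symm⟩
    · rintro _ ⟨n, rfl⟩
      refine ⟨inK (MulAut.conjNormal (proj ρ y⁻¹) n), ⟨_, rfl⟩, Subtype.ext ?_⟩
      show y * incl ρ (MulAut.conjNormal (proj ρ y⁻¹) n) * y⁻¹ = incl ρ n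
      rw [← conj_incl]; group
  let Φ₀ : LiftGroup ρ →* MulAut (K ⧸ I) :=
    { toFun := fun y => QuotientGroup.congr I I (MulAut.conjNormal y) (hImap y)
      map_one' := MulEquiv.ext fun k => by
        induction k using QuotientGroup.induction_on with | _ k => ?_
        exact congrArg (QuotientGroup.mk' I) (Subtype.ext (by simp) :
          (MulAut.conjNormal (1 : LiftGroup ρ) : K ≃* K) k = k)
      map_mul' := fun a b => MulEquiv.ext fun k => by
        induction k using QuotientGroup.induction_on with | _ k => ?_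
        exact congrArg (QuotientGroup.mk' I) (Subtype.ext (by simp [mul_assoc]) :
          (MulAut.conjNormal (a * b) : K ≃* K) k =
            (MulAut.conjNormal a : K ≃* K) ((MulAut.conjNormal b : K ≃* K) k)) }
  let π : LiftGroup ρ →* Γ ⧸ N := (QuotientGroup.mk' N).comp (proj ρ)
  have hπ : Function.Surjective π := (QuotientGroup.mk'_surjective N).comp hsurj
  have hker : π.ker ≤ Φ₀.ker := by
    intro y hy
    obtain ⟨c, n, rfl⟩ := decomp ρ ((QuotientGroup.eq_one_iff _).1 hy)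
    rw [MonoidHom.mem_ker]
    refine MulEquiv.ext fun k => ?_
    induction k using QuotientGroup.induction_on with | _ k => ?_
    refine QuotientGroup.eq.2 ⟨n * (MulAut.conjNormal (proj ρ (k : LiftGroup ρ)⁻¹) n)⁻¹,
      Subtype.ext ?_⟩
    show incl ρ (n * _) = (sc ρ c * incl ρ n * (k : LiftGroup ρ) * (sc ρ c * incl ρ n)⁻¹)⁻¹ * k
    rw [map_mul, map_inv, ← conj_incl, inv_inv]
    have hc : ∀ e, sc ρ c * e * (sc ρ c)⁻¹ = e := fun e => by
      rw [sc_comm, mul_inv_cancel_right]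
    rw [show sc ρ c * incl ρ n * (k : LiftGroup ρ) * (sc ρ c * incl ρ n)⁻¹ =
      sc ρ c * (incl ρ n * (k : LiftGroup ρ) * (incl ρ n)⁻¹) * (sc ρ c)⁻¹ by group, hc]
    group
  let φ : Γ ⧸ N →* MulAut (K ⧸ I) := π.liftOfSurjective hπ ⟨Φ₀, hker⟩
  have hφ : ∀ y, φ (π y) = Φ₀ y := fun y => MonoidHom.liftOfRightInverse_comp_apply _ _ _ _ _
  -- the complement
  set Gbar := G.map (QuotientGroup.mk' N) with hGbar
  haveI : Gbar.Normal := hG.map _ (QuotientGroup.mk'_surjective N)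
  have hGi : Gbar.index = G.index := Subgroup.index_map_eq G (QuotientGroup.mk'_surjective N)
    (by rwa [QuotientGroup.ker_mk'])
  have hGc : Nat.card Gbar = N.relIndex G := by
    have h1 := Gbar.card_mul_index
    rw [hGi, ← Subgroup.index_eq_card, ← Subgroup.relIndex_mul_index hNG] at h1
    exact Nat.eq_of_mul_eq_mul_right (Nat.pos_of_ne_zero Subgroup.index_ne_zero_of_finite) h1
  obtain ⟨Sb, hSb⟩ := Subgroup.exists_right_complement'_of_coprime (N := Gbar)
    (by rw [hGc, hGi]; exact hcop.symm)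
  have hSc : Nat.card Sb = G.index := by rw [← hGi, hSb.symm.index_eq_card]
  letI : MulDistribMulAction Sb (K ⧸ I) :=
    MulDistribMulAction.compHom (K ⧸ I) (φ.comp Sb.subtype)
  have hsmul : ∀ (s : Sb) (k : K ⧸ I), s • k = φ (s : Γ ⧸ N) k := fun _ _ => rfl
  have hfix : ∀ (s : Sb) (ζ : rootsOfUnity (m * m) ℂ), s • j ζ = j ζ := by
    intro s ζ
    obtain ⟨y, hy⟩ := hπ (s : Γ ⧸ N)
    rw [hsmul, ← hy, hφ]
    exact congrArg (QuotientGroup.mk' I) (Subtype.ext (by
      show y * sc ρ (ζ : ℂˣ) * y⁻¹ = sc ρ (ζ : ℂˣ)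
      rw [← sc_comm, mul_inv_cancel_right]) : (MulAut.conjNormal y : K ≃* K) (scK ζ) = scK ζ)
  have hcopK : (Nat.card (K ⧸ I)).Coprime (Nat.card Sb) := by
    refine Nat.coprime_of_dvd fun q hq hqK hqS => ?_
    haveI := Fact.mk hq
    obtain ⟨x, hx⟩ := exists_prime_orderOf_dvd_card' q hqK
    have hpow : x ^ (m * (m * m)) = 1 := by
      induction x using QuotientGroup.induction_on with | _ x => ?_
      obtain ⟨hxE, hxR⟩ := (hKmem x).1 x.2
      obtain ⟨c, n, hcn⟩ := decomp ρ (hpowN ⟨_, hxE⟩)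
      have hc : c ^ (m * m) = 1 := (hKdec c n).1 (by rw [← hcn]; exact pow_mem x.2 m)
      rw [← QuotientGroup.mk_pow, QuotientGroup.eq_one_iff]
      refine ⟨n ^ (m * m), Subtype.ext ?_⟩
      show incl ρ (n ^ (m * m)) = (x : LiftGroup ρ) ^ (m * (m * m))
      rw [pow_mul (x : LiftGroup ρ), show (x : LiftGroup ρ) ^ m = sc ρ c * incl ρ n from hcn,
        (show Commute (sc ρ c) (incl ρ n) from sc_comm ρ c _).mul_pow, ← map_pow, hc, map_one,
        one_mul, map_pow]
    have hqm : q ∣ m := by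
      have h := hx ▸ orderOf_dvd_of_pow_eq_one hpow
      rcases (Nat.Prime.dvd_mul hq).1 h with h | h
      · exact h
      · exact ((Nat.Prime.dvd_mul hq).1 h).elim id id
    rw [hSc] at hqS
    exact hq.ne_one (Nat.eq_one_of_dvd_coprimes hcop hqS (hmrel ▸ hqm))
  have hstab : ∀ (s : Sb), ∀ k ∈ Z, s • k ∈ Z := by
    rintro s _ ⟨ζ, rfl⟩
    exact ⟨ζ, (hfix s ζ).symm⟩
  have hθinv : ∀ (s : Sb) (z : Z),
      (θZ : Z → ℂ) ⟨s • (z : K ⧸ I), hstab s z z.2⟩ = (θZ : Z → ℂ) z := by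
    rintro s ⟨_, ζ, rfl⟩
    exact congrArg _ (Subtype.ext (hfix s ζ))
  obtain ⟨ψ, hψ, hψinv⟩ : ∃ ψ : Cfsg.IrrCharacter (K ⧸ I),
      Cfsg.classInner (fun z : Z => (ψ : K ⧸ I → ℂ) z) (θZ : Z → ℂ) ≠ 0 ∧ IsInv Sb ψ := by
    rcases hsolv with hs | hs
    · refine GlaubermanSolvable.exists_invariant_over (Nat.card Sb) (K ⧸ I) Sb le_rfl hcopK ?_ Z
        hstab θZ hθinv
      haveI := hs
      refine solvable_of_solvable_injective
        (f := (QuotientGroup.map N G (MonoidHom.id Γ) (fun _ h => hNG h)).comp Sb.subtype) ?_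
      rw [injective_iff_map_eq_one]
      intro s hs1
      have h1 : (s : Γ ⧸ N) ∈ Gbar := by
        obtain ⟨γ, hγ⟩ := QuotientGroup.mk_surjective (s : Γ ⧸ N)
        rw [MonoidHom.comp_apply, Subgroup.coe_subtype, ← hγ] at hs1
        replace hs1 : (γ : Γ ⧸ G) = 1 := hs1
        exact ⟨γ, (QuotientGroup.eq_one_iff γ).1 hs1, hγ⟩
      exact Subtype.ext (Subgroup.mem_bot.1 (hSb.disjoint.le_bot ⟨h1, s.2⟩))
    · refine CoprimeAbelianStep.solvable_over (Nat.card (K ⧸ I)) (K ⧸ I) Sb Z le_rfl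
        (hcopK.coprime_dvd_left Z.index_dvd_card) ?_ hstab θZ hθinv
      haveI := hs
      let g₀ : K ⧸ I →* G ⧸ N' := QuotientGroup.lift I ((QuotientGroup.mk' N').comp f) (by
        rintro _ ⟨n, rfl⟩
        exact (QuotientGroup.eq_one_iff _).2 n.2)
      have hg₀ : g₀.ker = Z := by
        ext k
        constructor
        · intro hk
          induction k using QuotientGroup.induction_on with | _ k => ?_
          have hk' : ((f k : Γ)) ∈ N := (QuotientGroup.eq_one_iff (f k)).1 hk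
          obtain ⟨c, n, hcn⟩ := decomp ρ (z := (k : LiftGroup ρ)) hk'
          have hc := (hKdec c n).1 (hcn ▸ k.2)
          refine ⟨⟨c, (mem_rootsOfUnity _ _).2 hc⟩, QuotientGroup.eq.2 ⟨n, Subtype.ext ?_⟩⟩
          show incl ρ n = (sc ρ c)⁻¹ * (k : LiftGroup ρ)
          rw [hcn, inv_mul_cancel_left]
        · rintro ⟨ζ, rfl⟩
          exact (QuotientGroup.eq_one_iff _).2 (show proj ρ (sc ρ (ζ : ℂˣ)) ∈ N by
            rw [proj_sc]; exact N.one_mem)
      refine solvable_of_solvable_injective (f := QuotientGroup.lift Z g₀ hg₀.ge) ?_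
      rw [injective_iff_map_eq_one]
      intro k hk
      induction k using QuotientGroup.induction_on with | _ k => ?_
      exact (QuotientGroup.eq_one_iff k).2 (hg₀ ▸ hk)
  have hψZ : ∀ ζ, (ψ : K ⧸ I → ℂ) (j ζ) = (ψ : K ⧸ I → ℂ) 1 * (((ζ : ℂˣ)⁻¹ : ℂˣ) : ℂ) := by
    intro ζ
    have h := Clifford.restrict_eq_smul_of_invariant Z ψ.2 θZ.2 hψ fun k => by
      funext z
      obtain ⟨_, ζ', rfl⟩ := z
      rw [Clifford.conjBy_apply]
      exact congrArg _ (Subtype.ext (show k * j ζ' * k⁻¹ = j ζ' by rw [hZc, mul_inv_cancel_right]))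
    have h1 := congrFun h (1 : Z)
    have h2 := congrFun h ⟨j ζ, ζ, rfl⟩
    simp only [Pi.smul_apply, smul_eq_mul, θZ, map_one, Units.val_one, mul_one,
      OneMemClass.coe_one] at h1 h2
    rw [h2, h1, hlamZ]
  -- the character of `G`
  let τ : Representation ℂ K (Fin d → ℂ) := (Units.coeHom _).comp ((mat ρ).comp K.subtype)
  have hτN : ∀ n : N, τ (inK n) = ρ n := fun n => rfl
  haveI : τ.IsIrreducible := (isIrreducible_iff τ).2 ⟨nontrivial_of_isIrreducible ρ,
    fun U hU => ((isIrreducible_iff ρ).1 hρ).2 U fun n v hv => hτN n ▸ hU (inK n) v hv⟩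
  let Φ : K → ℂ := fun x => τ.character x * (ψ : K ⧸ I → ℂ) x
  have hΦ : Cfsg.IsCharacter K Φ := isCharacter_mul (isCharacter_character τ)
    (isCharacter_comp (QuotientGroup.mk' I) (irr_isCharacter ψ))
  obtain ⟨χ, hχ, hχf, -⟩ := exists_deflate f hf hΦ (fun x hx => by
    obtain ⟨ζ, rfl⟩ := hkerK x hx
    show τ.character (scK ζ) * (ψ : K ⧸ I → ℂ) (j ζ) = τ.character 1 * (ψ : K ⧸ I → ℂ) ((1 : K) : K ⧸ I)
    rw [hψZ, τ.char_one, QuotientGroup.mk_one]
    have e : τ.character (scK ζ) = (((ζ : ℂˣ) : ℂ)) * (Module.finrank ℂ (Fin d → ℂ) : ℂ) := by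
      show LinearMap.trace ℂ _ ((scU d (ζ : ℂˣ) : W d) : (Fin d → ℂ) →ₗ[ℂ] _) = _
      rw [scU_coe, map_smul, LinearMap.trace_id, smul_eq_mul]
    rw [e, Units.val_inv_eq_inv_val]
    field_simp [Units.ne_zero])
  have hτI : Cfsg.IsIrrCharacter I (fun x : I => τ.character x) := by
    have e : (fun x : I => τ.character x) ∘ (MonoidHom.ofInjective hinK) = ρ.character :=
      funext fun n => congrArg (LinearMap.trace ℂ _) (hτN n)
    rw [← isIrrCharacter_comp_mulEquiv (MonoidHom.ofInjective hinK), e]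
    exact isIrrCharacter_character ρ
  have hnorm : Cfsg.classInner χ χ = 1 := by
    rw [← classInner_comp_surjective f hf, hχf]
    have hq := Average.quotChar_self I (isIrrCharacter_character τ) hτI
    let h : K → ℂ := fun x => (ψ : K ⧸ I → ℂ) x * conj ((ψ : K ⧸ I → ℂ) x)
    have hh : ∀ (n : I) (x : K), h ((n : K) * x) = h x := fun n x => by
      simp only [h]
      rw [QuotientGroup.mk_mul, (QuotientGroup.eq_one_iff (n : K)).2 n.2, one_mul]
    have h1 : ∑ x : K, Φ x * conj (Φ x) =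
        ∑ x : K, τ.character x * conj (τ.character x) * h x :=
      Finset.sum_congr rfl fun x _ => by simp only [Φ, h, map_mul]; ring
    have h2 := Average.sum_avg_mul I (fun x => τ.character x * conj (τ.character x)) h hh
    rw [classInner_def, h1, ← h2]
    have h3 : ∀ x, Average.avg I (fun x => τ.character x * conj (τ.character x)) x = 1 :=
      fun x => congrFun hq x
    simp only [h3, one_mul]
    have h4 := classInner_comp_surjective (QuotientGroup.mk' I) (QuotientGroup.mk'_surjective I)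
      (ψ : K ⧸ I → ℂ) (ψ : K ⧸ I → ℂ)
    rw [classInner_isIrr_self ψ.2, classInner_def] at h4
    exact h4
  refine ⟨⟨χ, isIrr_of_isCharacter_of_norm_one hχ hnorm⟩, ?_, fun γ g => ?_⟩
  · have e : (fun n : N => χ ⟨n, hNG n.2⟩) = (ψ : K ⧸ I → ℂ) 1 • ρ.character := by
      funext n
      have h1 : χ (f (inK n)) = Φ (inK n) := congrFun hχf (inK n)
      rw [show f (inK n) = ⟨n, hNG n.2⟩ from Subtype.ext rfl] at h1
      rw [h1]
      show τ.character (inK n) * (ψ : K ⧸ I → ℂ) (inK n) = _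
      rw [(QuotientGroup.eq_one_iff _).2 (show inK n ∈ I from ⟨n, rfl⟩), Pi.smul_apply, smul_eq_mul, mul_comm]
      rfl
    show Cfsg.classInner (fun n : N => χ ⟨n, hNG n.2⟩) ρ.character ≠ 0
    rw [e, classInner_smul_left, classInner_isIrr_self (isIrrCharacter_character ρ), mul_one]
    exact irr_one_ne_zero ψ.2
  · have hall : ∀ (q : Γ ⧸ N) (k : K ⧸ I), (ψ : K ⧸ I → ℂ) (φ q k) = (ψ : K ⧸ I → ℂ) k := by
      intro q k
      have hq : q ∈ Gbar ⊔ Sb := hSb.sup_eq_top.symm ▸ Subgroup.mem_top q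
      obtain ⟨_, ⟨g, hg, rfl⟩, s, hs, rfl⟩ := Subgroup.mem_sup_of_normal_left.1 hq
      obtain ⟨x, hx⟩ := hf ⟨g, hg⟩
      have hx' : π (x : LiftGroup ρ) = (QuotientGroup.mk' N) g := by
        show (QuotientGroup.mk' N) (proj ρ (x : LiftGroup ρ)) = _
        rw [show proj ρ (x : LiftGroup ρ) = g from congrArg Subtype.val hx]
      rw [map_mul, MulAut.mul_apply, ← hx', hφ]
      induction k using QuotientGroup.induction_on with | _ k => ?_
      refine Eq.trans ?_ (hψinv ⟨s, hs⟩ k)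
      rw [hsmul]
      generalize (φ s) ((k : K) : K ⧸ I) = k'
      induction k' using QuotientGroup.induction_on with | _ k' => ?_
      have e : Φ₀ (x : LiftGroup ρ) (k' : K ⧸ I) = (x : K ⧸ I) * k' * (x : K ⧸ I)⁻¹ := by
        rw [← QuotientGroup.mk_inv, ← QuotientGroup.mk_mul, ← QuotientGroup.mk_mul]
        exact congrArg (QuotientGroup.mk' I) (Subtype.ext rfl :
          (MulAut.conjNormal (x : LiftGroup ρ) : K ≃* K) k' = x * k' * x⁻¹)
      rw [e, irr_isClassFunction ψ]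
    obtain ⟨y, hy⟩ := hsurj γ
    obtain ⟨x, hx⟩ := hf g
    have e1 : χ g = Φ x := by rw [← hx]; exact congrFun hχf x
    have e2 : χ ⟨γ * g * γ⁻¹, hG.conj_mem g g.2 γ⟩ =
        Φ ((MulAut.conjNormal y : K ≃* K) x) := by
      rw [← congrFun hχf]
      refine congrArg χ (Subtype.ext ?_)
      show γ * g * γ⁻¹ = proj ρ (y * x * y⁻¹)
      rw [map_mul, map_mul, map_inv, hy, show proj ρ (x : LiftGroup ρ) = g from congrArg Subtype.val hx]
    show χ _ = χ g
    rw [e1, e2]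
    show τ.character _ * _ = τ.character x * _
    congr 1
    · show LinearMap.trace ℂ _ ((mat ρ (y * x * y⁻¹) : W d) : (Fin d → ℂ) →ₗ[ℂ] _) =
        LinearMap.trace ℂ _ ((mat ρ x : W d) : (Fin d → ℂ) →ₗ[ℂ] _)
      rw [map_mul, map_mul, map_inv, Units.val_mul, LinearMap.trace_mul_comm, ← Units.val_mul,
        ← mul_assoc, inv_mul_cancel, one_mul]
    · have h5 := hall (π y) (x : K ⧸ I)
      rw [hφ] at h5
      exact h5

end Cfsg.Agent.BlockCharsA.CoprimeLift
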