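import Mathlib
import Cfsg.Agent.BlockCharsA.CoveringDefect

/-!
# Every member of a covered block lies under a member of the covering block
-/

set_option linter.style.haveILetI false
set_option linter.unusedSectionVars false

namespace Cfsg.Agent.BlockCharsA.CoverOver

open Cfsg.Agent.Blocks Cfsg.Agent.Characters Cfsg.Agent.CharTheory
open Cfsg.Agent.BlockCharsA.NormalSupport Cfsg.Agent.BlockCharsA.CoveringDefect

universe u

variable {G : Type u} [Group G] [Finite G] {p : ℕ} {M : Ideal Cfsg.AlgInt} {N : Subgroup G}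
  [hN : N.Normal] [Fintype N]

/-- If `B` covers `c` then every member of `c` is a constituent of some member of `B`. -/
theorem exists_over_in_block (hM : Cfsg.IsPModular p M) {B : Set (Cfsg.IrrCharacter G)}
    (hB : Cfsg.IsPBlock M B) {c : Set (Cfsg.IrrCharacter N)} (hc : Cfsg.IsPBlock M c)
    (hcov : ∃ χ ∈ B, ∃ θ ∈ c, Cfsg.classInner (fun n : N => (χ : G → ℂ) n) (θ : N → ℂ) ≠ 0)
    {θ : Cfsg.IrrCharacter N} (hθ : θ ∈ c) :
    ∃ χ ∈ B, Cfsg.classInner (fun n : N => (χ : G → ℂ) n) (θ : N → ℂ) ≠ 0 := by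
  classical
  haveI := Fintype.ofFinite (G ⧸ N)
  haveI := Fintype.ofFinite G
  haveI := fact_prime_of_pm hM
  obtain ⟨P, hP⟩ := exists_defectGroup hM hB
  obtain ⟨s, hsn, -, hu⟩ := exists_unit_product hM hB hc hθ (covering_data hM hB hc hcov hP).1
  by_contra hno
  push Not at hno
  set A : Set (Cfsg.IrrCharacter N) := {η | ∃ g : G, η = conjIrr g θ}
  have hA : IsInvEl (blockIdem A) := isInvEl_blockIdem fun g η ⟨x, hx⟩ =>
    ⟨x * g, by rw [hx, conjIrr_conjIrr]⟩
  have h0 : blockIdem B * push N (blockIdem A) = 0 :=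
    central_omega_ext (central_mul (central_blockIdem B) (central_push hA)) central_zero fun ψ => by
      rw [omega_mul ψ (central_blockIdem B), omega_zero]
      by_cases hψ : ψ ∈ B
      · obtain ⟨η, hη⟩ := exists_under (N := N) ψ
        rw [omega_push_eq ψ η hη hA, omega_blockIdem_notMem (A := A) ?_, mul_zero]
        rintro ⟨g, rfl⟩
        exact hη (by rw [constituent_conjIrr]; exact hno ψ hψ)
      · rw [omega_blockIdem_notMem hψ, zero_mul]
  set x := mix B c * s
  have hcomm := central_commute (central_push hA)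
  have hx0 : x * push N (blockIdem A) = 0 := by
    rw [← (hcomm x).eq]
    simp only [x, mix]
    rw [← mul_assoc, ← mul_assoc, (hcomm (blockIdem B)).eq, h0, zero_mul, zero_mul]
  have hxn : NInv N x := nInv_mul nInv_mix hsn
  have hres : res N x * blockIdem A = 0 := by
    have h1 := res_mul_supp (N := N) x (supp_push (N := N) (blockIdem A))
    rw [hx0, inv_one, ← push_res_of_supp (supp_part (1 : G ⧸ N) x), ← push_mul, res_push] at h1
    have e : res N (part (1 : G ⧸ N) x) = res N x := el_ext fun n => by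
      rw [coeff_res, coeff_res, coeff_part, if_pos ((QuotientGroup.eq_one_iff (n : G)).2 n.2)]
    rw [e] at h1
    rw [← h1]
    exact el_ext fun n => by simp [coeff_res]
  have h2 := omega_mul θ (central_res_of_nInv hxn) (blockIdem A)
  rw [hres, omega_zero, omega_blockIdem_mem (A := A) ⟨1, (conjIrr_one θ).symm⟩, mul_one] at h2
  exact hu (h2 ▸ ideal_zero hM)

/-- The principal block of a normal subgroup is invariant. -/
theorem principal_inv (hM : Cfsg.IsPModular p M) (g : G) {θ : Cfsg.IrrCharacter N}
    (hθ : θ ∈ Cfsg.principalBlock M N) : conjIrr g θ ∈ Cfsg.principalBlock M N := by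
  have e : conjIrr g (trivIrr N) = trivIrr N := Subtype.ext (funext fun _ => rfl)
  have h := sameBlock_conjIrr (N := N) g
    (sameBlock_of_mem hM (isPBlock_principal M N) (trivIrr_mem_principal hM) hθ)
  rw [e] at h
  exact mem_of_sameBlock hM (isPBlock_principal M N) (trivIrr_mem_principal hM) h

theorem principal_covers (hM : Cfsg.IsPModular p M) :
    ∃ χ ∈ Cfsg.principalBlock M G, ∃ θ ∈ Cfsg.principalBlock M N,
      Cfsg.classInner (fun n : N => (χ : G → ℂ) n) (θ : N → ℂ) ≠ 0 :=
  ⟨trivIrr G, trivIrr_mem_principal hM, trivIrr N, trivIrr_mem_principal hM,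
    (constituent_trivIrr_iff (trivIrr G)).2 fun _ _ => rfl⟩

/-- Constituents of the principal block lie in the principal block. -/
theorem principal_under (hM : Cfsg.IsPModular p M) {χ : Cfsg.IrrCharacter G}
    (hχ : χ ∈ Cfsg.principalBlock M G) {θ : Cfsg.IrrCharacter N}
    (h : Cfsg.classInner (fun n : N => (χ : G → ℂ) n) (θ : N → ℂ) ≠ 0) :
    θ ∈ Cfsg.principalBlock M N := by
  obtain ⟨χ₀, hχ₀, θ₀, hθ₀, h₀⟩ := principal_covers (G := G) (N := N) hM
  obtain ⟨g, hg⟩ := constituents_conj_block hM
    (sameBlock_of_mem hM (isPBlock_principal M G) hχ₀ hχ) h₀ h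
  exact mem_of_sameBlock hM (isPBlock_principal M N) (principal_inv hM g hθ₀) hg

/-- Every member of the principal block of a normal subgroup is covered inside the principal
block. -/
theorem principal_over (hM : Cfsg.IsPModular p M) {θ : Cfsg.IrrCharacter N}
    (hθ : θ ∈ Cfsg.principalBlock M N) :
    ∃ χ ∈ Cfsg.principalBlock M G,
      Cfsg.classInner (fun n : N => (χ : G → ℂ) n) (θ : N → ℂ) ≠ 0 :=
  exists_over_in_block hM (isPBlock_principal M G) (isPBlock_principal M N)
    (principal_covers hM) hθ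

end Cfsg.Agent.BlockCharsA.CoverOver
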