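import Mathlib
import Cfsg.Agent.BlockCharsA.CoveringDefect

/-!
# Stabilisers below a normal subgroup containing a defect group

In a normal subgroup of `p`-power index containing a defect group of a covering block no covered
block is fixed by an element outside.
-/

set_option linter.style.haveILetI false
set_option linter.unusedSectionVars false

namespace Cfsg.Agent.BlockCharsA.CoveringStab

open Cfsg.Agent.Blocks Cfsg.Agent.Characters Cfsg.Agent.CharTheory
open Cfsg.Agent.BlockCharsA.NormalSupport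

universe u

variable {G : Type u} [Group G] [Finite G] {N : Subgroup G} [hN : N.Normal] {p : ℕ}
  {M : Ideal Cfsg.AlgInt}

/-- An element fixing a block under `B` lies in `N` when `N` has `p`-power index and contains a
defect group of `B`. -/
theorem mem_of_stab (hM : Cfsg.IsPModular p M) [Fintype N] (hidx : ∃ k : ℕ, N.index = p ^ k)
    {B : Set (Cfsg.IrrCharacter G)} (hB : Cfsg.IsPBlock M B) {P : Subgroup G}
    (hP : Cfsg.IsDefectGroup p M B P) (hPN : P ≤ N) {χ : Cfsg.IrrCharacter G} (hχ : χ ∈ B)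
    {θ : Cfsg.IrrCharacter N}
    (hθ : Cfsg.classInner (fun n : N => (χ : G → ℂ) n) (θ : N → ℂ) ≠ 0) {x : G}
    (hx : Cfsg.SameBlock M (conjIrr x θ : N → ℂ) (θ : N → ℂ)) : x ∈ N := by
  classical
  haveI := fact_prime_of_pm hM
  haveI := Fintype.ofFinite G
  haveI := Fintype.ofFinite (G ⧸ N)
  by_contra hxN
  obtain ⟨g₀, hg₀, hs⟩ := isDefectGroup_iff.1 hP
  obtain ⟨k, hk⟩ := hidx
  have hg₀N : g₀ ∈ N := mem_of_regular hM.1 ⟨k, hk⟩ (defectClass_regular hM hB hg₀)
  set C := Subgroup.centralizer ({g₀} : Set G)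
  -- the centraliser of the defect class lies in `N`
  have hCN : C ≤ N := by
    intro y hy
    have hzN : orderOf (y : G ⧸ N) ∣ p ^ k := by
      rw [← hk, Subgroup.index_eq_card]; exact orderOf_dvd_natCard _
    obtain ⟨S, hS⟩ := hs
    have hSN : (S : Subgroup C) ≤ (N.subgroupOf C) := fun s hs' =>
      hPN (hS.symm ▸ Subgroup.mem_map_of_mem _ hs')
    have h1 : orderOf (y : G ⧸ N) ∣ (N.subgroupOf C).index := by
      refine orderOf_dvd_of_pow_eq_one ?_
      rw [← QuotientGroup.mk_pow, QuotientGroup.eq_one_iff]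
      exact (N.subgroupOf C).pow_index_mem ⟨y, hy⟩
    have h2 : ¬ p ∣ (N.subgroupOf C).index := fun h =>
      S.not_dvd_index (h.trans (Subgroup.index_dvd_of_le hSN))
    rw [← QuotientGroup.eq_one_iff]
    exact orderOf_eq_one_iff.1 (Nat.eq_one_of_dvd_coprimes
      (Nat.Coprime.pow_left k (hM.1.coprime_iff_not_dvd.2 h2)) hzN h1)
  -- the values of the central character of `θ` on the classes of `N` inside the class
  let cg : G → N := fun g => ⟨g * g₀ * g⁻¹, hN.conj_mem g₀ hg₀N g⟩
  let F : G → ℂ := fun g => Cfsg.centralChar (θ : N → ℂ) (cg g)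
  have hFconj : ∀ (m : N) (g : G), F ((m : G) * g) = F g := fun m g => by
    have hcg : cg ((m : G) * g) = m * cg g * m⁻¹ := Subtype.ext (by
      show (m : G) * g * g₀ * ((m : G) * g)⁻¹ = m * (g * g₀ * g⁻¹) * (m : G)⁻¹
      group)
    show Cfsg.centralChar (θ : N → ℂ) _ = Cfsg.centralChar (θ : N → ℂ) _
    rw [← omega_classSum (irr_isClassFunction θ), ← omega_classSum (irr_isClassFunction θ), hcg]
    refine congrArg _ (el_ext fun n => ?_)
    have hc : IsConj (cg g) (m * cg g * m⁻¹) := isConj_iff.2 ⟨m, rfl⟩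
    have hiff : IsConj (m * cg g * m⁻¹) n ↔ IsConj (cg g) n :=
      ⟨fun h => hc.trans h, fun h => hc.symm.trans h⟩
    simp only [coeff_classSum, hiff]
    congr
  have hout : ∀ g : G, F (Quotient.out (g : G ⧸ N)) = F g := fun g => by
    have h : (g : G)⁻¹ * Quotient.out (g : G ⧸ N) ∈ N :=
      QuotientGroup.eq.1 (QuotientGroup.out_eq' (g : G ⧸ N)).symm
    have h2 : Quotient.out (g : G ⧸ N) * g⁻¹ ∈ N := by
      simpa [mul_assoc] using hN.conj_mem _ h g
    rw [← hFconj ⟨_, h2⟩ g]
    exact congrArg F (by group)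
  have hsum : Cfsg.centralChar (χ : G → ℂ) g₀ = ∑ q : G ⧸ N, F (Quotient.out q) := by
    rw [← omega_classSum (irr_isClassFunction χ), ← push_res_classSum ⟨g₀, hg₀N⟩,
      omega_push_eq χ θ hθ (isInvEl_res (central_classSum _))]
    have e : res N (classSum g₀) = ∑ q : G ⧸ N, classSum (cg (Quotient.out q)) := by
      refine el_ext fun n => ?_
      rw [coeff_res, coeff_classSum, MonoidAlgebra.coeff_sum, Finsupp.finsetSum_apply]
      simp only [coeff_classSum]
      split_ifs with hn
      · obtain ⟨c, hc⟩ := isConj_iff.1 hn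
        symm
        refine (Finset.sum_eq_single (c : G ⧸ N) (fun q _ hq => if_neg fun h => hq ?_)
          (fun h => absurd (Finset.mem_univ _) h)).trans (if_pos ?_)
        rotate_left
        · obtain ⟨o, ho, he⟩ : ∃ o : N, (o : G) * c = Quotient.out (c : G ⧸ N) ∧ True := by
            refine ⟨⟨Quotient.out (c : G ⧸ N) * c⁻¹, ?_⟩, by simp, trivial⟩
            simpa [mul_assoc] using hN.conj_mem _
              (QuotientGroup.eq.1 (QuotientGroup.out_eq' (c : G ⧸ N)).symm) c
          refine isConj_iff.2 ⟨o⁻¹, Subtype.ext ?_⟩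
          show (o : G)⁻¹ * (Quotient.out (c : G ⧸ N) * g₀ * (Quotient.out (c : G ⧸ N))⁻¹) *
            ((o : G)⁻¹)⁻¹ = n
          rw [← ho, ← hc]; group
        · obtain ⟨m, hm⟩ := isConj_iff.1 h
          have hm' : (m : G) * (Quotient.out q * g₀ * (Quotient.out q)⁻¹) * (m : G)⁻¹ =
              c * g₀ * c⁻¹ := (congrArg Subtype.val hm).trans hc.symm
          have hmem : c⁻¹ * ((m : G) * Quotient.out q) ∈ N := hCN
            (Subgroup.mem_centralizer_singleton_iff.2 (by
              calc c⁻¹ * ((m : G) * Quotient.out q) * g₀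
                  = c⁻¹ * ((m : G) * (Quotient.out q * g₀ * (Quotient.out q)⁻¹) * (m : G)⁻¹) *
                      ((m : G) * Quotient.out q) := by group
                _ = g₀ * (c⁻¹ * ((m : G) * Quotient.out q)) := by rw [hm']; group))
          have h3 : (c : G ⧸ N) = (((m : G) * Quotient.out q : G) : G ⧸ N) :=
            QuotientGroup.eq.2 hmem
          rw [h3, QuotientGroup.mk_mul, (QuotientGroup.eq_one_iff (m : G)).2 m.2, one_mul,
            QuotientGroup.out_eq']
      · refine (Finset.sum_eq_zero fun q _ => if_neg fun h => hn ?_).symm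
        obtain ⟨m, hm⟩ := isConj_iff.1 h
        refine isConj_iff.2 ⟨(m : G) * Quotient.out q, ?_⟩
        rw [← congrArg Subtype.val hm]
        show (m : G) * Quotient.out q * g₀ * ((m : G) * Quotient.out q)⁻¹ =
          (m : G) * (Quotient.out q * g₀ * (Quotient.out q)⁻¹) * (m : G)⁻¹
        group
    rw [e, omega_sum]
    exact Finset.sum_congr rfl fun q _ => omega_classSum (irr_isClassFunction θ) _
  -- the cyclic group generated by `x` acts freely
  let Kx : Subgroup (G ⧸ N) := Subgroup.zpowers (x : G ⧸ N)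
  have hKp : IsPGroup p Kx := by
    refine IsPGroup.to_subgroup ?_ Kx
    exact IsPGroup.of_card (n := k) (by rw [← Subgroup.index_eq_card, hk])
  let X : Subgroup G :=
    { carrier := {g | Cfsg.SameBlock M (conjIrr g θ : N → ℂ) (θ : N → ℂ)}
      one_mem' := by
        show Cfsg.SameBlock M (conjIrr 1 θ : N → ℂ) _
        rw [conjIrr_one]; exact sameBlock_refl hM _
      mul_mem' := fun {a b} ha hb => by
        show Cfsg.SameBlock M (conjIrr (a * b) θ : N → ℂ) _
        rw [← conjIrr_conjIrr]
        exact sameBlock_trans hM (sameBlock_conjIrr b ha) hb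
      inv_mem' := fun {a} ha => by
        have h := sameBlock_conjIrr a⁻¹ ha
        rw [conjIrr_conjIrr, mul_inv_cancel, conjIrr_one] at h
        exact sameBlock_symm hM h }
  have hFX : ∀ a ∈ X, ∀ g : G, Cong M (F (a * g)) (F g) := fun a ha g => by
    have h : Cfsg.centralChar (θ : N → ℂ) (cg (a * g)) =
        Cfsg.centralChar (conjIrr a θ : N → ℂ) (cg g) := by
      rw [coe_conjIrr, Clifford.conjBy_eq_comp]
      refine Eq.trans ?_ (centralChar_comp_mulEquiv (MulAut.conjNormal a : N ≃* N) _ _).symm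
      exact congrArg _ (Subtype.ext (by simp [cg, mul_assoc]))
    show Cong M (Cfsg.centralChar (θ : N → ℂ) (cg (a * g))) _
    rw [h]
    exact ha (cg g)
  haveI := Fintype.ofFinite (MulAction.orbitRel.Quotient Kx (G ⧸ N))
  let f : G ⧸ N → ℂ := fun q =>
    F (Quotient.out (Quotient.out (Quotient.mk (MulAction.orbitRel Kx (G ⧸ N)) q)))
  have hfF : ∀ q, Cong M (F (Quotient.out q)) (f q) := by
    intro q
    obtain ⟨r, hr⟩ := Quotient.exact
      (Quotient.out_eq (Quotient.mk (MulAction.orbitRel Kx (G ⧸ N)) q))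
    obtain ⟨i, hi⟩ := Subgroup.mem_zpowers_iff.1 r.2
    show Cong M _ (F (Quotient.out (Quotient.out _)))
    rw [← hr]
    show Cong M _ (F (Quotient.out ((r : G ⧸ N) * q)))
    rw [← hi, show (x : G ⧸ N) ^ i * q = ((x ^ i * Quotient.out q : G) : G ⧸ N) by
      rw [QuotientGroup.mk_mul, QuotientGroup.mk_zpow, QuotientGroup.out_eq'], hout]
    exact cong_symm hM (hFX _ (X.zpow_mem hx i) _)
  have hcong := cong_sum_fixed hM hKp (X := G ⧸ N) f (fun q => centralChar_ring hM θ _)
    (fun u q => by
      show F _ = F _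
      rw [show Quotient.mk (MulAction.orbitRel Kx (G ⧸ N)) (u • q) =
        Quotient.mk (MulAction.orbitRel Kx (G ⧸ N)) q from Quotient.sound ⟨u, rfl⟩])
    ∅ (fun q => by
      simp only [Finset.notMem_empty, false_iff]
      intro h
      have h1 : (x : G ⧸ N) * q = q := h ⟨(x : G ⧸ N), Subgroup.mem_zpowers _⟩
      exact hxN ((QuotientGroup.eq_one_iff x).1 (mul_eq_right.1 h1)))
  rw [Finset.sum_empty, cong_zero_iff] at hcong
  refine hg₀.2.2 χ hχ ?_
  rw [hsum]
  exact (ideal_iff_of_cong hM (cong_sum hM fun q _ => hfF q)).2 hcong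

end Cfsg.Agent.BlockCharsA.CoveringStab
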