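import Mathlib
import Cfsg.Agent.BlockCharsA.Rank
import Cfsg.Agent.BlockCharsA.PairCorr
import Cfsg.Agent.Lib.Blocks.InducedChars

/-!
# A block of the centralizer of a central element of the defect group
-/

set_option linter.style.haveILetI false
set_option linter.unusedSectionVars false

namespace Cfsg.Agent.BlockCharsA.LocalBlock

open Cfsg.Agent.Blocks Cfsg.Agent.Characters

universe u

variable {G : Type u} [Group G] [Finite G] {p : ℕ} {M : Ideal Cfsg.AlgInt}

theorem centralizer_eq_zpowers (z : G) :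
    Subgroup.centralizer ({z} : Set G) = Subgroup.centralizer (Subgroup.zpowers z : Set G) :=
  (Subgroup.ext fun _ => mem_centralizer_zpowers).symm

/-- The induced block of a block of the centralizer of a `p`-element is defined. -/
theorem inducedBlockDefined (hM : Cfsg.IsPModular p M) {z : G} (hz : ∃ k : ℕ, orderOf z = p ^ k)
    {b : Set (Cfsg.IrrCharacter (Subgroup.centralizer ({z} : Set G)))} (hb : Cfsg.IsPBlock M b) :
    Cfsg.InducedBlockDefined M (Subgroup.centralizer ({z} : Set G)) b :=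
  inducedBlockDefined_of_brauer hM (zpowers_isPGroup hz)
    (Subgroup.zpowers_le.2 (Subgroup.mem_centralizer_singleton_iff.2 rfl))
    (centralizer_eq_zpowers z).ge
    ((centralizer_eq_zpowers z).le.trans (Subgroup.centralizer_le_normalizer _)) hb

/-- A block with defect group `D` is induced from a block of the centralizer of a central element
of `D` of no smaller defect. -/
theorem exists_induced (hM : Cfsg.IsPModular p M) {B : Set (Cfsg.IrrCharacter G)}
    (hB : Cfsg.IsPBlock M B) {D : Subgroup G} (hD : Cfsg.IsDefectGroup p M B D) {z : G}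
    (hzD : z ∈ D) (hzc : ∀ t ∈ D, t * z = z * t) :
    ∃ b : Set (Cfsg.IrrCharacter (Subgroup.centralizer ({z} : Set G))),
      Cfsg.IsInducedBlock M (Subgroup.centralizer ({z} : Set G)) b B ∧
      Cfsg.blockDefect p B ≤ Cfsg.blockDefect p b := by
  classical
  haveI := fact_prime_of_pm hM
  haveI := Fintype.ofFinite G
  set H := Subgroup.centralizer ({z} : Set G) with hH
  haveI := Fintype.ofFinite H
  haveI := Fintype.ofFinite (Cfsg.IrrCharacter H)
  haveI := Fintype.ofFinite (Set (Cfsg.IrrCharacter H))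
  have hz : ∃ k : ℕ, orderOf z = p ^ k := by
    obtain ⟨k, hk⟩ := IsPGroup.iff_orderOf.1 (isPGroup_defect hD) ⟨z, hzD⟩
    exact ⟨k, by rwa [Subgroup.orderOf_mk] at hk⟩
  have hDH : D ≤ H := fun t ht => Subgroup.mem_centralizer_singleton_iff.2 (hzc t ht)
  have hP := zpowers_isPGroup hz
  have hPH : Subgroup.zpowers z ≤ H :=
    Subgroup.zpowers_le.2 (Subgroup.mem_centralizer_singleton_iff.2 rfl)
  have hCH : Subgroup.centralizer (Subgroup.zpowers z : Set G) ≤ H := (centralizer_eq_zpowers z).ge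
  have hHN : H ≤ Subgroup.normalizer (Subgroup.zpowers z : Set G) :=
    (centralizer_eq_zpowers z).le.trans (Subgroup.centralizer_le_normalizer _)
  obtain ⟨g, hg, hs⟩ := isDefectGroup_iff.1 hD
  have hgC := isSylCent_mem hs
  have hgH : g ∈ H := Subgroup.mem_centralizer_singleton_iff.2
    ((Subgroup.mem_centralizer_iff.1 hgC z hzD).symm)
  set A := Rank.indSet M z B
  have hcong : CongEl M (brEl (Subgroup.zpowers z) H (blockIdem B)) (blockIdem A) := by
    refine PairCorr.congEl_of_omega hM (central_brEl hHN (central_blockIdem B))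
      (central_blockIdem A) (intEl_brEl hM _ _ (intEl_blockIdem hM hB))
      (Rank.intEl_indSet hM z B) (brEl_idem hM hP hCH hB) ?_ fun η => ?_
    · rw [blockIdem_mul_self]
      exact congEl_refl hM _
    · by_cases h : η ∈ A
      · rw [omega_blockIdem_mem h]
        obtain ⟨χ, hχ⟩ := block_nonempty hM hB
        refine cong_trans hM (omega_brEl_of_induced hM hP hPH hHN h (mem_blockOf_self hM η) hχ
          (central_blockIdem B) (intEl_blockIdem hM hB)) ?_
        rw [omega_blockIdem_mem hχ]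
        exact cong_refl hM 1
      · rw [omega_blockIdem_notMem h, cong_zero_iff]
        by_contra hn
        exact h ((isInduced_iff_omega_brEl hM hP hPH hCH hHN (isPBlock_blockOf M η)
          (mem_blockOf_self hM η) hB).2 hn)
  have hgz : g ∈ Subgroup.centralizer (Subgroup.zpowers z : Set G) :=
    (centralizer_eq_zpowers z).le hgH
  have hA : ¬ Cfsg.MemLocalIdeal M (Cfsg.blockCoeff A (⟨g, hgH⟩ : H)) := by
    have h1 := congEl_iff.1 hcong ⟨g, hgH⟩
    rw [brEl, coeff_restrEl, cutEl_coeff_mem _ hgz, coeff_blockIdem, coeff_blockIdem] at h1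
    rw [← ideal_iff_of_cong hM h1]
    exact hg.2.1
  obtain ⟨b, hb, hbA, hbu⟩ : ∃ b, Cfsg.IsPBlock M b ∧ b ⊆ A ∧
      ¬ Cfsg.MemLocalIdeal M (Cfsg.blockCoeff b (⟨g, hgH⟩ : H)) := by
    by_contra hcon
    push Not at hcon
    refine hA ?_
    set f : Cfsg.IrrCharacter H → ℂ := fun ξ => (Nat.card H : ℂ)⁻¹ *
      ((ξ : H → ℂ) 1 * starRingEnd ℂ ((ξ : H → ℂ) ⟨g, hgH⟩))
    have hco : ∀ S : Set (Cfsg.IrrCharacter H),
        Cfsg.blockCoeff S (⟨g, hgH⟩ : H) = ∑ ξ ∈ Finset.univ.filter (· ∈ S), f ξ := fun S => by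
      rw [Cfsg.blockCoeff, ZStar.Principal.finsum_mem_eq_sum_filter, Finset.mul_sum]
    rw [hco, ← Finset.sum_fiberwise _
      (fun ξ : Cfsg.IrrCharacter H => Cfsg.blockOf M (ξ : H → ℂ))]
    refine ideal_sum hM fun b _ => ?_
    rcases Finset.eq_empty_or_nonempty ((Finset.univ.filter fun ξ => ξ ∈ A).filter
        fun ξ : Cfsg.IrrCharacter H => Cfsg.blockOf M (ξ : H → ℂ) = b) with he | ⟨ξ₀, h₀⟩
    · rw [he, Finset.sum_empty]; exact ideal_zero hM
    · obtain ⟨h₁, h₂⟩ := Finset.mem_filter.1 h₀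
      have hbl : Cfsg.IsPBlock M b := h₂ ▸ isPBlock_blockOf M ξ₀
      have hbA : b ⊆ A := h₂ ▸ fun η hη => (Rank.indSet_closed hM hη).2 (Finset.mem_filter.1 h₁).2
      have := hcon b hbl hbA
      rw [hco] at this
      convert this using 1
      refine Finset.sum_congr ?_ fun _ _ => rfl
      ext ξ
      simp only [Finset.mem_filter, Finset.mem_univ, true_and]
      exact ⟨fun e => (ZStar.Principal.blockOf_eq_iff hM hbl ξ).1 e.2,
        fun e => ⟨hbA e, (ZStar.Principal.blockOf_eq_iff hM hbl ξ).2 e⟩⟩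
  obtain ⟨η, hη⟩ := block_nonempty hM hb
  have hind : Cfsg.IsInducedBlock M H b B := by
    rw [← (ZStar.Principal.blockOf_eq_iff hM hb η).2 hη]
    exact hbA hη
  obtain ⟨E, hE⟩ := exists_defectGroup hM hb
  obtain ⟨x, hx⟩ := le_defect_of_coeff hM hb hE hbu
    (isPGroup_subgroupOf (isPGroup_defect hD) hDH) ((mem_centralizer_subgroupOf hDH).2 hgC)
  refine ⟨b, hind, (Nat.pow_le_pow_iff_right hM.1.one_lt).1 ?_⟩
  rw [← card_defectGroup hM hB hD, ← card_defectGroup hM hb hE,
    ← Nat.card_congr (Subgroup.subgroupOfEquivOfLe hDH).toEquiv]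
  exact le_trans (Subgroup.card_le_of_le hx) (le_of_eq (card_map_conj _ _))

end Cfsg.Agent.BlockCharsA.LocalBlock
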