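import Mathlib
import Cfsg.Agent.BlockCharsA.Contrib

/-!
# Blocks of rank one
-/

set_option linter.style.haveILetI false
set_option linter.unusedSectionVars false

namespace Cfsg.Agent.BlockCharsA.RankOne

open Cfsg.Agent.Blocks Cfsg.Agent.Characters Cfsg.Agent.BlockCharsA.RegularPart
open Cfsg.Agent.BlockCharsA.Contrib
open scoped ComplexConjugate

variable {G : Type*} [Group G] [Finite G] {p : ℕ} {M : Ideal Cfsg.AlgInt}
  {B : Set (Cfsg.IrrCharacter G)}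

/-- The diagonal entry of a height-zero character is prime to `p`. -/
theorem not_dvd_diag (hM : Cfsg.IsPModular p M) (hB : Cfsg.IsPBlock M B)
    {χ : Cfsg.IrrCharacter G} (hχ : χ ∈ B) (h0 : Cfsg.blockHeight p B (χ : G → ℂ) = 0) {z : ℤ}
    (hz : contrib p B χ χ = (z : ℂ)) : ¬ (p : ℤ) ∣ z := by
  haveI := fact_prime_of_pm hM
  haveI := Fintype.ofFinite G
  intro hdvd
  obtain ⟨w, hw, hw', -⟩ := exists_coeff hM χ χ
  rw [classInner_hat_regSum] at hw
  obtain ⟨u, hu1, hu⟩ := exists_natCast_eq_pow_mul hM (charDegree_pos χ).ne'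
  have hdeg := degree_factorization_eq hM hB hχ
  have hle := blockDefect_le p B
  have hm : (Cfsg.charDegree (χ : G → ℂ)).factorization p =
      (Nat.card G).factorization p - Cfsg.blockDefect p B := by omega
  rw [hm] at hu
  have hz' : (z : ℂ) = (u : ℂ) * ratio p (χ : G → ℂ) (χ : G → ℂ) := by
    apply mul_left_cancel₀ (natCast_p_pow_ne_zero hM ((Nat.card G).factorization p -
      Cfsg.blockDefect p B))
    rw [← hz, contrib, ← mul_assoc, mul_div, ← Nat.cast_mul, ← pow_add, Nat.sub_add_cancel hle, hw,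
      hw', hu, Nat.cast_pow]
    ring
  have hunit := (ratio_unit_iff hM hB hχ hχ).2 h0
  have hi : Cfsg.MemLocalIdeal M (z : ℂ) := (ideal_intCast_iff hM z).2 hdvd
  rw [hz', ideal_mul_iff hM (ring_natCast hM u) (ratio_ring hM χ χ), ideal_natCast_iff hM] at hi
  exact hi.elim hu1 hunit

open scoped Classical in
/-- A block of rank one: the decomposition numbers. -/
theorem exists_decomposition (hM : Cfsg.IsPModular p M) (hB : Cfsg.IsPBlock M B)
    (hl : Cfsg.blockRank p B = 1) :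
    ∃ φ : G → ℂ, ∃ d : Cfsg.IrrCharacter G → ℕ,
      (∃ n : Cfsg.IrrCharacter G → ℤ, ∀ x : G, Cfsg.IsPRegular p x →
        φ x = ∑ᶠ ψ ∈ B, (n ψ : ℂ) * (ψ : G → ℂ) x) ∧
      (∀ χ ∈ B, ∀ x : G, Cfsg.IsPRegular p x → (χ : G → ℂ) x = (d χ : ℂ) * φ x) ∧
      ∑ᶠ χ ∈ B, d χ ^ 2 = p ^ Cfsg.blockDefect p B := by
  haveI := fact_prime_of_pm hM
  haveI := Fintype.ofFinite G
  haveI := Fintype.ofFinite (Cfsg.IrrCharacter G)
  obtain ⟨χ₀, hχ₀, h0⟩ := exists_height_zero hM hB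
  set s := Finset.univ.filter fun χ : Cfsg.IrrCharacter G => χ ∈ B with hs
  have hone : ¬ p ∣ orderOf (1 : G) := by simp [hM.1.ne_one]
  -- proportionality on the regular elements
  have hprop : ∀ χ ∈ B, ∀ x : G, Cfsg.IsPRegular p x → (χ : G → ℂ) x =
      (χ : G → ℂ) 1 / (χ₀ : G → ℂ) 1 * (χ₀ : G → ℂ) x := by
    intro χ hχ x hx
    set v := Cfsg.pRegularPart p (χ₀ : G → ℂ)
    have hv1 : v 1 = (χ₀ : G → ℂ) 1 := by
      simp [v, Cfsg.pRegularPart, Cfsg.IsPRegular, hM.1.ne_one]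
    have hv : v ≠ 0 := fun h => irr_one_ne_zero χ₀.2 (by rw [← hv1, h]; rfl)
    have hspan : Submodule.span ℂ {v} = Submodule.span ℂ
        ((fun χ : Cfsg.IrrCharacter G => Cfsg.pRegularPart p (χ : G → ℂ)) '' B) := by
      refine Submodule.eq_of_le_of_finrank_eq (Submodule.span_le.2 ?_) ?_
      · exact Set.singleton_subset_iff.2 (Submodule.subset_span ⟨χ₀, hχ₀, rfl⟩)
      · rw [finrank_span_singleton hv]
        exact hl.symm
    have hmem : Cfsg.pRegularPart p (χ : G → ℂ) ∈ Submodule.span ℂ {v} := by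
      rw [hspan]; exact Submodule.subset_span ⟨χ, hχ, rfl⟩
    obtain ⟨c, hc⟩ := Submodule.mem_span_singleton.1 hmem
    have h1 := congrFun hc 1
    have h2 := congrFun hc x
    simp only [Pi.smul_apply, smul_eq_mul, v, Cfsg.pRegularPart] at h1 h2
    rw [if_pos hx, if_pos hx] at h2
    rw [if_pos (show Cfsg.IsPRegular p (1 : G) from hone),
      if_pos (show Cfsg.IsPRegular p (1 : G) from hone)] at h1
    rw [← h2, ← h1, mul_div_cancel_right₀ _ (irr_one_ne_zero χ₀.2)]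
  -- the greatest common divisor of the degrees
  obtain ⟨a, ha⟩ := Finset.gcd_eq_sum_mul s (fun χ => (Cfsg.charDegree (χ : G → ℂ) : ℤ))
  set g := s.gcd (fun χ => (Cfsg.charDegree (χ : G → ℂ) : ℤ))
  have hgdvd : ∀ χ ∈ B, g ∣ (Cfsg.charDegree (χ : G → ℂ) : ℤ) := fun χ hχ =>
    Finset.gcd_dvd (by simp [s, hχ])
  have hg0 : g ≠ 0 := fun h => by
    have := hgdvd χ₀ hχ₀
    rw [h, zero_dvd_iff, Nat.cast_eq_zero] at this
    exact (charDegree_pos χ₀).ne' this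
  set d : Cfsg.IrrCharacter G → ℕ := fun χ => Cfsg.charDegree (χ : G → ℂ) / g.natAbs
  have hgn : ∀ χ ∈ B, d χ * g.natAbs = Cfsg.charDegree (χ : G → ℂ) := fun χ hχ =>
    Nat.div_mul_cancel (Int.natAbs_dvd_natAbs.2 (hgdvd χ hχ) |>.trans (by simp))
  set n : Cfsg.IrrCharacter G → ℤ := fun χ => g.sign * a χ
  have hdn : ∑ χ ∈ s, (d χ : ℤ) * n χ = 1 := by
    have h : (g.natAbs : ℤ) * ∑ χ ∈ s, (d χ : ℤ) * n χ = (g.natAbs : ℤ) * 1 := by
      rw [mul_one]
      calc (g.natAbs : ℤ) * ∑ χ ∈ s, (d χ : ℤ) * n χ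
          = g.sign * ∑ χ ∈ s, (Cfsg.charDegree (χ : G → ℂ) : ℤ) * a χ := by
            rw [Finset.mul_sum, Finset.mul_sum]
            refine Finset.sum_congr rfl fun χ hχ => ?_
            rw [← hgn χ (Finset.mem_filter.1 hχ).2, Nat.cast_mul]
            simp only [n]
            ring
        _ = g.sign * g := by rw [← ha]
        _ = (g.natAbs : ℤ) := Int.sign_mul_self_eq_natAbs g
    exact mul_left_cancel₀ (Int.natCast_ne_zero.2 (Int.natAbs_ne_zero.2 hg0)) h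
  set φ : G → ℂ := fun x => (g.natAbs : ℂ) / (χ₀ : G → ℂ) 1 * (χ₀ : G → ℂ) x with hφ
  have hdφ : ∀ χ ∈ B, ∀ x : G, Cfsg.IsPRegular p x → (χ : G → ℂ) x = (d χ : ℂ) * φ x := by
    intro χ hχ x hx
    rw [hprop χ hχ x hx, ← charDegree_cast χ, ← hgn χ hχ]
    simp only [φ, Nat.cast_mul]
    ring
  have hnφ : ∀ x : G, Cfsg.IsPRegular p x → φ x = ∑ᶠ ψ ∈ B, (n ψ : ℂ) * (ψ : G → ℂ) x := by
    intro x hx
    rw [ZStar.Principal.finsum_mem_eq_sum_filter]
    rw [Finset.sum_congr rfl fun ψ hψ => by rw [hdφ ψ (Finset.mem_filter.1 hψ).2 x hx]]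
    have h := congrArg (fun z : ℤ => (z : ℂ)) hdn
    push_cast at h
    calc φ x = (∑ χ ∈ s, (d χ : ℂ) * (n χ : ℂ)) * φ x := by rw [h, one_mul]
      _ = _ := by
        rw [Finset.sum_mul]
        exact Finset.sum_congr rfl fun χ _ => by ring
  refine ⟨φ, d, ⟨n, hnφ⟩, hdφ, ?_⟩
  -- the contributions
  obtain ⟨z, hz, -, -, -, -, -, -, -, htr⟩ := exists_matrix hM hB
  set c : ℂ := ((p ^ Cfsg.blockDefect p B : ℕ) : ℂ) / (Nat.card G : ℂ) * regSum p φ φ
  have hzd : ∀ χ ∈ B, ∀ ψ ∈ B, (z χ ψ : ℂ) = (d χ : ℂ) * (d ψ : ℂ) * c := by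
    intro χ hχ ψ hψ
    rw [← hz χ hχ ψ hψ, contrib]
    simp only [c, regSum_eq_sum, Finset.mul_sum]
    refine Finset.sum_congr rfl fun x _ => ?_
    split
    · next hx =>
      rw [hdφ χ hχ x hx, hdφ ψ hψ x hx, map_mul, Complex.conj_natCast]
      ring
    · ring
  set w : ℤ := ∑ χ ∈ s, ∑ ψ ∈ s, n χ * n ψ * z χ ψ
  have hwc : (w : ℂ) = c := by
    have h := congrArg (fun z : ℤ => (z : ℂ)) hdn
    push_cast at h
    simp only [w]
    push_cast
    calc _ = (∑ χ ∈ s, (d χ : ℂ) * (n χ : ℂ)) * (∑ ψ ∈ s, (d ψ : ℂ) * (n ψ : ℂ)) * c := by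
          rw [Finset.sum_mul_sum, Finset.sum_mul]
          refine Finset.sum_congr rfl fun χ hχ => ?_
          rw [Finset.sum_mul]
          refine Finset.sum_congr rfl fun ψ hψ => ?_
          rw [hzd χ (Finset.mem_filter.1 hχ).2 ψ (Finset.mem_filter.1 hψ).2]
          ring
      _ = c := by rw [h, one_mul, one_mul]
  have hz' : ∀ χ ∈ B, z χ χ = (d χ : ℤ) ^ 2 * w := fun χ hχ => by
    apply Int.cast_injective (α := ℂ)
    rw [hzd χ hχ χ hχ]
    push_cast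
    rw [hwc]; ring
  rw [ZStar.Principal.finsum_mem_eq_sum_filter] at htr
  rw [Finset.sum_congr rfl fun χ hχ => hz' χ (Finset.mem_filter.1 hχ).2, ← Finset.sum_mul, hl,
    Nat.cast_one, mul_one] at htr
  rw [ZStar.Principal.finsum_mem_eq_sum_filter]
  set S := ∑ χ ∈ s, d χ ^ 2
  have hSw : (S : ℤ) * w = (p : ℤ) ^ Cfsg.blockDefect p B := by
    rw [← htr]; simp [S, s]
  have hpw : ¬ (p : ℤ) ∣ w := fun h => not_dvd_diag hM hB hχ₀ h0 (hz χ₀ hχ₀ χ₀ hχ₀) (by
    rw [hz' χ₀ hχ₀]; exact h.mul_left _)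
  have hmul : S * w.natAbs = p ^ Cfsg.blockDefect p B := by
    have := congrArg Int.natAbs hSw
    simpa [Int.natAbs_mul, Int.natAbs_pow] using this
  have hw1 : w.natAbs = 1 := by
    obtain ⟨j, -, hj⟩ := (Nat.dvd_prime_pow hM.1).1 ⟨S, by rw [← hmul, mul_comm]⟩
    rcases Nat.eq_zero_or_pos j with rfl | hj0
    · simpa using hj
    · exact absurd (Int.natCast_dvd.2 (hj ▸ dvd_pow_self p hj0.ne')) hpw
  rw [hw1, mul_one] at hmul
  exact hmul

end Cfsg.Agent.BlockCharsA.RankOne
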