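import Mathlib
import Cfsg.Agent.BlockCharsA.Contrib
import Cfsg.Agent.BlockCharsA.Weight
import Cfsg.Agent.Lib.Blocks.InducedChars
import Cfsg.Agent.Lib.Characters.Galois

/-!
# Subsections and characters of height zero
-/

set_option linter.style.haveILetI false
set_option linter.unusedSectionVars false

namespace Cfsg.Agent.BlockCharsA.Subsection

open Cfsg.Agent.Blocks Cfsg.Agent.Characters Cfsg.Agent.BlockCharsA.RegularPart Polynomial
open scoped ComplexConjugate

universe u

variable {G : Type u} [Group G] [Finite G] {p : ℕ} {M : Ideal Cfsg.AlgInt}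

theorem conj_eq_inv_of_pow {μ : ℂ} {q : ℕ} (hq : q ≠ 0) (h : μ ^ q = 1) : conj μ = μ⁻¹ :=
  eq_inv_of_mul_eq_one_right (by
    rw [Complex.mul_conj', Complex.norm_eq_one_of_pow_eq_one h hq, Complex.ofReal_one, one_pow])

theorem conj_pow_pair {μ : ℂ} {q : ℕ} (hq : q ≠ 0) (h : μ ^ q = 1) (a c : ℕ) :
    conj (μ ^ (a + (q - 1) * c)) = μ ^ (c + (q - 1) * a) := by
  rw [map_pow, conj_eq_inv_of_pow hq h, inv_pow]
  refine inv_eq_of_mul_eq_one_right ?_
  obtain ⟨r, rfl⟩ := Nat.exists_eq_succ_of_ne_zero hq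
  rw [← pow_add, show a + (r.succ - 1) * c + (c + (r.succ - 1) * a) = r.succ * (a + c) from by
    rw [Nat.succ_sub_one, Nat.succ_mul, mul_add]; ring, pow_mul, h, one_pow]

/-- The element as a member of its centralizer. -/
def own (y : G) : Subgroup.centralizer ({y} : Set G) :=
  ⟨y, Subgroup.mem_centralizer_singleton_iff.2 rfl⟩

theorem self_commute (y : G) (c : Subgroup.centralizer ({y} : Set G)) : Commute (own y) c :=
  Subtype.ext (ZStar.Principal.commute_coe y c).eq

/-- The scalar by which the element acts. -/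
noncomputable def eps (y : G) (η : Cfsg.IrrCharacter (Subgroup.centralizer ({y} : Set G))) : ℂ :=
  (η : Subgroup.centralizer ({y} : Set G) → ℂ) (own y) / (η : Subgroup.centralizer ({y} : Set G) → ℂ) 1

theorem eps_pow {y : G} {q : ℕ} (hq : y ^ q = 1)
    (η : Cfsg.IrrCharacter (Subgroup.centralizer ({y} : Set G))) : eps y η ^ q = 1 := by
  have h : ∀ j : ℕ, (η : Subgroup.centralizer ({y} : Set G) → ℂ) (own y ^ j) = eps y η ^ j * (η : Subgroup.centralizer ({y} : Set G) → ℂ) 1 := by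
    intro j
    induction j with
    | zero => simp
    | succ j ih =>
      rw [pow_succ', Weight.value_mul_central η (self_commute y), ih, eps, pow_succ]
      ring
  have h1 := h q
  rw [show own y ^ q = 1 from Subtype.ext (by simpa [own] using hq)] at h1
  exact (mul_eq_right₀ (irr_one_ne_zero η.2)).1 h1.symm

theorem classInner_shift {y : G} [Fintype (Subgroup.centralizer ({y} : Set G))] {q : ℕ} (hq0 : q ≠ 0)
    (hq : y ^ q = 1) (χ : G → ℂ)
    (η : Cfsg.IrrCharacter (Subgroup.centralizer ({y} : Set G))) :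
    Cfsg.classInner (ZStar.Principal.shift y χ) (η : Subgroup.centralizer ({y} : Set G) → ℂ) =
      Cfsg.classInner (fun c : Subgroup.centralizer ({y} : Set G) => χ c) (η : Subgroup.centralizer ({y} : Set G) → ℂ) *
        eps y η := by
  rw [classInner_def, classInner_def, mul_assoc, Finset.sum_mul]
  congr 1
  refine Fintype.sum_equiv (Equiv.mulLeft (own y)) _ _ fun c => ?_
  simp only [Equiv.coe_mulLeft, ZStar.Principal.shift, Subgroup.coe_mul,
    Weight.value_mul_central η (self_commute y)]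
  rw [show ((own y : Subgroup.centralizer ({y} : Set G)) : G) = y from rfl, map_mul,
    ← eps, conj_eq_inv_of_pow hq0 (eps_pow hq η)]
  have h0 : eps y η ≠ 0 := fun h => by
    have := eps_pow hq η
    rw [h, zero_pow hq0] at this
    exact zero_ne_one this
  field_simp

theorem conj_kernel_swap {H : Type*} [Group H] [Finite H] (A : Set (Cfsg.IrrCharacter H))
    (a c : H) : conj (blockKernelAt A a c) = blockKernelAt A c a := by
  classical
  haveI := Fintype.ofFinite (Cfsg.IrrCharacter H)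
  rw [blockKernelAt_eq_sum, blockKernelAt_eq_sum, map_mul, map_inv₀, Complex.conj_natCast, map_sum]
  congr 1
  refine Finset.sum_congr rfl fun ξ _ => ?_
  split
  · rw [map_mul, Complex.conj_conj, mul_comm]
  · exact map_zero _

/-- The Gram matrix of a union of blocks on a section. -/
theorem gram_part (hM : Cfsg.IsPModular p M) {x : G} (hx : ∃ k : ℕ, orderOf x = p ^ k)
    [Fintype G] [Fintype (Cfsg.IrrCharacter G)]
    {S : Set (Cfsg.IrrCharacter (Subgroup.centralizer ({x} : Set G)))}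
    (hS : IntEl M (blockIdem S)) {s t : Subgroup.centralizer ({x} : Set G)}
    (hs : ¬ p ∣ orderOf s) (ht : ¬ p ∣ orderOf t) :
    ∑ ζ : Cfsg.IrrCharacter G, Cfsg.blockPart S (ZStar.Principal.shift x (ζ : G → ℂ)) s *
      conj (Cfsg.blockPart S (ZStar.Principal.shift x (ζ : G → ℂ)) t) =
    (Nat.card (Subgroup.centralizer ({x} : Set G)) : ℂ) * blockKernelAt S s t := by
  classical
  haveI := Fintype.ofFinite (Subgroup.centralizer ({x} : Set G))
  haveI := Fintype.ofFinite (Cfsg.IrrCharacter (Subgroup.centralizer ({x} : Set G)))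
  set K := blockKernelAt S s
  set L := blockKernelAt S t
  have key : ∑ ζ : Cfsg.IrrCharacter G,
      (∑ c : Subgroup.centralizer ({x} : Set G), K c * (ζ : G → ℂ) (x * (c : G))) *
        conj (∑ d : Subgroup.centralizer ({x} : Set G), L d * (ζ : G → ℂ) (x * (d : G))) =
      ∑ η : Cfsg.IrrCharacter (Subgroup.centralizer ({x} : Set G)),
      (∑ c : Subgroup.centralizer ({x} : Set G),
          K c * (η : Subgroup.centralizer ({x} : Set G) → ℂ) c) *
        conj (∑ d : Subgroup.centralizer ({x} : Set G),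
          L d * (η : Subgroup.centralizer ({x} : Set G) → ℂ) d) := by
    simp only [map_sum, map_mul, Finset.sum_mul, Finset.mul_sum]
    rw [Finset.sum_comm]
    conv_rhs => rw [Finset.sum_comm]
    refine Finset.sum_congr rfl fun c _ => ?_
    rw [Finset.sum_comm]
    conv_rhs => rw [Finset.sum_comm]
    refine Finset.sum_congr rfl fun d _ => ?_
    simp only [fun a b : ℂ => mul_mul_mul_comm (K d) a (conj (L c)) b, ← Finset.mul_sum]
    by_cases hcd : p ∣ orderOf c ∨ p ∣ orderOf d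
    · rcases hcd with h | h
      · simp [L, Rank.kernel_sing_right hM hS ht h]
      · simp [K, Rank.kernel_sing_right hM hS hs h]
    · push Not at hcd
      rw [orthogonality_section hM.1 hx d c hcd.2 hcd.1]
  simp only [← blockPart_eq_kernel, K, L, blockPart_irr] at key
  refine Eq.trans ?_ (key.trans ?_)
  · exact Finset.sum_congr rfl fun ζ _ => rfl
  · show _ = _ * blockKernelAt S s t
    rw [blockKernelAt_eq_sum, ← mul_assoc, mul_inv_cancel₀ natCard_ne_zero, one_mul]
    exact Finset.sum_congr rfl fun η _ => by split <;> simp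

/-- The Gram matrix of a subsection over its block. -/
theorem gram_block (hM : Cfsg.IsPModular p M) {B : Set (Cfsg.IrrCharacter G)}
    {x : G} (hx : ∃ k : ℕ, orderOf x = p ^ k)
    {b : Set (Cfsg.IrrCharacter (Subgroup.centralizer ({x} : Set G)))}
    (hind : Cfsg.IsInducedBlock M (Subgroup.centralizer ({x} : Set G)) b B)
    {s t : Subgroup.centralizer ({x} : Set G)} (hs : ¬ p ∣ orderOf s) (ht : ¬ p ∣ orderOf t) :
    ∑ᶠ χ ∈ B, Cfsg.blockPart b (ZStar.Principal.shift x (χ : G → ℂ)) s *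
      conj (Cfsg.blockPart b (ZStar.Principal.shift x (χ : G → ℂ)) t) =
    (Nat.card (Subgroup.centralizer ({x} : Set G)) : ℂ) * blockKernelAt b s t := by
  classical
  haveI := Fintype.ofFinite G
  haveI := Fintype.ofFinite (Cfsg.IrrCharacter G)
  rw [← gram_part hM hx (intEl_blockIdem hM hind.1) hs ht,
    ZStar.Principal.finsum_mem_eq_sum_filter]
  refine Finset.sum_subset (Finset.subset_univ _) fun χ _ hχ => ?_
  rw [show Cfsg.blockPart b (ZStar.Principal.shift x (χ : G → ℂ)) s = 0 from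
    blockPart_eq_zero_of_not_induced hM hx (isPBlock_blockOf M χ) (mem_blockOf_self hM χ) hind.1
      (fun h => hχ (Finset.mem_filter.2 ⟨Finset.mem_univ _,
        (isInduced_unique hM h hind) ▸ mem_blockOf_self hM χ⟩)) hs, zero_mul]

/-- The weighted sum of ratios of the constituents of a height-zero character is a unit. -/
theorem sum_mult_ratio_unit [Fintype G] (hM : Cfsg.IsPModular p M) {H : Subgroup G} [Fintype H]
    [Fintype (Cfsg.IrrCharacter H)]
    {b : Set (Cfsg.IrrCharacter H)} [DecidablePred (· ∈ b)] {B : Set (Cfsg.IrrCharacter G)}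
    (hind : Cfsg.IsInducedBlock M H b B) {χ : Cfsg.IrrCharacter G} (hχ : χ ∈ B)
    (h0 : Cfsg.blockHeight p B (χ : G → ℂ) = 0) {ξ : Cfsg.IrrCharacter H} (hξ : ξ ∈ b)
    (n : Cfsg.IrrCharacter H → ℕ)
    (hn : ∀ η : Cfsg.IrrCharacter H,
      Cfsg.classInner (fun h : H => (χ : G → ℂ) h) (η : H → ℂ) = (n η : ℂ)) :
    ¬ Cfsg.MemLocalIdeal M (∑ η ∈ Finset.univ.filter (· ∈ b),
      (n η : ℂ) * ratio p (η : H → ℂ) (ξ : H → ℂ)) := by
  classical
  have hu : ¬ Cfsg.MemLocalIdeal M (omega (ξ : H → ℂ) (regEl p fun h : H => (χ : G → ℂ) h)) := by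
    rw [← restrEl_regEl, ideal_iff_of_cong hM (omega_cong_of_isInduced hM hind hξ hχ
      (central_regEl (irr_isClassFunction χ)) (intEl_regEl hM (irr_isCharacter χ)))]
    exact omega_regEl_unit hM hind.2.1 hχ hχ h0
  have hres : Cfsg.IsCharacter H (fun h : H => (χ : G → ℂ) h) :=
    isCharacter_restrict H (irr_isCharacter χ)
  have hsum : regEl p (fun h : H => (χ : G → ℂ) h) =
      ∑ η : Cfsg.IrrCharacter H, (n η : ℂ) • regEl p (η : H → ℂ) := by
    refine el_ext fun h => ?_
    rw [coeff_regEl]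
    have hexp := congrFun (classFun_eq_sum (char_isClassFunction hres)) h⁻¹
    rw [hexp]
    simp only [MonoidAlgebra.coeff_sum, Finsupp.finsetSum_apply, MonoidAlgebra.coeff_smul,
      Finsupp.smul_apply, coeff_regEl, hn]
    split
    · simp
    · simp [Finset.sum_apply]
  rw [hsum, omega_sum] at hu
  set c : ℂ := ((p ^ (Nat.card H).factorization p : ℕ) : ℂ) / (Nat.card H : ℂ)
  have e : ∑ η ∈ Finset.univ.filter (· ∈ b), (n η : ℂ) * ratio p (η : H → ℂ) (ξ : H → ℂ) =
      c * ∑ η : Cfsg.IrrCharacter H, omega (ξ : H → ℂ) ((n η : ℂ) • regEl p (η : H → ℂ)) := by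
    rw [Finset.mul_sum, Finset.sum_filter]
    refine Finset.sum_congr rfl fun η _ => ?_
    rw [omega_smul]
    split
    · rw [ratio]; ring
    · next hη =>
      rw [omega_regEl_eq_zero hM fun e => hη
        (mem_of_sameBlock hM hind.1 hξ (sameBlock_symm hM e)), mul_zero, mul_zero]
  rw [e, ideal_mul_iff hM (card_unit hM) (ring_sum hM fun η _ => by
    rw [omega_smul]
    exact ring_mul hM (ring_natCast hM _) (omega_ring hM ξ (central_regEl (irr_isClassFunction η))
      (intEl_regEl hM (irr_isCharacter η))))]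
  rintro (h | h)
  · exact not_ideal_natCast_div hM (pow_ne_zero _ hM.1.ne_zero) Nat.card_pos.ne'
      (by rw [hM.1.factorization_pow, Finsupp.single_eq_same]) h
  · exact hu h

/-- A height-zero block bound from a subsection. -/
theorem card_sq_le (hM : Cfsg.IsPModular p M) {B : Set (Cfsg.IrrCharacter G)}
    (hh : ∀ χ ∈ B, Cfsg.blockHeight p B (χ : G → ℂ) = 0) {y : G}
    (hy : ∃ k : ℕ, orderOf y = p ^ k)
    {b : Set (Cfsg.IrrCharacter (Subgroup.centralizer ({y} : Set G)))}
    (hind : Cfsg.IsInducedBlock M (Subgroup.centralizer ({y} : Set G)) b B) :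
    Nat.card B ^ 2 ≤ p ^ (2 * Cfsg.blockDefect p b) * Cfsg.blockRank p b := by
  classical
  haveI := fact_prime_of_pm hM
  haveI := Fintype.ofFinite G
  haveI := Fintype.ofFinite (Cfsg.IrrCharacter G)
  haveI := Fintype.ofFinite (Subgroup.centralizer ({y} : Set G))
  haveI := Fintype.ofFinite (Cfsg.IrrCharacter (Subgroup.centralizer ({y} : Set G)))
  have hB := hind.2.1
  have hb := hind.1
  obtain ⟨k, hk⟩ := id hy
  set q := p ^ k with hqdef
  have hq0 : q ≠ 0 := pow_ne_zero _ hM.1.ne_zero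
  have hyq : y ^ q = 1 := by rw [← hk, pow_orderOf_eq_one]
  haveI : NeZero q := ⟨hq0⟩
  set ζ := Complex.exp (2 * Real.pi * Complex.I / q)
  have hζ : IsPrimitiveRoot ζ q := Complex.isPrimitiveRoot_exp q hq0
  have hex : ∀ η : Cfsg.IrrCharacter (Subgroup.centralizer ({y} : Set G)),
      ∃ i : ℕ, ζ ^ i = eps y η := fun η => by
    obtain ⟨i, -, hi⟩ := hζ.eq_pow_of_pow_eq_one (eps_pow hyq η)
    exact ⟨i, hi⟩
  choose e he using hex
  have hn' : ∀ (χ : Cfsg.IrrCharacter G)
      (η : Cfsg.IrrCharacter (Subgroup.centralizer ({y} : Set G))), ∃ n : ℕ,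
      Cfsg.classInner (fun c : Subgroup.centralizer ({y} : Set G) => (χ : G → ℂ) c)
        (η : Subgroup.centralizer ({y} : Set G) → ℂ) = (n : ℂ) :=
    fun χ η => classInner_char_nat (isCharacter_restrict _ (irr_isCharacter χ)) (irr_isCharacter η)
  choose n hn using hn'
  obtain ⟨z, hz, hzs, -, -, -, -, -, -, -⟩ := Contrib.exists_matrix hM hb
  set bs := Finset.univ.filter (· ∈ b) with hbs
  set Bs := Finset.univ.filter (· ∈ B) with hBs
  set P : Cfsg.IrrCharacter G → Cfsg.IrrCharacter G → ℚ[X] := fun χ ψ =>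
    ∑ η ∈ bs, ∑ η' ∈ bs, C (((n χ η * n ψ η' : ℕ) : ℚ) * (z η η' : ℚ)) *
      X ^ (e η + (q - 1) * e η') with hP
  have hPval : ∀ (μ : ℂ) (χ ψ : Cfsg.IrrCharacter G), aeval μ (P χ ψ) =
      ∑ η ∈ bs, ∑ η' ∈ bs, (n χ η : ℂ) * (n ψ η' : ℂ) * (z η η' : ℂ) *
        μ ^ (e η + (q - 1) * e η') := by
    intro μ χ ψ
    simp [P, map_sum]
  have hconj : ∀ (μ : ℂ), μ ^ q = 1 → ∀ χ ψ : Cfsg.IrrCharacter G,
      conj (aeval μ (P χ ψ)) = aeval μ (P ψ χ) := by
    intro μ hμ χ ψ
    rw [hPval, hPval, map_sum, Finset.sum_comm]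
    refine Finset.sum_congr rfl fun η hη => ?_
    rw [map_sum]
    refine Finset.sum_congr rfl fun η' hη' => ?_
    simp only [map_mul, Complex.conj_natCast, map_intCast, conj_pow_pair hq0 hμ]
    rw [hzs η' (Finset.mem_filter.1 hη').2 η (Finset.mem_filter.1 hη).2]
    ring
  -- the value at `ζ`
  set d := Cfsg.blockDefect p b with hd
  set c : ℂ := ((p ^ d : ℕ) : ℂ) / (Nat.card (Subgroup.centralizer ({y} : Set G)) : ℂ) with hc
  set f : Cfsg.IrrCharacter G → Subgroup.centralizer ({y} : Set G) → ℂ := fun χ =>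
    Cfsg.blockPart b (ZStar.Principal.shift y (χ : G → ℂ)) with hf
  have hfval : ∀ χ s, f χ s = ∑ η ∈ bs, (n χ η : ℂ) * ζ ^ e η * (η : Subgroup.centralizer ({y} : Set G) → ℂ) s := by
    intro χ s
    simp only [f]
    rw [ZStar.Principal.blockPart_eq_sum_mul, ZStar.Principal.finsum_mem_eq_sum_filter]
    refine Finset.sum_congr (by ext; simp [bs]) fun η _ => ?_
    rw [classInner_shift hq0 hyq, hn, he]
  have hζval : ∀ χ ψ, aeval ζ (P χ ψ) = c * regSum p (f χ) (f ψ) := by
    intro χ ψ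
    have hexp : regSum p (f χ) (f ψ) = ∑ η ∈ bs, ∑ η' ∈ bs,
        (n χ η : ℂ) * ζ ^ e η * ((n ψ η' : ℂ) * conj (ζ ^ e η')) *
          regSum p (η : Subgroup.centralizer ({y} : Set G) → ℂ) (η' : Subgroup.centralizer ({y} : Set G) → ℂ) := by
      rw [regSum_eq_sum]
      simp only [regSum_eq_sum, Finset.mul_sum]
      conv_rhs => arg 2; ext η; rw [Finset.sum_comm]
      rw [Finset.sum_comm (s := bs)]
      refine Finset.sum_congr rfl fun s _ => ?_
      by_cases hs : p ∣ orderOf s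
      · simp [hs]
      · simp only [hs, not_false_eq_true, if_true, hfval, map_sum, Finset.sum_mul, Finset.mul_sum,
          map_mul, Complex.conj_natCast]
        rw [Finset.sum_comm]
        exact Finset.sum_congr rfl fun η _ => Finset.sum_congr rfl fun η' _ => by ring
    rw [hPval, hexp, Finset.mul_sum]
    refine Finset.sum_congr rfl fun η hη => ?_
    rw [Finset.mul_sum]
    refine Finset.sum_congr rfl fun η' hη' => ?_
    rw [← hz η (Finset.mem_filter.1 hη).2 η' (Finset.mem_filter.1 hη').2, Contrib.contrib,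
      pow_add, map_pow, conj_eq_inv_of_pow hq0 hζ.pow_eq_one, inv_pow,
      show ζ ^ ((q - 1) * e η') = (ζ ^ e η')⁻¹ from by
        rw [← conj_eq_inv_of_pow hq0 (by rw [← pow_mul, mul_comm, pow_mul, hζ.pow_eq_one, one_pow]),
          ← zero_add (e η'), ← mul_zero (q - 1), add_comm ((q - 1) * 0),
          conj_pow_pair hq0 hζ.pow_eq_one]
        simp]
    simp only [hc]
    ring
  set l := Cfsg.blockRank p b with hl
  set Q : ℚ[X] := ∑ χ ∈ Bs, ∑ ψ ∈ Bs, P χ ψ * P ψ χ with hQ
  have hQζ : aeval ζ Q = ((((p ^ (2 * d) * l : ℕ) : ℚ)) : ℂ) := by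
    simp only [Q, map_sum, map_mul, hζval]
    rw [Rat.cast_natCast, Nat.cast_mul, hl, Rank.blockRank_eq_trace hM (intEl_blockIdem hM hb)]
    have hgram : ∀ s t : Subgroup.centralizer ({y} : Set G), ¬ p ∣ orderOf s → ¬ p ∣ orderOf t →
        ∑ χ ∈ Bs, f χ s * conj (f χ t) =
          (Nat.card (Subgroup.centralizer ({y} : Set G)) : ℂ) * blockKernelAt b s t := by
      intro s t hs ht
      rw [← gram_block hM hy hind hs ht, ZStar.Principal.finsum_mem_eq_sum_filter]
    simp only [regSum_eq_sum, ← Finset.sum_filter]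
    set R := Finset.univ.filter fun s : Subgroup.centralizer ({y} : Set G) => ¬ p ∣ orderOf s
    calc ∑ χ ∈ Bs, ∑ ψ ∈ Bs, (c * ∑ s ∈ R, f χ s * conj (f ψ s)) *
          (c * ∑ t ∈ R, f ψ t * conj (f χ t))
        = c ^ 2 * ∑ s ∈ R, ∑ t ∈ R, (∑ χ ∈ Bs, f χ s * conj (f χ t)) *
            ∑ ψ ∈ Bs, f ψ t * conj (f ψ s) := by
          simp only [Finset.mul_sum, Finset.sum_mul]
          conv_rhs => arg 2; ext s; rw [Finset.sum_comm]
          rw [Finset.sum_comm (s := R) (t := Bs)]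
          conv_rhs => arg 2; ext χ; arg 2; ext s; rw [Finset.sum_comm]
          conv_rhs => arg 2; ext χ; rw [Finset.sum_comm]
          refine Finset.sum_congr rfl fun χ _ => Finset.sum_congr rfl fun ψ _ => ?_
          exact Finset.sum_congr rfl fun s _ => Finset.sum_congr rfl fun t _ => by ring
      _ = c ^ 2 * ∑ s ∈ R, ∑ t ∈ R,
            (Nat.card (Subgroup.centralizer ({y} : Set G)) : ℂ) ^ 2 *
              (blockKernelAt b s t * blockKernelAt b t s) := by
          refine congrArg _ (Finset.sum_congr rfl fun s hs => Finset.sum_congr rfl fun t ht => ?_)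
          rw [hgram s t (Finset.mem_filter.1 hs).2 (Finset.mem_filter.1 ht).2,
            hgram t s (Finset.mem_filter.1 ht).2 (Finset.mem_filter.1 hs).2]
          ring
      _ = _ := by
          have hN : (Nat.card (Subgroup.centralizer ({y} : Set G)) : ℂ) ≠ 0 := natCard_ne_zero
          rw [Finset.mul_sum, Finset.mul_sum]
          refine Finset.sum_congr (Finset.ext fun s => by simp [R]) fun s hs => ?_
          have hs' : ¬ p ∣ orderOf s := by simpa [R] using hs
          rw [← Finset.mul_sum, Finset.sum_subset (Finset.subset_univ _) fun t _ ht => by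
            rw [Rank.kernel_sing_right hM (intEl_blockIdem hM hb) hs' (by simpa [R] using ht),
              zero_mul], Rank.kernel_mul_kernel]
          simp only [hc, mul_comm 2 d, pow_mul, Nat.cast_pow]
          field_simp
  -- nonvanishing
  obtain ⟨η₀, hη₀, hη₀h⟩ := exists_height_zero hM hb
  set a := (Nat.card (Subgroup.centralizer ({y} : Set G))).factorization p with ha
  set δ : Cfsg.IrrCharacter (Subgroup.centralizer ({y} : Set G)) → ℂ := fun η =>
    ((Cfsg.charDegree (η : Subgroup.centralizer ({y} : Set G) → ℂ) : ℕ) : ℂ) / ((p ^ (a - d) : ℕ) : ℂ) with hδ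
  have hδr : ∀ η ∈ b, Cfsg.MemLocalRing M (δ η) := fun η hη =>
    ring_natCast_div hM (pow_ne_zero _ hM.1.ne_zero) (by
      rw [hM.1.factorization_pow, Finsupp.single_eq_same]
      have := degree_factorization_eq hM hb hη
      omega)
  have hδ0 : ¬ Cfsg.MemLocalIdeal M (δ η₀) :=
    not_ideal_natCast_div hM (charDegree_pos η₀).ne' (pow_ne_zero _ hM.1.ne_zero) (by
      rw [hM.1.factorization_pow, Finsupp.single_eq_same]
      have := degree_factorization_eq hM hb hη₀
      omega)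
  have hzr : ∀ η ∈ b, ∀ η' ∈ b, (z η η' : ℂ) = δ η' * ratio p (η : Subgroup.centralizer ({y} : Set G) → ℂ) (η' : Subgroup.centralizer ({y} : Set G) → ℂ) := by
    intro η hη η' hη'
    obtain ⟨w, hw, hw', -⟩ := exists_coeff hM η η'
    rw [Contrib.classInner_hat_regSum, hw'] at hw
    rw [← hz η hη η' hη', Contrib.contrib, hδ]
    show _ = ((Cfsg.charDegree (η' : Subgroup.centralizer ({y} : Set G) → ℂ) : ℕ) : ℂ) / ((p ^ (a - d) : ℕ) : ℂ) * _
    have hpa : ((p ^ a : ℕ) : ℂ) = ((p ^ d : ℕ) : ℂ) * ((p ^ (a - d) : ℕ) : ℂ) := by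
      rw [← Nat.cast_mul, ← pow_add, Nat.add_sub_cancel' (blockDefect_le p b)]
    rw [← ha, hpa] at hw
    rw [div_mul_eq_mul_div _ ((p ^ (a - d) : ℕ) : ℂ), ← hw,
      eq_div_iff (natCast_p_pow_ne_zero hM _)]
    ring
  set R : Cfsg.IrrCharacter G → ℂ := fun χ =>
    ∑ η ∈ bs, (n χ η : ℂ) * ratio p (η : Subgroup.centralizer ({y} : Set G) → ℂ) (η₀ : Subgroup.centralizer ({y} : Set G) → ℂ) with hR
  set D : Cfsg.IrrCharacter G → ℂ := fun χ => ∑ η ∈ bs, (n χ η : ℂ) * δ η with hD
  have hRu : ∀ χ ∈ B, ¬ Cfsg.MemLocalIdeal M (R χ) := fun χ hχ =>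
    sum_mult_ratio_unit hM hind hχ (hh χ hχ) hη₀ (n χ) (hn χ)
  have hDr : ∀ χ, Cfsg.MemLocalRing M (D χ) := fun χ => ring_sum hM fun η hη =>
    ring_mul hM (ring_natCast hM _) (hδr η (Finset.mem_filter.1 hη).2)
  have hRr : ∀ χ, Cfsg.MemLocalRing M (R χ) := fun χ => ring_sum hM fun η _ =>
    ring_mul hM (ring_natCast hM _) (ratio_ring hM η η₀)
  have hDu : ∀ χ ∈ B, ¬ Cfsg.MemLocalIdeal M (D χ) := by
    intro χ hχ h
    have hcong : Cong M (δ η₀ * R χ) (ratio p (η₀ : Subgroup.centralizer ({y} : Set G) → ℂ) (η₀ : Subgroup.centralizer ({y} : Set G) → ℂ) * D χ) := by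
      simp only [R, D, Finset.mul_sum]
      refine cong_sum hM fun η hη => ?_
      have hη' := (Finset.mem_filter.1 hη).2
      have e1 : δ η₀ * ((n χ η : ℂ) * ratio p (η : Subgroup.centralizer ({y} : Set G) → ℂ) (η₀ : Subgroup.centralizer ({y} : Set G) → ℂ)) =
          (n χ η : ℂ) * (z η₀ η : ℂ) := by
        rw [hzs η hη' η₀ hη₀, hzr η hη' η₀ hη₀]; ring
      rw [e1, hzr η₀ hη₀ η hη',
        show ratio p (η₀ : Subgroup.centralizer ({y} : Set G) → ℂ) (η₀ : Subgroup.centralizer ({y} : Set G) → ℂ) * ((n χ η : ℂ) * δ η) =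
          (n χ η : ℂ) * δ η * ratio p (η₀ : Subgroup.centralizer ({y} : Set G) → ℂ) (η₀ : Subgroup.centralizer ({y} : Set G) → ℂ) from by ring, ← mul_assoc]
      exact cong_mul_left hM (ring_mul hM (ring_natCast hM _) (hδr η hη'))
        (ratio_cong hM hb η₀ hη' hη₀)
    have h2 := (ideal_iff_of_cong hM hcong).2 (ideal_mul_left hM (ratio_ring hM η₀ η₀) h)
    rw [ideal_mul_iff hM (hδr η₀ hη₀) (hRr χ)] at h2
    exact h2.elim hδ0 (hRu χ hχ)
  have hne : ∀ μ : ℂ, μ ^ q = 1 → ∀ χ ∈ B, ∀ ψ ∈ B, aeval μ (P χ ψ) ≠ 0 := by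
    intro μ hμ χ hχ ψ hψ h0
    have hc1 : Cong M (aeval μ (P χ ψ)) (D ψ * R χ) := by
      rw [hPval]
      simp only [R, D, Finset.mul_sum]
      rw [show ∀ g : Cfsg.IrrCharacter (Subgroup.centralizer ({y} : Set G)) → ℂ,
        ∑ η ∈ bs, (∑ η' ∈ bs, (n ψ η' : ℂ) * δ η') * g η =
          ∑ η ∈ bs, ∑ η' ∈ bs, (n ψ η' : ℂ) * δ η' * g η from fun g =>
            Finset.sum_congr rfl fun η _ => Finset.sum_mul _ _ _]
      refine cong_sum hM fun η hη => cong_sum hM fun η' hη' => ?_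
      have hη1 := (Finset.mem_filter.1 hη).2
      have hη1' := (Finset.mem_filter.1 hη').2
      have e1 : Cong M ((n χ η : ℂ) * (n ψ η' : ℂ) * (z η η' : ℂ) * μ ^ (e η + (q - 1) * e η'))
          ((n χ η : ℂ) * (n ψ η' : ℂ) * (z η η' : ℂ) * 1) :=
        cong_mul_left hM (ring_mul hM (ring_mul hM (ring_natCast hM _) (ring_natCast hM _))
          (ring_intCast hM _)) (cong_one_of_pow_prime_pow hM (k := k) (by
            rw [← pow_mul, mul_comm, pow_mul, ← hqdef, hμ, one_pow]))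
      refine cong_trans hM e1 ?_
      rw [mul_one, hzr η hη1 η' hη1',
        show (n ψ η' : ℂ) * δ η' * ((n χ η : ℂ) * ratio p (η : Subgroup.centralizer ({y} : Set G) → ℂ) (η₀ : Subgroup.centralizer ({y} : Set G) → ℂ)) =
          (n χ η : ℂ) * (n ψ η' : ℂ) * δ η' * ratio p (η : Subgroup.centralizer ({y} : Set G) → ℂ) (η₀ : Subgroup.centralizer ({y} : Set G) → ℂ) from by ring,
        ← mul_assoc]
      exact cong_mul_left hM (ring_mul hM (ring_mul hM (ring_natCast hM _) (ring_natCast hM _))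
        (hδr η' hη1')) (ratio_cong hM hb η hη1' hη₀)
    rw [h0] at hc1
    have h2 := cong_zero_iff.1 (cong_symm hM hc1)
    rw [ideal_mul_iff hM (hDr ψ) (hRr χ)] at h2
    exact h2.elim (hDu ψ hψ) (hRu χ hχ)
  -- the inequality
  have hμq : ∀ μ ∈ primitiveRoots q ℂ, μ ^ q = 1 := fun μ hμ =>
    ((mem_primitiveRoots (Nat.pos_of_ne_zero hq0)).1 hμ).pow_eq_one
  have hswap : ∀ μ ∈ primitiveRoots q ℂ,
      ∑ χ ∈ Bs, ∑ ψ ∈ Bs, ‖aeval μ (P χ ψ)‖ ^ 2 = ((p ^ (2 * d) * l : ℕ) : ℝ) := by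
    intro μ hμ
    have h1 := aeval_eq_rat_of_primitive (Nat.pos_of_ne_zero hq0) hζ
      ((mem_primitiveRoots (Nat.pos_of_ne_zero hq0)).1 hμ) Q hQζ
    apply Complex.ofReal_injective
    rw [Rat.cast_natCast] at h1
    rw [Complex.ofReal_natCast, ← h1]
    simp only [Q, map_sum, map_mul, Complex.ofReal_sum, Complex.ofReal_pow]
    refine Finset.sum_congr rfl fun χ _ => Finset.sum_congr rfl fun ψ _ => ?_
    rw [← Complex.mul_conj', hconj μ (hμq μ hμ)]
  have hge : ∀ χ ∈ B, ∀ ψ ∈ B, ((primitiveRoots q ℂ).card : ℝ) ≤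
      ∑ μ ∈ primitiveRoots q ℂ, ‖aeval μ (P χ ψ)‖ ^ 2 := by
    intro χ hχ ψ hψ
    have hnz : ∀ μ ∈ primitiveRoots q ℂ, aeval μ (P χ ψ) ≠ 0 := fun μ hμ =>
      hne μ (hμq μ hμ) χ hχ ψ hψ
    have hprod := one_le_prod_norm_primitiveRoots (Nat.pos_of_ne_zero hq0) (P χ ψ)
      (fun μ hμ => by
        rw [hPval]
        refine IsIntegral.sum _ fun η _ => IsIntegral.sum _ fun η' _ => ?_
        exact (((isIntegral_natCast _).mul (isIntegral_natCast _)).mul
          (by simpa using isIntegral_algebraMap (R := ℤ) (A := ℂ) (x := z η η'))).mul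
          ((isIntegral_of_pow_eq_one hq0 (hμq μ hμ)).pow _)) hnz
    have hpos : ∀ μ ∈ primitiveRoots q ℂ, 0 < ‖aeval μ (P χ ψ)‖ ^ 2 := fun μ hμ =>
      pow_pos (norm_pos_iff.2 (hnz μ hμ)) 2
    have hlog : 0 ≤ ∑ μ ∈ primitiveRoots q ℂ, Real.log (‖aeval μ (P χ ψ)‖ ^ 2) := by
      rw [← Real.log_prod (fun μ hμ => (hpos μ hμ).ne'), Finset.prod_pow]
      exact Real.log_nonneg (one_le_pow₀ hprod)
    have h2 := hlog.trans (Finset.sum_le_sum fun μ hμ => Real.log_le_sub_one_of_pos (hpos μ hμ))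
    rw [Finset.sum_sub_distrib, sub_nonneg, Finset.sum_const, nsmul_one] at h2
    exact h2
  have h3 := Finset.sum_le_sum (s := Bs) fun χ hχ => Finset.sum_le_sum (s := Bs) fun ψ hψ =>
    hge χ (Finset.mem_filter.1 hχ).2 ψ (Finset.mem_filter.1 hψ).2
  conv_rhs at h3 => arg 2; ext χ; rw [Finset.sum_comm]
  conv_rhs at h3 => rw [Finset.sum_comm]
  rw [Finset.sum_congr rfl hswap, Finset.sum_const, Finset.sum_const, Finset.sum_const,
    nsmul_eq_mul, nsmul_eq_mul, nsmul_eq_mul, ← mul_assoc, ← sq] at h3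
  have hcard : Nat.card B = Bs.card := by
    rw [Nat.card_eq_fintype_card, ← Set.toFinset_card]
    congr 1
    ext; simp [Bs]
  have hpr : (0 : ℝ) < ((primitiveRoots q ℂ).card : ℝ) := by
    exact_mod_cast Finset.card_pos.2 ⟨ζ, (mem_primitiveRoots (Nat.pos_of_ne_zero hq0)).2 hζ⟩
  rw [hcard]
  have h4 : ((Bs.card ^ 2 : ℕ) : ℝ) ≤ ((p ^ (2 * d) * l : ℕ) : ℝ) := by
    refine le_of_mul_le_mul_left ?_ hpr
    push_cast at h3 ⊢
    linarith
  exact_mod_cast h4

end Cfsg.Agent.BlockCharsA.Subsection
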