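import Mathlib
import Cfsg.Agent.BlocksChars.ItoPSolvable
import Cfsg.Agent.Lib.PrimeBlock.Tools
import Cfsg.Agent.Lib.PrimeBlock.Simple
import Cfsg.Agent.Lib.Characters.Kernel
import Cfsg.Agent.S4750

/-!
If all character degrees are below `p`, the Sylow `p`-subgroup is normal and abelian.
-/

set_option autoImplicit false
set_option linter.style.haveILetI false
set_option linter.unusedSectionVars false

namespace Cfsg.Agent.BlockCharsA.DegLtPrime

open Cfsg.Agent.Characters Cfsg.Agent.CharTheory
open scoped ComplexConjugate Pointwise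

universe u

/-- all degrees are below `p` -/
def DLT (G : Type u) [Group G] (p : ℕ) : Prop :=
  ∀ χ : Cfsg.IrrCharacter G, Cfsg.charDegree (χ : G → ℂ) < p

variable {G : Type u} [Group G] [Finite G] {p : ℕ}

theorem DLT.pPrime (h : DLT G p) : BlocksChars.ItoPSolvable.PPrimeDegrees G p := fun χ hd =>
  absurd (Nat.le_of_dvd (Blocks.charDegree_pos χ) hd) (not_le.2 (h χ))

theorem DLT.quotient (h : DLT G p) (N : Subgroup G) [N.Normal] : DLT (G ⧸ N) p := fun θ => by
  have h1 := h ⟨_, isIrrCharacter_comp_surjective _ (QuotientGroup.mk'_surjective N) θ.2⟩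
  have e : Cfsg.charDegree ((θ : G ⧸ N → ℂ) ∘ QuotientGroup.mk' N) =
      Cfsg.charDegree (θ : G ⧸ N → ℂ) := by simp [Cfsg.charDegree]
  rwa [e] at h1

theorem DLT.subgroup (h : DLT G p) (H : Subgroup G) : DLT H p := by
  intro θ
  classical
  haveI := Fintype.ofFinite G
  haveI := Fintype.ofFinite H
  haveI := Fintype.ofFinite (Cfsg.IrrCharacter G)
  have hI := isCharacter_indFun H (irr_isCharacter θ)
  obtain ⟨χ, hχ⟩ : ∃ χ : Cfsg.IrrCharacter G,
      Cfsg.classInner (Cfsg.indFun H (θ : H → ℂ)) (χ : G → ℂ) ≠ 0 := by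
    by_contra hcon
    push Not at hcon
    have h1 := congrFun (classFun_eq_sum (char_isClassFunction hI)) 1
    rw [indFun_one] at h1
    simp [Finset.sum_apply, hcon, H.index_ne_zero_of_finite, irr_one_ne_zero θ.2] at h1
  have hne : Cfsg.classInner (fun x : H => (χ : G → ℂ) x) (θ : H → ℂ) ≠ 0 := by
    intro h0
    rw [frobenius_reciprocity H _ (char_isClassFunction (irr_isCharacter χ)), classInner_conj_symm,
      h0, map_zero] at hχ
    exact hχ rfl
  have h2 := irr_degree_le (isCharacter_restrict H (irr_isCharacter χ)) θ.2 hne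
  rw [← Blocks.charDegree_cast, OneMemClass.coe_one,
    ← Blocks.charDegree_cast χ, Complex.natCast_re, Complex.natCast_re, Nat.cast_le] at h2
  exact lt_of_le_of_lt h2 (h χ)

theorem sylow_comm [Fact p.Prime] (h : DLT G p) (P : Sylow p G) :
    ∀ a ∈ (P : Subgroup G), ∀ b ∈ (P : Subgroup G), a * b = b * a := by
  have hc : IsMulCommutative (P : Subgroup G) := by
    refine BlocksChars.ItoPSolvable.comm_of_linear fun θ => ?_
    obtain ⟨m, hm⟩ := IsPGroup.iff_card.1 P.2
    haveI := Fintype.ofFinite (P : Subgroup G)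
    obtain ⟨j, -, hj⟩ := (Nat.dvd_prime_pow Fact.out).1 (hm ▸ BlocksChars.Degrees.charDegree_dvd_card θ)
    rcases Nat.eq_zero_or_pos j with rfl | hj0
    · rwa [pow_zero] at hj
    · exact absurd (hj ▸ dvd_pow_self p hj0.ne') ((h.subgroup (P : Subgroup G)).pPrime θ)
  exact fun a ha b hb => congrArg Subtype.val (hc.is_comm.comm (⟨a, ha⟩ : (P : Subgroup G)) ⟨b, hb⟩)

/-- A simple group: the case of a cyclic Sylow subgroup of prime order. -/
theorem false_of_prime [Fact p.Prime] [IsSimpleGroup G] (hG : ¬ IsMulCommutative G) (h : DLT G p)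
    (hodd : p ≠ 2) (P : Sylow p G) (hP : Nat.card (P : Subgroup G) = p) : False := by
  classical
  haveI := Fintype.ofFinite G
  haveI := Fintype.ofFinite (Cfsg.IrrCharacter G)
  haveI := Fintype.ofFinite (P : Subgroup G)
  have hp : p.Prime := Fact.out
  obtain ⟨D, ht, hts⟩ := PrimeBlock.exists_pblock' hG hodd P hP
  obtain ⟨θ₀, hθ₀⟩ := D.Y_nonempty
  have hθne : θ₀ ≠ trivIrr G := fun e => Finset.disjoint_left.1 D.disj ht (e ▸ hθ₀)
  have hC := D.card_centralizer hG ((D.mem_block θ₀).2 (Or.inr hθ₀)) hθne (h θ₀)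
  -- every character lies in the principal block
  have hall : ∀ χ : Cfsg.IrrCharacter G, χ ∈ D.X ∨ χ ∈ D.Y := by
    intro χ
    rw [← D.mem_block]
    by_contra hχ
    have hres : Cfsg.classInner (fun y : (P : Subgroup G) => (χ : G → ℂ) y) (fun _ => 1) =
        (p : ℂ)⁻¹ * (χ : G → ℂ) 1 := by
      rw [classInner_def, hP, Finset.sum_eq_single (1 : (P : Subgroup G))]
      · simp
      · intro y _ hy
        rw [D.eq_zero_of_notMem hC hχ y.2 fun e => hy (Subtype.ext e), zero_mul]
      · exact fun h0 => absurd (Finset.mem_univ _) h0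
    obtain ⟨k, hk⟩ := classInner_char_nat (isCharacter_restrict (P : Subgroup G) (irr_isCharacter χ))
      isCharacter_one
    rw [hres, ← Blocks.charDegree_cast, inv_mul_eq_iff_eq_mul₀ (Nat.cast_ne_zero.2 hp.ne_zero),
      ← Nat.cast_mul, Nat.cast_inj] at hk
    exact h.pPrime χ ⟨k, hk⟩
  -- the degrees in `X`
  have hX : ∀ χ ∈ D.X, χ ≠ trivIrr G → PrimeBlock.deg χ + 1 = p ∧ D.sgn χ = -1 := by
    intro χ hχ hne
    have h1 : 1 < PrimeBlock.deg χ :=
      lt_of_le_of_ne (Blocks.charDegree_pos χ) (Ne.symm (PrimeBlock.deg_ne_one hG hne))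
    have h2 : PrimeBlock.deg χ < p := h χ
    obtain ⟨c, hc⟩ := Int.modEq_iff_dvd.1 (D.deg_X χ hχ)
    rcases D.sgn_eq χ hχ with e | e <;> rw [e] at hc ⊢
    · exfalso
      rcases lt_trichotomy c 0 with h0 | rfl | h0
      · nlinarith
      · omega
      · nlinarith
    · rcases lt_trichotomy c (-1) with h0 | rfl | h0
      · nlinarith
      · exact ⟨by omega, rfl⟩
      · rcases lt_trichotomy c 0 with h3 | rfl | h3
        · omega
        · omega
        · nlinarith
  have hp2 := D.two_lt
  have hrel := D.rel_one hθ₀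
  rw [← Finset.add_sum_erase _ _ ht, hts, PrimeBlock.deg_trivIrr,
    Finset.sum_congr rfl (g := fun _ => -((p : ℤ) - 1)) fun χ hχ => by
      obtain ⟨h1, h2⟩ := hX χ (Finset.mem_erase.1 hχ).2 (Finset.mem_erase.1 hχ).1
      rw [h2]; omega,
    Finset.sum_const, Finset.card_erase_of_mem ht, D.card_X, nsmul_eq_mul,
    Nat.cast_sub D.e_pos] at hrel
  push_cast at hrel
  have hf1 : 1 < PrimeBlock.deg θ₀ :=
    lt_of_le_of_ne (Blocks.charDegree_pos θ₀) (Ne.symm (PrimeBlock.deg_ne_one hG hθne))
  have he : D.e = 2 ∧ PrimeBlock.deg θ₀ + 2 = p := by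
    rcases D.degree_small hθ₀ (h θ₀) with ⟨h1, hε⟩ | ⟨h1, hε⟩ <;> rw [hε] at hrel
    · exfalso
      rw [h1] at hrel hf1
      have h3 : ((D.e : ℤ) - 1) * p = 0 := by linear_combination hrel
      rcases mul_eq_zero.1 h3 with h4 | h4 <;> omega
    · have h2 : (PrimeBlock.deg θ₀ : ℤ) + D.e = p := by exact_mod_cast h1
      have h3 : ((D.e : ℤ) - 2) * p = 0 := by linear_combination hrel + h2
      rcases mul_eq_zero.1 h3 with h4 | h4
      · exact ⟨by omega, by omega⟩
      · omega
  obtain ⟨a, ha⟩ : ∃ a, a ∈ D.X.erase (trivIrr G) := Finset.card_pos.1 (by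
    rw [Finset.card_erase_of_mem ht, D.card_X, he.1]; omega)
  have haX := Finset.mem_erase.1 ha
  have hadvd : p - 1 ∣ Nat.card G := by
    have := BlocksChars.Degrees.charDegree_dvd_card a
    rwa [show Cfsg.charDegree (a : G → ℂ) = p - 1 by
      have : PrimeBlock.deg a + 1 = p := (hX a haX.2 haX.1).1
      show PrimeBlock.deg a = p - 1
      omega] at this
  have hsum : Nat.card G = ∑ χ ∈ D.X, PrimeBlock.deg χ ^ 2 + ∑ χ ∈ D.Y, PrimeBlock.deg χ ^ 2 := by
    apply Nat.cast_injective (R := ℂ)
    rw [← sum_degree_sq, ← Finset.sum_union D.disj]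
    push_cast
    refine (Finset.sum_congr (Finset.ext fun χ => by simp [hall χ]) fun χ _ => ?_).symm
    rw [PrimeBlock.deg_cast]
  rw [← Finset.add_sum_erase _ _ ht, PrimeBlock.deg_trivIrr,
    Finset.sum_congr (s₁ := D.X.erase (trivIrr G)) rfl (g := fun _ => (p - 1) ^ 2) fun χ hχ => by
      have := (hX χ (Finset.mem_erase.1 hχ).2 (Finset.mem_erase.1 hχ).1).1
      rw [show PrimeBlock.deg χ = p - 1 by omega],
    Finset.sum_congr (s₁ := D.Y) rfl (g := fun _ => (p - 2) ^ 2) fun χ hχ => by
      rw [D.deg_Y_eq hχ hθ₀, show PrimeBlock.deg θ₀ = p - 2 by omega],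
    Finset.sum_const, Finset.sum_const, Finset.card_erase_of_mem ht, D.card_X, D.card_Y, he.1,
    smul_eq_mul, smul_eq_mul, one_pow] at hsum
  obtain ⟨q, hq⟩ : ∃ q, p = 2 * q + 1 := hp.odd_of_ne_two hodd
  rw [hq, Nat.add_sub_cancel, show 2 * q + 1 - 2 = 2 * q - 1 by omega,
    Nat.mul_div_cancel_left _ (show 0 < 2 by omega)] at hsum
  rw [hq, Nat.add_sub_cancel] at hadvd
  obtain ⟨c, hc⟩ := hadvd
  have hd1 : q ∣ 1 := by
    have h1 : q ∣ (2 - 1) * (2 * q) ^ 2 + q * (2 * q - 1) ^ 2 :=
      dvd_add (Dvd.dvd.mul_left ((dvd_mul_left q 2).pow two_ne_zero) _) (dvd_mul_right _ _)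
    have h2 : q ∣ (2 - 1) * (2 * q) ^ 2 + q * (2 * q - 1) ^ 2 + 1 :=
      ⟨2 * c, by rw [show q * (2 * c) = 2 * q * c by ring, ← hc, hsum]; ring⟩
    exact (Nat.dvd_add_right h1).1 h2
  have hq1 : q = 1 := Nat.dvd_one.1 hd1
  omega

/-- A simple group with Sylow order at least `p ^ 2`: restriction to the normalizer is bijective on
characters. -/
theorem false_of_big [Fact p.Prime] [IsSimpleGroup G] (hG : ¬ IsMulCommutative G) (h : DLT G p)
    (P : Sylow p G) (hP : p ^ 2 ≤ Nat.card (P : Subgroup G))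
    (hloc : ∀ x : G, x ≠ 1 → ∀ Q : Sylow p (Subgroup.centralizer ({x} : Set G)),
      (Q : Subgroup (Subgroup.centralizer ({x} : Set G))).Normal) : False := by
  classical
  haveI := Fintype.ofFinite G
  haveI := Fintype.ofFinite (Cfsg.IrrCharacter G)
  have hp : p.Prime := Fact.out
  set N := Subgroup.normalizer ((P : Subgroup G) : Set G) with hNdef
  haveI := Fintype.ofFinite N
  haveI := Fintype.ofFinite (Cfsg.IrrCharacter N)
  have hcomm := sylow_comm h P
  have hPC : ∀ x ∈ (P : Subgroup G),
      (P : Subgroup G) ≤ Subgroup.centralizer ({x} : Set G) := fun x hx y hy =>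
    Subgroup.mem_centralizer_singleton_iff.2 (hcomm y hy x hx)
  have hCN : ∀ x ∈ (P : Subgroup G), x ≠ 1 → Subgroup.centralizer ({x} : Set G) ≤ N := by
    intro x hx hx1 c hc
    have hn := hloc x hx1 (P.subtype (hPC x hx))
    rw [hNdef, Subgroup.mem_normalizer_iff]
    intro y
    constructor
    · intro hy
      exact hn.conj_mem ⟨y, hPC x hx hy⟩ hy ⟨c, hc⟩
    · intro hy
      have := hn.conj_mem ⟨c * y * c⁻¹, hPC x hx hy⟩ hy ⟨c, hc⟩⁻¹
      simpa [Subgroup.mem_subgroupOf, mul_assoc] using this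
  have hTI : ∀ g : G, g ∉ N → (P : Subgroup G) ⊓ (MulAut.conj g • (P : Subgroup G)) = ⊥ := by
    intro g hg
    rw [Subgroup.eq_bot_iff_forall]
    intro x hx
    by_contra hx1
    refine hg ?_
    have hcomm' := sylow_comm h (g • P)
    have hx' : x ∈ ((g • P : Sylow p G) : Subgroup G) := by
      rw [Sylow.coe_subgroup_smul]; exact hx.2
    have hPC' : ((g • P : Sylow p G) : Subgroup G) ≤ Subgroup.centralizer ({x} : Set G) :=
      fun y hy => Subgroup.mem_centralizer_singleton_iff.2 (hcomm' y hy x hx')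
    haveI := Sylow.unique_of_normal (P.subtype (hPC x hx.1)) (hloc x hx1 _)
    have he : (g • P).subtype hPC' = P.subtype (hPC x hx.1) := Subsingleton.elim _ _
    have he' : g • P = P := by
      refine Sylow.ext (le_antisymm (fun y hy => ?_) fun y hy => ?_)
      · have : (⟨y, hPC' hy⟩ : Subgroup.centralizer ({x} : Set G)) ∈
            ((P.subtype (hPC x hx.1) : Sylow p _) : Subgroup _) := he ▸ hy
        exact this
      · have : (⟨y, hPC x hx.1 hy⟩ : Subgroup.centralizer ({x} : Set G)) ∈
            (((g • P).subtype hPC' : Sylow p _) : Subgroup _) := he.symm ▸ hy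
        exact this
    exact Sylow.smul_eq_iff_mem_normalizer.1 he'
  -- restrictions are irreducible
  have hirr : ∀ χ : Cfsg.IrrCharacter G, Cfsg.IsIrrCharacter N (fun y : N => (χ : G → ℂ) y) := by
    intro χ
    refine isIrr_of_isCharacter_of_norm_one (isCharacter_restrict N (irr_isCharacter χ)) ?_
    rw [← S4750.result p P hTI (χ : G → ℂ) (irr_isCharacter χ) ?_ N le_rfl,
      classInner_isIrr_self χ.2]
    exact (Nat.pow_le_pow_left (h χ).le 2).trans hP
  let R : Cfsg.IrrCharacter G → Cfsg.IrrCharacter N := fun χ => ⟨_, hirr χ⟩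
  set m : Cfsg.IrrCharacter N → ℕ := fun η => (Finset.univ.filter fun χ => R χ = η).card with hm
  have hfib : ∀ f : Cfsg.IrrCharacter N → ℂ, ∑ χ, f (R χ) = ∑ η, (m η : ℂ) * f η := by
    intro f
    rw [← Finset.sum_fiberwise_of_maps_to (g := R) (t := Finset.univ)
      (fun χ _ => Finset.mem_univ (R χ))]
    refine Finset.sum_congr rfl fun η _ => ?_
    rw [Finset.sum_congr rfl (g := fun _ => f η) fun χ hχ => by rw [(Finset.mem_filter.1 hχ).2],
      Finset.sum_const, nsmul_eq_mul]
  have hfus : ∀ x : N, (x : G) ∈ (P : Subgroup G) → x ≠ 1 → ∀ s : N,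
      (IsConj (s : G) x ↔ IsConj s x) := by
    intro x hx hx1 s
    refine ⟨fun hc => ?_, fun hc => N.subtype.map_isConj hc⟩
    obtain ⟨g, hg⟩ := isConj_iff.1 hc
    have hgN : g ∈ N := by
      by_contra hgN
      have hsP : (s : G) ∈ (P : Subgroup G) := by
        obtain ⟨k, hk⟩ := P.2 ⟨x, hx⟩
        have hk' : ((x : G)) ^ p ^ k = 1 := congrArg Subtype.val hk
        have hs : (s : G) ^ p ^ k = 1 := by
          have : (s : G) = g⁻¹ * x * g := by rw [← hg]; group
          rw [this]
          have h2 := (conj_pow (a := g⁻¹) (b := (x : G)) (i := p ^ k))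
          rw [inv_inv] at h2
          rw [h2, hk', mul_one, inv_mul_cancel]
        haveI := Sylow.unique_of_normal (P.subtype (Subgroup.le_normalizer (H := (P : Subgroup G))))
          Subgroup.normal_in_normalizer
        have hsp : IsPGroup p (Subgroup.zpowers s) := by
          refine IsPGroup.of_card (n := ?_) ?_
          · exact ((Nat.dvd_prime_pow hp).1 (orderOf_dvd_of_pow_eq_one hs)).choose
          · rw [Nat.card_zpowers, ← Subgroup.orderOf_coe s]
            exact ((Nat.dvd_prime_pow hp).1 (orderOf_dvd_of_pow_eq_one hs)).choose_spec.2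
        obtain ⟨Q, hQ⟩ := hsp.exists_le_sylow
        have := hQ (Subgroup.mem_zpowers s)
        rw [Subsingleton.elim Q (P.subtype (Subgroup.le_normalizer (H := (P : Subgroup G))))] at this
        exact this
      have h0 := hTI g hgN
      rw [Subgroup.eq_bot_iff_forall] at h0
      refine hx1 (Subtype.ext (h0 x ⟨hx, ?_⟩))
      rw [← hg]
      exact ⟨s, hsP, rfl⟩
    exact isConj_iff.2 ⟨⟨g, hgN⟩, Subtype.ext hg⟩
  have hkey : ∀ x : N, (x : G) ∈ (P : Subgroup G) → x ≠ 1 → ∀ η : Cfsg.IrrCharacter N,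
      ((m η : ℂ) - 1) * conj ((η : N → ℂ) x) = 0 := by
    intro x hx hx1 η
    have hzero : (fun s : N => ∑ η : Cfsg.IrrCharacter N,
        (((m η : ℂ) - 1) * conj ((η : N → ℂ) x)) • (η : N → ℂ) s) = 0 := by
      funext s
      have hG' := second_orthogonality (G := G) (s : G) (x : G)
      have hN' := second_orthogonality (G := N) s x
      rw [show ∑ χ : Cfsg.IrrCharacter G, (χ : G → ℂ) s * conj ((χ : G → ℂ) x) =
        ∑ η : Cfsg.IrrCharacter N, (m η : ℂ) * ((η : N → ℂ) s * conj ((η : N → ℂ) x)) from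
          hfib fun η => (η : N → ℂ) s * conj ((η : N → ℂ) x)] at hG'
      have hcard : Nat.card (Subgroup.centralizer ({x} : Set N)) =
          Nat.card (Subgroup.centralizer ({(x : G)} : Set G)) := by
        refine Nat.card_congr
          { toFun := fun c => ⟨(c : N), Subgroup.mem_centralizer_singleton_iff.2
              (congrArg Subtype.val (Subgroup.mem_centralizer_singleton_iff.1 c.2))⟩
            invFun := fun c => ⟨⟨c, hCN _ hx (fun e => hx1 (Subtype.ext e)) c.2⟩,
              Subgroup.mem_centralizer_singleton_iff.2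
                (Subtype.ext (Subgroup.mem_centralizer_singleton_iff.1 c.2))⟩
            left_inv := fun c => rfl
            right_inv := fun c => rfl }
      simp only [Pi.zero_apply, smul_eq_mul]
      rw [Finset.sum_congr rfl (g := fun η : Cfsg.IrrCharacter N =>
        (m η : ℂ) * ((η : N → ℂ) s * conj ((η : N → ℂ) x)) - (η : N → ℂ) s * conj ((η : N → ℂ) x))
        fun η _ => by ring, Finset.sum_sub_distrib, hG', hN', hcard]
      simp only [hfus x hx hx1 s]
      split_ifs <;> simp
    have h2 := classInner_sum_smul_irr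
      (c := fun η : Cfsg.IrrCharacter N => ((m η : ℂ) - 1) * conj ((η : N → ℂ) x)) Finset.univ η
    rw [if_pos (Finset.mem_univ _)] at h2
    rw [← h2, show (∑ η : Cfsg.IrrCharacter N,
      (((m η : ℂ) - 1) * conj ((η : N → ℂ) x)) • (η : N → ℂ)) = 0 by
        rw [← hzero]; funext s; simp [Finset.sum_apply], classInner_zero_left]
  have hone : ∀ η : Cfsg.IrrCharacter N, m η = 1 := by
    intro η
    by_contra hne
    set Q : Subgroup N := (P : Subgroup G).subgroupOf N
    haveI := Fintype.ofFinite Q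
    have hres : Cfsg.classInner (fun y : Q => (η : N → ℂ) y) (fun _ => 1) =
        (Nat.card Q : ℂ)⁻¹ * (η : N → ℂ) 1 := by
      rw [classInner_def, Finset.sum_eq_single (1 : Q)]
      · simp
      · intro y _ hy
        have h0 := hkey (y : N) y.2 (fun e => hy (Subtype.ext e)) η
        rcases mul_eq_zero.1 h0 with h1 | h1
        · exact absurd (Nat.cast_eq_one.1 (sub_eq_zero.1 h1)) hne
        · rw [map_eq_zero] at h1
          rw [h1, zero_mul]
      · exact fun h0 => absurd (Finset.mem_univ _) h0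
    obtain ⟨k, hk⟩ := classInner_char_nat (isCharacter_restrict Q (irr_isCharacter η))
      isCharacter_one
    have hQ : Nat.card Q = Nat.card (P : Subgroup G) :=
      Nat.card_congr (Subgroup.subgroupOfEquivOfLe Subgroup.le_normalizer).toEquiv
    rw [hres, hQ, ← Blocks.charDegree_cast,
      inv_mul_eq_iff_eq_mul₀ (Nat.cast_ne_zero.2 Nat.card_pos.ne'), ← Nat.cast_mul,
      Nat.cast_inj] at hk
    refine (h.subgroup N).pPrime η (dvd_trans ?_ ⟨k, hk⟩)
    obtain ⟨j, hj⟩ := IsPGroup.iff_card.1 P.2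
    rw [hj]
    refine dvd_pow_self p fun h0 => ?_
    rw [hj, h0, pow_zero] at hP
    have := Nat.one_lt_pow two_ne_zero hp.one_lt
    omega
  have hcardN : Nat.card G = Nat.card N := by
    apply Nat.cast_injective (R := ℂ)
    rw [← sum_degree_sq (G := G), ← sum_degree_sq (G := N)]
    refine (hfib fun η => (η : N → ℂ) 1 ^ 2).trans (Finset.sum_congr rfl fun η _ => ?_)
    rw [hone, Nat.cast_one, one_mul]
  have hN1 : N = ⊤ := Subgroup.eq_top_of_card_eq N hcardN.symm
  have hPn : (P : Subgroup G).Normal := Subgroup.normalizer_eq_top_iff.1 hN1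
  rcases IsSimpleGroup.eq_bot_or_eq_top_of_normal (P : Subgroup G) hPn with h0 | h0
  · rw [h0, Subgroup.card_bot] at hP
    have := Nat.one_lt_pow two_ne_zero hp.one_lt
    omega
  · exact hG ⟨⟨fun a b => hcomm a (h0 ▸ Subgroup.mem_top a) b (h0 ▸ Subgroup.mem_top b)⟩⟩

theorem sylow_normal_aux (p : ℕ) [Fact p.Prime] (n : ℕ) : ∀ (G : Type u) [Group G] [Finite G],
    Nat.card G = n → DLT G p → ∀ P : Sylow p G, (P : Subgroup G).Normal := by
  classical
  induction n using Nat.strong_induction_on with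
  | _ n ih =>
  intro G _ _ hn h P
  have hp : p.Prime := Fact.out
  by_cases hN : ∃ N : Subgroup G, N.Normal ∧ N ≠ ⊥ ∧ N ≠ ⊤
  · obtain ⟨N, hNn, hN0, hN1⟩ := hN
    have hlt : ∀ H : Subgroup G, H ≠ ⊤ → Nat.card H < n := fun H hH => by
      rw [← hn]
      exact lt_of_le_of_ne (Subgroup.card_le_card_group H)
        fun e => hH (Subgroup.eq_top_of_card_eq H e)
    have hquot : ∀ K : Subgroup G, ∀ [K.Normal], K ≠ ⊥ → ∀ Q : Sylow p (G ⧸ K),
        (Q : Subgroup (G ⧸ K)).Normal := by
      intro K _ hK Q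
      refine ih _ ?_ (G ⧸ K) rfl (h.quotient K) Q
      rw [← hn, Subgroup.card_eq_card_quotient_mul_card_subgroup K]
      exact lt_mul_of_one_lt_right Nat.card_pos ((Subgroup.one_lt_card_iff_ne_bot K).2 hK)
    by_cases hpN : p ∣ Nat.card N
    · obtain ⟨Q⟩ : Nonempty (Sylow p N) := inferInstance
      have hQn := ih _ (hlt N hN1) N rfl (h.subgroup N) Q
      haveI := hQn
      haveI : (Q : Subgroup N).Characteristic := Sylow.characteristic_of_normal _ hQn
      set P0 := (Q : Subgroup N).map N.subtype with hP0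
      haveI : P0.Normal := ConjAct.normal_of_characteristic_of_normal
      have hP0p : IsPGroup p P0 := Q.2.map _
      have hle : P0 ≤ (P : Subgroup G) :=
        (Cores.le_pCore hP0p).trans (Cores.pCore_le_sylow P)
      have hne : P0 ≠ ⊥ := by
        rw [hP0, Ne, (Q : Subgroup N).map_eq_bot_iff_of_injective N.subtype_injective]
        exact fun e => Q.ne_bot_of_dvd_card hpN e
      have h1 := (hquot P0 hne (P.mapSurjective (QuotientGroup.mk'_surjective P0))).comap
        (QuotientGroup.mk' P0)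
      rwa [Sylow.coe_mapSurjective, Subgroup.comap_map_eq, QuotientGroup.ker_mk',
        sup_eq_left.2 hle] at h1
    · have h1 := (hquot N hN0 (P.mapSurjective (QuotientGroup.mk'_surjective N))).comap
        (QuotientGroup.mk' N)
      rw [Sylow.coe_mapSurjective, Subgroup.comap_map_eq, QuotientGroup.ker_mk'] at h1
      set K := (P : Subgroup G) ⊔ N with hK
      haveI := h1
      have hsolv : Cfsg.IsPSolvable p G := by
        refine ⟨3, ![⊥, N, K, ⊤], rfl, rfl, Fin.monotone_iff_le_succ.2 fun i => ?_,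
          fun i => ?_, fun i => ?_⟩
        · fin_cases i
          · exact bot_le
          · exact (le_sup_right : N ≤ K)
          · exact (le_top : K ≤ ⊤)
        · fin_cases i
          · exact (inferInstance : (⊥ : Subgroup G).Normal)
          · exact hNn
          · exact h1
          · exact (inferInstance : (⊤ : Subgroup G).Normal)
        · fin_cases i
          · refine Or.inr ?_
            show ((⊥ : Subgroup G).relIndex N).Coprime p
            rw [Subgroup.relIndex_bot_left]
            exact (hp.coprime_iff_not_dvd.2 hpN).symm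
          · refine Or.inl ?_
            obtain ⟨a, ha⟩ := IsPGroup.iff_card.1 P.2
            obtain ⟨b, -, hb⟩ := (Nat.dvd_prime_pow hp).1
              (ha ▸ Subgroup.relIndex_dvd_card N (P : Subgroup G))
            refine ⟨b, ?_⟩
            show N.relIndex K = _
            rw [hK, Subgroup.relIndex_sup_right, hb]
          · refine Or.inr ?_
            show (K.relIndex ⊤).Coprime p
            rw [Subgroup.relIndex_top_right]
            refine (hp.coprime_iff_not_dvd.2 fun hd => ?_).symm
            exact P.not_dvd_index (hd.trans (Subgroup.index_dvd_of_le le_sup_left))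
      exact (BlocksChars.ItoPSolvable.iff_main (Nat.card G) G rfl hsolv h.pPrime P).1
  push Not at hN
  have hcomm := sylow_comm h P
  by_cases hG : IsMulCommutative G
  · exact ⟨fun x hx g => by rwa [hG.is_comm.comm g x, mul_inv_cancel_right]⟩
  by_cases hpG : p ∣ Nat.card G
  swap
  · have : (P : Subgroup G) = ⊥ := by
      rw [← Subgroup.card_eq_one, P.card_eq_multiplicity, Nat.factorization_eq_zero_of_not_dvd hpG,
        pow_zero]
    rw [this]; infer_instance
  haveI : Nontrivial G := Finite.one_lt_card_iff_nontrivial.1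
    (lt_of_lt_of_le hp.one_lt (Nat.le_of_dvd Nat.card_pos hpG))
  haveI : IsSimpleGroup G := ⟨fun K hK => or_iff_not_imp_left.2 fun h0 => hN K hK h0⟩
  exfalso
  by_cases hp2 : p = 2
  · refine hG (BlocksChars.ItoPSolvable.comm_of_linear fun χ => ?_)
    have := h χ
    have := Blocks.charDegree_pos χ
    omega
  obtain ⟨j, hj⟩ := IsPGroup.iff_card.1 P.2
  rcases Nat.lt_or_ge j 2 with hj2 | hj2
  · refine false_of_prime hG h hp2 P ?_
    have : j ≠ 0 := fun h0 => P.ne_bot_of_dvd_card hpG (Subgroup.card_eq_one.1 (by rw [hj, h0, pow_zero]))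
    rw [hj, show j = 1 by omega, pow_one]
  · refine false_of_big hG h P (hj ▸ Nat.pow_le_pow_right hp.pos hj2) fun x hx Q => ?_
    refine ih _ ?_ _ rfl (h.subgroup _) Q
    rw [← hn]
    refine lt_of_le_of_ne (Subgroup.card_le_card_group _) fun e => ?_
    have hxZ : x ∈ Subgroup.center G := Subgroup.mem_center_iff.2 fun g =>
      Subgroup.mem_centralizer_singleton_iff.1
        ((Subgroup.eq_top_of_card_eq _ e).symm ▸ Subgroup.mem_top g :
          g ∈ Subgroup.centralizer ({x} : Set G))
    rcases IsSimpleGroup.eq_bot_or_eq_top_of_normal (Subgroup.center G) inferInstance with h0 | h0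
    · rw [h0, Subgroup.mem_bot] at hxZ
      exact hx hxZ
    · exact hG ⟨⟨fun a b => Subgroup.mem_center_iff.1 (h0.symm ▸ Subgroup.mem_top b) a⟩⟩

theorem sylow_normal [Fact p.Prime] (h : DLT G p) (P : Sylow p G) : (P : Subgroup G).Normal :=
  sylow_normal_aux p _ G rfl h P

end Cfsg.Agent.BlockCharsA.DegLtPrime
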