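import Mathlib
import Cfsg.Agent.Lib.Blocks.Orthogonality
import Cfsg.Agent.BlocksChars.Degrees

/-!
# Defect classes and the exact valuation of the sum of the squared degrees of a block
-/

set_option linter.style.haveILetI false

namespace Cfsg.Agent.BlockCharsA.DegreeSum

open Cfsg.Agent.Blocks Cfsg.Agent.Characters
open scoped ComplexConjugate

variable {G : Type*} [Group G] [Finite G] {p : ℕ} {M : Ideal Cfsg.AlgInt}
  {B : Set (Cfsg.IrrCharacter G)}

theorem deg_pos (χ : Cfsg.IrrCharacter G) : Cfsg.charDegree (χ : G → ℂ) ≠ 0 :=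
  (Cfsg.Agent.BlocksChars.Degrees.charDegree_pos χ).ne'

theorem deg_cast (χ : Cfsg.IrrCharacter G) :
    (Cfsg.charDegree (χ : G → ℂ) : ℂ) = (χ : G → ℂ) 1 :=
  Cfsg.Agent.BlocksChars.Degrees.charDegree_cast χ

theorem deg_fact_le (χ : Cfsg.IrrCharacter G) :
    (Cfsg.charDegree (χ : G → ℂ)).factorization p ≤ (Nat.card G).factorization p := by
  haveI := Fintype.ofFinite G
  exact (Nat.factorization_le_iff_dvd (deg_pos χ) Nat.card_pos.ne').2
    (Cfsg.Agent.BlocksChars.Degrees.charDegree_dvd_card χ) p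

theorem exists_min (hM : Cfsg.IsPModular p M) (hB : Cfsg.IsPBlock M B) :
    ∃ ψ ∈ B, (Cfsg.charDegree (ψ : G → ℂ)).factorization p =
        (Nat.card G).factorization p - Cfsg.blockDefect p B ∧
      Cfsg.blockDefect p B ≤ (Nat.card G).factorization p ∧
      ∀ χ ∈ B, (Nat.card G).factorization p - Cfsg.blockDefect p B ≤
        (Cfsg.charDegree (χ : G → ℂ)).factorization p := by
  set S := (fun χ : Cfsg.IrrCharacter G => (Cfsg.charDegree (χ : G → ℂ)).factorization p) '' B
  obtain ⟨ψ, hψ, hmin⟩ := Nat.sInf_mem ((block_nonempty hM hB).image _ : S.Nonempty)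
  have hle := deg_fact_le (p := p) ψ
  simp only at hmin
  have hd : Cfsg.blockDefect p B =
      (Nat.card G).factorization p - (Cfsg.charDegree (ψ : G → ℂ)).factorization p := by
    rw [hmin]; rfl
  refine ⟨ψ, hψ, by omega, by omega, fun χ hχ => ?_⟩
  rw [hd, Nat.sub_sub_self hle, hmin]
  exact Nat.sInf_le ⟨χ, hχ, rfl⟩

theorem exists_defectClass (hM : Cfsg.IsPModular p M) (hB : Cfsg.IsPBlock M B) :
    ∃ g : G, Cfsg.IsDefectClass M B g := by
  haveI := Fintype.ofFinite (ConjClasses G)
  obtain ⟨χ₀, h₀⟩ := block_nonempty hM hB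
  have h1 := omega_blockIdem_mem h₀
  rw [central_eq_sum (central_blockIdem B), omega_sum] at h1
  by_contra hno
  push Not at hno
  refine not_ideal_one hM (h1 ▸ ideal_sum hM fun C _ => ?_)
  rw [omega_smul]
  by_contra hC
  rw [omega_classSum (irr_isClassFunction χ₀)] at hC
  have hr : Cfsg.MemLocalRing M ((blockIdem B).coeff C.out) := intEl_blockIdem hM hB _
  have h2 : ¬ Cfsg.MemLocalIdeal M (Cfsg.blockCoeff B C.out) := fun h =>
    hC (ideal_mul_right hM (by rwa [coeff_blockIdem]) (centralChar_ring hM χ₀ _))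
  refine hno C.out ⟨by rwa [coeff_blockIdem] at hr, h2, fun χ hχ hi => ?_⟩
  exact hC (ideal_mul_left hM hr
    ((ideal_iff_of_cong hM (sameBlock_of_mem hM hB hχ h₀ C.out)).1 hi))

/-- The singular zeroes of the idempotent give the main congruence. -/
theorem coeff_aux (hM : Cfsg.IsPModular p M) (hB : Cfsg.IsPBlock M B)
    {g : G} (hcoef : ¬ Cfsg.MemLocalIdeal M (Cfsg.blockCoeff B g)) :
    (Nat.card (Subgroup.centralizer ({g} : Set G))).factorization p ≤ Cfsg.blockDefect p B ∧
      ¬ p ∣ orderOf g ∧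
      ((Nat.card (Subgroup.centralizer ({g} : Set G))).factorization p = Cfsg.blockDefect p B →
        (∑ᶠ χ ∈ B, Cfsg.charDegree (χ : G → ℂ) ^ 2).factorization p =
          2 * (Nat.card G).factorization p - Cfsg.blockDefect p B) := by
  classical
  haveI := Fintype.ofFinite G
  haveI := Fintype.ofFinite (Cfsg.IrrCharacter G)
  haveI := fact_prime_of_pm hM
  obtain ⟨ψ, hψ, hψd, hdle, hmin⟩ := exists_min hM hB
  set a := (Nat.card G).factorization p with ha
  set d := Cfsg.blockDefect p B with hd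
  set k := (Subgroup.centralizer ({g} : Set G)).index with hk
  have hk0 : k ≠ 0 := Subgroup.index_ne_zero_of_finite
  have hC : (Nat.card (Subgroup.centralizer ({g} : Set G))).factorization p + k.factorization p = a := by
    rw [ha, ← Subgroup.card_mul_index (Subgroup.centralizer ({g} : Set G)),
      Nat.factorization_mul Nat.card_pos.ne' hk0, Finsupp.add_apply]
  have hint := intEl_blockIdem hM hB
  -- the degree sum
  have hfin : (∑ᶠ χ ∈ B, Cfsg.charDegree (χ : G → ℂ) ^ 2) =
      ∑ χ : Cfsg.IrrCharacter G, if χ ∈ B then Cfsg.charDegree (χ : G → ℂ) ^ 2 else 0 := by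
    rw [finsum_mem_def, finsum_eq_sum_of_fintype]
    simp only [Set.indicator_apply]
  set m := ∑ᶠ χ ∈ B, Cfsg.charDegree (χ : G → ℂ) ^ 2 with hm
  have hm0 : m ≠ 0 := by
    rw [hfin]
    intro h
    have := Finset.sum_eq_zero_iff.1 h ψ (Finset.mem_univ _)
    simp [hψ, deg_pos ψ] at this
  set c : Cfsg.IrrCharacter G → ℂ := fun χ => if χ ∈ B then
    (χ : G → ℂ) 1 / ((p ^ (a - d) : ℕ) : ℂ) else 0 with hc
  have hcr : ∀ χ, Cfsg.MemLocalRing M (c χ) := fun χ => by
    simp only [c]
    split_ifs with h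
    · rw [← deg_cast]
      exact ring_natCast_div hM (pow_ne_zero _ hM.1.ne_zero)
        (by rw [hM.1.factorization_pow, Finsupp.single_eq_same]; exact hmin χ h)
    · exact ring_zero hM
  -- combinations twisted by an integral central element
  set g' := g⁻¹ with hg'
  have hkey : ∀ z : MonoidAlgebra ℂ G, IsCentralEl z → ∀ t : G,
      ∑ χ : Cfsg.IrrCharacter G, c χ * omega (χ : G → ℂ) z * (χ : G → ℂ) t =
        (Nat.card G : ℂ) / ((p ^ (a - d) : ℕ) : ℂ) * (z * blockIdem B).coeff t⁻¹ := by
    intro z hz t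
    have h1 := fourier_omega (central_mul hz (central_blockIdem B))
    conv_rhs => rw [← h1, coeff_fourier, ← mul_assoc, div_mul_eq_mul_div,
      mul_inv_cancel₀ natCard_ne_zero, one_div, Finset.mul_sum]
    refine Finset.sum_congr rfl fun χ _ => ?_
    rw [omega_mul χ hz, omega_blockIdem, ← char_inv (irr_isCharacter χ), inv_inv]
    simp only [c]
    split_ifs <;> ring
  have hsing : ∀ t : G, p ∣ orderOf t →
      ∑ χ : Cfsg.IrrCharacter G, c χ * (χ : G → ℂ) t = 0 := by
    intro t ht
    have := hkey 1 central_one t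
    rw [one_mul, coeff_blockIdem,
      blockCoeff_eq_zero_of_singular hM hint (by rwa [orderOf_inv]), mul_zero] at this
    simpa [omega_one (irr_one_ne_zero (Subtype.prop _))] using this
  have hg'reg : ¬ p ∣ orderOf g' := fun h => hcoef (by
    rw [blockCoeff_eq_zero_of_singular hM hint (by rwa [orderOf_inv] at h)]
    exact ideal_zero hM)
  have hsing' : ∀ t : G, p ∣ orderOf t →
      ∑ χ : Cfsg.IrrCharacter G, c χ * omega (χ : G → ℂ) (classSum g') * (χ : G → ℂ) t = 0 := by
    intro t ht
    have h0 := sum_block_reg_sing hM hint hg'reg (y := t⁻¹) (by rwa [orderOf_inv])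
    rw [finsum_mem_def, finsum_eq_sum_of_fintype] at h0
    have : ∑ χ : Cfsg.IrrCharacter G, c χ * omega (χ : G → ℂ) (classSum g') * (χ : G → ℂ) t =
        ((Subgroup.centralizer ({g'} : Set G)).index : ℂ) / ((p ^ (a - d) : ℕ) : ℂ) *
          ∑ χ : Cfsg.IrrCharacter G,
            B.indicator (fun χ => (χ : G → ℂ) g' * conj ((χ : G → ℂ) t⁻¹)) χ := by
      rw [Finset.mul_sum]
      refine Finset.sum_congr rfl fun χ _ => ?_
      rw [omega_classSum (irr_isClassFunction χ), Cfsg.centralChar, Set.indicator_apply,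
        ← char_inv (irr_isCharacter χ), inv_inv]
      simp only [c]
      have := irr_one_ne_zero χ.2
      split_ifs
      · field_simp
      · simp
    rw [this, h0, mul_zero]
  -- averaging over a Sylow subgroup
  obtain ⟨P⟩ : Nonempty (Sylow p G) := inferInstance
  haveI : Fintype (P : Subgroup G) := Fintype.ofFinite _
  have hPc : Nat.card (P : Subgroup G) = p ^ a := P.card_eq_multiplicity
  have havg : ∀ χ : Cfsg.IrrCharacter G, Cfsg.MemLocalRing M
      ((Nat.card (P : Subgroup G) : ℂ)⁻¹ * ∑ t : (P : Subgroup G), (χ : G → ℂ) t) := fun χ => by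
    have := avg_coset_isIntegral (D := (P : Subgroup G)) (y := 1) (by simp) (irr_isCharacter χ)
    simp only [one_mul] at this
    exact ring_of_isIntegral hM this
  have hone : ∀ e : Cfsg.IrrCharacter G → ℂ,
      (∀ t : G, p ∣ orderOf t → ∑ χ : Cfsg.IrrCharacter G, e χ * (χ : G → ℂ) t = 0) →
      (∑ χ : Cfsg.IrrCharacter G, e χ * (χ : G → ℂ) 1) / (Nat.card (P : Subgroup G) : ℂ) =
        ∑ χ : Cfsg.IrrCharacter G, e χ *
          ((Nat.card (P : Subgroup G) : ℂ)⁻¹ * ∑ t : (P : Subgroup G), (χ : G → ℂ) t) := by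
    intro e he
    have h1 : ∑ t : (P : Subgroup G), ∑ χ : Cfsg.IrrCharacter G, e χ * (χ : G → ℂ) t =
        ∑ χ : Cfsg.IrrCharacter G, e χ * (χ : G → ℂ) 1 := by
      rw [Finset.sum_eq_single (1 : (P : Subgroup G))]
      · simp
      · intro t _ ht
        apply he
        obtain ⟨i, hi⟩ := IsPGroup.iff_orderOf.1 P.2 t
        rw [Subgroup.orderOf_coe, hi]
        rcases Nat.eq_zero_or_pos i with rfl | hpos
        · exact absurd (orderOf_eq_one_iff.1 (by rw [hi, pow_zero])) ht
        · exact dvd_pow_self p hpos.ne'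
      · simp
    rw [← h1, Finset.sum_comm, div_eq_inv_mul, Finset.mul_sum]
    refine Finset.sum_congr rfl fun χ _ => ?_
    rw [← Finset.mul_sum]; ring
  set X : ℂ := ∑ χ : Cfsg.IrrCharacter G, c χ *
    ((Nat.card (P : Subgroup G) : ℂ)⁻¹ * ∑ t : (P : Subgroup G), (χ : G → ℂ) t) with hX
  have hXr : Cfsg.MemLocalRing M X := ring_sum hM fun χ _ => ring_mul hM (hcr χ) (havg χ)
  have hXeq : X = (m : ℂ) / ((p ^ (2 * a - d) : ℕ) : ℂ) := by
    rw [hX, ← hone c hsing, hPc]
    have h1 : ∑ χ : Cfsg.IrrCharacter G, c χ * (χ : G → ℂ) 1 =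
        (m : ℂ) / ((p ^ (a - d) : ℕ) : ℂ) := by
      rw [hfin, Nat.cast_sum, Finset.sum_div]
      refine Finset.sum_congr rfl fun χ _ => ?_
      simp only [c]
      split_ifs
      · rw [Nat.cast_pow (Cfsg.charDegree (χ : G → ℂ)), deg_cast]; ring
      · simp
    rw [h1, div_div, ← Nat.cast_mul, ← pow_add, show a - d + a = 2 * a - d by omega]
  -- the twisted sum
  set u := omega (ψ : G → ℂ) (classSum g') with hu
  have hur : Cfsg.MemLocalRing M u := by
    rw [hu, omega_classSum (irr_isClassFunction ψ)]; exact centralChar_ring hM ψ g'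
  set Y : ℂ := ∑ χ : Cfsg.IrrCharacter G, c χ * omega (χ : G → ℂ) (classSum g') *
    ((Nat.card (P : Subgroup G) : ℂ)⁻¹ * ∑ t : (P : Subgroup G), (χ : G → ℂ) t) with hY
  have hYX : Cong M Y (u * X) := by
    rw [hY, hX, Finset.mul_sum]
    refine cong_sum hM fun χ _ => ?_
    by_cases h : χ ∈ B
    · rw [mul_comm (c χ), mul_assoc]
      exact cong_mul hM (omega_cong_of_mem hM hB h hψ (central_classSum g') (intEl_classSum hM g'))
        (cong_refl hM _) hur (ring_mul hM (hcr χ) (havg χ))
    · exact cong_of_eq hM (by simp [c, h])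
  have hYeq : Y = ((Nat.card G * k : ℕ) : ℂ) / ((p ^ (a + (a - d)) : ℕ) : ℂ) *
      Cfsg.blockCoeff B g := by
    rw [hY, ← hone (fun χ => c χ * omega (χ : G → ℂ) (classSum g')) hsing',
      hkey _ (central_classSum g') 1, inv_one, coeff_mul']
    simp only [mul_one, coeff_classSum, ite_mul, one_mul, zero_mul, ← Finset.sum_filter]
    rw [Finset.sum_congr rfl (g := fun _ => (blockIdem B).coeff g) fun x hx => by
      refine central_isConj (central_blockIdem B) (IsConj.symm ?_)
      obtain ⟨v, hv⟩ := isConj_iff.1 (Finset.mem_filter.1 hx).2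
      exact isConj_iff.2 ⟨v, by rw [← hv, hg']; group⟩]
    rw [Finset.sum_const, card_filter_isConj, nsmul_eq_mul, coeff_blockIdem, hPc]
    have hcen : Subgroup.centralizer ({g'} : Set G) = Subgroup.centralizer ({g} : Set G) := by
      ext x
      simp only [hg', Subgroup.mem_centralizer_iff, Set.mem_singleton_iff, forall_eq]
      exact ⟨fun h => Commute.inv_left_iff.1 h, fun h => Commute.inv_left h⟩
    rw [hcen, ← hk]
    push_cast
    rw [pow_add]
    field_simp
  have hfp : ∀ n, (p ^ n).factorization p = n := fun n => by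
    rw [hM.1.factorization_pow, Finsupp.single_eq_same]
  have hNk : (Nat.card G * k).factorization p = a + k.factorization p := by
    rw [Nat.factorization_mul Nat.card_pos.ne' hk0, Finsupp.add_apply, ← ha]
  have hYr : Cfsg.MemLocalRing M Y := ring_of_cong hM hYX (ring_mul hM hur hXr)
  have hge : a - d ≤ k.factorization p := by
    by_contra hlt
    have hpos : (Nat.card G * k).factorization p < (p ^ (a + (a - d))).factorization p := by
      rw [hNk, hfp]; omega
    have h1 : Cfsg.MemLocalIdeal M (((p ^ (a + (a - d)) : ℕ) : ℂ) / ((Nat.card G * k : ℕ) : ℂ) * Y) :=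
      ideal_mul_right hM (ideal_natCast_div hM (Nat.mul_ne_zero Nat.card_pos.ne' hk0) hpos) hYr
    rw [hYeq, ← mul_assoc, div_mul_div_comm, mul_comm ((p ^ (a + (a - d)) : ℕ) : ℂ),
      div_self (mul_ne_zero (Nat.cast_ne_zero.2 (Nat.mul_ne_zero Nat.card_pos.ne' hk0))
        (Nat.cast_ne_zero.2 (pow_ne_zero _ hM.1.ne_zero))), one_mul] at h1
    exact hcoef h1
  refine ⟨by omega, fun h => hg'reg (by rwa [hg', orderOf_inv]), fun heq => ?_⟩
  have hYn : ¬ Cfsg.MemLocalIdeal M Y := by
    have hpk : (p ^ (a + (a - d))).factorization p = (Nat.card G * k).factorization p := by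
      rw [hNk, hfp]; omega
    rw [hYeq, ideal_mul_iff hM (ring_natCast_div hM (pow_ne_zero _ hM.1.ne_zero) hpk.le)
      (blockCoeff_ring hM hB g)]
    push Not
    exact ⟨not_ideal_natCast_div hM (Nat.mul_ne_zero Nat.card_pos.ne' hk0)
      (pow_ne_zero _ hM.1.ne_zero) hpk, hcoef⟩
  have hXn : ¬ Cfsg.MemLocalIdeal M X := fun h =>
    hYn ((ideal_iff_of_cong hM hYX).2 (ideal_mul_left hM hur h))
  rw [hXeq] at hXr hXn
  rcases lt_trichotomy (m.factorization p) (2 * a - d) with h | h | h
  · exfalso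
    have h1 := ideal_natCast_div hM (a := p ^ (2 * a - d)) hm0 (by rwa [hfp])
    have h2 := ideal_mul_right hM h1 hXr
    rw [div_mul_div_comm, mul_comm ((p ^ (2 * a - d) : ℕ) : ℂ), div_self (mul_ne_zero
      (Nat.cast_ne_zero.2 hm0) (Nat.cast_ne_zero.2 (pow_ne_zero _ hM.1.ne_zero)))] at h2
    exact not_ideal_one hM h2
  · exact h
  · exact absurd (ideal_natCast_div hM (pow_ne_zero _ hM.1.ne_zero) (by rwa [hfp])) hXn

/-- A class whose length is too divisible by `p` has central character in the local ideal. -/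
theorem centralChar_ideal (hM : Cfsg.IsPModular p M) (hB : Cfsg.IsPBlock M B) {g : G}
    (hlt : (Nat.card (Subgroup.centralizer ({g} : Set G))).factorization p < Cfsg.blockDefect p B)
    {χ : Cfsg.IrrCharacter G} (hχ : χ ∈ B) :
    Cfsg.MemLocalIdeal M (Cfsg.centralChar (χ : G → ℂ) g) := by
  obtain ⟨ψ, hψ, hψd, hdle, -⟩ := exists_min hM hB
  rw [ideal_iff_of_cong hM (sameBlock_of_mem hM hB hχ hψ g)]
  have hk0 : (Subgroup.centralizer ({g} : Set G)).index ≠ 0 := Subgroup.index_ne_zero_of_finite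
  have hC : (Nat.card (Subgroup.centralizer ({g} : Set G))).factorization p +
      (Subgroup.centralizer ({g} : Set G)).index.factorization p =
      (Nat.card G).factorization p := by
    rw [← Subgroup.card_mul_index (Subgroup.centralizer ({g} : Set G)),
      Nat.factorization_mul Nat.card_pos.ne' hk0, Finsupp.add_apply]
  have h1 : Cfsg.centralChar (ψ : G → ℂ) g = ((Subgroup.centralizer ({g} : Set G)).index : ℂ) /
      ((Cfsg.charDegree (ψ : G → ℂ) : ℕ) : ℂ) * (ψ : G → ℂ) g := by
    rw [Cfsg.centralChar, deg_cast]; ring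
  rw [h1]
  exact ideal_mul_right hM (ideal_natCast_div hM (deg_pos ψ) (by omega)) (irr_value_ring hM ψ g)

theorem degreeSum_valuation (hM : Cfsg.IsPModular p M) (hB : Cfsg.IsPBlock M B)
    {g : G} (hg : Cfsg.IsDefectClass M B g) :
    (Nat.card (Subgroup.centralizer ({g} : Set G))).factorization p = Cfsg.blockDefect p B ∧
    (∑ᶠ χ ∈ B, Cfsg.charDegree (χ : G → ℂ) ^ 2).factorization p =
        2 * (Nat.card G).factorization p - Cfsg.blockDefect p B := by
  obtain ⟨h1, -, h3⟩ := coeff_aux hM hB hg.2.1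
  obtain ⟨χ, hχ⟩ := block_nonempty hM hB
  have h : (Nat.card (Subgroup.centralizer ({g} : Set G))).factorization p =
      Cfsg.blockDefect p B :=
    le_antisymm h1 (le_of_not_gt fun hlt => hg.2.2 χ hχ (centralChar_ideal hM hB hlt hχ))
  exact ⟨h, h3 h⟩

/-- The `p`-regular classes of defect `d`. -/
def DefClass (G : Type*) [Group G] (p d : ℕ) : Type _ :=
  {C : ConjClasses G // ∃ g : G, ConjClasses.mk g = C ∧ ¬ p ∣ orderOf g ∧
    (Nat.card (Subgroup.centralizer ({g} : Set G))).factorization p = d}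

theorem defClass_out {d : ℕ} (C : DefClass G p d) : ¬ p ∣ orderOf C.1.out ∧
    (Nat.card (Subgroup.centralizer ({C.1.out} : Set G))).factorization p = d := by
  obtain ⟨g, hg, h1, h2⟩ := C.2
  obtain ⟨x, hx⟩ := isConj_iff.1 (ConjClasses.mk_eq_mk_iff_isConj.1
    (show ConjClasses.mk g = ConjClasses.mk C.1.out by rw [hg]; exact (Quotient.out_eq C.1).symm))
  rw [← hx]
  refine ⟨?_, by rw [card_centralizer_conj]; exact h2⟩
  have : orderOf (x * g * x⁻¹) = orderOf g := by
    simpa using orderOf_injective (MulAut.conj x).toMonoidHom (MulAut.conj x).injective g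
  rwa [this]

open scoped Classical in
/-- Between blocks of the same defect `d` the idempotent coefficients and central characters on
the regular classes of defect `d` already give the identity matrix. -/
theorem sum_defClass_cong (hM : Cfsg.IsPModular p M) {B' : Set (Cfsg.IrrCharacter G)}
    (hB : Cfsg.IsPBlock M B) (hB' : Cfsg.IsPBlock M B') {d : ℕ}
    (hd : Cfsg.blockDefect p B = d) (hd' : Cfsg.blockDefect p B' = d)
    [Fintype (DefClass G p d)] {χ : Cfsg.IrrCharacter G} (hχ : χ ∈ B') :
    Cong M (∑ C : DefClass G p d, Cfsg.blockCoeff B C.1.out * Cfsg.centralChar (χ : G → ℂ) C.1.out)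
      (if χ ∈ B then 1 else 0) := by
  haveI := Fintype.ofFinite (ConjClasses G)
  have h := omega_blockIdem B χ
  rw [central_eq_sum (central_blockIdem B), omega_sum] at h
  simp only [omega_smul, omega_classSum (irr_isClassFunction χ), coeff_blockIdem] at h
  rw [← h]
  set S : Finset (ConjClasses G) := Finset.univ.filter fun C => ∃ g : G, ConjClasses.mk g = C ∧
    ¬ p ∣ orderOf g ∧ (Nat.card (Subgroup.centralizer ({g} : Set G))).factorization p = d with hS
  refine cong_symm hM (cong_trans hM (y := ∑ C ∈ S,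
    Cfsg.blockCoeff B C.out * Cfsg.centralChar (χ : G → ℂ) C.out) ?_ (cong_of_eq hM ?_))
  · rw [← Finset.sum_filter_add_sum_filter_not Finset.univ
      (fun C : ConjClasses G => C ∈ S)]
    rw [show Finset.univ.filter (fun C : ConjClasses G => C ∈ S) = S by ext; simp]
    unfold Cong
    rw [add_sub_cancel_left]
    refine ideal_sum hM fun C hC => ?_
    by_cases hc : Cfsg.MemLocalIdeal M (Cfsg.blockCoeff B C.out)
    · exact ideal_mul_right hM hc (centralChar_ring hM χ _)
    · refine ideal_mul_left hM (blockCoeff_ring hM hB _) (centralChar_ideal hM hB' ?_ hχ)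
      obtain ⟨h1, h2, -⟩ := coeff_aux hM hB hc
      refine lt_of_le_of_ne (by omega) fun he => (Finset.mem_filter.1 hC).2 ?_
      simp only [S, Finset.mem_filter, Finset.mem_univ, true_and]
      exact ⟨C.out, Quotient.out_eq C, h2, by omega⟩
  · exact (Finset.sum_subtype S (fun C => by simp [S]) _)

/-- A defect group has order `p ^ blockDefect`. -/
theorem card_defectGroup (hM : Cfsg.IsPModular p M) (hB : Cfsg.IsPBlock M B) {D : Subgroup G}
    (hD : Cfsg.IsDefectGroup p M B D) : Nat.card D = p ^ Cfsg.blockDefect p B := by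
  haveI := fact_prime_of_pm hM
  obtain ⟨g, hg, P, rfl⟩ := hD
  rw [Subgroup.card_subtype, P.card_eq_multiplicity, (degreeSum_valuation hM hB hg).1]

end Cfsg.Agent.BlockCharsA.DegreeSum
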