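import Mathlib

/-!
The arithmetic at the end of the proof of the Feit-Thompson degree bound for a prime dividing the
group order once.
-/

set_option autoImplicit false

namespace Cfsg.Agent.BlockCharsA.FeitThompson

theorem arith {p e f d r ρ t k Φ : ℕ} (hp : p = e * f + 1) (he : 2 ≤ e) (hd : 1 ≤ d)
    (hx : 2 * (e * d + r) + 3 ≤ p) (hdk : d ^ 2 ≤ k) (hr : r ^ 2 ≤ ρ * k) (ht : t ^ 2 ≤ ρ)
    (htd : t * d ≤ r) (hρ : p * k * ρ ≤ (e * d + r) ^ 2) (hΦ : 2 * k ≤ 3 * Φ ^ 2)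
    (h : Φ * f * (e - 1 + ρ) ≤ (2 * Φ - 1) * (e - 1 + 2 * t) + (e - 1) * d ^ 2 + 2 * d * r) :
    False := by
  have hΦ1 : 1 ≤ Φ := by nlinarith
  obtain ⟨E, rfl⟩ : ∃ E, e = E + 1 := ⟨e - 1, by omega⟩
  obtain ⟨Ψ, rfl⟩ : ∃ Ψ, Φ = Ψ + 1 := ⟨Φ - 1, by omega⟩
  simp only [Nat.add_sub_cancel] at h
  rw [show 2 * (Ψ + 1) - 1 = 2 * Ψ + 1 by omega] at h
  have hE : 1 ≤ E := by omega
  have hf : 2 * d + 1 ≤ f := by
    by_contra hc
    have h' := Nat.mul_le_mul_left (E + 1) (show f ≤ 2 * d by omega)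
    rw [show (E + 1) * (2 * d) = 2 * ((E + 1) * d) by ring] at h'
    omega
  have hd5 : 4 * d ≤ 5 * (Ψ + 1) := by
    by_contra hc
    push Not at hc
    have h1 : (5 * (Ψ + 1)) ^ 2 ≤ (4 * d) ^ 2 := Nat.pow_le_pow_left hc.le 2
    have h2 : 1 ≤ (Ψ + 1) ^ 2 := Nat.one_le_pow _ _ (Nat.succ_pos Ψ)
    linarith
  have hd2 : 4 * d ^ 2 ≤ 5 * d * (Ψ + 1) := by
    have h1 := Nat.mul_le_mul_left d hd5
    linarith
  have hr5 : 8 * r ≤ 5 * (Ψ + 1) * (1 + ρ) := by
    by_contra hc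
    push Not at hc
    have h1 : (5 * (Ψ + 1) * (1 + ρ)) ^ 2 < (8 * r) ^ 2 := Nat.pow_lt_pow_left hc two_ne_zero
    have h2 := Nat.mul_le_mul_right ρ hΦ
    have h3 : 4 * ρ ≤ (1 + ρ) ^ 2 := by nlinarith only [sq_nonneg ((ρ : ℤ) - 1)]
    have h4 := Nat.mul_le_mul_left ((Ψ + 1) ^ 2) h3
    have h5 : 0 ≤ (Ψ + 1) ^ 2 * ρ := Nat.zero_le _
    linarith
  rcases Nat.eq_zero_or_pos ρ with rfl | hρ1
  · have hr0 : r = 0 := by simpa using hr
    have ht0 : t = 0 := by simpa using ht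
    subst hr0 ht0
    have h' : (Ψ + 1) * f * E ≤ (2 * Ψ + 1 + d ^ 2) * E := by linarith
    have h'' : (Ψ + 1) * f ≤ 2 * Ψ + 1 + d ^ 2 := Nat.le_of_mul_le_mul_right h' hE
    rcases Nat.lt_or_ge d 2 with hd' | hd'
    · obtain rfl : d = 1 := by omega
      have h1 := Nat.mul_le_mul_left (Ψ + 1) (show 3 ≤ f by omega)
      linarith
    · have h1 := Nat.mul_le_mul_left (Ψ + 1) hf
      have h2 := Nat.mul_le_mul_left (Ψ + 1) hd'
      linarith
  set x := (E + 1) * d + r with hxdef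
  have hpk : p * d ^ 2 ≤ x ^ 2 := by
    calc p * d ^ 2 ≤ p * k := Nat.mul_le_mul_left p hdk
      _ ≤ p * k * ρ := Nat.le_mul_of_pos_right _ hρ1
      _ ≤ _ := hρ
  have hpr : p * r ^ 2 ≤ x ^ 2 := by
    calc p * r ^ 2 ≤ p * (ρ * k) := Nat.mul_le_mul_left p hr
      _ = p * k * ρ := by ring
      _ ≤ _ := hρ
  have hxd : 2 * d ^ 2 < x := by
    by_contra hc
    push Not at hc
    have h1 : (2 * x + 3) * d ^ 2 ≤ x ^ 2 := (Nat.mul_le_mul_right _ hx).trans hpk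
    have h2 : x * x ≤ x * (2 * d ^ 2) := Nat.mul_le_mul_left x hc
    have h3 : 1 ≤ d ^ 2 := Nat.one_le_pow _ _ hd
    linarith
  have hx0 : 0 < x := lt_of_le_of_lt (Nat.zero_le _) hxd
  have hxr : 2 * r ^ 2 < x := by
    by_contra hc
    push Not at hc
    rcases Nat.eq_zero_or_pos r with hr0 | hr0
    · subst hr0; omega
    have h1 : (2 * x + 3) * r ^ 2 ≤ x ^ 2 := (Nat.mul_le_mul_right _ hx).trans hpr
    have h2 : x * x ≤ x * (2 * r ^ 2) := Nat.mul_le_mul_left x hc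
    have h3 : 1 ≤ r ^ 2 := Nat.one_le_pow _ _ hr0
    linarith
  have h4t : 4 * t ≤ 2 + 2 * ρ := by nlinarith only [ht, sq_nonneg ((t : ℤ) - 1)]
  rcases Nat.lt_or_ge d 3 with hd3 | hd3
  swap
  · -- `d ≥ 3`
    obtain ⟨m, hm⟩ : ∃ m, 3 * d = 4 + m := ⟨3 * d - 4, by omega⟩
    have hmain : m * (E + ρ) ≤ 8 + 5 * d := by
      refine le_of_mul_le_mul_left ?_ (Nat.succ_pos Ψ)
      have h1 := Nat.mul_le_mul_left ((Ψ + 1) * (E + ρ)) hf
      have h2 := Nat.mul_le_mul_left E hd2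
      have h3 := Nat.mul_le_mul_left d hr5
      have h4 := Nat.mul_le_mul_left (Ψ + 1) h4t
      have h5 : (Ψ + 1) * (E + ρ) * (4 + m) = (Ψ + 1) * (E + ρ) * (3 * d) := by rw [hm]
      linarith
    have he2d : 2 * d ≤ E + 1 := by
      by_contra hc
      push Not at hc
      have h1 : (E + 1 + 1) * d ≤ 2 * d * d := Nat.mul_le_mul_right d hc
      rcases Nat.lt_or_ge r (d + 1) with hrd | hrd
      · linarith
      · have h2 := Nat.mul_le_mul_left (2 * r) hrd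
        have h3 := Nat.mul_le_mul_right (2 * d + 1) hrd
        linarith
    have h6 := Nat.mul_le_mul_left m (show 2 * d ≤ E + ρ by omega)
    have h7 : d * (4 + m) = d * (3 * d) := by rw [hm]
    have h8 := Nat.mul_le_mul_left d hd3
    linarith
  rcases Nat.lt_or_ge d 2 with hd1 | hd2'
  · -- `d = 1`
    obtain rfl : d = 1 := by omega
    have hf3 : 3 ≤ f := by omega
    have hmain : 4 * E + 7 * ρ ≤ 5 + 16 * t := by
      refine le_of_mul_le_mul_left ?_ (Nat.succ_pos Ψ)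
      have h1 := Nat.mul_le_mul_left ((Ψ + 1) * (E + ρ)) hf3
      linarith
    have hE3 : E ≤ 3 := by
      have h1 : 112 * t ≤ 49 * t ^ 2 + 64 := by nlinarith only [sq_nonneg (7 * (t : ℤ) - 8)]
      omega
    have hr1 : r ≤ 1 := by
      by_contra hc
      push Not at hc
      have h1 := Nat.mul_le_mul_left r (show 2 ≤ r by omega)
      linarith
    obtain rfl : r = 1 := by omega
    have ht1 : t ≤ 1 := by omega
    have h2 : f * (E + ρ) ≤ 2 * E + 4 := by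
      refine le_of_mul_le_mul_left ?_ (Nat.succ_pos Ψ)
      have h3 := Nat.mul_le_mul_left (2 * Ψ + 1) ht1
      linarith
    have h3 := Nat.mul_le_mul_right (E + ρ) hf3
    obtain rfl : E = 1 := by omega
    obtain rfl : ρ = 1 := by omega
    omega
  · -- `d = 2`
    obtain rfl : d = 2 := by omega
    have hΨ : 1 ≤ Ψ := by
      rcases Nat.eq_zero_or_pos Ψ with h0 | h0
      · subst h0; omega
      · exact h0
    have hmain : E + 5 * ρ ≤ 4 * t + 2 * r := by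
      refine le_of_mul_le_mul_left ?_ (Nat.succ_pos Ψ)
      have h1 := Nat.mul_le_mul_left ((Ψ + 1) * (E + ρ)) hf
      have h2 := Nat.mul_le_mul_left E (show 2 ≤ Ψ + 1 by omega)
      have h3 := Nat.mul_le_mul_left r (show 2 ≤ Ψ + 1 by omega)
      linarith
    have hr2 : r ≤ 2 := by
      by_contra hc
      push Not at hc
      have h1 := Nat.mul_le_mul_left r (show 3 ≤ r by omega)
      linarith
    obtain rfl : r = 2 := by
      rcases (show r = 0 ∨ r = 1 ∨ r = 2 by omega) with rfl | rfl | rfl <;> omega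
    obtain rfl : E = 3 := by omega
    obtain rfl : ρ = 1 := by omega
    have h6 : 6 ≤ f := by omega
    have h7 := Nat.mul_le_mul_left ((Ψ + 1) * 4) h6
    have h8 := Nat.mul_le_mul_left (2 * Ψ + 1) (show 2 * t ≤ 2 by omega)
    linarith

end Cfsg.Agent.BlockCharsA.FeitThompson
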