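import Mathlib
import Cfsg.Agent.BlockCharsA.CentralizerStarApply
import Cfsg.Agent.Lib.PrimeBlock.Basic

/-!
Sums of irreducible character values over the sections `y K` for `y` in a Sylow subgroup `P` of
order `p`, where `C(P) = P × K`.
-/

set_option autoImplicit false
set_option linter.style.haveILetI false

namespace Cfsg.Agent.BlockCharsA.FeitThompson

open Cfsg.Agent.Characters Cfsg.Agent.CharTheory
open Cfsg.Agent.BlockCharsA.CentralizerStar
open scoped ComplexConjugate

universe u

section Split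

variable {G : Type u} [Group G] [Fintype G] {P : Subgroup G} {j : ℕ}

local notation "C" => Subgroup.centralizer (P : Set G)
local notation "N" => Subgroup.normalizer (P : Set G)

variable (S : Setting P j)

/-- The inclusion of `P` into its centralizer. -/
def incl : P →* C := Subgroup.inclusion S.le

include S

omit [Fintype G] in
theorem proj_incl (y : P) : proj S (incl S y) = y := proj_coe S y.2

omit [Fintype G] in
theorem coe_incl (y : P) : ((incl S y : C) : G) = (y : G) := rfl

/-- `C = P × K`. -/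
def splitEquiv : P × (proj S).ker ≃ C where
  toFun q := incl S q.1 * q.2
  invFun c := (proj S c, ⟨(incl S (proj S c))⁻¹ * c, by
    rw [MonoidHom.mem_ker, map_mul, map_inv, proj_incl, inv_mul_cancel]⟩)
  left_inv q := by
    have h : proj S (incl S q.1 * q.2) = q.1 := by
      rw [map_mul, proj_incl, MonoidHom.mem_ker.mp q.2.2, mul_one]
    exact Prod.ext h (Subtype.ext (by simp [h]))
  right_inv c := by simp

omit [Fintype G] in
theorem proj_split (y : P) (k : (proj S).ker) : proj S (incl S y * k) = y := by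
  rw [map_mul, proj_incl, MonoidHom.mem_ker.mp k.2, mul_one]

omit [Fintype G] in
theorem sum_split {M : Type*} [AddCommMonoid M] [Fintype C] [Fintype P] [Fintype (proj S).ker]
    (f : C → M) : ∑ c, f c = ∑ y : P, ∑ k : (proj S).ker, f (incl S y * k) := by
  rw [← Fintype.sum_prod_type']
  exact (Fintype.sum_equiv (splitEquiv S) _ _ fun q => rfl).symm

omit [Fintype G] in
theorem card_split : Nat.card C = Nat.card P * Nat.card (proj S).ker := by
  rw [← Nat.card_prod, Nat.card_congr (splitEquiv S)]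

omit S [Fintype G] in
theorem card_normalizer (P : Subgroup G) : Nat.card (Subgroup.normalizer (P : Set G)) =
    Nat.card (Subgroup.centralizer (P : Set G)) *
      (Subgroup.centralizer (P : Set G)).relIndex (Subgroup.normalizer (P : Set G)) := by
  rw [Subgroup.relIndex, ← Nat.card_congr (Subgroup.subgroupOfEquivOfLe
    (Subgroup.centralizer_le_normalizer (P : Set G))).toEquiv, Subgroup.card_mul_index]

/-- The norm of the function induced from the indicator of a set of sections. -/
theorem norm_sum [Fintype (Cfsg.IrrCharacter G)] [Fintype P] [DecidableEq P] [Fintype N]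
    [Fintype (proj S).ker] (T : Finset P) (hT : (1 : P) ∉ T) :
    ∑ ω : Cfsg.IrrCharacter G,
        Complex.normSq (∑ y ∈ T, ∑ k : (proj S).ker, (ω : G → ℂ) ((incl S y * k : C) : G)) =
      (Nat.card (proj S).ker : ℝ) * ∑ y ∈ T, ((Finset.univ.filter fun z : N =>
        (⟨(z : G)⁻¹ * (y : G) * z, (normalizer_mem_iff z.2 _).mp y.2⟩ : P) ∈ T).card : ℝ) := by
  classical
  haveI := Fintype.ofFinite C
  set θ : C → ℂ := fun c => if proj S c ∈ T then 1 else 0 with hθ
  have hvan : ∀ c : C, proj S c = 1 → θ c = 0 := fun c hc => by simp [hθ, hc, hT]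
  set Φ := Cfsg.indFun C θ with hΦ
  have hcard : (Nat.card C : ℂ) ≠ 0 := natCard_ne_zero
  have h1 : ∀ ω : Cfsg.IrrCharacter G, (Nat.card C : ℂ) * Cfsg.classInner Φ (ω : G → ℂ) =
      conj (∑ y ∈ T, ∑ k : (proj S).ker, (ω : G → ℂ) ((incl S y * k : C) : G)) := by
    intro ω
    rw [hΦ, frobenius_reciprocity C θ (irr_isClassFunction ω), classInner_def,
      mul_inv_cancel_left₀ hcard, sum_split S]
    simp only [hθ, proj_split, ite_mul, one_mul, zero_mul]
    rw [map_sum, ← Finset.sum_filter_add_sum_filter_not Finset.univ (fun y => y ∈ T),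
      Finset.sum_eq_zero (s := Finset.univ.filter fun y => ¬ y ∈ T) (fun y hy => by
        rw [Finset.sum_eq_zero]; intro k _; rw [if_neg (Finset.mem_filter.mp hy).2]), add_zero,
      Finset.filter_mem_eq_inter, Finset.univ_inter]
    refine Finset.sum_congr rfl fun y hy => ?_
    rw [map_sum]
    exact Finset.sum_congr rfl fun k _ => by rw [if_pos hy]
  have h2 : (Nat.card C : ℂ) * ((Nat.card C : ℂ) * Cfsg.classInner Φ Φ) =
      (Nat.card (proj S).ker : ℂ) * ∑ y ∈ T, ((Finset.univ.filter fun z : N =>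
        (⟨(z : G)⁻¹ * (y : G) * z, (normalizer_mem_iff z.2 _).mp y.2⟩ : P) ∈ T).card : ℂ) := by
    conv_lhs => arg 2; arg 2; arg 1; rw [hΦ]
    rw [frobenius_reciprocity C θ (indFun_isClassFunction _ _), classInner_def,
      mul_inv_cancel_left₀ hcard, sum_split S]
    simp only [hθ, proj_split, ite_mul, one_mul, zero_mul]
    rw [Finset.mul_sum, Finset.mul_sum,
      ← Finset.sum_filter_add_sum_filter_not Finset.univ (fun y => y ∈ T),
      Finset.sum_eq_zero (s := Finset.univ.filter fun y => ¬ y ∈ T) (fun y hy => by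
        rw [Finset.sum_eq_zero, mul_zero]; intro k _; rw [if_neg (Finset.mem_filter.mp hy).2]),
      add_zero, Finset.filter_mem_eq_inter, Finset.univ_inter]
    refine Finset.sum_congr rfl fun y hy => ?_
    rw [Finset.mul_sum, Finset.sum_congr rfl fun k _ => by rw [if_pos hy], Nat.card_eq_fintype_card
      (α := (proj S).ker), ← Finset.card_univ, ← nsmul_eq_mul, ← Finset.sum_const]
    refine Finset.sum_congr rfl fun k _ => ?_
    rw [← Complex.conj_natCast (Nat.card C), ← map_mul,
      ← Complex.conj_natCast (Finset.card _)]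
    congr 1
    show (Nat.card C : ℂ) * Φ ((incl S y * k : C) : G) = _
    rw [hΦ, indFun_coe S hvan, ← Finset.sum_boole]
    refine Finset.sum_congr rfl fun z _ => ?_
    rw [tw_apply S z.2, hθ]
    have hp : proj S ⟨(z : G)⁻¹ * ((incl S y * k : C) : G) * z,
        conj_mem z.2 (incl S y * k : C).2⟩ =
        (⟨(z : G)⁻¹ * (y : G) * z, (normalizer_mem_iff z.2 _).mp y.2⟩ : P) := by
      refine Subtype.ext ?_
      have h := proj_conj S z.2 (incl S y * k)
      rw [proj_split] at h
      exact h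
    simp only [hp]
  have h3 := classInner_eq_sum Φ (indFun_isClassFunction C θ)
  rw [← hΦ] at h3
  have h4 : ∀ ω : Cfsg.IrrCharacter G, (Nat.card C : ℂ) * ((Nat.card C : ℂ) *
      (Cfsg.classInner Φ (ω : G → ℂ) * Cfsg.classInner (ω : G → ℂ) Φ)) =
      ((Complex.normSq (∑ y ∈ T, ∑ k : (proj S).ker,
        (ω : G → ℂ) ((incl S y * k : C) : G)) : ℝ) : ℂ) := by
    intro ω
    rw [classInner_conj_symm Φ (ω : G → ℂ), ← Complex.normSq_conj, ← h1 ω, map_mul,
      Complex.normSq_natCast, Complex.ofReal_mul, Complex.mul_conj]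
    push_cast
    ring
  apply Complex.ofReal_injective
  push_cast
  rw [← h2, h3, Finset.mul_sum, Finset.mul_sum]
  exact Finset.sum_congr rfl fun ω _ => (h4 ω).symm

end Split

variable {G : Type u} [Group G] [Fintype G] {p : ℕ} [Fact p.Prime] {P : Sylow p G} {j : ℕ}

local notation "C" => Subgroup.centralizer ((P : Subgroup G) : Set G)
local notation "N" => Subgroup.normalizer ((P : Subgroup G) : Set G)

theorem regular_of_proj_eq_one (S : Setting (P : Subgroup G) j)
    (hP : Nat.card (P : Subgroup G) = p) {c : C} (hc : proj S c = 1) :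
    ¬ p ∣ orderOf (c : G) := by
  intro hd
  have hj : (c : G) ^ j = 1 := congrArg Subtype.val hc
  have hpj : p ∣ j := hd.trans (orderOf_dvd_of_pow_eq_one hj)
  haveI : Nontrivial (P : Subgroup G) :=
    Finite.one_lt_card_iff_nontrivial.1 (by rw [hP]; exact (Fact.out : p.Prime).one_lt)
  obtain ⟨y, hy⟩ := exists_ne (1 : (P : Subgroup G))
  refine hy (Subtype.ext ?_)
  rw [← S.pow_eq _ y.2, OneMemClass.coe_one]
  have : (y : G) ^ p = 1 := by
    have h := pow_card_eq_one' (G := (P : Subgroup G)) (x := y)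
    rw [hP] at h
    exact congrArg Subtype.val h
  obtain ⟨i, rfl⟩ := hpj
  rw [pow_mul, this, one_pow]

omit [Fintype G] in
theorem proj_eq_one_of_regular (S : Setting (P : Subgroup G) j)
    (hP : Nat.card (P : Subgroup G) = p) {c : C} (hc : ¬ p ∣ orderOf (c : G)) :
    proj S c = 1 := by
  have h1 : orderOf (proj S c) ∣ p :=
    (orderOf_dvd_natCard (proj S c)).trans (dvd_of_eq hP)
  rcases (Nat.dvd_prime (Fact.out : p.Prime)).mp h1 with h | h
  · exact orderOf_eq_one_iff.mp h
  · refine absurd ?_ hc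
    refine (dvd_of_eq h.symm).trans ?_
    rw [← Subgroup.orderOf_coe]
    exact orderOf_pow_dvd j

/-- The sum of an irreducible character over `(P - 1) K` is at most `e |K|`, unless the character
is `1` there. -/
theorem section_sum (S : Setting (P : Subgroup G) j) (hP : Nat.card (P : Subgroup G) = p)
    (hodd : p ≠ 2) [Fintype (P : Subgroup G)] [DecidableEq (P : Subgroup G)]
    [Fintype (proj S).ker] (ω : Cfsg.IrrCharacter G) :
    ∃ σ : ℤ,
      ∑ y ∈ (Finset.univ : Finset (P : Subgroup G)).erase 1,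
        ∑ k : (proj S).ker, (ω : G → ℂ) ((incl S y * k : C) : G) =
          (Nat.card (proj S).ker : ℂ) * (σ : ℂ) ∧
      (σ ≤ ((C).relIndex N : ℤ) ∨ (σ = (p : ℤ) - 1 ∧ ∀ y : (P : Subgroup G), y ≠ 1 →
        ∀ k : (proj S).ker, (ω : G → ℂ) ((incl S y * k : C) : G) = 1)) := by
  classical
  haveI := Fintype.ofFinite (Cfsg.IrrCharacter G)
  haveI := Fintype.ofFinite N
  obtain ⟨D⟩ := PrimeBlock.exists_pblock hodd P hP
  set B := Cfsg.principalBlock D.M G
  set E := (Finset.univ : Finset (P : Subgroup G)).erase 1 with hE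
  set e := (C).relIndex N with he
  have hDe : D.e = e := D.he.symm
  set F : Cfsg.IrrCharacter G → ↥(P : Subgroup G) → ℂ := fun ψ y =>
    ∑ k : (proj S).ker, (ψ : G → ℂ) ((incl S y * k : C) : G) with hF
  set s : Cfsg.IrrCharacter G → ℂ := fun ψ => ∑ y ∈ E, (ψ : G → ℂ) (y : G) with hs
  have hne : ∀ {y : (P : Subgroup G)}, y ∈ E → (y : G) ≠ 1 := fun {y} hy h =>
    (Finset.mem_erase.mp hy).1 (Subtype.ext h)
  have hblock : ∀ ψ ∈ B, ∀ y ∈ E, F ψ y = (Nat.card (proj S).ker : ℂ) * (ψ : G → ℂ) (y : G) := by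
    intro ψ hψ y hy
    rw [hF]
    simp only [Subgroup.coe_mul, coe_incl]
    rw [Finset.sum_congr rfl fun (k : (proj S).ker) _ => D.value_mul hψ y.2 (hne hy) (k : C).2
      (regular_of_proj_eq_one S hP (MonoidHom.mem_ker.mp k.2)), Finset.sum_const, Finset.card_univ,
      nsmul_eq_mul, Nat.card_eq_fintype_card]
  have hcE : (E.card : ℝ) = (p : ℝ) - 1 := by
    rw [hE, Finset.card_erase_of_mem (Finset.mem_univ _), Finset.card_univ,
      ← Nat.card_eq_fintype_card, hP, Nat.cast_sub (Fact.out : p.Prime).one_le, Nat.cast_one]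
  have hcC : (Nat.card C : ℝ) = (p : ℝ) * Nat.card (proj S).ker := by
    rw [card_split S, hP, Nat.cast_mul]
  have hK0 : (0 : ℝ) < Nat.card (proj S).ker := Nat.cast_pos.mpr Nat.card_pos
  -- one section
  have hone : ∀ y ∈ E, ∑ ψ, Complex.normSq (F ψ y) = (p : ℝ) * (Nat.card (proj S).ker : ℝ) ^ 2 := by
    intro y hy
    have h := norm_sum S {y} (by
      rw [Finset.mem_singleton]; exact fun h => (Finset.mem_erase.mp hy).1 h.symm)
    simp only [Finset.sum_singleton] at h
    have hcount : (Finset.univ.filter fun z : N =>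
        (⟨(z : G)⁻¹ * (y : G) * z, (normalizer_mem_iff z.2 _).mp y.2⟩ : (P : Subgroup G)) ∈
          ({y} : Finset (P : Subgroup G))).card = Nat.card C := by
      rw [← Fintype.card_subtype, ← Nat.card_eq_fintype_card]
      refine (Nat.card_congr ?_).trans
        (Nat.card_congr (Subgroup.subgroupOfEquivOfLe (le_normalizer (P := (P : Subgroup G)))).toEquiv)
      refine Equiv.subtypeEquivRight fun z => ?_
      rw [Finset.mem_singleton, Subtype.ext_iff, Subgroup.mem_subgroupOf,
        ← S.star y y.2 (hne hy), Subgroup.mem_centralizer_singleton_iff]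
      constructor <;> intro hz
      · have hz' : (z : G)⁻¹ * y * z = y := hz
        calc (z : G) * y = z * ((z : G)⁻¹ * y * z) := by rw [hz']
          _ = y * z := by group
      · show (z : G)⁻¹ * (y : G) * z = y
        rw [mul_assoc, ← hz]; group
    rw [hF, h, hcount, hcC]
    ring
  -- all the sections
  have hall : ∑ ψ, Complex.normSq (∑ y ∈ E, F ψ y) =
      (p : ℝ) * e * ((p : ℝ) - 1) * (Nat.card (proj S).ker : ℝ) ^ 2 := by
    have h := norm_sum S E (by simp [hE])
    have hcount : ∀ y ∈ E, (Finset.univ.filter fun z : N =>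
        (⟨(z : G)⁻¹ * (y : G) * z, (normalizer_mem_iff z.2 _).mp y.2⟩ : (P : Subgroup G)) ∈ E).card =
        Nat.card C * e := by
      intro y hy
      rw [Finset.filter_true_of_mem, Finset.card_univ, ← Nat.card_eq_fintype_card, he,
        card_normalizer (P : Subgroup G)]
      intro z _
      refine Finset.mem_erase.mpr ⟨fun h1 => hne hy ?_, Finset.mem_univ _⟩
      have h2 : (z : G)⁻¹ * (y : G) * z = 1 := congrArg Subtype.val h1
      calc (y : G) = z * ((z : G)⁻¹ * y * z) * (z : G)⁻¹ := by group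
        _ = 1 := by rw [h2]; group
    rw [hF, h, Finset.sum_congr rfl fun y hy => by rw [hcount y hy], Finset.sum_const,
      nsmul_eq_mul, hcE, Nat.cast_mul, hcC]
    ring
  set Bf := (Finset.univ : Finset (Cfsg.IrrCharacter G)).filter (fun ψ => ψ ∈ B) with hBf
  have hfin : ∀ f : Cfsg.IrrCharacter G → ℂ, ∑ᶠ ψ ∈ B, f ψ = ∑ ψ ∈ Bf, f ψ := fun f => by
    rw [finsum_mem_eq_finite_toFinset_sum _ (Set.toFinite B)]
    exact Finset.sum_congr (by ext; simp [hBf]) fun _ _ => rfl
  -- outside the block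
  have hout : ∀ ψ, ψ ∉ B → ∀ y ∈ E, F ψ y = 0 := by
    intro ψ hψ y hy
    have hin : ∑ φ ∈ Bf, Complex.normSq (F φ y) = (p : ℝ) * (Nat.card (proj S).ker : ℝ) ^ 2 := by
      have h := D.norm_block y.2 (hne hy)
      rw [hfin] at h
      simp only [Complex.mul_conj, ← Complex.ofReal_sum] at h
      have h' : ∑ φ ∈ Bf, Complex.normSq ((φ : G → ℂ) (y : G)) = (p : ℝ) := by exact_mod_cast h
      rw [← h', Finset.sum_mul]
      refine Finset.sum_congr rfl fun φ hφ => ?_
      rw [hblock φ (Finset.mem_filter.mp hφ).2 y hy, map_mul, Complex.normSq_natCast]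
      ring
    have h := hone y hy
    rw [← Finset.sum_filter_add_sum_filter_not _ (fun φ => φ ∈ B), ← hBf, hin,
      add_eq_left] at h
    exact Complex.normSq_eq_zero.mp ((Finset.sum_eq_zero_iff_of_nonneg
      fun φ _ => Complex.normSq_nonneg _).mp h ψ (by simp [hψ]))
  by_cases hB : ω ∈ B
  swap
  · exact ⟨0, by rw [Finset.sum_eq_zero fun y hy => hout ω hB y hy]; simp, Or.inl (Int.natCast_nonneg _)⟩
  have hsum : ∀ ψ ∈ B, ∑ y ∈ E, F ψ y = (Nat.card (proj S).ker : ℂ) * s ψ := fun ψ hψ => by
    rw [hs, Finset.mul_sum]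
    exact Finset.sum_congr rfl fun y hy => hblock ψ hψ y hy
  have hX : ∀ ψ ∈ D.X, s ψ = ((((p : ℤ) - 1) * D.sgn ψ : ℤ) : ℂ) := fun ψ hψ => by
    rw [hs]
    simp only
    rw [Finset.sum_congr rfl fun y hy => D.val_X' hψ y.2 (hne hy), Finset.sum_const, nsmul_eq_mul]
    have : (E.card : ℂ) = (p : ℂ) - 1 := by exact_mod_cast congrArg Complex.ofReal hcE
    rw [this]; push_cast; ring
  rcases (D.mem_block ω).mp hB with hωX | hωY
  · refine ⟨((p : ℤ) - 1) * D.sgn ω, ?_, ?_⟩
    · rw [show (∑ y ∈ E, ∑ k : (proj S).ker, (ω : G → ℂ) ((incl S y * k : C) : G)) = ∑ y ∈ E, F ω y from rfl,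
        hsum ω hB, hX ω hωX]
    · have hp1 : (1 : ℤ) ≤ p := by exact_mod_cast (Fact.out : p.Prime).one_le
      rcases D.sgn_eq ω hωX with h | h
      · refine Or.inr ⟨by rw [h, mul_one], fun y hy k => ?_⟩
        have := D.val_X ω hωX y y.2 (fun h' => hy (Subtype.ext h')) ((k : C) : G) (k : C).2
          (regular_of_proj_eq_one S hP (MonoidHom.mem_ker.mp k.2))
        rw [Subgroup.coe_mul, coe_incl, this, h, Int.cast_one]
      · refine Or.inl ?_
        rw [h]
        have : (0 : ℤ) ≤ e := Int.natCast_nonneg _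
        linarith
  · have hsY : ∀ θ ∈ D.Y, s θ = ((-D.ε * (e : ℤ) : ℤ) : ℂ) := by
      set c : ℂ := ((-D.ε * (e : ℤ) : ℤ) : ℂ) with hc
      have htot : ∑ θ ∈ D.Y, s θ = ((-D.ε * ((p : ℤ) - 1) : ℤ) : ℂ) := by
        rw [hs]
        simp only
        rw [Finset.sum_comm, Finset.sum_congr rfl fun y hy => D.sum_Y y.2 (hne hy),
          Finset.sum_const, nsmul_eq_mul]
        have : (E.card : ℂ) = (p : ℂ) - 1 := by exact_mod_cast congrArg Complex.ofReal hcE
        rw [this]; push_cast; ring
      have hcY : (D.Y.card : ℝ) * e = (p : ℝ) - 1 := by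
        have h := D.card_Y
        have h2 : D.Y.card * D.e = p - 1 := by rw [h, Nat.div_mul_cancel D.e_dvd]
        rw [hDe] at h2
        rw [← Nat.cast_mul, h2, Nat.cast_sub (Fact.out : p.Prime).one_le, Nat.cast_one]
      have hnorm : ∑ θ ∈ D.Y, Complex.normSq (s θ) = (e : ℝ) * ((p : ℝ) - 1) := by
        have h := hall
        rw [← Finset.sum_filter_add_sum_filter_not _ (fun φ => φ ∈ B), ← hBf,
          Finset.sum_eq_zero (s := Finset.univ.filter fun φ => ¬ φ ∈ B) (fun φ hφ => by
            rw [Finset.sum_eq_zero fun y hy => hout φ (Finset.mem_filter.mp hφ).2 y hy,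
              map_zero]), add_zero,
          show Bf = D.X ∪ D.Y by ext; simp [hBf, B, D.mem_block], Finset.sum_union D.disj] at h
        have hn : ∀ φ, φ ∈ D.X ∨ φ ∈ D.Y → Complex.normSq (∑ y ∈ E, F φ y) =
            (Nat.card (proj S).ker : ℝ) ^ 2 * Complex.normSq (s φ) := fun φ hφ => by
          rw [hsum φ ((D.mem_block φ).mpr hφ), map_mul, Complex.normSq_natCast]; ring
        rw [Finset.sum_congr (s₁ := D.X) rfl (g := fun _ => (Nat.card (proj S).ker : ℝ) ^ 2 * ((p : ℝ) - 1) ^ 2)
          (fun φ hφ => by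
            rw [hn φ (Or.inl hφ), hX φ hφ, Complex.normSq_intCast]
            rcases D.sgn_eq φ hφ with h | h <;> rw [h] <;> push_cast <;> ring),
          Finset.sum_congr (s₁ := D.Y) rfl fun φ hφ => hn φ (Or.inr hφ), Finset.sum_const,
          D.card_X, hDe, nsmul_eq_mul, ← Finset.mul_sum] at h
        refine mul_left_cancel₀ (pow_ne_zero 2 hK0.ne') ?_
        linear_combination h
      have hzero : ∑ θ ∈ D.Y, Complex.normSq (s θ - c) = 0 := by
        have hre : ∑ θ ∈ D.Y, (s θ).re = -(D.ε : ℝ) * ((p : ℝ) - 1) := by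
          rw [← Complex.re_sum, htot, Complex.intCast_re]
          push_cast; ring
        have hterm : ∀ θ, Complex.normSq (s θ - c) = Complex.normSq (s θ) +
            2 * ((D.ε : ℝ) * e) * (s θ).re + ((D.ε : ℝ) * e) ^ 2 := fun θ => by
          rw [Complex.normSq_apply, Complex.normSq_apply, hc, Complex.sub_re, Complex.sub_im,
            Complex.intCast_re, Complex.intCast_im]
          push_cast; ring
        rw [Finset.sum_congr rfl fun θ _ => hterm θ, Finset.sum_add_distrib,
          Finset.sum_add_distrib, hnorm, ← Finset.mul_sum, hre, Finset.sum_const, nsmul_eq_mul]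
        have hε2 : (D.ε : ℝ) ^ 2 = 1 := by rcases D.ε_eq with h | h <;> rw [h] <;> norm_num
        linear_combination (e : ℝ) * ((D.ε : ℝ) ^ 2) * hcY - (e : ℝ) * ((p : ℝ) - 1) * hε2
      intro θ hθ
      exact sub_eq_zero.mp (Complex.normSq_eq_zero.mp ((Finset.sum_eq_zero_iff_of_nonneg
        fun φ _ => Complex.normSq_nonneg _).mp hzero θ hθ))
    refine ⟨-D.ε * (e : ℤ), ?_, Or.inl ?_⟩
    · rw [show (∑ y ∈ E, ∑ k : (proj S).ker, (ω : G → ℂ) ((incl S y * k : C) : G)) = ∑ y ∈ E, F ω y from rfl,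
        hsum ω hB, hsY ω hωY]
    · have : (0 : ℤ) ≤ e := Int.natCast_nonneg _
      rcases D.ε_eq with h | h <;> rw [h] <;> linarith

end Cfsg.Agent.BlockCharsA.FeitThompson
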