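import Mathlib
import Cfsg.Agent.BlockCharsA.FTBlock

/-!
Multiplicities on `C(P) = P × K` sorted by the linear character on `P`.
-/

set_option autoImplicit false
set_option linter.style.haveILetI false
set_option linter.unusedSectionVars false

namespace Cfsg.Agent.BlockCharsA.FeitThompson

open Cfsg.Agent.Characters Cfsg.Agent.CharTheory
open Cfsg.Agent.BlockCharsA.CentralizerStar
open scoped ComplexConjugate

universe u

section Mult

variable {H : Type u} [Group H] [Fintype H]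

/-- The multiplicity of `η` in `F`. -/
noncomputable def mult (F : H → ℂ) (η : Cfsg.IrrCharacter H) : ℕ :=
  ⌊(Cfsg.classInner F (η : H → ℂ)).re⌋₊

theorem mult_eq {F : H → ℂ} (hF : Cfsg.IsCharacter H F) (η : Cfsg.IrrCharacter H) :
    Cfsg.classInner F (η : H → ℂ) = (mult F η : ℂ) := by
  obtain ⟨n, hn⟩ := classInner_char_nat hF (irr_isCharacter η)
  simp [mult, hn]

variable [Fintype (Cfsg.IrrCharacter H)]

theorem expand {F : H → ℂ} (hF : Cfsg.IsCharacter H F) (h : H) :
    F h = ∑ η : Cfsg.IrrCharacter H, (mult F η : ℂ) * (η : H → ℂ) h := by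
  have := congrFun (classFun_eq_sum (char_isClassFunction hF)) h
  simp only [Finset.sum_apply, Pi.smul_apply, smul_eq_mul, mult_eq hF] at this
  exact this

theorem inner_eq_sum {F F' : H → ℂ} (hF : Cfsg.IsCharacter H F) (hF' : Cfsg.IsCharacter H F') :
    Cfsg.classInner F F' = ((∑ η : Cfsg.IrrCharacter H, mult F η * mult F' η : ℕ) : ℂ) := by
  rw [classInner_eq_sum F' (char_isClassFunction hF), Nat.cast_sum]
  refine Finset.sum_congr rfl fun η _ => ?_
  rw [classInner_conj_symm F' (η : H → ℂ), mult_eq hF, mult_eq hF', Complex.conj_natCast,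
    Nat.cast_mul]

theorem degree_sum {F : H → ℂ} (hF : Cfsg.IsCharacter H F) {n : ℕ} (hn : F 1 = (n : ℂ)) :
    n = ∑ η : Cfsg.IrrCharacter H, mult F η * Cfsg.charDegree (η : H → ℂ) := by
  have h := expand hF 1
  simp only [hn, ← Blocks.charDegree_cast] at h
  exact_mod_cast h

theorem mult_of_sum {ι : Type*} [Fintype ι] {F : H → ℂ} {f : ι → H → ℂ} {n : ι → ℕ}
    (hF : Cfsg.IsCharacter H F) (hf : ∀ i, Cfsg.IsCharacter H (f i))
    (h : ∀ x, F x = ∑ i, (n i : ℂ) * f i x) (η : Cfsg.IrrCharacter H) :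
    mult F η = ∑ i, n i * mult (f i) η := by
  have he : F = ∑ i, (n i : ℂ) • f i := funext fun x => by
    rw [h x, Finset.sum_apply]; rfl
  have := mult_eq hF η
  conv_lhs at this => rw [he]
  simp only [classInner_sum_left, classInner_smul_left, mult_eq (hf _)] at this
  exact_mod_cast this.symm

end Mult

section Star

variable {G : Type u} [Group G] [Fintype G] {P : Subgroup G} {j : ℕ}

local notation "C" => Subgroup.centralizer (P : Set G)
local notation "N" => Subgroup.normalizer (P : Set G)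

variable (S : Setting P j)

/-- Twisting by a linear character of `P`. -/
noncomputable def tm (ν : P →* ℂˣ) (η : Cfsg.IrrCharacter C) : Cfsg.IrrCharacter C :=
  ⟨twist S (η : C → ℂ) ν, isIrr_twist S η.2 ν⟩

/-- The linear character `ν` seen on `C`. -/
noncomputable def lnu [Fintype C] (ν : P →* ℂˣ) : Cfsg.IrrCharacter C := tm S ν (trivIrr C)

/-- Triviality on `P`. -/
def Triv (η : Cfsg.IrrCharacter C) : Prop := ∀ y : P, (η : C → ℂ) (incl S y) = (η : C → ℂ) 1

/-- Conjugation by an element of the normalizer. -/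
noncomputable def cj (z : N) (η : Cfsg.IrrCharacter C) : Cfsg.IrrCharacter C :=
  ⟨tw (P := P) (z : G) (η : C → ℂ), isIrr_tw S z.2 η.2⟩

/-- Conjugation of `P` by an element of the normalizer. -/
def conjP (z : N) : P →* P where
  toFun y := ⟨(z : G)⁻¹ * (y : G) * z, (normalizer_mem_iff z.2 _).mp y.2⟩
  map_one' := Subtype.ext (by simp)
  map_mul' a b := Subtype.ext (by simp [mul_assoc])

include S

theorem tm_apply (ν : P →* ℂˣ) (η : Cfsg.IrrCharacter C) (c : C) :
    (tm S ν η : C → ℂ) c = (ν (proj S c) : ℂ) * (η : C → ℂ) c := rfl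

theorem tm_one (η : Cfsg.IrrCharacter C) : tm S 1 η = η :=
  Subtype.ext (funext fun c => by simp [tm_apply])

theorem tm_tm (ν μ : P →* ℂˣ) (η : Cfsg.IrrCharacter C) :
    tm S ν (tm S μ η) = tm S (ν * μ) η :=
  Subtype.ext (funext fun c => by simp [tm_apply, mul_assoc])

theorem charDegree_tm (ν : P →* ℂˣ) (η : Cfsg.IrrCharacter C) :
    Cfsg.charDegree (tm S ν η : C → ℂ) = Cfsg.charDegree (η : C → ℂ) := by
  have h : (tm S ν η : C → ℂ) 1 = (η : C → ℂ) 1 := by simp [tm_apply]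
  rw [← Nat.cast_inj (R := ℂ), Blocks.charDegree_cast, Blocks.charDegree_cast, h]

theorem exists_core (η : Cfsg.IrrCharacter C) :
    ∃ (η₀ : Cfsg.IrrCharacter C) (ν : P →* ℂˣ), Triv S η₀ ∧ η = tm S ν η₀ := by
  obtain ⟨η₀, ν, h1, h2, h3⟩ := exists_twist S η.2
  exact ⟨⟨η₀, h1⟩, ν, h2, Subtype.ext h3⟩

theorem tm_incl {η : Cfsg.IrrCharacter C} (h0 : Triv S η) (ν : P →* ℂˣ) (y : P) :
    (tm S ν η : C → ℂ) (incl S y) = (ν y : ℂ) * (η : C → ℂ) 1 := by
  rw [tm_apply, proj_incl, h0]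

theorem tm_inj {η η' : Cfsg.IrrCharacter C} (h0 : Triv S η) (h0' : Triv S η')
    {ν μ : P →* ℂˣ} (h : tm S ν η = tm S μ η') : ν = μ ∧ η = η' := by
  have h1 : (η : C → ℂ) 1 = (η' : C → ℂ) 1 := by
    have := congrFun (congrArg Subtype.val h) (1 : C)
    simpa [tm_apply] using this
  have hν : ν = μ := MonoidHom.ext fun y => Units.ext (mul_right_cancel₀ (irr_one_ne_zero η.2) (by
    have := congrFun (congrArg Subtype.val h) (incl S y)
    rw [tm_incl S h0, tm_incl S h0', ← h1] at this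
    exact this))
  refine ⟨hν, ?_⟩
  have := congrArg (tm S ν⁻¹) h
  rwa [tm_tm, tm_tm, hν, show μ⁻¹ * μ = 1 from MonoidHom.ext fun y => by simp, tm_one,
    tm_one] at this

theorem triv_tm_iff {η : Cfsg.IrrCharacter C} (h0 : Triv S η) (ν : P →* ℂˣ) :
    Triv S (tm S ν η) ↔ ν = 1 := by
  refine ⟨fun h => (tm_inj S h h0 (ν := 1) (μ := ν) (by rw [tm_one])).1.symm, fun h => ?_⟩
  rw [h, tm_one]; exact h0

theorem triv_trivIrr [Fintype C] : Triv S (trivIrr C) := fun _ => by simp

theorem lnu_apply [Fintype C] (ν : P →* ℂˣ) (c : C) :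
    (lnu S ν : C → ℂ) c = (ν (proj S c) : ℂ) := by
  simp [lnu, tm_apply]

theorem cj_apply (z : N) (η : Cfsg.IrrCharacter C) (c : C) :
    (cj S z η : C → ℂ) c = (η : C → ℂ) ⟨(z : G)⁻¹ * c * z, conj_mem z.2 c.2⟩ :=
  tw_apply S z.2 _ c

theorem cj_cj (z w : N) (η : Cfsg.IrrCharacter C) : cj S z (cj S w η) = cj S (z * w) η :=
  Subtype.ext (funext fun c => by
    rw [cj_apply, cj_apply, cj_apply]
    exact congrArg (η : C → ℂ) (Subtype.ext (by simp [mul_assoc])))

theorem cj_of_mem {z : N} (hz : (z : G) ∈ C) (η : Cfsg.IrrCharacter C) : cj S z η = η :=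
  Subtype.ext (tw_of_mem S hz (irr_isClassFunction η))

theorem cj_one (η : Cfsg.IrrCharacter C) : cj S 1 η = η := cj_of_mem S (one_mem _) η

theorem cj_tm (z : N) (ν : P →* ℂˣ) (η : Cfsg.IrrCharacter C) :
    cj S z (tm S ν η) = tm S (ν.comp (conjP z)) (cj S z η) := by
  refine Subtype.ext (funext fun c => ?_)
  rw [cj_apply, tm_apply, tm_apply, cj_apply]
  congr 2
  show ν _ = ν _
  exact congrArg ν (Subtype.ext (proj_conj S z.2 c))

theorem triv_cj (z : N) {η : Cfsg.IrrCharacter C} (h0 : Triv S η) : Triv S (cj S z η) := by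
  intro y
  rw [cj_apply, cj_apply]
  refine Eq.trans ?_ ((h0 (conjP z y)).trans (congrArg (η : C → ℂ) (Subtype.ext (by simp))))
  exact congrArg (η : C → ℂ) (Subtype.ext rfl)

theorem charDegree_cj (z : N) (η : Cfsg.IrrCharacter C) :
    Cfsg.charDegree (cj S z η : C → ℂ) = Cfsg.charDegree (η : C → ℂ) := by
  have h : (cj S z η : C → ℂ) 1 = (η : C → ℂ) 1 := by
    rw [cj_apply]; exact congrArg (η : C → ℂ) (Subtype.ext (by simp))
  rw [← Nat.cast_inj (R := ℂ), Blocks.charDegree_cast, Blocks.charDegree_cast, h]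

theorem mult_cj [Fintype C] (z : N) {F : G → ℂ} (hF : Cfsg.IsClassFunction G F)
    (η : Cfsg.IrrCharacter C) :
    mult (fun c : C => F c) (cj S z η) = mult (fun c : C => F c) η := by
  unfold mult
  rw [show Cfsg.classInner (fun c : C => F c) (cj S z η : C → ℂ) = _ from inner_tw S z.2 hF _]

/-- On a group of prime order conjugation fixes a nontrivial character only from `C`. -/
theorem comp_conjP_inj (hprime : (Nat.card P).Prime) {ν : P →* ℂˣ} (hν : ν ≠ 1) {z w : N}
    (h : ν.comp (conjP z) = ν.comp (conjP w)) : ((z⁻¹ * w : N) : G) ∈ C := by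
  haveI : Fact (Nat.card P).Prime := ⟨hprime⟩
  have hinj : Function.Injective ν := by
    rw [← MonoidHom.ker_eq_bot_iff]
    exact (Subgroup.eq_bot_or_eq_top_of_prime_card ν.ker).resolve_right fun h' =>
      hν (MonoidHom.ker_eq_top_iff.mp h')
  haveI : Nontrivial P := Finite.one_lt_card_iff_nontrivial.1 hprime.one_lt
  obtain ⟨y, hy⟩ := exists_ne (1 : P)
  have hy' : (z : G) * y * (z : G)⁻¹ ∈ P := (Subgroup.mem_normalizer_iff.mp z.2 y).mp y.2
  have h1 : conjP z ⟨_, hy'⟩ = conjP w ⟨_, hy'⟩ := hinj (DFunLike.congr_fun h ⟨_, hy'⟩)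
  have h2 : (z : G)⁻¹ * ((z : G) * y * (z : G)⁻¹) * z =
      (w : G)⁻¹ * ((z : G) * y * (z : G)⁻¹) * w := congrArg Subtype.val h1
  rw [← S.star y y.2 fun h' => hy (Subtype.ext h'), Subgroup.mem_centralizer_singleton_iff,
    Subgroup.coe_mul, InvMemClass.coe_inv]
  calc (z : G)⁻¹ * w * y = (z : G)⁻¹ * w * ((z : G)⁻¹ * ((z : G) * y * (z : G)⁻¹) * z) := by group
    _ = (z : G)⁻¹ * w * ((w : G)⁻¹ * ((z : G) * y * (z : G)⁻¹) * w) := by rw [h2]
    _ = y * ((z : G)⁻¹ * w) := by group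

variable [Fintype (Subgroup.centralizer (P : Set G))] [Fintype P] [Fintype (P →* ℂˣ)] [Fintype (proj S).ker]

theorem sum_dual (y : P) [Decidable (y = 1)] :
    ∑ ν : P →* ℂˣ, conj (ν y : ℂ) = if y = 1 then (Nat.card P : ℂ) else 0 := by
  by_cases hy : y = 1
  · rw [if_pos hy, ← card_linear S, Nat.card_eq_fintype_card]
    simp [hy]
  · rw [if_neg hy, ← map_sum]
    letI : CommGroup P :=
      { (inferInstance : Group P) with mul_comm := fun a b => Subtype.ext (comm S a.2 b.2) }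
    haveI : NeZero (Monoid.exponent P : ℂ) :=
      ⟨Nat.cast_ne_zero.2 Monoid.exponent_ne_zero_of_finite⟩
    obtain ⟨μ, hμ⟩ := CommGroup.exists_apply_ne_one_of_hasEnoughRootsOfUnity P ℂ hy
    have hs : (μ y : ℂ) * ∑ ν : P →* ℂˣ, (ν y : ℂ) = ∑ ν : P →* ℂˣ, (ν y : ℂ) := by
      rw [Finset.mul_sum]
      exact Fintype.sum_equiv (Equiv.mulLeft μ) _ _ fun ν => by simp
    have h0 : ∑ ν : P →* ℂˣ, (ν y : ℂ) = 0 := by
      by_contra hs0
      exact hμ (Units.ext ((mul_eq_right₀ hs0).mp hs))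
    rw [h0, map_zero]

/-- The sum over `K`. -/
theorem sum_ker {F : C → ℂ} (hF : Cfsg.IsCharacter C F) :
    ∑ k : (proj S).ker, F k =
      (Nat.card (proj S).ker : ℂ) * ((∑ ν : P →* ℂˣ, mult F (lnu S ν) : ℕ) : ℂ) := by
  classical
  apply mul_left_cancel₀ (natCard_ne_zero (G := P))
  rw [← mul_assoc, ← Nat.cast_mul, ← card_split S, Nat.cast_sum, Finset.mul_sum, Finset.mul_sum]
  simp only [← mult_eq hF, classInner_def, mul_inv_cancel_left₀ (natCard_ne_zero (G := C)),
    lnu_apply]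
  rw [eq_comm, Finset.sum_comm, sum_split S]
  simp only [proj_split, ← Finset.mul_sum, sum_dual S]
  rw [Finset.sum_eq_single (1 : P)]
  · rw [if_pos rfl, Nat.card_eq_fintype_card, Finset.mul_sum]
    simp [mul_comm]
  · intro y _ hy
    simp [hy]
  · simp

/-- The sum over `C`. -/
theorem sum_all {F : C → ℂ} (hF : Cfsg.IsCharacter C F) :
    ∑ c : C, F c = (Nat.card C : ℂ) * (mult F (lnu S 1) : ℂ) := by
  rw [← mult_eq hF, classInner_def, mul_inv_cancel_left₀ natCard_ne_zero]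
  simp [lnu_apply]

/-- The degree sum of the constituents nontrivial on `P`. -/
noncomputable def weight (F : C → ℂ) [Fintype (Cfsg.IrrCharacter C)] : ℕ :=
  letI := Classical.decPred (Triv S)
  ∑ η : Cfsg.IrrCharacter C, if Triv S η then 0 else mult F η * Cfsg.charDegree (η : C → ℂ)

theorem sum_P [Fintype (Cfsg.IrrCharacter C)] {F : C → ℂ} (hF : Cfsg.IsCharacter C F) :
    ∑ y : P, F (incl S y) + (Nat.card P : ℂ) * (weight S F : ℂ) = (Nat.card P : ℂ) * F 1 := by
  classical
  simp only [expand hF, weight, Nat.cast_sum, Finset.mul_sum]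
  rw [Finset.sum_comm, ← Finset.sum_add_distrib]
  refine Finset.sum_congr rfl fun η _ => ?_
  rw [← Blocks.charDegree_cast]
  by_cases h : Triv S η
  · rw [if_pos h, Nat.cast_zero, mul_zero, add_zero, Finset.sum_congr rfl fun y _ => by
      rw [h y, ← Blocks.charDegree_cast], Finset.sum_const, Finset.card_univ, nsmul_eq_mul,
      Nat.card_eq_fintype_card]
  · rw [if_neg h, Nat.cast_mul]
    obtain ⟨η₀, ν, h0, rfl⟩ := exists_core S η
    have hν : ν ≠ 1 := fun h' => h ((triv_tm_iff S h0 ν).mpr h')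
    have hsum : ∑ y : P, (ν y : ℂ) = 0 := by
      refine sum_hom_units_eq_zero ((Units.coeHom ℂ).comp ν) fun h' => hν (MonoidHom.ext fun y => ?_)
      exact Units.ext (DFunLike.congr_fun h' y)
    simp only [tm_incl S h0]
    rw [← Finset.mul_sum, ← Finset.sum_mul, hsum, zero_mul, mul_zero, zero_add]

theorem sum_lnu_le [Fintype (Cfsg.IrrCharacter C)] [DecidableEq (P →* ℂˣ)] (F : C → ℂ) :
    ∑ ν ∈ (Finset.univ : Finset (P →* ℂˣ)).erase 1, mult F (lnu S ν) ≤ weight S F := by
  classical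
  unfold weight
  rw [← Finset.sum_image (f := mult F) (g := lnu S) (s := Finset.univ.erase 1) fun a _ b _ h =>
    (tm_inj S (triv_trivIrr S) (triv_trivIrr S) h).1]
  refine le_trans (le_of_eq ?_) (Finset.sum_le_sum_of_subset
    (Finset.subset_univ ((Finset.univ.erase 1).image (lnu S))))
  refine Finset.sum_congr rfl fun η hη => ?_
  obtain ⟨ν, hν, rfl⟩ := Finset.mem_image.mp hη
  rw [lnu, if_neg fun h => (Finset.mem_erase.mp hν).1 ((triv_tm_iff S (triv_trivIrr S) ν).mp h)]
  rw [charDegree_tm]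
  simp [Cfsg.charDegree]

end Star

end Cfsg.Agent.BlockCharsA.FeitThompson
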