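import Mathlib
import Cfsg.Agent.BlockCharsA.FTMult

/-!
The restriction to `C(P) = P × K` of a faithful irreducible character of degree below `(p - 1) / 2`:
one orbit of constituents nontrivial on `P`, each with multiplicity one, and a small rest.
-/

set_option autoImplicit false
set_option linter.style.haveILetI false
set_option linter.unusedSectionVars false

namespace Cfsg.Agent.BlockCharsA.FeitThompson

open Cfsg.Agent.Characters Cfsg.Agent.CharTheory
open Cfsg.Agent.BlockCharsA.CentralizerStar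
open scoped ComplexConjugate

universe u

variable {G : Type u} [Group G] [Fintype G] {P : Subgroup G} {j : ℕ}

local notation "C" => Subgroup.centralizer (P : Set G)
local notation "N" => Subgroup.normalizer (P : Set G)

/-- The product of a character with its conjugate. -/
def absSq (χ : G → ℂ) : G → ℂ := fun g => χ g * conj (χ g)

/-- The restriction to `C(P)`. -/
def res (P : Subgroup G) (F : G → ℂ) : Subgroup.centralizer (P : Set G) → ℂ := fun c => F c

theorem isCharacter_absSq {χ : G → ℂ} (h : Cfsg.IsCharacter G χ) :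
    Cfsg.IsCharacter G (absSq χ) :=
  isCharacter_mul h (Basics.isCharacter_conj h)

theorem isCharacter_res {F : G → ℂ} (h : Cfsg.IsCharacter G F) :
    Cfsg.IsCharacter C (res P F) :=
  isCharacter_restrict _ h

theorem center_le_centralizer : Subgroup.center G ≤ C :=
  Subgroup.center_le_centralizer _

/-- A central element of `G` as an element of `C`. -/
def zC (P : Subgroup G) : Subgroup.center G →* Subgroup.centralizer (P : Set G) :=
  Subgroup.inclusion (Subgroup.center_le_centralizer _)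

variable (S : Setting P j)
include S

theorem incl_mul_zC_center (y : P) (z : Subgroup.center G) :
    incl S y * zC P z ∈ Subgroup.center C :=
  Subgroup.mem_center_iff.mpr fun c => Subtype.ext (by
    show (c : G) * ((y : G) * (z : G)) = (y : G) * (z : G) * c
    rw [← mul_assoc, ← Subgroup.mem_centralizer_iff.mp c.2 y y.2, mul_assoc,
      Subgroup.mem_center_iff.mp z.2, mul_assoc])

variable [Fintype (Subgroup.centralizer (P : Set G))]
  [Fintype (Cfsg.IrrCharacter (Subgroup.centralizer (P : Set G)))]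

theorem norm_lower {k : ℕ} (hk : Nat.card (proj S).ker = k * Nat.card (Subgroup.center G))
    (hZK : ∀ z : Subgroup.center G, proj S (zC P z) = 1)
    (f : Cfsg.IrrCharacter C → ℕ) (φ : P → Subgroup.center G → ℂ)
    (hφ : ∀ y z, φ y z * conj (φ y z) = 1)
    (hval : ∀ η, f η ≠ 0 → ∀ y z,
      (η : C → ℂ) (incl S y * zC P z) = φ y z * (η : C → ℂ) 1) :
    (∑ η, f η * Cfsg.charDegree (η : C → ℂ)) ^ 2 ≤ k * ∑ η, f η ^ 2 := by
  classical
  haveI := Fintype.ofFinite (Subgroup.center G)
  haveI := Fintype.ofFinite P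
  set r := ∑ η, f η * Cfsg.charDegree (η : C → ℂ) with hr
  set F : C → ℂ := ∑ η : Cfsg.IrrCharacter C, (f η : ℂ) • (η : C → ℂ) with hF
  have hn : Cfsg.classInner F F = ((∑ η, f η ^ 2 : ℕ) : ℂ) := by
    conv_lhs => arg 2; rw [hF]
    rw [classInner_sum_right, Nat.cast_sum]
    refine Finset.sum_congr rfl fun η _ => ?_
    rw [classInner_smul_right, hF, classInner_sum_smul_irr, if_pos (Finset.mem_univ _),
      Complex.conj_natCast]
    push_cast; ring
  have hnR : ∑ c : C, Complex.normSq (F c) = (Nat.card C : ℝ) * ((∑ η, f η ^ 2 : ℕ) : ℝ) := by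
    have h := congrArg (fun w => (Nat.card C : ℂ) * w) hn
    simp only [classInner_def, mul_inv_cancel_left₀ (natCard_ne_zero (G := C)),
      Complex.mul_conj] at h
    exact_mod_cast h
  have hFv : ∀ y z, Complex.normSq (F (incl S y * zC P z)) = (r : ℝ) ^ 2 := by
    intro y z
    have h : F (incl S y * zC P z) = φ y z * (r : ℂ) := by
      rw [hF, hr, Nat.cast_sum, Finset.mul_sum, Finset.sum_apply]
      refine Finset.sum_congr rfl fun η _ => ?_
      rw [Pi.smul_apply, smul_eq_mul, Nat.cast_mul, Blocks.charDegree_cast]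
      by_cases h0 : f η = 0
      · simp [h0]
      · rw [hval η h0]; ring
    rw [h, map_mul, Complex.normSq_natCast]
    have h1 : Complex.normSq (φ y z) = 1 := by
      have := hφ y z
      rw [Complex.mul_conj] at this
      exact_mod_cast this
    rw [h1]; ring
  have hinj : Function.Injective fun q : P × Subgroup.center G => incl S q.1 * zC P q.2 := by
    rintro ⟨y, z⟩ ⟨y', z'⟩ h
    have hy : y = y' := by
      have := congrArg (proj S) h
      simpa [proj_incl, hZK] using this
    subst hy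
    exact Prod.ext rfl (Subtype.ext (congrArg Subtype.val (mul_left_cancel h) :))
  have hle : (Nat.card P : ℝ) * Nat.card (Subgroup.center G) * (r : ℝ) ^ 2 ≤
      (Nat.card C : ℝ) * ((∑ η, f η ^ 2 : ℕ) : ℝ) := by
    rw [← hnR]
    calc (Nat.card P : ℝ) * Nat.card (Subgroup.center G) * (r : ℝ) ^ 2
        = ∑ q : P × Subgroup.center G, Complex.normSq (F (incl S q.1 * zC P q.2)) := by
          simp [hFv, Finset.card_univ, Nat.card_eq_fintype_card]
      _ = ∑ c ∈ Finset.univ.image (fun q : P × Subgroup.center G => incl S q.1 * zC P q.2),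
            Complex.normSq (F c) := (Finset.sum_image (f := fun c => Complex.normSq (F c))
            (g := fun q : P × Subgroup.center G => incl S q.1 * zC P q.2) (s := Finset.univ)
            fun a _ b _ h => hinj h).symm
      _ ≤ _ := Finset.sum_le_sum_of_subset_of_nonneg (Finset.subset_univ _)
            fun c _ _ => Complex.normSq_nonneg _
  rw [card_split S, hk] at hle
  have h2 : Nat.card P * Nat.card (Subgroup.center G) * r ^ 2 ≤
      Nat.card P * Nat.card (Subgroup.center G) * (k * ∑ η, f η ^ 2) := by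
    rw [← Nat.cast_le (α := ℝ)]
    push_cast at hle ⊢
    linarith
  exact Nat.le_of_mul_le_mul_left h2 (Nat.mul_pos Nat.card_pos Nat.card_pos)

theorem degree_sq_le {k : ℕ} (hk : Nat.card (proj S).ker = k * Nat.card (Subgroup.center G))
    (hZK : ∀ z : Subgroup.center G, proj S (zC P z) = 1) (η : Cfsg.IrrCharacter C) :
    Cfsg.charDegree (η : C → ℂ) ^ 2 ≤ k := by
  classical
  choose φ hφ hφv using fun y z => Blocks.exists_central_scalar η (incl_mul_zC_center S y z)
  have h := norm_lower S hk hZK (fun η' => if η' = η then 1 else 0) φ hφ (fun η' h y z => by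
    obtain rfl : η' = η := by by_contra hh; exact h (if_neg hh)
    rw [← hφv y z 1, one_mul])
  simpa [ite_pow] using h

/-- The shape of the restriction. -/
theorem restrict_data [Fintype P] [Fintype (P →* ℂˣ)] [DecidableEq (P →* ℂˣ)]
    {p : ℕ} [Fact p.Prime] (hP : Nat.card P = p) {k : ℕ}
    (hk : Nat.card (proj S).ker = k * Nat.card (Subgroup.center G))
    (hZK : ∀ z : Subgroup.center G, proj S (zC P z) = 1)
    (hcen : ∀ y ∈ P, y ∈ Subgroup.center G → y = 1)
    {χ : Cfsg.IrrCharacter G} (hfaith : ∀ g : G, (χ : G → ℂ) g = (χ : G → ℂ) 1 → g = 1)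
    {x : ℕ} (hx : (χ : G → ℂ) 1 = (x : ℂ)) (hxp : 2 * x + 3 ≤ p)
    (hTI : p * k * ∑ η, mult (res P (χ : G → ℂ)) η ^ 2 ≤ (C).relIndex N * (p * k) + x ^ 2) :
    ∃ d r ρ t : ℕ, 2 ≤ (C).relIndex N ∧ 1 ≤ d ∧ x = (C).relIndex N * d + r ∧
      d ^ 2 ≤ k ∧ r ^ 2 ≤ ρ * k ∧ t ^ 2 ≤ ρ ∧ t * d ≤ r ∧ p * k * ρ ≤ x ^ 2 ∧
      mult (res P (absSq (χ : G → ℂ))) (lnu S 1) = (C).relIndex N + ρ ∧
      ∑ ν ∈ (Finset.univ : Finset (P →* ℂˣ)).erase 1,
          mult (res P (absSq (χ : G → ℂ))) (lnu S ν) ≤
        (C).relIndex N * ((C).relIndex N - 1) + 2 * (C).relIndex N * t ∧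
      weight S (res P (absSq (χ : G → ℂ))) + (C).relIndex N * d ^ 2 + r ^ 2 = x ^ 2 := by
  classical
  haveI := Fintype.ofFinite N
  haveI := Fintype.ofFinite ((N) ⧸ (C).subgroupOf N)
  haveI := Fintype.ofFinite (proj S).ker
  set e := (C).relIndex N with he
  have hprime : (Nat.card P).Prime := hP ▸ (Fact.out : p.Prime)
  have hχc := isCharacter_res (P := P) (irr_isCharacter χ)
  set a := mult (res P (χ : G → ℂ)) with ha
  set dg : Cfsg.IrrCharacter C → ℕ := fun η => Cfsg.charDegree (η : C → ℂ) with hdg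
  have hd1 : ∀ η, 1 ≤ dg η := fun η => Blocks.charDegree_pos η
  have hdk : ∀ η, dg η ^ 2 ≤ k := degree_sq_le S hk hZK
  have hxsum : x = ∑ η, a η * dg η := degree_sum hχc (by simp [res, hx])
  have hacj : ∀ (z : N) η, a (cj S z η) = a η := fun z η =>
    mult_cj S z (irr_isClassFunction χ) η
  have hval : ∀ c : C, (χ : G → ℂ) c = ∑ η, (a η : ℂ) * (η : C → ℂ) c := fun c => expand hχc c
  have hnt : ∃ y : P, y ≠ 1 := by
    haveI : Nontrivial P := Finite.one_lt_card_iff_nontrivial.1 hprime.one_lt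
    exact exists_ne 1
  -- a constituent nontrivial on `P`
  obtain ⟨ξ, hξ0, hξt⟩ : ∃ ξ, a ξ ≠ 0 ∧ ¬ Triv S ξ := by
    by_contra hh
    push Not at hh
    obtain ⟨y, hy⟩ := hnt
    refine hy (Subtype.ext (hfaith y ?_))
    rw [show ((y : G)) = ((incl S y : C) : G) from rfl, hval, ← OneMemClass.coe_one C, hval]
    refine Finset.sum_congr rfl fun η _ => ?_
    by_cases h : a η = 0
    · simp [h]
    · rw [hh η h y]
  obtain ⟨η₀, lam, hη₀, hξ⟩ := exists_core S ξ
  have hlam : lam ≠ 1 := fun h => hξt (hξ ▸ (triv_tm_iff S hη₀ lam).mpr h)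
  set orb : (N) ⧸ (C).subgroupOf N → Cfsg.IrrCharacter C := fun q => cj S q.out ξ with horb
  have hQ : Fintype.card ((N) ⧸ (C).subgroupOf N) = e := by
    rw [← Nat.card_eq_fintype_card]; rfl
  have horb_inj : ∀ {η η' : Cfsg.IrrCharacter C} {ν : P →* ℂˣ}, Triv S η' → ν ≠ 1 →
      η = tm S ν η' → Function.Injective fun q : (N) ⧸ (C).subgroupOf N => cj S q.out η := by
    rintro η η' ν h0 hν rfl q q' h
    simp only [cj_tm] at h
    have h1 := (tm_inj S (triv_cj S _ h0) (triv_cj S _ h0) h).1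
    have h2 := comp_conjP_inj S hprime hν h1
    rw [← QuotientGroup.out_eq' q, ← QuotientGroup.out_eq' q']
    exact QuotientGroup.eq.mpr h2
  set O : Finset (Cfsg.IrrCharacter C) := Finset.univ.image orb with hO
  have hinj : Function.Injective orb := horb_inj hη₀ hlam hξ
  have hcO : O.card = e := by rw [hO, Finset.card_image_of_injective _ hinj, Finset.card_univ, hQ]
  have hOclosed : ∀ (z : N) η, η ∈ O → cj S z η ∈ O := by
    intro z η hη
    obtain ⟨q, -, rfl⟩ := Finset.mem_image.mp hη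
    set w := z * q.out with hw
    refine Finset.mem_image.mpr ⟨(w : (N) ⧸ (C).subgroupOf N), Finset.mem_univ _, ?_⟩
    rw [horb]
    simp only
    have hc : (((w : (N) ⧸ (C).subgroupOf N).out)⁻¹ * w : N) ∈ (C).subgroupOf N :=
      QuotientGroup.eq.mp (QuotientGroup.out_eq' _)
    rw [cj_cj, ← hw]
    conv_rhs => rw [← mul_inv_cancel_left ((w : (N) ⧸ (C).subgroupOf N).out) w, ← cj_cj S,
      cj_of_mem S (Subgroup.mem_subgroupOf.mp hc)]
  have hOnt : ∀ η ∈ O, ¬ Triv S η := by
    intro η hη ht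
    obtain ⟨q, -, rfl⟩ := Finset.mem_image.mp hη
    have h := triv_cj S (q.out)⁻¹ ht
    rw [horb] at h
    simp only [cj_cj, inv_mul_cancel, cj_one] at h
    exact hξt h
  have hOd : ∀ η ∈ O, dg η = dg ξ := by
    intro η hη
    obtain ⟨q, -, rfl⟩ := Finset.mem_image.mp hη
    exact charDegree_cj S _ _
  have hOa : ∀ η ∈ O, a η = a ξ := by
    intro η hη
    obtain ⟨q, -, rfl⟩ := Finset.mem_image.mp hη
    exact hacj _ _
  -- the norm
  set A := ∑ η, a η ^ 2 with hA
  have hxA : x ≤ k * A := by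
    rw [hxsum, hA, Finset.mul_sum]
    refine Finset.sum_le_sum fun η _ => ?_
    rcases Nat.eq_zero_or_pos (a η) with h | h
    · simp [h]
    · calc a η * dg η ≤ a η ^ 2 * k :=
          Nat.mul_le_mul (Nat.le_self_pow two_ne_zero _)
            ((Nat.le_self_pow two_ne_zero _).trans (hdk η))
        _ = k * a η ^ 2 := mul_comm _ _
  have he0 : 0 < e := Nat.pos_of_ne_zero Subgroup.index_ne_zero_of_finite
  have hk0 : 1 ≤ k := le_trans (Nat.one_le_pow _ _ (hd1 ξ)) (hdk ξ)
  have hA2 : A < 2 * e := by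
    by_contra hh
    push Not at hh
    have h1 : x ^ 2 * 2 ≤ (p - 1) * (k * A) := by
      calc x ^ 2 * 2 = (2 * x) * x := by ring
        _ ≤ (p - 1) * (k * A) := Nat.mul_le_mul (by omega) hxA
    have h2 := Nat.mul_le_mul_left (p * k) hh
    have h3 : 0 < k * A := Nat.mul_pos hk0 (by omega)
    have h4 : (p - 1) * (k * A) + k * A = p * (k * A) := by
      rw [← Nat.succ_mul]; congr 1; omega
    linarith
  have hAsplit : A = e * a ξ ^ 2 + ∑ η ∈ Oᶜ, a η ^ 2 := by
    rw [hA, ← Finset.sum_add_sum_compl O, Finset.sum_congr rfl fun η hη => by rw [hOa η hη],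
      Finset.sum_const, hcO, smul_eq_mul]
  have hm : a ξ = 1 := by
    have h1 : 1 ≤ a ξ := Nat.pos_of_ne_zero hξ0
    by_contra hh
    have h2 : 4 ≤ a ξ ^ 2 := by
      have := Nat.pow_le_pow_left (show 2 ≤ a ξ by omega) 2
      simpa using this
    have := Nat.mul_le_mul_left e h2
    omega
  have hrest : ∀ η ∈ Oᶜ, a η ≠ 0 → Triv S η := by
    intro η hη h0
    by_contra hnt'
    obtain ⟨η', ν, h0', hη'⟩ := exists_core S η
    have hν : ν ≠ 1 := fun h => hnt' (hη' ▸ (triv_tm_iff S h0' ν).mpr h)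
    have hi := horb_inj h0' hν hη'
    set O' : Finset (Cfsg.IrrCharacter C) :=
      Finset.univ.image fun q : (N) ⧸ (C).subgroupOf N => cj S q.out η
    have hsub : O' ⊆ Oᶜ := by
      intro ζ hζ
      obtain ⟨q, -, rfl⟩ := Finset.mem_image.mp hζ
      rw [Finset.mem_compl]
      intro hin
      have := hOclosed (q.out)⁻¹ _ hin
      rw [cj_cj, inv_mul_cancel, cj_one] at this
      exact Finset.mem_compl.mp hη this
    have h2 : e ≤ ∑ ζ ∈ Oᶜ, a ζ ^ 2 := by
      calc e = ∑ _ζ ∈ O', 1 := by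
            rw [Finset.sum_const, smul_eq_mul, mul_one, Finset.card_image_of_injective _ hi,
              Finset.card_univ, hQ]
        _ ≤ ∑ ζ ∈ O', a ζ ^ 2 := Finset.sum_le_sum fun ζ hζ => by
            obtain ⟨q, -, rfl⟩ := Finset.mem_image.mp hζ
            rw [hacj]
            exact Nat.one_le_pow _ _ (Nat.pos_of_ne_zero h0)
        _ ≤ _ := Finset.sum_le_sum_of_subset hsub
    rw [hm] at hAsplit
    simp only [one_pow, mul_one] at hAsplit
    omega
  set d := dg ξ with hd
  set r := ∑ η ∈ Oᶜ, a η * dg η with hr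
  set ρ := ∑ η ∈ Oᶜ, a η ^ 2 with hρ
  have hA' : A = e + ρ := by rw [hAsplit, hm]; ring
  have hxd : x = e * d + r := by
    rw [hxsum, ← Finset.sum_add_sum_compl O, Finset.sum_congr rfl fun η hη => by
      rw [hOa η hη, hOd η hη, hm, one_mul], Finset.sum_const, hcO, smul_eq_mul]
  have hdη₀ : dg η₀ = d := by
    rw [hd, hdg]
    simp only
    rw [hξ, charDegree_tm]
  -- values on `P`
  set lq : (N) ⧸ (C).subgroupOf N → (P →* ℂˣ) := fun q => lam.comp (conjP q.out) with hlq
  have horb' : ∀ q, orb q = tm S (lq q) (cj S q.out η₀) := fun q => by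
    rw [horb]; simp only; rw [hξ, cj_tm]
  have hvalP : ∀ y : P, (χ : G → ℂ) y = (d : ℂ) * ∑ q, (lq q y : ℂ) + (r : ℂ) := by
    intro y
    rw [show ((y : G)) = ((incl S y : C) : G) from rfl, hval,
      ← Finset.sum_add_sum_compl O, hO, Finset.sum_image fun a _ b _ h => hinj h, ← hO,
      Finset.mul_sum, hr, Nat.cast_sum]
    refine congrArg₂ (· + ·) (Finset.sum_congr rfl fun q _ => ?_)
      (Finset.sum_congr rfl fun η hη => ?_)
    · rw [hOa _ (Finset.mem_image_of_mem _ (Finset.mem_univ q)), hm, Nat.cast_one, one_mul, horb',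
        tm_incl S (triv_cj S _ hη₀), ← Blocks.charDegree_cast, charDegree_cj]
      show (lq q y : ℂ) * (dg η₀ : ℂ) = _
      rw [hdη₀, mul_comm]
    · rw [Nat.cast_mul]
      by_cases h0 : a η = 0
      · simp [h0]
      · rw [hrest η hη h0 y, ← Blocks.charDegree_cast]
  -- `e` is not one
  have he2 : 2 ≤ e := by
    by_contra hh
    have he1 : e = 1 := by omega
    have hρ0 : ρ = 0 := by omega
    have hr0 : r = 0 := by
      rw [hr]
      refine Finset.sum_eq_zero fun η hη => ?_
      rw [hρ, Finset.sum_eq_zero_iff] at hρ0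
      rw [pow_eq_zero_iff two_ne_zero |>.mp (hρ0 η hη), zero_mul]
    obtain ⟨y, hy⟩ := hnt
    obtain ⟨q₀, hq₀⟩ : ∃ q₀, (Finset.univ : Finset ((N) ⧸ (C).subgroupOf N)) = {q₀} :=
      Finset.card_eq_one.mp (by rw [Finset.card_univ, hQ, he1])
    have hyv : (χ : G → ℂ) y = (x : ℂ) * (lq q₀ y : ℂ) := by
      rw [hvalP, hq₀, Finset.sum_singleton, hxd, he1, hr0]
      simp
    refine hy (Subtype.ext (hcen y y.2 (Subgroup.mem_center_iff.mpr fun g => ?_)))
    obtain ⟨n, σ, hσ, hchar⟩ := χ.2
    have hnorm : ‖σ.character (y : G)‖ = (Module.finrank ℂ (Fin n → ℂ) : ℝ) := by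
      have h1 : (χ : G → ℂ) 1 = ((Module.finrank ℂ (Fin n → ℂ) : ℕ) : ℂ) := by
        rw [← hchar, σ.char_one]
      rw [hx] at h1
      rw [hchar, hyv, norm_mul, Complex.norm_natCast, show x = Module.finrank ℂ (Fin n → ℂ) from
        Nat.cast_injective h1]
      have hp1 : (lq q₀ y : ℂ) ^ p = 1 := by
        rw [← Units.val_pow_eq_pow_val, ← map_pow, ← hP, pow_card_eq_one', map_one, Units.val_one]
      rw [Complex.norm_eq_one_of_pow_eq_one hp1 (Fact.out : p.Prime).ne_zero, mul_one]
    obtain ⟨w, hw⟩ := rep_apply_eq_smul_of_norm_eq σ (y : G) hnorm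
    have hcomm : ∀ h : G, σ h * σ (y : G) = σ (y : G) * σ h := fun h => by
      simp [hw, Module.End.mul_eq_comp]
    refine (?_ : g * (y : G) * g⁻¹ * (y : G)⁻¹ = 1) |> fun h => by
      calc g * (y : G) = (g * y * g⁻¹ * (y : G)⁻¹) * (y * g) := by group
        _ = y * g := by rw [h, one_mul]
    refine hfaith _ ?_
    rw [← hchar]
    have hone : σ (g * (y : G) * g⁻¹ * (y : G)⁻¹) = 1 := by
      rw [map_mul, map_mul, map_mul, hcomm g, mul_assoc (σ (y : G)), ← map_mul, mul_inv_cancel,
        map_one, mul_one, ← map_mul, mul_inv_cancel, map_one]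
    simp only [Representation.character, hone, map_one]
  -- central values
  have hμ : ∀ (z : Subgroup.center G), ∀ μ : ℂ, (∀ g, (χ : G → ℂ) (g * z) = μ * (χ : G → ℂ) g) →
      ∀ η, a η ≠ 0 → ∀ c : C, (η : C → ℂ) (c * zC P z) = μ * (η : C → ℂ) c := by
    intro z μ hμ η hη
    have hzc : zC P z ∈ Subgroup.center C := by
      have := incl_mul_zC_center S 1 z
      simpa using this
    choose μ' hμ'1 hμ' using fun ζ : Cfsg.IrrCharacter C => Blocks.exists_central_scalar ζ hzc
    have heq : (∑ ζ : Cfsg.IrrCharacter C, ((a ζ : ℂ) * μ' ζ) • (ζ : C → ℂ)) =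
        ∑ ζ : Cfsg.IrrCharacter C, ((a ζ : ℂ) * μ) • (ζ : C → ℂ) := by
      funext c
      simp only [Finset.sum_apply, Pi.smul_apply, smul_eq_mul]
      have h1 := hval (c * zC P z)
      rw [Subgroup.coe_mul, show ((zC P z : C) : G) = (z : G) from rfl, hμ, hval,
        Finset.mul_sum] at h1
      rw [Finset.sum_congr rfl fun ζ _ => (show (a ζ : ℂ) * μ' ζ * (ζ : C → ℂ) c =
        (a ζ : ℂ) * (ζ : C → ℂ) (c * zC P z) by rw [hμ' ζ]; ring), ← h1]
      exact Finset.sum_congr rfl fun ζ _ => by ring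
    have h2 := congrArg (fun F => Cfsg.classInner F (η : C → ℂ)) heq
    simp only [classInner_sum_smul_irr, Finset.mem_univ, if_true] at h2
    intro c
    rw [hμ' η c, mul_left_cancel₀ (Nat.cast_ne_zero.mpr hη) h2]
  choose μ hμ1 hμv using fun z : Subgroup.center G => Blocks.exists_central_scalar χ z.2
  set fR : Cfsg.IrrCharacter C → ℕ := fun η => if η ∈ O then 0 else a η with hfR
  have hfR1 : ∀ η, fR η ≠ 0 → η ∈ Oᶜ ∧ a η ≠ 0 := fun η h => by
    rw [hfR] at h
    simp only at h
    split_ifs at h with h'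
    · exact absurd rfl h
    · exact ⟨Finset.mem_compl.mpr h', h⟩
  have hr2 : r ^ 2 ≤ ρ * k := by
    have h := norm_lower S hk hZK fR (fun _ z => μ z) (fun _ z => hμ1 z) (fun η hη y z => by
      obtain ⟨h1, h2⟩ := hfR1 η hη
      rw [hμ z _ (hμv z) η h2, hrest η h1 h2 y])
    rw [show ∑ η, fR η * dg η = r from ?_, show ∑ η, fR η ^ 2 = ρ from ?_] at h
    · rw [mul_comm]; exact h
    · rw [hρ, ← Finset.sum_add_sum_compl O, Finset.sum_eq_zero (s := O) fun η hη => by
        simp [hfR, hη], zero_add]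
      exact Finset.sum_congr rfl fun η hη => by simp [hfR, Finset.mem_compl.mp hη]
    · rw [hr, ← Finset.sum_add_sum_compl O, Finset.sum_eq_zero (s := O) fun η hη => by
        simp [hfR, hη], zero_add]
      exact Finset.sum_congr rfl fun η hη => by simp [hfR, Finset.mem_compl.mp hη]
  set t := a η₀ with ht
  have hη₀O : η₀ ∈ Oᶜ := Finset.mem_compl.mpr fun h => hOnt _ h hη₀
  -- the multiplicities in `χ χ̄`
  have hΨ : ∀ ν : P →* ℂˣ, mult (res P (absSq (χ : G → ℂ))) (lnu S ν) =
      ∑ η, a η * a (tm S ν η) := by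
    intro ν
    apply Nat.cast_injective (R := ℂ)
    rw [← mult_eq (isCharacter_res (isCharacter_absSq (irr_isCharacter χ))), Nat.cast_sum]
    have hprod : Cfsg.classInner (res P (absSq (χ : G → ℂ))) (lnu S ν : C → ℂ) =
        Cfsg.classInner (res P (χ : G → ℂ))
          (∑ η : Cfsg.IrrCharacter C, (a η : ℂ) • (tm S ν η : C → ℂ)) := by
      rw [classInner_def, classInner_def]
      congr 1
      refine Finset.sum_congr rfl fun c _ => ?_
      rw [lnu_apply, Finset.sum_apply]
      simp only [Pi.smul_apply, smul_eq_mul, tm_apply, res, absSq]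
      rw [Finset.sum_congr rfl (g := fun η : Cfsg.IrrCharacter C =>
        (ν (proj S c) : ℂ) * ((a η : ℂ) * (η : C → ℂ) c)) fun η _ => by ring, ← Finset.mul_sum,
        ← hval, map_mul]
      ring
    rw [hprod, classInner_sum_right]
    refine Finset.sum_congr rfl fun η _ => ?_
    rw [classInner_smul_right, mult_eq hχc, Complex.conj_natCast, Nat.cast_mul]
  have hinv1 : ∀ ν : P →* ℂˣ, ν⁻¹ * ν = 1 := fun ν => MonoidHom.ext fun y => by simp
  have hinv2 : ∀ ν : P →* ℂˣ, ν * ν⁻¹ = 1 := fun ν => MonoidHom.ext fun y => by simp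
  have hinv3 : ∀ ν : P →* ℂˣ, ν ≠ 1 → ν⁻¹ ≠ 1 := fun ν hν h => hν (MonoidHom.ext fun y => by
    simpa using DFunLike.congr_fun h y)
  refine ⟨d, r, ρ, t, he2, hd1 ξ, hxd, hdk ξ, hr2, ?_, ?_, ?_, ?_, ?_, ?_⟩
  · rw [hρ]
    exact Finset.single_le_sum (f := fun η => a η ^ 2) (fun _ _ => Nat.zero_le _) hη₀O
  · rw [hr, ← hdη₀]
    exact Finset.single_le_sum (f := fun η => a η * dg η) (fun _ _ => Nat.zero_le _) hη₀O
  · rw [hA', mul_add, mul_comm e (p * k)] at hTI
    omega
  · rw [hΨ, ← hA', hA]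
    exact Finset.sum_congr rfl fun η _ => by rw [tm_one, sq]
  · set E := (Finset.univ : Finset (P →* ℂˣ)).erase 1 with hE
    set o : Cfsg.IrrCharacter C → ℕ := fun η => if η ∈ O then 1 else 0 with ho
    have hao : ∀ η, a η = o η + fR η := fun η => by
      rw [ho, hfR]
      simp only
      split_ifs with h
      · rw [hOa η h, hm]
      · rw [zero_add]
    have hswap : ∀ f g : Cfsg.IrrCharacter C → ℕ,
        ∑ ν ∈ E, ∑ η, f η * g (tm S ν η) = ∑ ν ∈ E, ∑ η, g η * f (tm S ν η) := by
      intro f g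
      refine Finset.sum_nbij' (fun ν => ν⁻¹) (fun ν => ν⁻¹) ?_ ?_ (fun ν _ => inv_inv ν)
        (fun ν _ => inv_inv ν) fun ν _ => ?_
      · intro ν hν
        exact Finset.mem_erase.mpr ⟨hinv3 ν (Finset.mem_erase.mp hν).1, Finset.mem_univ _⟩
      · intro ν hν
        exact Finset.mem_erase.mpr ⟨hinv3 ν (Finset.mem_erase.mp hν).1, Finset.mem_univ _⟩
      · refine Fintype.sum_equiv
          ⟨tm S ν, tm S ν⁻¹, fun η => by rw [tm_tm, hinv1, tm_one],
            fun η => by rw [tm_tm, hinv2, tm_one]⟩ _ _ fun η => ?_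
        show f η * g (tm S ν η) = g (tm S ν η) * f (tm S ν⁻¹ (tm S ν η))
        rw [tm_tm, hinv1, tm_one, mul_comm]
    have hoo : ∑ ν ∈ E, ∑ η, o η * o (tm S ν η) ≤ e * (e - 1) := by
      rw [Finset.sum_comm]
      calc ∑ η, ∑ ν ∈ E, o η * o (tm S ν η) = ∑ η ∈ O, ∑ ν ∈ E, o (tm S ν η) := by
            rw [← Finset.sum_add_sum_compl O, Finset.sum_eq_zero (s := Oᶜ) fun η hη => by
              simp [ho, Finset.mem_compl.mp hη], add_zero]
            exact Finset.sum_congr rfl fun η hη => by simp [ho, hη]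
        _ ≤ ∑ _η ∈ O, (e - 1) := Finset.sum_le_sum fun η hη => by
            simp only [ho]
            rw [Finset.sum_boole, Nat.cast_id]
            have hc : (O.erase η).card = e - 1 := by rw [Finset.card_erase_of_mem hη, hcO]
            rw [← hc]
            obtain ⟨η', μ', h0', hη'⟩ := exists_core S η
            refine Finset.card_le_card_of_injOn (fun ν => tm S ν η) (fun ν hν => ?_) ?_
            · rw [Finset.mem_coe, Finset.mem_filter] at hν
              refine Finset.mem_erase.mpr ⟨fun h => (Finset.mem_erase.mp hν.1).1 ?_, hν.2⟩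
              simp only [hη', tm_tm] at h
              exact mul_right_cancel ((tm_inj S h0' h0' h).1.trans (one_mul μ').symm)
            · intro ν _ ν' _ h
              simp only [hη', tm_tm] at h
              exact mul_right_cancel (tm_inj S h0' h0' h).1
        _ = e * (e - 1) := by rw [Finset.sum_const, hcO, smul_eq_mul]
    have hoa : ∑ ν ∈ E, ∑ η, o η * fR (tm S ν η) ≤ e * t := by
      rw [Finset.sum_comm]
      calc ∑ η, ∑ ν ∈ E, o η * fR (tm S ν η) = ∑ η ∈ O, ∑ ν ∈ E, fR (tm S ν η) := by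
            rw [← Finset.sum_add_sum_compl O, Finset.sum_eq_zero (s := Oᶜ) fun η hη => by
              simp [ho, Finset.mem_compl.mp hη], add_zero]
            exact Finset.sum_congr rfl fun η hη => by simp [ho, hη]
        _ ≤ ∑ _η ∈ O, t := Finset.sum_le_sum fun η hη => by
            obtain ⟨q, -, rfl⟩ := Finset.mem_image.mp hη
            have hlq1 : lq q ≠ 1 := fun h => hOnt _ hη (by
              rw [horb', h, tm_one]; exact triv_cj S _ hη₀)
            rw [Finset.sum_eq_single_of_mem (lq q)⁻¹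
              (Finset.mem_erase.mpr ⟨hinv3 _ hlq1, Finset.mem_univ _⟩)]
            · rw [horb', tm_tm, hinv1, tm_one, ht, ← hacj q.out η₀, hfR]
              simp only
              split_ifs
              · exact Nat.zero_le _
              · exact le_rfl
            · intro ν _ hν
              by_contra h0
              obtain ⟨h1, h2⟩ := hfR1 _ h0
              have h3 := hrest _ h1 h2
              rw [horb', tm_tm, triv_tm_iff S (triv_cj S _ hη₀)] at h3
              exact hν (by
                refine MonoidHom.ext fun y => ?_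
                rw [MonoidHom.inv_apply]
                exact eq_inv_of_mul_eq_one_left (DFunLike.congr_fun h3 y))
        _ = e * t := by rw [Finset.sum_const, hcO, smul_eq_mul]
    have haa : ∑ ν ∈ E, ∑ η, fR η * fR (tm S ν η) = 0 := by
      refine Finset.sum_eq_zero fun ν hν => Finset.sum_eq_zero fun η _ => ?_
      by_contra h
      obtain ⟨h1, h2⟩ := hfR1 _ (left_ne_zero_of_mul h)
      obtain ⟨h3, h4⟩ := hfR1 _ (right_ne_zero_of_mul h)
      exact (Finset.mem_erase.mp hν).1 ((triv_tm_iff S (hrest _ h1 h2) ν).mp (hrest _ h3 h4))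
    calc ∑ ν ∈ E, mult (res P (absSq (χ : G → ℂ))) (lnu S ν)
        = ∑ ν ∈ E, ∑ η, o η * o (tm S ν η) + ∑ ν ∈ E, ∑ η, o η * fR (tm S ν η) +
          ∑ ν ∈ E, ∑ η, fR η * o (tm S ν η) + ∑ ν ∈ E, ∑ η, fR η * fR (tm S ν η) := by
          simp only [hΨ, ← Finset.sum_add_distrib]
          refine Finset.sum_congr rfl fun ν _ => Finset.sum_congr rfl fun η _ => ?_
          rw [hao η, hao (tm S ν η)]; ring
      _ ≤ _ := by
          rw [hswap fR o, haa]
          linarith
  · -- the weight
    have horth : ∀ ν : P →* ℂˣ, ν ≠ 1 → ∑ y : P, (ν y : ℂ) = 0 := fun ν hν => by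
      simpa using sum_linear_orth (ν := (1 : P →* ℂˣ)) hν
    have hlne : ∀ q, lq q ≠ 1 := fun q h => hOnt _ (Finset.mem_image_of_mem orb (Finset.mem_univ q))
      (by rw [horb', h, tm_one]; exact triv_cj S _ hη₀)
    have hlinj : ∀ q q', lq q = lq q' → q = q' := fun q q' h => by
      rw [← QuotientGroup.out_eq' q, ← QuotientGroup.out_eq' q']
      exact QuotientGroup.eq.mpr (comp_conjP_inj S hprime hlam h)
    have hsumP : ∑ y : P, absSq (χ : G → ℂ) y = (p : ℂ) * ((e * d ^ 2 + r ^ 2 : ℕ) : ℂ) := by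
      have hexp : ∀ y : P, absSq (χ : G → ℂ) y =
          (d : ℂ) ^ 2 * (∑ q, ∑ q', (lq q y : ℂ) * conj (lq q' y : ℂ)) +
            ((d : ℂ) * r) * (∑ q, (lq q y : ℂ)) + ((d : ℂ) * r) * conj (∑ q, (lq q y : ℂ)) +
            (r : ℂ) ^ 2 := by
        intro y
        rw [absSq, hvalP, map_add, map_mul, Complex.conj_natCast, Complex.conj_natCast,
          ← Finset.sum_mul_sum, ← map_sum]
        ring
      rw [Finset.sum_congr rfl fun y _ => hexp y, Finset.sum_add_distrib, Finset.sum_add_distrib,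
        Finset.sum_add_distrib, ← Finset.mul_sum, ← Finset.mul_sum, ← Finset.mul_sum, ← map_sum,
        Finset.sum_const, Finset.card_univ, ← Nat.card_eq_fintype_card, hP, nsmul_eq_mul]
      have h1 : ∑ y : P, ∑ q, (lq q y : ℂ) = 0 := by
        rw [Finset.sum_comm]; exact Finset.sum_eq_zero fun q _ => horth _ (hlne q)
      have h2 : ∑ y : P, ∑ q, ∑ q', (lq q y : ℂ) * conj (lq q' y : ℂ) = (p : ℂ) * e := by
        rw [Finset.sum_comm]
        rw [Finset.sum_congr rfl (g := fun _ => (p : ℂ)) fun q _ => ?_, Finset.sum_const,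
          Finset.card_univ, hQ, nsmul_eq_mul, mul_comm]
        rw [Finset.sum_comm, Finset.sum_eq_single q]
        · rw [Finset.sum_congr rfl (g := fun _ => (1 : ℂ)) fun y _ => ?_, Finset.sum_const,
            Finset.card_univ, ← Nat.card_eq_fintype_card, hP, nsmul_one]
          rw [Complex.mul_conj, Complex.normSq_eq_norm_sq]
          have hp1 : (lq q y : ℂ) ^ p = 1 := by
            rw [← Units.val_pow_eq_pow_val, ← map_pow, ← hP, pow_card_eq_one', map_one,
              Units.val_one]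
          rw [Complex.norm_eq_one_of_pow_eq_one hp1 (Fact.out : p.Prime).ne_zero]
          simp
        · intro q' _ hq'
          exact sum_linear_orth fun h => hq' (hlinj _ _ h).symm
        · simp
      rw [h1, h2, map_zero]
      push_cast
      ring
    have h := sum_P S (isCharacter_res (P := P) (isCharacter_absSq (irr_isCharacter χ)))
    rw [show (∑ y : P, res P (absSq (χ : G → ℂ)) (incl S y)) = ∑ y : P, absSq (χ : G → ℂ) y
      from rfl, hsumP, hP] at h
    have h1 : res P (absSq (χ : G → ℂ)) 1 = ((x ^ 2 : ℕ) : ℂ) := by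
      simp [res, absSq, hx, sq]
    rw [h1, ← mul_add, ← Nat.cast_add] at h
    have h2 := mul_left_cancel₀ (Nat.cast_ne_zero.mpr (Fact.out : p.Prime).ne_zero) h
    have h3 : e * d ^ 2 + r ^ 2 + weight S (res P (absSq (χ : G → ℂ))) = x ^ 2 := by
      exact_mod_cast h2
    omega

end Cfsg.Agent.BlockCharsA.FeitThompson
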