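import Mathlib
import Cfsg.Agent.BlockCharsA.FTRestrict

/-!
The norm bound from the trivial intersection set `C(P) - Z(G)`.
-/

set_option autoImplicit false
set_option linter.style.haveILetI false
set_option linter.unusedSectionVars false

namespace Cfsg.Agent.BlockCharsA.FeitThompson

open Cfsg.Agent.Characters Cfsg.Agent.CharTheory
open Cfsg.Agent.BlockCharsA.CentralizerStar
open scoped ComplexConjugate

universe u

variable {G : Type u} [Group G] [Fintype G] {P : Subgroup G} {j : ℕ}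

local notation "C" => Subgroup.centralizer (P : Set G)
local notation "N" => Subgroup.normalizer (P : Set G)

theorem ti_bound (S : Setting P j) [Fintype (Subgroup.centralizer (P : Set G))]
    [Fintype (Cfsg.IrrCharacter (Subgroup.centralizer (P : Set G)))] {k : ℕ}
    (hk : Nat.card (proj S).ker = k * Nat.card (Subgroup.center G))
    (hTI : ∀ (c : C) (x : G), (c : G) ∉ Subgroup.center G → x⁻¹ * (c : G) * x ∈ C → x ∈ N)
    (ω : Cfsg.IrrCharacter G) {n : ℕ} (hn : (ω : G → ℂ) 1 = (n : ℂ)) :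
    Nat.card P * k * ∑ η, mult (res P (ω : G → ℂ)) η ^ 2 ≤
      (C).relIndex N * (Nat.card P * k) + n ^ 2 := by
  classical
  haveI := Fintype.ofFinite N
  set D := (Finset.univ : Finset C).filter fun c : C => (c : G) ∉ Subgroup.center G with hD
  have hfib : ∀ g : G, ((Finset.univ ×ˢ D).filter
      fun q : G × C => q.1 * (q.2 : G) * q.1⁻¹ = g).card ≤ Nat.card N := by
    intro g
    rcases ((Finset.univ ×ˢ D).filter
      fun q : G × C => q.1 * (q.2 : G) * q.1⁻¹ = g).eq_empty_or_nonempty with h | ⟨q₀, hq₀⟩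
    · simp [h]
    rw [Finset.mem_filter, Finset.mem_product, hD, Finset.mem_filter] at hq₀
    have key : ∀ q ∈ (Finset.univ ×ˢ D).filter
        (fun q : G × C => q.1 * (q.2 : G) * q.1⁻¹ = g), q₀.1⁻¹ * q.1 ∈ N := by
      intro q hq
      rw [Finset.mem_filter] at hq
      have hqe : (q₀.1⁻¹ * q.1)⁻¹ * (q₀.2 : G) * (q₀.1⁻¹ * q.1) = (q.2 : G) := by
        calc (q₀.1⁻¹ * q.1)⁻¹ * (q₀.2 : G) * (q₀.1⁻¹ * q.1)
            = q.1⁻¹ * (q₀.1 * (q₀.2 : G) * q₀.1⁻¹) * q.1 := by group
          _ = q.1⁻¹ * (q.1 * (q.2 : G) * q.1⁻¹) * q.1 := by rw [hq₀.2, hq.2]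
          _ = _ := by group
      exact hTI q₀.2 _ hq₀.1.2.2 (hqe ▸ q.2.2)
    rw [Nat.card_eq_fintype_card, ← Finset.card_univ, ← Finset.card_attach]
    refine Finset.card_le_card_of_injOn (fun q => (⟨_, key q.1 q.2⟩ : N))
      (fun _ _ => Finset.mem_coe.mpr (Finset.mem_univ _)) ?_
    rintro ⟨q, hq⟩ _ ⟨q', hq'⟩ _ h
    have h' : q.1 = q'.1 := by simpa using congrArg Subtype.val h
    rw [Finset.mem_filter] at hq hq'
    refine Subtype.ext (Prod.ext h' (Subtype.ext ?_))
    have := hq.2.trans hq'.2.symm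
    rw [h'] at this
    simpa using this
  have hnormG : ∑ g : G, ‖(ω : G → ℂ) g‖ ^ 2 = (Nat.card G : ℝ) := by
    have h := classInner_isIrr_self ω.2
    rw [classInner_def, inv_mul_eq_iff_eq_mul₀ natCard_ne_zero, mul_one] at h
    simp only [Complex.mul_conj'] at h
    exact_mod_cast h
  have hsum : (Nat.card G : ℝ) * ∑ c ∈ D, ‖(ω : G → ℂ) c‖ ^ 2 ≤
      (Nat.card N : ℝ) * ∑ g : G, ‖(ω : G → ℂ) g‖ ^ 2 := by
    calc (Nat.card G : ℝ) * ∑ c ∈ D, ‖(ω : G → ℂ) c‖ ^ 2
        = ∑ q ∈ (Finset.univ : Finset G) ×ˢ D, ‖(ω : G → ℂ) (q.1 * (q.2 : G) * q.1⁻¹)‖ ^ 2 := by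
          rw [Finset.sum_product, Nat.card_eq_fintype_card, ← Finset.card_univ,
            ← nsmul_eq_mul, ← Finset.sum_const]
          exact Finset.sum_congr rfl fun g _ => Finset.sum_congr rfl fun c _ => by
            rw [irr_isClassFunction ω]
      _ = ∑ g : G, ∑ q ∈ ((Finset.univ : Finset G) ×ˢ D).filter
            (fun q : G × C => q.1 * (q.2 : G) * q.1⁻¹ = g), ‖(ω : G → ℂ) g‖ ^ 2 := by
          rw [← Finset.sum_fiberwise ((Finset.univ : Finset G) ×ˢ D)
            (fun q : G × C => q.1 * (q.2 : G) * q.1⁻¹)]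
          exact Finset.sum_congr rfl fun g _ => Finset.sum_congr rfl fun q hq => by
            rw [(Finset.mem_filter.mp hq).2]
      _ ≤ ∑ g : G, (Nat.card N : ℝ) * ‖(ω : G → ℂ) g‖ ^ 2 :=
          Finset.sum_le_sum fun g _ => by
            rw [Finset.sum_const, nsmul_eq_mul]
            exact mul_le_mul_of_nonneg_right (Nat.cast_le.mpr (hfib g)) (sq_nonneg _)
      _ = _ := by rw [Finset.mul_sum]
  rw [hnormG, mul_comm (Nat.card N : ℝ)] at hsum
  have hTI' : ∑ c ∈ D, ‖(ω : G → ℂ) c‖ ^ 2 ≤ (Nat.card N : ℝ) :=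
    le_of_mul_le_mul_left hsum (Nat.cast_pos.mpr Nat.card_pos)
  have hZ : ∑ c ∈ (Finset.univ : Finset C).filter (fun c : C => ¬ (c : G) ∉ Subgroup.center G),
      ‖(ω : G → ℂ) c‖ ^ 2 ≤ (Nat.card (Subgroup.center G) : ℝ) * (n : ℝ) ^ 2 := by
    refine (Finset.sum_le_card_nsmul _ _ ((n : ℝ) ^ 2) fun c _ => pow_le_pow_left₀ (norm_nonneg _) ?_ 2).trans ?_
    · have := char_norm_le (irr_isCharacter ω) (c : G)
      rwa [hn, Complex.norm_natCast] at this
    · rw [nsmul_eq_mul]
      refine mul_le_mul_of_nonneg_right (Nat.cast_le.mpr ?_) (sq_nonneg _)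
      haveI := Fintype.ofFinite (Subgroup.center G)
      rw [Nat.card_eq_fintype_card, ← Finset.card_univ, ← Finset.card_attach]
      refine Finset.card_le_card_of_injOn (fun c =>
        (⟨((c.1 : C) : G), not_not.mp (Finset.mem_filter.mp c.2).2⟩ : Subgroup.center G))
        (fun _ _ => Finset.mem_coe.mpr (Finset.mem_univ _)) ?_
      intro a _ b _ h
      exact Subtype.ext (Subtype.ext (congrArg Subtype.val h :))
  have hF : Cfsg.IsCharacter C (res P (ω : G → ℂ)) := isCharacter_res (irr_isCharacter ω)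
  have hall : ∑ c : C, ‖(ω : G → ℂ) c‖ ^ 2 =
      (Nat.card C : ℝ) * ((∑ η, mult (res P (ω : G → ℂ)) η ^ 2 : ℕ) : ℝ) := by
    have h := inner_eq_sum hF hF
    rw [classInner_def, inv_mul_eq_iff_eq_mul₀ natCard_ne_zero] at h
    simp only [Complex.mul_conj', res] at h
    simp only [sq (mult _ _)]
    exact_mod_cast h
  rw [← Finset.sum_filter_add_sum_filter_not _ (fun c : C => (c : G) ∉ Subgroup.center G),
    ← hD] at hall
  have hcN := card_normalizer P
  have hcC := card_split S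
  rw [hk] at hcC
  have h : Nat.card C * ∑ η, mult (res P (ω : G → ℂ)) η ^ 2 ≤
      Nat.card N + Nat.card (Subgroup.center G) * n ^ 2 := by
    rw [← Nat.cast_le (α := ℝ)]
    push_cast
    push_cast at hall
    linarith
  rw [hcN, hcC] at h
  refine Nat.le_of_mul_le_mul_left ?_ (Nat.card_pos (α := Subgroup.center G))
  linarith

end Cfsg.Agent.BlockCharsA.FeitThompson
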