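import Mathlib
import Cfsg.Agent.BlockCharsA.FTArith
import Cfsg.Agent.BlockCharsA.FTRestrict

/-!
The constituents of `χ χ̄` against the degree bound: no faithful irreducible character of degree
below `(p - 1) / 2` exists in the minimal configuration.
-/

set_option autoImplicit false
set_option linter.style.haveILetI false
set_option linter.unusedSectionVars false

namespace Cfsg.Agent.BlockCharsA.FeitThompson

open Cfsg.Agent.Characters Cfsg.Agent.CharTheory
open Cfsg.Agent.BlockCharsA.CentralizerStar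
open scoped ComplexConjugate

universe u

variable {G : Type u} [Group G] [Fintype G] {p : ℕ} [Fact p.Prime] {P : Sylow p G} {j : ℕ}

local notation "C" => Subgroup.centralizer ((P : Subgroup G) : Set G)
local notation "N" => Subgroup.normalizer ((P : Subgroup G) : Set G)

variable (S : Setting (P : Subgroup G) j)
variable [Fintype (Subgroup.centralizer ((P : Subgroup G) : Set G))]
  [Fintype (Cfsg.IrrCharacter (Subgroup.centralizer ((P : Subgroup G) : Set G)))]
  [Fintype (P : Subgroup G)] [Fintype ((P : Subgroup G) →* ℂˣ)]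
  [DecidableEq ((P : Subgroup G) →* ℂˣ)]
include S

theorem constituent_bound (hP : Nat.card (P : Subgroup G) = p) (hodd : p ≠ 2) {k : ℕ} {Φ : ℕ}
    (hΦ : ∀ Φ' : ℕ, 2 * k ≤ 3 * Φ' ^ 2 → Φ ≤ Φ') (hΦ1 : 1 ≤ Φ)
    (he : 2 * (C).relIndex N + 1 ≤ p) (he3 : 3 * (C).relIndex N + 1 ≤ p)
    {ω : Cfsg.IrrCharacter G} (hker : ∃ y : (P : Subgroup G), (ω : G → ℂ) y ≠ (ω : G → ℂ) 1)
    {n : ℕ} (hn : (ω : G → ℂ) 1 = (n : ℂ))
    (hTI : p * k * ∑ η, mult (res (P : Subgroup G) (ω : G → ℂ)) η ^ 2 ≤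
      (C).relIndex N * (p * k) + n ^ 2) :
    Φ * (p - 1) * mult (res (P : Subgroup G) (ω : G → ℂ)) (lnu S 1) ≤
      (2 * Φ - 1) * (∑ ν ∈ (Finset.univ : Finset ((P : Subgroup G) →* ℂˣ)).erase 1,
          mult (res (P : Subgroup G) (ω : G → ℂ)) (lnu S ν)) +
        weight S (res (P : Subgroup G) (ω : G → ℂ)) := by
  classical
  haveI := Fintype.ofFinite (proj S).ker
  set F := res (P : Subgroup G) (ω : G → ℂ) with hFdef
  have hF : Cfsg.IsCharacter C F := isCharacter_res (irr_isCharacter ω)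
  set e := (C).relIndex N with hedef
  set M := mult F (lnu S 1) with hM
  set S1 := ∑ ν ∈ (Finset.univ : Finset ((P : Subgroup G) →* ℂˣ)).erase 1, mult F (lnu S ν) with hS1
  set W := weight S F with hW
  have hS1W : S1 ≤ W := sum_lnu_le S F
  have hp2 : 2 ≤ p := (Fact.out : p.Prime).two_le
  obtain ⟨σ, hσ, hcase⟩ := section_sum S hP hodd ω
  have hid : (p : ℤ) * M = (M : ℤ) + S1 + σ := by
    have h1 := sum_all S hF
    rw [sum_split S, ← Finset.add_sum_erase _ _ (Finset.mem_univ (1 : (P : Subgroup G))),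
      card_split S, hP] at h1
    simp only [map_one, one_mul] at h1
    rw [sum_ker S hF, ← Finset.add_sum_erase _ _ (Finset.mem_univ (1 : (P : Subgroup G) →* ℂˣ)),
      show ∑ y ∈ (Finset.univ : Finset (P : Subgroup G)).erase 1,
        ∑ k : (proj S).ker, F (incl S y * k) = (Nat.card (proj S).ker : ℂ) * (σ : ℂ) from hσ] at h1
    have h2 : (Nat.card (proj S).ker : ℂ) * (((M : ℤ) + S1 + σ : ℤ) : ℂ) =
        (Nat.card (proj S).ker : ℂ) * (((p : ℤ) * M : ℤ) : ℂ) := by
      push_cast at h1 ⊢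
      rw [← hM] at h1
      rw [hS1]
      push_cast
      linear_combination h1
    exact_mod_cast (mul_left_cancel₀ natCard_ne_zero h2).symm
  rcases Nat.eq_zero_or_pos M with hM0 | hM0
  · simp [hM0]
  have hgood : (p - 1) * M ≤ 2 * S1 →
      Φ * (p - 1) * M ≤ (2 * Φ - 1) * S1 + W := by
    intro h
    obtain ⟨Ψ, rfl⟩ : ∃ Ψ, Φ = Ψ + 1 := ⟨Φ - 1, by omega⟩
    have h1 := Nat.mul_le_mul_left (Ψ + 1) h
    rw [show 2 * (Ψ + 1) - 1 = 2 * Ψ + 1 by omega]
    linarith
  have hgood' : 2 * σ ≤ ((p : ℤ) - 1) * M → (p - 1) * M ≤ 2 * S1 := by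
    intro h
    zify [show 1 ≤ p by omega]
    linarith
  have hMZ : (1 : ℤ) ≤ M := by exact_mod_cast hM0
  have hpZ : (2 : ℤ) ≤ p := by exact_mod_cast hp2
  rcases hcase with hle | ⟨hσp, hval⟩
  · refine hgood (hgood' ?_)
    have h1 : ((p : ℤ) - 1) * 1 ≤ ((p : ℤ) - 1) * M :=
      mul_le_mul_of_nonneg_left hMZ (by linarith)
    have h2 : 2 * (e : ℤ) + 1 ≤ p := by exact_mod_cast he
    linarith
  rcases Nat.lt_or_ge M 2 with hM1 | hM2
  swap
  · refine hgood (hgood' ?_)
    have hM2' : (2 : ℤ) ≤ M := by exact_mod_cast hM2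
    have h1 : ((p : ℤ) - 1) * 2 ≤ ((p : ℤ) - 1) * M :=
      mul_le_mul_of_nonneg_left hM2' (by linarith)
    rw [hσp]
    linarith
  -- the character is one off `K`
  have hMone : M = 1 := by omega
  have hS0 : S1 = 0 := by
    rw [hMone, hσp] at hid
    push_cast at hid
    omega
  have hone : ∀ c : C, proj S c ≠ 1 → F c = 1 := by
    intro c hc
    have h := hval (proj S c) hc ⟨(incl S (proj S c))⁻¹ * c, by
      rw [MonoidHom.mem_ker, map_mul, map_inv, proj_incl, inv_mul_cancel]⟩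
    simpa [mul_inv_cancel_left, hFdef, res] using h
  have hn0 : 1 ≤ n := by
    obtain ⟨d, hd0, hd⟩ := irr_one_pos ω.2
    rw [hn] at hd
    have : n = d := Nat.cast_injective hd
    omega
  have hWp : p * W = (p - 1) * (n - 1) := by
    have h := sum_P S hF
    rw [← Finset.add_sum_erase _ _ (Finset.mem_univ (1 : (P : Subgroup G))), map_one,
      Finset.sum_congr rfl (g := fun _ => (1 : ℂ)) (fun y hy => hone _ (by
        rw [proj_incl]; exact (Finset.mem_erase.mp hy).1)), Finset.sum_const, nsmul_one,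
      Finset.card_erase_of_mem (Finset.mem_univ _), Finset.card_univ, ← Nat.card_eq_fintype_card,
      hP, show F 1 = (n : ℂ) by simp [hFdef, res, hn]] at h
    have h2 : n + (p - 1) + p * W = p * n := by exact_mod_cast h
    obtain ⟨q, rfl⟩ : ∃ q, p = q + 1 := ⟨p - 1, by omega⟩
    obtain ⟨m, rfl⟩ : ∃ m, n = m + 1 := ⟨n - 1, by omega⟩
    simp only [Nat.add_sub_cancel] at h2 ⊢
    linarith
  obtain ⟨Φ', hΦ'⟩ : p ∣ n - 1 := by
    refine (Nat.Coprime.dvd_of_dvd_mul_left ?_ ⟨W, hWp.symm⟩)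
    exact ((Fact.out : p.Prime).coprime_iff_not_dvd).mpr fun h => by
      have := Nat.le_of_dvd (by omega) h
      omega
  have hWΦ : W = (p - 1) * Φ' := by
    refine Nat.eq_of_mul_eq_mul_left (show 0 < p by omega) ?_
    rw [hWp, hΦ']; ring
  rw [hMone, hS0, mul_zero, zero_add, mul_one, hWΦ, mul_comm Φ]
  refine Nat.mul_le_mul_left _ (hΦ Φ' ?_)
  -- at least `p + 1` constituents
  have hinv : ∀ (ν : (P : Subgroup G) →* ℂˣ) (η : Cfsg.IrrCharacter C),
      tm S ν η ≠ lnu S 1 → η ≠ lnu S 1 → mult F (tm S ν η) = mult F η := by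
    intro ν η h1 h2
    apply Nat.cast_injective (R := ℂ)
    rw [← mult_eq hF, ← mult_eq hF]
    have e1 : ∀ ζ : Cfsg.IrrCharacter C, ζ ≠ lnu S 1 → Cfsg.classInner F (ζ : C → ℂ) =
        Cfsg.classInner (F - (lnu S 1 : C → ℂ)) (ζ : C → ℂ) := fun ζ hζ => by
      rw [classInner_sub_left, classInner_isIrr_ne (lnu S 1).2 ζ.2
        (fun h => hζ (Subtype.ext h).symm), sub_zero]
    rw [e1 _ h1, e1 _ h2, classInner_def, classInner_def]
    congr 1
    refine Finset.sum_congr rfl fun c _ => ?_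
    rw [Pi.sub_apply, lnu_apply, tm_apply]
    by_cases hc : proj S c = 1
    · simp [hc]
    · rw [hone c hc]; simp
  obtain ⟨η₁, hη₁, hη₁t⟩ : ∃ η, mult F η ≠ 0 ∧ ¬ Triv S η := by
    by_contra hh
    push Not at hh
    obtain ⟨y, hy⟩ := hker
    refine hy (show F (incl S y) = F 1 from ?_)
    rw [expand hF, expand hF]
    refine Finset.sum_congr rfl fun η _ => ?_
    by_cases h : mult F η = 0
    · simp [h]
    · rw [hh η h y]
  obtain ⟨η₀, ν₁, hη₀, rfl⟩ := exists_core S η₁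
  have hν₁ : ν₁ ≠ 1 := fun h => hη₁t ((triv_tm_iff S hη₀ ν₁).mpr h)
  have htriv1 : Triv S (lnu S 1) := by
    rw [lnu, tm_one]; exact triv_trivIrr S
  have hη₀1 : η₀ ≠ lnu S 1 := by
    intro h
    apply hη₁
    rw [h, lnu, tm_tm, show ν₁ * 1 = ν₁ from MonoidHom.ext fun y => by simp]
    exact Finset.sum_eq_zero_iff.mp hS0 ν₁ (Finset.mem_erase.mpr ⟨hν₁, Finset.mem_univ _⟩)
  have hne : ∀ μ : (P : Subgroup G) →* ℂˣ, tm S μ η₀ ≠ lnu S 1 := by
    intro μ h
    have hμ : μ = 1 := (triv_tm_iff S hη₀ μ).mp (h ▸ htriv1)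
    rw [hμ, tm_one] at h
    exact hη₀1 h
  have hA : p + 1 ≤ ∑ η, mult F η ^ 2 := by
    set T := insert (lnu S 1) ((Finset.univ : Finset ((P : Subgroup G) →* ℂˣ)).image
      fun μ => tm S μ η₀)
    have hT : T.card = p + 1 := by
      rw [Finset.card_insert_of_notMem (by
        simp only [Finset.mem_image, Finset.mem_univ, true_and, not_exists]; exact hne),
        Finset.card_image_of_injective _ fun μ μ' h => (tm_inj S hη₀ hη₀ h).1, Finset.card_univ,
        ← Nat.card_eq_fintype_card, card_linear S, hP]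
    calc p + 1 = ∑ _η ∈ T, 1 := by rw [Finset.sum_const, hT, smul_eq_mul, mul_one]
      _ ≤ ∑ η ∈ T, mult F η ^ 2 := Finset.sum_le_sum fun η hη => Nat.one_le_pow _ _ (by
          rcases Finset.mem_insert.mp hη with rfl | h
          · exact hM0
          · obtain ⟨μ, -, rfl⟩ := Finset.mem_image.mp h
            rw [hinv μ η₀ (hne μ) hη₀1, ← hinv ν₁ η₀ (hne ν₁) hη₀1]
            exact Nat.pos_of_ne_zero hη₁)
      _ ≤ _ := Finset.sum_le_sum_of_subset (Finset.subset_univ T)
  have h1 := (Nat.mul_le_mul_left (p * k) hA).trans hTI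
  have hn1 : n = 1 + p * Φ' := by omega
  rw [hn1] at h1
  by_contra hk
  push Not at hk
  have h2 := Nat.mul_le_mul_left (p * k) he3
  have h3 := Nat.mul_le_mul_left (p * p) (Nat.succ_le_of_lt hk)
  have h4 := Nat.mul_le_mul_left (2 * p) (Nat.succ_le_of_lt hk)
  have h5 : Φ' ≤ Φ' ^ 2 := Nat.le_self_pow two_ne_zero _
  have h6 := Nat.mul_le_mul_left (6 * p) h5
  have h7 : 4 ≤ p * p := Nat.mul_le_mul hp2 hp2
  linarith

theorem impossible (hP : Nat.card (P : Subgroup G) = p) {k : ℕ}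
    (hk : Nat.card (proj S).ker = k * Nat.card (Subgroup.center G))
    (hZK : ∀ z : Subgroup.center G, proj S (zC (P : Subgroup G) z) = 1)
    (hcen : ∀ y ∈ (P : Subgroup G), y ∈ Subgroup.center G → y = 1)
    (hnoK : ∀ K : Subgroup G, K.Normal → (P : Subgroup G) ≤ K → K = ⊤)
    {χ : Cfsg.IrrCharacter G} (hfaith : ∀ g : G, (χ : G → ℂ) g = (χ : G → ℂ) 1 → g = 1)
    {x : ℕ} (hx : (χ : G → ℂ) 1 = (x : ℂ)) (hxp : 2 * x + 3 ≤ p)
    (hTI : ∀ (ω : Cfsg.IrrCharacter G) (n : ℕ), (ω : G → ℂ) 1 = (n : ℂ) →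
      p * k * ∑ η, mult (res (P : Subgroup G) (ω : G → ℂ)) η ^ 2 ≤
        (C).relIndex N * (p * k) + n ^ 2) : False := by
  classical
  haveI := Fintype.ofFinite (Cfsg.IrrCharacter G)
  have hodd : p ≠ 2 := by omega
  obtain ⟨d, r, ρ, t, he2, hd, hxd, hdk, hr, ht, htd, hρ, hM, hS, hW⟩ :=
    restrict_data S hP hk hZK hcen hfaith hx hxp (hTI χ x hx)
  obtain ⟨D⟩ := PrimeBlock.exists_pblock hodd P hP
  set e := (C).relIndex N with hedef
  have hDe : D.e = e := D.he.symm
  obtain ⟨f, hf⟩ : e ∣ p - 1 := hDe ▸ D.e_dvd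
  have hpef : p = e * f + 1 := by omega
  have hed : e ≤ e * d := Nat.le_mul_of_pos_right e hd
  have hf3 : 3 ≤ f := by
    by_contra h
    have := Nat.mul_le_mul_left e (show f ≤ 2 by omega)
    omega
  have he3 : 3 * e + 1 ≤ p := by
    have := Nat.mul_le_mul_left e hf3
    omega
  have hex : ∃ Φ, 2 * k ≤ 3 * Φ ^ 2 := ⟨k + 1, by nlinarith⟩
  set Φ := Nat.find hex with hΦdef
  have hΦk : 2 * k ≤ 3 * Φ ^ 2 := Nat.find_spec hex
  have hk1 : 1 ≤ k := le_trans (Nat.one_le_pow _ _ hd) hdk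
  have hΦ1 : 1 ≤ Φ := by
    by_contra h
    rw [show Φ = 0 by omega] at hΦk
    omega
  -- the constituents
  set Ψ := absSq (χ : G → ℂ) with hΨdef
  have hΨ := isCharacter_absSq (irr_isCharacter χ)
  obtain ⟨n, hn⟩ := char_eq_sum_nat hΨ
  have hres : ∀ η, mult (res (P : Subgroup G) Ψ) η =
      ∑ ω : Cfsg.IrrCharacter G, n ω * mult (res (P : Subgroup G) (ω : G → ℂ)) η :=
    mult_of_sum (isCharacter_res hΨ) (fun ω => isCharacter_res (irr_isCharacter ω)) fun c => by
      have := congrFun hn (c : G)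
      simpa [res, Finset.sum_apply] using this
  have hn1 : n (trivIrr G) = 1 := by
    have h1 := classInner_sum_smul_irr (c := fun ω : Cfsg.IrrCharacter G => (n ω : ℂ)) Finset.univ
      (trivIrr G)
    rw [← hn, if_pos (Finset.mem_univ _)] at h1
    have h2 : Cfsg.classInner Ψ ((trivIrr G : Cfsg.IrrCharacter G) : G → ℂ) =
        Cfsg.classInner (χ : G → ℂ) (χ : G → ℂ) := by
      rw [classInner_def, classInner_def]
      simp [hΨdef, absSq]
    rw [h2, classInner_isIrr_self χ.2] at h1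
    exact_mod_cast h1.symm
  have htm : ∀ η, mult (res (P : Subgroup G) ((trivIrr G : Cfsg.IrrCharacter G) : G → ℂ)) η =
      if η = lnu S 1 then 1 else 0 := by
    intro η
    apply Nat.cast_injective (R := ℂ)
    rw [← mult_eq (isCharacter_res (irr_isCharacter _)),
      show res (P : Subgroup G) ((trivIrr G : Cfsg.IrrCharacter G) : G → ℂ) = (lnu S 1 : C → ℂ) from
        funext fun c => by simp [res, lnu_apply],
      classInner_irr]
    by_cases h : η = lnu S 1
    · rw [if_pos h.symm, if_pos h, Nat.cast_one]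
    · rw [if_neg (fun h' => h h'.symm), if_neg h, Nat.cast_zero]
  set E := (Finset.univ : Finset ((P : Subgroup G) →* ℂˣ)).erase 1 with hE
  set Ω := (Finset.univ : Finset (Cfsg.IrrCharacter G)).erase (trivIrr G) with hΩ
  have hlin : ∀ ν ∈ E, lnu S ν ≠ lnu S 1 := fun ν hν h =>
    (Finset.mem_erase.mp hν).1 (tm_inj S (triv_trivIrr S) (triv_trivIrr S) h).1
  have hMsum : mult (res (P : Subgroup G) Ψ) (lnu S 1) =
      1 + ∑ ω ∈ Ω, n ω * mult (res (P : Subgroup G) (ω : G → ℂ)) (lnu S 1) := by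
    rw [hres, ← Finset.add_sum_erase _ _ (Finset.mem_univ (trivIrr G)), hn1, htm, if_pos rfl]
  have hSsum : ∑ ν ∈ E, mult (res (P : Subgroup G) Ψ) (lnu S ν) =
      ∑ ω ∈ Ω, n ω * ∑ ν ∈ E, mult (res (P : Subgroup G) (ω : G → ℂ)) (lnu S ν) := by
    simp only [hres, Finset.mul_sum]
    rw [Finset.sum_comm, ← Finset.add_sum_erase _ _ (Finset.mem_univ (trivIrr G)),
      Finset.sum_eq_zero fun ν hν => by rw [htm, if_neg (hlin ν hν), mul_zero], zero_add]
  have hWsum : weight S (res (P : Subgroup G) Ψ) =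
      ∑ ω ∈ Ω, n ω * weight S (res (P : Subgroup G) (ω : G → ℂ)) := by
    unfold weight
    simp only [hres, Finset.mul_sum]
    rw [Finset.sum_congr rfl fun η _ => show
        (if Triv S η then 0 else (∑ ω : Cfsg.IrrCharacter G, n ω *
          mult (res (P : Subgroup G) (ω : G → ℂ)) η) * Cfsg.charDegree (η : C → ℂ)) =
        ∑ ω : Cfsg.IrrCharacter G, n ω * (if Triv S η then 0 else
          mult (res (P : Subgroup G) (ω : G → ℂ)) η * Cfsg.charDegree (η : C → ℂ)) by
      split_ifs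
      · simp
      · rw [Finset.sum_mul]; exact Finset.sum_congr rfl fun ω _ => by ring,
      Finset.sum_comm, ← Finset.add_sum_erase _ _ (Finset.mem_univ (trivIrr G)),
      Finset.sum_eq_zero fun η _ => ?_, zero_add]
    rw [htm]
    split_ifs with h1 h2
    · simp
    · exact absurd (h2 ▸ (by rw [lnu, tm_one]; exact triv_trivIrr S : Triv S (lnu S 1))) h1
    · simp
  have hbound : ∀ ω ∈ Ω, n ω * (Φ * (p - 1) *
      mult (res (P : Subgroup G) (ω : G → ℂ)) (lnu S 1)) ≤
      n ω * ((2 * Φ - 1) * (∑ ν ∈ E, mult (res (P : Subgroup G) (ω : G → ℂ)) (lnu S ν)) +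
        weight S (res (P : Subgroup G) (ω : G → ℂ))) := by
    intro ω hω
    refine Nat.mul_le_mul_left _ ?_
    refine constituent_bound S hP hodd (fun Φ' h => Nat.find_min' hex h) hΦ1 (by omega)
      he3 ?_ (Blocks.charDegree_cast ω).symm (hTI ω _ (Blocks.charDegree_cast ω).symm)
    by_contra hh
    push Not at hh
    have htop := hnoK (charKernel _ (irr_isCharacter ω)) (charKernel_normal _)
      (fun y hy => mem_charKernel.mpr (hh ⟨y, hy⟩))
    refine (Finset.mem_erase.mp hω).1 ?_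
    by_contra hne
    have h0 := classInner_isIrr_ne ω.2 (trivIrr G).2 (fun h => hne (Subtype.ext h))
    rw [classInner_def, Finset.sum_congr rfl fun g _ => show
      (ω : G → ℂ) g * conj (((trivIrr G : Cfsg.IrrCharacter G) : G → ℂ) g) = (ω : G → ℂ) 1 by
        have hg : g ∈ charKernel _ (irr_isCharacter ω) := htop ▸ Subgroup.mem_top g
        rw [mem_charKernel.mp hg]; simp, Finset.sum_const, Finset.card_univ, nsmul_eq_mul,
      ← Nat.card_eq_fintype_card, inv_mul_cancel_left₀ natCard_ne_zero] at h0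
    exact irr_one_ne_zero ω.2 h0
  have htot := Finset.sum_le_sum hbound
  simp only [mul_add, Finset.sum_add_distrib, mul_left_comm (n _)] at htot
  rw [← Finset.mul_sum, ← Finset.mul_sum, ← hSsum, ← hWsum] at htot
  rw [hM] at hMsum
  rw [show ∑ ω ∈ Ω, n ω * mult (res (P : Subgroup G) (ω : G → ℂ)) (lnu S 1) = e - 1 + ρ by omega]
    at htot
  rw [hxd] at hW hρ hxp
  refine arith hpef he2 hd hxp hdk hr ht htd hρ hΦk ?_
  obtain ⟨E', hE'⟩ : ∃ E', e = E' + 1 := ⟨e - 1, by omega⟩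
  rw [hf] at htot
  have hW' : weight S (res (P : Subgroup G) Ψ) = e * (e - 1) * d ^ 2 + 2 * e * d * r := by
    rw [hE', Nat.add_sub_cancel]
    rw [hE'] at hW
    linarith
  refine Nat.le_of_mul_le_mul_left ?_ (show 0 < e by omega)
  have hS' := Nat.mul_le_mul_left (2 * Φ - 1) hS
  rw [hW'] at htot
  linarith

end Cfsg.Agent.BlockCharsA.FeitThompson
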