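import Mathlib
import Cfsg.Agent.BlockCharsA.FTWeights
import Cfsg.Agent.BlockCharsA.FTTI

/-!
A faithful character of degree below `(p - 1) / 2` at a prime dividing the order once forces a
normal Sylow subgroup.
-/

set_option autoImplicit false
set_option linter.style.haveILetI false

namespace Cfsg.Agent.BlockCharsA.FeitThompson

open Cfsg.Agent.Characters Cfsg.Agent.CharTheory
open Cfsg.Agent.BlockCharsA.CentralizerStar

universe u

variable {p : ℕ}

theorem no_irreducible {G : Type u} [Group G] [Fintype G] [Fact p.Prime] (P : Sylow p G)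
    (hP : Nat.card (P : Subgroup G) = p) (hnn : ¬ (P : Subgroup G).Normal)
    (hsub : ∀ H : Subgroup G, (P : Subgroup G) ≤ H → H ≠ ⊤ →
      H ≤ Subgroup.normalizer ((P : Subgroup G) : Set G))
    (hnoK : ∀ K : Subgroup G, K.Normal → (P : Subgroup G) ≤ K → K = ⊤)
    {χ : Cfsg.IrrCharacter G} (hfaith : ∀ g : G, (χ : G → ℂ) g = (χ : G → ℂ) 1 → g = 1)
    (hdeg : 2 * Cfsg.charDegree (χ : G → ℂ) + 3 ≤ p) : False := by
  classical
  have hzp : ∀ y ∈ (P : Subgroup G), y ≠ 1 → Subgroup.zpowers y = (P : Subgroup G) := by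
    intro y hy h1
    refine Subgroup.eq_of_le_of_card_ge (Subgroup.zpowers_le.2 hy) ?_
    rw [hP, Nat.card_zpowers]
    have h : y ^ p = 1 := by
      have h := pow_card_eq_one' (G := (P : Subgroup G)) (x := ⟨y, hy⟩)
      rw [hP] at h
      exact congrArg Subtype.val h
    exact (orderOf_eq_prime h h1).ge
  have hcen : ∀ y ∈ (P : Subgroup G), y ∈ Subgroup.center G → y = 1 := by
    intro y hy hz
    by_contra h1
    refine hnn ⟨fun w hw g => ?_⟩
    have hwc : w ∈ Subgroup.center G := by
      rw [← hzp y hy h1] at hw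
      exact Subgroup.zpowers_le.2 hz hw
    rw [Subgroup.mem_center_iff.mp hwc g, mul_inv_cancel_right]
    exact hw
  have hpG : p ∣ Nat.card G :=
    (dvd_of_eq hP.symm).trans (Subgroup.card_subgroup_dvd_card _)
  have hstar : ∀ y ∈ (P : Subgroup G), y ≠ 1 →
      Subgroup.centralizer ({y} : Set G) = Subgroup.centralizer ((P : Subgroup G) : Set G) := by
    intro y hy h1
    rw [← hzp y hy h1, Subgroup.zpowers_eq_closure, Subgroup.centralizer_closure]
  obtain ⟨j, S⟩ := exists_setting hpG P hstar
  have hZreg : ∀ z : Subgroup.center G, ¬ p ∣ orderOf (z : G) := by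
    intro z hd
    set w := (z : G) ^ (orderOf (z : G) / p) with hw
    have hwo : orderOf w = p := orderOf_pow_orderOf_div (orderOf_pos _).ne' hd
    have hwc : w ∈ Subgroup.center G := pow_mem z.2 _
    obtain ⟨Q, hQ⟩ := (IsPGroup.of_card (p := p) (n := 1)
      (by rw [Nat.card_zpowers, hwo, pow_one]) : IsPGroup p (Subgroup.zpowers w)).exists_le_sylow
    obtain ⟨a, rfl⟩ := MulAction.exists_smul_eq G P Q
    have hwQ := hQ (Subgroup.mem_zpowers w)
    rw [Sylow.coe_subgroup_smul] at hwQ
    obtain ⟨v, hv, hva⟩ := hwQ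
    have hva' : a * v * a⁻¹ = w := hva
    have hvw : v = w := by
      calc v = a⁻¹ * (a * v * a⁻¹) * a := by group
        _ = a⁻¹ * w * a := by rw [hva']
        _ = w := by rw [Subgroup.mem_center_iff.mp hwc a⁻¹, inv_mul_cancel_right]
    have hw1 := hcen w (hvw ▸ hv) hwc
    rw [hw1, orderOf_one] at hwo
    exact (Fact.out : p.Prime).ne_one hwo.symm
  haveI := Fintype.ofFinite (Subgroup.centralizer ((P : Subgroup G) : Set G))
  haveI := Fintype.ofFinite (P : Subgroup G)
  haveI := Fintype.ofFinite ((P : Subgroup G) →* ℂˣ)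
  haveI := Fintype.ofFinite (Cfsg.IrrCharacter (Subgroup.centralizer ((P : Subgroup G) : Set G)))
  have hZK : ∀ z : Subgroup.center G, proj S (zC (P : Subgroup G) z) = 1 := fun z =>
    proj_eq_one_of_regular S hP (hZreg z)
  let f : Subgroup.center G →* (proj S).ker :=
    (zC (P : Subgroup G)).codRestrict _ fun z => hZK z
  obtain ⟨k, hk⟩ := Subgroup.card_dvd_of_injective f fun a b h => Subtype.ext
    (congrArg (fun w : (proj S).ker => ((w : Subgroup.centralizer ((P : Subgroup G) : Set G)) : G)) h)
  rw [mul_comm] at hk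
  set N := Subgroup.normalizer ((P : Subgroup G) : Set G) with hN
  have hTI : ∀ (c : Subgroup.centralizer ((P : Subgroup G) : Set G)) (x : G),
      (c : G) ∉ Subgroup.center G →
      x⁻¹ * (c : G) * x ∈ Subgroup.centralizer ((P : Subgroup G) : Set G) → x ∈ N := by
    intro c x hcZ hx
    by_cases hj : (c : G) ^ j = 1
    swap
    · refine (mem_normalizer_of_conj S c.2 hx fun h => hj ?_).1
      have h' : (x⁻¹ * (c : G) * x⁻¹⁻¹) ^ j = x⁻¹ * (c : G) ^ j * x⁻¹⁻¹ := conj_pow
      rw [inv_inv, h] at h'
      calc (c : G) ^ j = x * (x⁻¹ * (c : G) ^ j * x) * x⁻¹ := by group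
        _ = 1 := by rw [← h', mul_one, mul_inv_cancel]
    · set H := Subgroup.centralizer ({(c : G)} : Set G) with hH
      have hPH : (P : Subgroup G) ≤ H := fun y hy =>
        Subgroup.mem_centralizer_singleton_iff.mpr (Subgroup.mem_centralizer_iff.mp c.2 y hy)
      have hHN : H ≤ N := hsub H hPH fun htop => hcZ (Subgroup.mem_center_iff.mpr fun g => by
        have hg : g ∈ H := htop ▸ Subgroup.mem_top g
        exact Subgroup.mem_centralizer_singleton_iff.mp hg)
      have hmem : ∀ y ∈ (P : Subgroup G), x * y * x⁻¹ ∈ (P : Subgroup G) := by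
        intro y hy
        have hyH : x * y * x⁻¹ ∈ H := by
          rw [hH, Subgroup.mem_centralizer_singleton_iff]
          calc x * y * x⁻¹ * (c : G) = x * (y * (x⁻¹ * c * x)) * x⁻¹ := by group
            _ = x * ((x⁻¹ * c * x) * y) * x⁻¹ := by
              rw [Subgroup.mem_centralizer_iff.mp hx y hy]
            _ = c * (x * y * x⁻¹) := by group
        set R := (P : Subgroup G).map (MulAut.conj x).toMonoidHom ⊓ N with hR
        have hRp : IsPGroup p R := (P.isPGroup'.map _).to_le inf_le_left
        have hsup : IsPGroup p (R ⊔ (P : Subgroup G) : Subgroup G) :=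
          hRp.to_sup_of_normal_right' P.isPGroup' inf_le_right
        have heq := P.is_maximal' hsup le_sup_right
        have hin : x * y * x⁻¹ ∈ R ⊔ (P : Subgroup G) :=
          Subgroup.mem_sup_left (Subgroup.mem_inf.mpr ⟨⟨y, hy, rfl⟩, hHN hyH⟩)
        rwa [heq] at hin
      have hmap : (P : Subgroup G).map (MulAut.conj x).toMonoidHom = (P : Subgroup G) := by
        refine Subgroup.eq_of_le_of_card_ge ?_ (le_of_eq ?_)
        · rintro _ ⟨y, hy, rfl⟩
          exact hmem y hy
        · rw [Subgroup.card_map_of_injective (MulAut.conj x).injective]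
      rw [hN, Subgroup.mem_normalizer_iff]
      refine fun y => ⟨hmem y, fun hy => ?_⟩
      rw [← hmap] at hy
      obtain ⟨w, hw, hwe⟩ := hy
      exact (MulAut.conj x).injective hwe ▸ hw
  obtain ⟨d, -, hd⟩ := irr_one_pos χ.2
  have hdd : Cfsg.charDegree (χ : G → ℂ) = d := by simp [Cfsg.charDegree, hd]
  rw [hdd] at hdeg
  refine impossible S hP hk hZK hcen hnoK hfaith hd hdeg fun ω n hn => ?_
  have := ti_bound S hk hTI ω hn
  rwa [hP] at this

theorem normal_of_small (hp : p.Prime) (n : ℕ) : ∀ (G : Type u) [Group G] [Fintype G],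
    Nat.card G = n → ∀ P : Sylow p G, Nat.card (P : Subgroup G) = p →
    ∀ χ : G → ℂ, Cfsg.IsCharacter G χ → (∀ g : G, χ g = χ 1 → g = 1) →
      2 * Cfsg.charDegree χ + 3 ≤ p → (P : Subgroup G).Normal := by
  classical
  haveI : Fact p.Prime := ⟨hp⟩
  induction n using Nat.strong_induction_on with | _ n ih => ?_
  intro G _ _ hn P hP χ hχ hfaith hdeg
  haveI := Fintype.ofFinite (Cfsg.IrrCharacter G)
  by_contra hnn
  -- proper subgroups containing `P` normalise it
  have hsub : ∀ H : Subgroup G, (P : Subgroup G) ≤ H → H ≠ ⊤ →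
      ((P : Subgroup G).subgroupOf H).Normal := by
    intro H hPH hHt
    haveI := Fintype.ofFinite H
    have hlt : Nat.card H < n := by
      rw [← hn]
      exact lt_of_le_of_ne (Nat.le_of_dvd Nat.card_pos (Subgroup.card_subgroup_dvd_card H))
        fun h => hHt (Subgroup.eq_top_of_card_eq H h)
    have hcard : Nat.card ((P.subtype hPH : Sylow p H) : Subgroup H) = p :=
      (Nat.card_congr (Subgroup.subgroupOfEquivOfLe hPH).toEquiv).trans hP
    exact ih _ hlt H rfl (P.subtype hPH) hcard (fun h : H => χ h) (isCharacter_restrict H hχ)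
      (fun g hg => Subtype.ext (hfaith g hg)) (by simpa [Cfsg.charDegree] using hdeg)
  have hnoK : ∀ K : Subgroup G, K.Normal → (P : Subgroup G) ≤ K → K = ⊤ := by
    intro K hKn hPK
    by_contra hKt
    haveI := hKn
    have hnorm : ((P.subtype hPK : Sylow p K) : Subgroup K).Normal := hsub K hPK hKt
    haveI : ((P.subtype hPK : Sylow p K) : Subgroup K).Characteristic :=
      Sylow.characteristic_of_normal _ hnorm
    have := ConjAct.normal_of_characteristic_of_normal
      (H := K) (K := ((P.subtype hPK : Sylow p K) : Subgroup K))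
    rw [Sylow.coe_subtype, Subgroup.subgroupOf_map_subtype, inf_of_le_left hPK] at this
    exact hnn this
  choose n' hn' using fun ψ : Cfsg.IrrCharacter G => classInner_char_nat hχ (irr_isCharacter ψ)
  obtain ⟨D, hD⟩ := char_one_nat hχ
  have hDeg : Cfsg.charDegree χ = D := by simp [Cfsg.charDegree, hD]
  rw [hDeg] at hdeg
  -- every constituent is linear
  have hlin : ∀ ψ : Cfsg.IrrCharacter G, n' ψ ≠ 0 → (ψ : G → ℂ) 1 = 1 := by
    intro ψ hψ
    obtain ⟨d, hd0, hd⟩ := irr_one_pos ψ.2
    have hdle : d ≤ D := le_trans (Nat.le_mul_of_pos_left d (Nat.pos_of_ne_zero hψ))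
      (Basics.degree_le hχ ψ.2 (hn' ψ) hD hd)
    have hdd : Cfsg.charDegree (ψ : G → ℂ) = d := by simp [Cfsg.charDegree, hd]
    by_contra hne
    set Q := charKernel _ (irr_isCharacter ψ) with hQdef
    haveI : Q.Normal := charKernel_normal _
    by_cases hQ : Q = ⊥
    · refine no_irreducible P hP hnn (fun H hPH hHt => ?_) hnoK (χ := ψ) (fun g hg => ?_)
        (by rw [hdd]; omega)
      · exact (Subgroup.normal_subgroupOf_iff_le_normalizer hPH).mp (hsub H hPH hHt)
      · have hmem : g ∈ Q := mem_charKernel.mpr hg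
        rwa [hQ, Subgroup.mem_bot] at hmem
    · haveI := Fintype.ofFinite (G ⧸ Q)
      obtain ⟨ψ', hψc, hψv, hψi⟩ := exists_deflate_quotient Q (irr_isCharacter ψ)
        fun g hg => mem_charKernel.mp hg
      have hirr := hψi ψ.2
      have hψ1 : ψ' ((1 : G) : G ⧸ Q) = (ψ : G → ℂ) 1 := hψv 1
      rw [QuotientGroup.mk_one] at hψ1
      set f := QuotientGroup.mk' Q
      set P' : Sylow p (G ⧸ Q) := P.mapSurjective (f := f) (QuotientGroup.mk'_surjective Q) with hP'
      have hPQ : ¬ (P : Subgroup G) ≤ Q := fun h => hne (by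
        have htop := hnoK Q inferInstance h
        have hall : ∀ g, (ψ : G → ℂ) g = (ψ : G → ℂ) 1 := fun g =>
          mem_charKernel.mp (show g ∈ Q from htop ▸ Subgroup.mem_top g)
        have hnorm := classInner_isIrr_self ψ.2
        rw [classInner_def] at hnorm
        simp only [hall, hd, Complex.conj_natCast, Finset.sum_const, Finset.card_univ,
          nsmul_eq_mul, ← Nat.card_eq_fintype_card] at hnorm
        rw [inv_mul_cancel_left₀ natCard_ne_zero] at hnorm
        have : d * d = 1 := by exact_mod_cast hnorm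
        rw [hd, Nat.eq_one_of_mul_eq_one_right this, Nat.cast_one])
      have hP'c : Nat.card (P' : Subgroup (G ⧸ Q)) = p := by
        have hdvd : Nat.card (P' : Subgroup (G ⧸ Q)) ∣ p := by
          refine (Subgroup.card_map_dvd (P : Subgroup G) f).trans (dvd_of_eq hP)
        rcases (Nat.dvd_prime hp).mp hdvd with h | h
        · refine absurd (fun y hy => ?_) hPQ
          have hbot : (P' : Subgroup (G ⧸ Q)) = ⊥ := Subgroup.card_eq_one.mp h
          have : f y ∈ (P' : Subgroup (G ⧸ Q)) := ⟨y, hy, rfl⟩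
          rw [hbot, Subgroup.mem_bot] at this
          exact (QuotientGroup.eq_one_iff y).mp this
        · exact h
      have hlt : Nat.card (G ⧸ Q) < n := by
        rw [← hn, ← Q.index_mul_card, ← Subgroup.index]
        exact lt_mul_of_one_lt_right (Nat.pos_of_ne_zero Subgroup.index_ne_zero_of_finite)
          ((Subgroup.one_lt_card_iff_ne_bot Q).mpr hQ)
      have hnorm := ih _ hlt (G ⧸ Q) rfl P' hP'c ψ' hψc (fun g hg => ?_) (by
        simp only [Cfsg.charDegree, hψ1, hd, Complex.natCast_re, Nat.floor_natCast]; omega)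
      · have htop : (P' : Subgroup (G ⧸ Q)).comap f = ⊤ := by
          haveI := hnorm
          exact hnoK _ inferInstance fun y hy => ⟨y, hy, rfl⟩
        have hP'top : (P' : Subgroup (G ⧸ Q)) = ⊤ := by
          refine Subgroup.eq_top_iff' _ |>.mpr fun g => ?_
          obtain ⟨y, rfl⟩ := QuotientGroup.mk'_surjective Q g
          exact (htop ▸ Subgroup.mem_top y : y ∈ (P' : Subgroup (G ⧸ Q)).comap f)
        haveI : IsCyclic (G ⧸ Q) :=
          isCyclic_of_prime_card (p := p) (by rw [← hP'c, hP'top, Subgroup.card_top])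
        letI := IsCyclic.commGroup (α := G ⧸ Q)
        exact hne (by rw [← hψ1]; exact irr_degree_one_of_comm (fun a b => mul_comm a b) hirr)
      · obtain ⟨y, rfl⟩ := QuotientGroup.mk'_surjective Q g
        rw [QuotientGroup.mk'_apply, hψv, hψ1] at hg
        exact (QuotientGroup.eq_one_iff y).mpr (mem_charKernel.mpr hg)
  have hab : ∀ a b : G, a * b = b * a := by
    intro a b
    have h : a * b * a⁻¹ * b⁻¹ = 1 := by
      refine hfaith _ ?_
      rw [classFun_eq_sum (char_isClassFunction hχ)]
      simp only [Finset.sum_apply, Pi.smul_apply, smul_eq_mul, hn']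
      refine Finset.sum_congr rfl fun ψ _ => ?_
      by_cases hψ : n' ψ = 0
      · simp [hψ]
      congr 1
      set l := linearOfDegreeOne (irr_isCharacter ψ) (hlin ψ hψ) with hl
      have hl' : ∀ g, (ψ : G → ℂ) g = (l g : ℂ) := fun g =>
        (linearOfDegreeOne_apply _ _ g).symm
      rw [hl', hl']
      simp
    calc a * b = (a * b * a⁻¹ * b⁻¹) * (b * a) := by group
      _ = b * a := by rw [h, one_mul]
  exact hnn ⟨fun x hx g => by rwa [hab g x, mul_inv_cancel_right]⟩

end Cfsg.Agent.BlockCharsA.FeitThompson
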