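import Cfsg.Agent.OddChar.PowTwist
import Cfsg.Agent.S0161
import Cfsg.Agent.S0854
import Cfsg.Agent.BlocksChars.LinearTwist
import Cfsg.Agent.Lib.CharTheory.ExtendChar
import Cfsg.Agent.Lib.CharTheory.RelativeM
import Cfsg.Agent.Solvable.Basics

/-!
# Characters fixed by a power map inverting an odd quotient

`N ◁ G` of odd index, `k` prime to `|G|` with `z ^ k = z⁻¹` on `G ⧸ N`: a fixed invariant character
of `N` has exactly one fixed character of `G` over it, an extension.
-/

set_option autoImplicit false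
set_option linter.style.haveILetI false
set_option linter.unusedSectionVars false

namespace Cfsg.Agent.BlockCharsA.GaloisFixed

open Cfsg.Agent.Characters Cfsg.Agent.CharTheory Cfsg.Agent.OddChar.PowTwist
open Cfsg.Agent.CharTheory.ExtendChar Cfsg.Agent.CharTheory.RelativeM
open scoped ComplexConjugate

universe u

variable {G : Type u} [Group G] [Fintype G]

/-- The hypotheses on `k`. -/
structure Inverts (N : Subgroup G) (k : ℕ) : Prop where
  odd : Odd N.index
  cop : k.Coprime (Nat.card G)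
  inv : ∀ g : G, g ^ k * g ∈ N

theorem Inverts.mono {N H : Subgroup G} {k : ℕ} (h : Inverts N k) (hNH : N ≤ H) : Inverts H k :=
  ⟨h.odd.of_dvd_nat (Subgroup.index_dvd_of_le hNH), h.cop, fun g => hNH (h.inv g)⟩

theorem Inverts.restrict {N : Subgroup G} {k : ℕ} (h : Inverts N k) (H : Subgroup G) (hNH : N ≤ H) :
    Inverts (N.subgroupOf H) k := by
  refine ⟨h.odd.of_dvd_nat ?_, h.cop.coprime_dvd_right H.card_subgroup_dvd_card,
    fun g => Subgroup.mem_subgroupOf.2 (h.inv (g : G))⟩
  exact Dvd.intro H.index (Subgroup.relIndex_mul_index hNH)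

/-- Two fixed characters over the same fixed extension coincide. -/
theorem unique {N : Subgroup G} [N.Normal] [Fintype N] {k : ℕ} (h : Inverts N k) {η χ : G → ℂ}
    (hη : Cfsg.IsIrrCharacter G η) (hηN : Cfsg.IsIrrCharacter N (fun n : N => η n))
    (hηk : ∀ g, η (g ^ k) = η g) (hχ : Cfsg.IsIrrCharacter G χ) (hχk : ∀ g, χ (g ^ k) = χ g)
    (hover : Cfsg.classInner (fun n : N => χ n) (fun n : N => η n) ≠ 0) : χ = η := by
  classical
  obtain ⟨hq, hqη⟩ := Average.gallagher N hη hηN hχ hover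
  set q := Average.quotChar N η χ with hqdef
  have hcoset : ∀ (n : N) (g : G), q ((n : G) * g) = q g := fun n g =>
    Average.quotChar_mul_left N η χ n g
  have hqk : ∀ g, q (g ^ k) = q g := by
    let q' : G → ℂ := fun g => q (g ^ k)
    have hmul : q' * η = χ := funext fun g => by
      show q (g ^ k) * η g = χ g
      rw [← hηk g, ← hχk g, ← congrFun hqη (g ^ k), Pi.mul_apply]
    have hq'N : ∀ (n : N) (g : G), q' ((n : G) * g) = q' g := by
      intro n g
      show q (((n : G) * g) ^ k) = q (g ^ k)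
      have h1 : (((n : G) * g) ^ k) * (g ^ k)⁻¹ ∈ N := by
        rw [← QuotientGroup.eq_one_iff, QuotientGroup.mk_mul, QuotientGroup.mk_inv,
          QuotientGroup.mk_pow, QuotientGroup.mk_pow, QuotientGroup.mk_mul,
          (QuotientGroup.eq_one_iff (n : G)).2 n.2, one_mul, mul_inv_cancel]
      have h2 := hcoset ⟨_, h1⟩ (g ^ k)
      rwa [inv_mul_cancel_right] at h2
    intro g
    have h1 : q g = q' g := by
      rw [hqdef, Average.quotChar_apply]
      have h2 : ∀ n : N, χ ((n : G) * g) * conj (η ((n : G) * g)) =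
          q' g * (η ((n : G) * g) * conj (η ((n : G) * g))) := fun n => by
        rw [← congrFun hmul ((n : G) * g), Pi.mul_apply, hq'N]
        ring
      rw [Finset.sum_congr rfl fun n _ => h2 n, ← Finset.mul_sum, mul_left_comm]
      have h3 := congrFun (Average.quotChar_self N hη hηN) g
      rw [Average.quotChar_apply] at h3
      rw [h3, mul_one]
    exact h1.symm
  obtain ⟨ψ, hψc, hψ, hψi⟩ := exists_deflate_quotient N (isCharacter_of_isIrr hq) (fun x hx => by
    simpa using hcoset ⟨x, hx⟩ 1)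
  have hodd : Odd (Nat.card (G ⧸ N)) := by rw [← Subgroup.index_eq_card]; exact h.odd
  have hreal : ∀ z : G ⧸ N, (ψ z).im = 0 := by
    intro z
    obtain ⟨g, rfl⟩ := QuotientGroup.mk_surjective z
    have e : ((g : G ⧸ N))⁻¹ = ((g ^ k : G) : G ⧸ N) := by
      refine inv_eq_of_mul_eq_one_left ?_
      rw [← QuotientGroup.mk_mul, QuotientGroup.eq_one_iff]
      exact h.inv g
    rw [← Complex.conj_eq_iff_im, ← char_inv hψc, e, hψ, hψ, hqk]
  have h1 := Cfsg.Agent.S0161.result hodd ⟨ψ, hψi hq⟩ hreal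
  rw [← hqη]
  funext g
  rw [Pi.mul_apply, ← hψ g, show ψ (g : G ⧸ N) = 1 from congrFun h1 _, one_mul]

/-- An extension can be corrected to a fixed one. -/
theorem fix_extension {N : Subgroup G} [N.Normal] [Fintype N] {k : ℕ} (h : Inverts N k) {θ : N → ℂ}
    (hθ : Cfsg.IsIrrCharacter N θ) (hθk : ∀ n : N, θ (n ^ k) = θ n) {χ₀ : G → ℂ}
    (hχ₀ : Cfsg.IsIrrCharacter G χ₀) (hχ₀N : ∀ n : N, χ₀ n = θ n) :
    ∃ χ : G → ℂ, Cfsg.IsIrrCharacter G χ ∧ (∀ n : N, χ n = θ n) ∧ ∀ g, χ (g ^ k) = χ g := by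
  have h2 : ∀ n : N, χ₀ ((n : G) ^ k) = θ n := fun n => by
    rw [← hθk n, ← hχ₀N, Subgroup.coe_pow]
  obtain ⟨lam, hlam, hlam1, hlamN, hmul⟩ :=
    extension_eq_linear_mul N hθ hχ₀ hχ₀N (isIrr_comp_pow hχ₀ h.cop) h2
  obtain ⟨f, hf⟩ := exists_hom hlam hlam1
  have hfN : ∀ g ∈ N, f g = 1 := fun g hg => Units.ext (by rw [hf, Units.val_one]; exact hlamN ⟨g, hg⟩)
  obtain ⟨r, hr⟩ := h.odd
  have hfr : ∀ g, f g ^ N.index = 1 := fun g => by
    rw [← map_pow]; exact hfN _ (N.pow_index_mem g)
  let mu : G →* ℂˣ := f ^ (r + 1)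
  have hmu2 : ∀ g, mu g * mu g = f g := fun g => by
    simp only [mu, MonoidHom.pow_apply, ← pow_add]
    rw [show r + 1 + (r + 1) = N.index + 1 by omega, pow_succ, hfr, one_mul]
  have hmuk : ∀ g, mu (g ^ k) = (mu g)⁻¹ := fun g => eq_inv_of_mul_eq_one_left (by
    rw [← map_mul]
    simp only [mu, MonoidHom.pow_apply]
    rw [hfN _ (h.inv g), one_pow])
  refine ⟨(fun g => (mu g : ℂ)) * χ₀, ?_, fun n => ?_, fun g => ?_⟩
  · rw [mul_comm]
    exact Basics.isIrr_mul_linear hχ₀ (isCharacter_linear mu) (by simp)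
  · simp only [Pi.mul_apply, mu, MonoidHom.pow_apply, hfN _ n.2, one_pow, Units.val_one, one_mul]
    exact hχ₀N n
  · have h3 : χ₀ (g ^ k) = (f g : ℂ) * χ₀ g := by
      rw [hf]; exact (congrFun hmul g).symm
    simp only [Pi.mul_apply, h3, hmuk]
    rw [← hmu2 g, ← mul_assoc, Units.val_mul, ← mul_assoc, ← Units.val_mul, inv_mul_cancel,
      Units.val_one, one_mul]

theorem conj_pow_fixed {H : Subgroup G} [H.Normal] {k : ℕ} {η : H → ℂ}
    (hk : ∀ x : H, η (x ^ k) = η x) (g : G) (x : H) :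
    Clifford.conjBy H g η (x ^ k) = Clifford.conjBy H g η x := by
  rw [Clifford.conjBy_apply, Clifford.conjBy_apply, ← hk ⟨g * x * g⁻¹, _⟩]
  exact congrArg η (Subtype.ext (by simp [conj_pow]))

/-- Solvable quotient. -/
theorem extend_solvable : ∀ (d : ℕ) (G : Type u) [Group G] [Fintype G] (N : Subgroup G) [N.Normal]
    [Fintype N], N.index ≤ d → Group.IsSolvable (G ⧸ N) → ∀ {k : ℕ}, Inverts N k →
    ∀ {θ : N → ℂ}, Cfsg.IsIrrCharacter N θ → (∀ g : G, Clifford.conjBy N g θ = θ) →
      (∀ n : N, θ (n ^ k) = θ n) →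
    ∃ χ : G → ℂ, Cfsg.IsIrrCharacter G χ ∧ (∀ n : N, χ n = θ n) ∧ ∀ g, χ (g ^ k) = χ g := by
  classical
  intro d
  induction d with
  | zero =>
    intro G _ _ N _ _ hd
    exact absurd (Nat.le_zero.1 hd) Subgroup.index_ne_zero_of_finite
  | succ d ih =>
    intro G _ _ N _ _ hd hsolv k h θ hθ hinv hθk
    by_cases htop : N = ⊤
    · subst htop
      have e : Cfsg.IsIrrCharacter G (θ ∘ (Subgroup.topEquiv (G := G)).symm) :=
        (isIrrCharacter_comp_mulEquiv Subgroup.topEquiv.symm).2 hθ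
      refine ⟨_, e, fun n => rfl, fun g => ?_⟩
      show θ (Subgroup.topEquiv.symm (g ^ k)) = θ (Subgroup.topEquiv.symm g)
      rw [map_pow, hθk]
    haveI := hsolv
    haveI : Nontrivial (G ⧸ N) := by
      refine nontrivial_iff.mpr ⟨1, ?_⟩
      by_contra hno
      push Not at hno
      exact htop (top_le_iff.1 fun g _ => (QuotientGroup.eq_one_iff g).1 (hno (g : G ⧸ N)).symm)
    have hlt := Group.IsSolvable.commutator_lt_top_of_nontrivial (G ⧸ N)
    set C := (commutator (G ⧸ N)).comap (QuotientGroup.mk' N)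
    have hCtop : C ≠ ⊤ := fun hC => hlt.ne (by
      rw [← Subgroup.map_comap_eq_self_of_surjective (QuotientGroup.mk'_surjective N)
        (commutator (G ⧸ N))]
      show C.map _ = ⊤
      rw [hC, Subgroup.map_top_of_surjective _ (QuotientGroup.mk'_surjective N)])
    obtain ⟨H, hH, hCH⟩ := (eq_top_or_exists_le_coatom C).resolve_left hCtop
    have hNC : N ≤ C := fun n hn => by
      show (n : G ⧸ N) ∈ commutator (G ⧸ N)
      rw [(QuotientGroup.eq_one_iff n).2 hn]; exact one_mem _
    have hNH : N ≤ H := hNC.trans hCH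
    haveI hHn : H.Normal := ⟨fun a ha g => by
      have h1 : g * a * g⁻¹ * a⁻¹ ∈ C := by
        show QuotientGroup.mk' N (g * a * g⁻¹ * a⁻¹) ∈ commutator (G ⧸ N)
        rw [map_mul, map_mul, map_mul, map_inv, map_inv]
        exact Subgroup.commutator_mem_commutator (Subgroup.mem_top _) (Subgroup.mem_top _)
      have := H.mul_mem (hCH h1) ha
      rwa [inv_mul_cancel_right] at this⟩
    haveI : IsCyclic (G ⧸ H) := by
      have hp := Cfsg.Agent.Solvable.Basics.index_prime_of_normal_coatom hH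
      haveI := Fact.mk hp
      exact isCyclic_of_prime_card (p := H.index) (Subgroup.index_eq_card H).symm
    haveI := Fintype.ofFinite H
    haveI := Fintype.ofFinite (N.subgroupOf H)
    let en : N.subgroupOf H ≃* N := Subgroup.subgroupOfEquivOfLe hNH
    have hd' : (N.subgroupOf H).index ≤ d := by
      have h1 : (N.subgroupOf H).index * H.index = N.index := Subgroup.relIndex_mul_index hNH
      have h2 : 2 ≤ H.index :=
        (Cfsg.Agent.Solvable.Basics.index_prime_of_normal_coatom hH).two_le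
      have h3 : 0 < (N.subgroupOf H).index :=
        Nat.pos_of_ne_zero Subgroup.index_ne_zero_of_finite
      nlinarith
    have hsol' : Group.IsSolvable (H ⧸ N.subgroupOf H) := by
      refine Group.isSolvable_of_isSolvable_injective (f := QuotientGroup.map _ N H.subtype le_rfl) ?_
      intro a b hab
      induction a using QuotientGroup.induction_on with | _ a => ?_
      induction b using QuotientGroup.induction_on with | _ b => ?_
      exact QuotientGroup.eq.2 (QuotientGroup.eq.1 hab :)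
    obtain ⟨η, hη, hηN, hηk⟩ := ih H (N.subgroupOf H) hd' hsol' (h.restrict H hNH) (θ := θ ∘ en)
      ((isIrrCharacter_comp_mulEquiv en).2 hθ)
      (fun g => funext fun x => congrFun (hinv (g : G)) (en x))
      (fun x => by
        show θ (en (x ^ k)) = θ (en x)
        rw [map_pow, hθk])
    have hηinv : ∀ g : G, Clifford.conjBy H g η = η := by
      intro g
      refine unique (h.restrict H hNH) hη ?_ hηk (Clifford.isIrrCharacter_conjBy H g hη)
        (conj_pow_fixed hηk g) ?_
      · rw [show (fun n : N.subgroupOf H => η n) = θ ∘ en from funext hηN]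
        exact (isIrrCharacter_comp_mulEquiv en).2 hθ
      · have e : (fun n : N.subgroupOf H => Clifford.conjBy H g η n) = θ ∘ en := by
          funext n
          let m : N.subgroupOf H := ⟨⟨g * ((n : H) : G) * g⁻¹, hHn.conj_mem _ (n : H).2 g⟩,
            ‹N.Normal›.conj_mem _ n.2 g⟩
          show η (m : H) = _
          rw [hηN m]
          exact congrFun (hinv g) (en n)
        rw [e, show (fun n : N.subgroupOf H => η n) = θ ∘ en from funext hηN,
          classInner_isIrr_self ((isIrrCharacter_comp_mulEquiv en).2 hθ)]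
        exact one_ne_zero
    obtain ⟨χ₀, hχ₀, hχ₀H⟩ := exists_extension_cyclic H inferInstance hη hηinv
    obtain ⟨χ, hχ, hχH, hχk⟩ := fix_extension (h.mono hNH) hη hηk hχ₀ hχ₀H
    exact ⟨χ, hχ, fun n => (hχH ⟨n, hNH n.2⟩).trans (hηN ⟨⟨n, hNH n.2⟩, n.2⟩), hχk⟩

theorem extend {N : Subgroup G} [N.Normal] [Fintype N] {k : ℕ} (h : Inverts N k) {θ : N → ℂ}
    (hθ : Cfsg.IsIrrCharacter N θ) (hinv : ∀ g : G, Clifford.conjBy N g θ = θ)
    (hθk : ∀ n : N, θ (n ^ k) = θ n) :
    ∃ χ : G → ℂ, Cfsg.IsIrrCharacter G χ ∧ (∀ n : N, χ n = θ n) ∧ ∀ g, χ (g ^ k) = χ g := by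
  classical
  obtain ⟨χ₀, hχ₀, hχ₀N⟩ := exists_extension_sylow N hθ hinv fun p hp => by
    haveI := Fact.mk hp
    obtain ⟨P⟩ : Nonempty (Sylow p (G ⧸ N)) := inferInstance
    set H := (P : Subgroup (G ⧸ N)).comap (QuotientGroup.mk' N)
    have hNH : N ≤ H := fun n hn => by
      show (n : G ⧸ N) ∈ (P : Subgroup (G ⧸ N))
      rw [(QuotientGroup.eq_one_iff n).2 hn]; exact one_mem _
    haveI := Fintype.ofFinite H
    haveI := Fintype.ofFinite (N.subgroupOf H)
    let en : N.subgroupOf H ≃* N := Subgroup.subgroupOfEquivOfLe hNH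
    have hsol : Group.IsSolvable (H ⧸ N.subgroupOf H) := by
      let g₀ : H ⧸ N.subgroupOf H →* (P : Subgroup (G ⧸ N)) :=
        (QuotientGroup.map _ N H.subtype le_rfl).codRestrict _ fun q => by
          induction q using QuotientGroup.induction_on with | _ y => ?_
          exact y.2
      haveI : Group.IsNilpotent (P : Subgroup (G ⧸ N)) := P.isPGroup'.isNilpotent
      refine Group.isSolvable_of_isSolvable_injective (f := g₀) ?_
      intro a b hab
      induction a using QuotientGroup.induction_on with | _ a => ?_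
      induction b using QuotientGroup.induction_on with | _ b => ?_
      exact QuotientGroup.eq.2 (QuotientGroup.eq.1 (congrArg Subtype.val hab) :)
    obtain ⟨η, hη, hηN, -⟩ := extend_solvable _ H (N.subgroupOf H) le_rfl hsol
      (h.restrict H hNH) (θ := θ ∘ en) ((isIrrCharacter_comp_mulEquiv en).2 hθ)
      (fun g => funext fun x => congrFun (hinv (g : G)) (en x))
      (fun x => by
        show θ (en (x ^ k)) = θ (en x)
        rw [map_pow, hθk])
    refine ⟨H, hNH, η, ?_, isCharacter_of_isIrr hη, fun n => hηN ⟨⟨n, hNH n.2⟩, n.2⟩⟩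
    rw [show H.index = (P : Subgroup (G ⧸ N)).index from
      Subgroup.index_comap_of_surjective _ (QuotientGroup.mk'_surjective N)]
    exact (hp.coprime_iff_not_dvd.2 P.not_dvd_index).symm
  exact fix_extension h hθ hθk hχ₀ hχ₀N

/-- The general case. -/
theorem main {N : Subgroup G} [hN : N.Normal] [Fintype N] {k : ℕ} (h : Inverts N k)
    (θ : Cfsg.IrrCharacter N) (hθk : ∀ n : N, (θ : N → ℂ) (n ^ k) = (θ : N → ℂ) n) :
    ∃ χ : Cfsg.IrrCharacter G, (Cfsg.classInner (fun n : N => (χ : G → ℂ) n) (θ : N → ℂ) ≠ 0 ∧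
      (∀ g : G, (χ : G → ℂ) (g ^ k) = (χ : G → ℂ) g) ∧
      ((∀ g : G, Clifford.conjBy N g (θ : N → ℂ) = θ) →
        ∀ n : N, (χ : G → ℂ) n = (θ : N → ℂ) n)) ∧
      ∀ χ' : Cfsg.IrrCharacter G, Cfsg.classInner (fun n : N => (χ' : G → ℂ) n) (θ : N → ℂ) ≠ 0 →
        (∀ g : G, (χ' : G → ℂ) (g ^ k) = (χ' : G → ℂ) g) → χ' = χ := by
  classical
  set T := inertia N (θ : N → ℂ)
  have hNT : N ≤ T := le_inertia (irr_isClassFunction θ)
  haveI := Fintype.ofFinite T
  haveI := Fintype.ofFinite (N.subgroupOf T)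
  haveI := Fintype.ofFinite (Cfsg.IrrCharacter T)
  let en : N.subgroupOf T ≃* N := Subgroup.subgroupOfEquivOfLe hNT
  have hθ' := (isIrrCharacter_comp_mulEquiv en).2 θ.2
  have hkT := h.restrict T hNT
  obtain ⟨η, hη, hηN, hηk⟩ := extend hkT hθ'
    (fun g => funext fun x => congrFun (mem_inertia.1 g.2) (en x))
    (fun x => by
      show (θ : N → ℂ) (en (x ^ k)) = (θ : N → ℂ) (en x)
      rw [map_pow, hθk])
  have hres : (fun n : N => η (Subgroup.inclusion hNT n)) = (θ : N → ℂ) := funext fun n =>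
    hηN ⟨⟨n, hNT n.2⟩, n.2⟩
  obtain ⟨hirr, -, hmult, -⟩ := Cfsg.Agent.BlocksChars.LinearTwist.induced_irr (φ := θ) (I := T)
    (hNI := hNT) (ψ := ⟨η, hη⟩) (fun g => mem_inertia) hres
  have hk' : ∀ g, Cfsg.indFun T η (g ^ k) = Cfsg.indFun T η g := fun g => by
    rw [indFun_comp_pow T η h.cop, show (fun x : T => η (x ^ k)) = η from funext hηk]
  refine ⟨⟨_, hirr⟩, ⟨?_, hk', fun hinv => ?_⟩, ?_⟩
  · show Cfsg.classInner (fun n : N => Cfsg.indFun T η n) (θ : N → ℂ) ≠ 0
    rw [hmult]; exact one_ne_zero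
  · intro n
    have hT : T = ⊤ := top_le_iff.1 fun g _ => mem_inertia.2 (hinv g)
    have hd := indFun_one T η
    rw [show T.index = 1 by rw [hT, Subgroup.index_top], Nat.cast_one, one_mul] at hd
    obtain ⟨ρ, hρ, hdec⟩ := Basics.eq_smul_of_degree
      (isCharacter_restrict N (isCharacter_of_isIrr hirr)) θ.2 (m := 1) (by rw [hmult, Nat.cast_one])
    have h1 := congrFun hdec 1
    have h2 : Cfsg.indFun T η 1 = (θ : N → ℂ) 1 := by rw [hd, ← congrFun hres 1, map_one]
    simp only [Pi.add_apply, Pi.smul_apply, smul_eq_mul, Nat.cast_one, one_mul,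
      OneMemClass.coe_one] at h1
    rw [h2, left_eq_add] at h1
    have h3 := congrFun hdec n
    simpa [Basics.char_eq_zero_of_one hρ h1] using h3
  intro χ' hover hχ'k
  obtain ⟨ψ, hψ, hind, hmultψ⟩ := Cfsg.Agent.S0854.result N (θ : N → ℂ) θ.2 T
    (fun g => mem_inertia.trans ⟨fun h n => congrFun h n, fun h => funext h⟩) hNT (χ' : G → ℂ) χ'.2
    hover
  have hcopT : k.Coprime (Nat.card T) := h.cop.coprime_dvd_right T.card_subgroup_dvd_card
  let ψ' : Cfsg.IrrCharacter T := ⟨fun x => ψ (x ^ k), isIrr_comp_pow hψ hcopT⟩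
  have hψk : ∀ x : T, ψ (x ^ k) = ψ x := by
    by_contra hne
    have hne' : ψ' ≠ ⟨ψ, hψ⟩ := fun he => hne fun x => congrFun (congrArg Subtype.val he) x
    have hind' : Cfsg.indFun T (ψ' : T → ℂ) = (χ' : G → ℂ) := funext fun g => by
      rw [show (ψ' : T → ℂ) = fun x => ψ (x ^ k) from rfl, ← indFun_comp_pow T ψ h.cop, hind]
      exact hχ'k g
    have hX : Cfsg.IsCharacter T (fun x : T => (χ' : G → ℂ) x) :=
      isCharacter_restrict T (irr_isCharacter χ')
    have hone : ∀ φ : T → ℂ, Cfsg.indFun T φ = (χ' : G → ℂ) →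
        Cfsg.classInner (fun x : T => (χ' : G → ℂ) x) φ = 1 := by
      intro φ hφ
      rw [classInner_conj_symm, ← frobenius_reciprocity T φ (irr_isClassFunction χ'), hφ,
        classInner_isIrr_self χ'.2, map_one]
    choose a ha using fun φ : Cfsg.IrrCharacter T => classInner_char_nat hX (irr_isCharacter φ)
    choose b hb using fun φ : Cfsg.IrrCharacter T => classInner_char_nat
      (isCharacter_comp (Subgroup.inclusion hNT) (irr_isCharacter φ)) (irr_isCharacter θ)
    obtain ⟨m, hm⟩ := classInner_char_nat (isCharacter_restrict N (irr_isCharacter χ'))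
      (irr_isCharacter θ)
    have hsum : m = ∑ φ, a φ * b φ := by
      have hexp : (fun n : N => (χ' : G → ℂ) n) = ∑ φ : Cfsg.IrrCharacter T,
          (a φ : ℂ) • ((φ : T → ℂ) ∘ Subgroup.inclusion hNT) := by
        funext n
        have := congrFun (classFun_eq_sum (char_isClassFunction hX)) (Subgroup.inclusion hNT n)
        simpa [ha, Finset.sum_apply] using this
      rw [hexp, classInner_sum_left] at hm
      simp only [classInner_smul_left, hb] at hm
      exact_mod_cast hm.symm
    have ha1 : a ⟨ψ, hψ⟩ = 1 := by exact_mod_cast (ha ⟨ψ, hψ⟩).symm.trans (hone ψ hind)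
    have ha2 : a ψ' = 1 := by exact_mod_cast (ha ψ').symm.trans (hone _ hind')
    have hb1 : b ⟨ψ, hψ⟩ = m := by exact_mod_cast (hb ⟨ψ, hψ⟩).symm.trans (hmultψ.trans hm)
    have hb2 : b ψ' = m := by
      have h1 : Cfsg.classInner (fun n : N => ψ ((Subgroup.inclusion hNT n) ^ k)) (θ : N → ℂ) =
          Cfsg.classInner (fun n : N => ψ (Subgroup.inclusion hNT n)) (θ : N → ℂ) := by
        rw [classInner_def, classInner_def]
        congr 1
        have hkN : k.Coprime (Nat.card N) := h.cop.coprime_dvd_right N.card_subgroup_dvd_card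
        refine Fintype.sum_equiv (powCoprime (G := N) hkN.symm) _ _ fun n => ?_
        simp only [powCoprime_apply, map_pow, hθk]
      exact_mod_cast (hb ψ').symm.trans (h1.trans (hmultψ.trans hm))
    have hle := Finset.sum_le_univ_sum_of_nonneg (s := {⟨ψ, hψ⟩, ψ'})
      (f := fun φ => a φ * b φ) fun _ => Nat.zero_le _
    rw [← hsum, Finset.sum_pair (Ne.symm hne'), ha1, ha2, hb1, hb2] at hle
    have hm0 : m ≠ 0 := fun h0 => hover (by rw [hm, h0, Nat.cast_zero])
    omega
  have hψη : ψ = η := by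
    refine unique hkT hη ?_ hηk hψ hψk ?_
    · rw [show (fun n : N.subgroupOf T => η n) = (θ : N → ℂ) ∘ en from funext hηN]; exact hθ'
    · rw [show (fun n : N.subgroupOf T => η n) = (θ : N → ℂ) ∘ en from funext hηN,
        show (fun n : N.subgroupOf T => ψ n) = (fun n : N => ψ (Subgroup.inclusion hNT n)) ∘ en from
          funext fun n => congrArg ψ (Subtype.ext rfl), Basics.classInner_comp_equiv en]
      exact hmultψ.trans_ne hover
  refine Subtype.ext ?_
  show (χ' : G → ℂ) = Cfsg.indFun T η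
  rw [← hψη, hind]

end Cfsg.Agent.BlockCharsA.GaloisFixed
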