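import Cfsg.Prelude.Def_Blocks
import Cfsg.Prelude.Def_Solvable
import Cfsg.Agent.Lib.CharTheory.IndBasic
import Cfsg.Agent.Lib.CharTheory.Average
import Cfsg.Agent.Lib.CharTheory.Clifford
import Cfsg.Agent.Lib.Characters.Kernel
import Cfsg.Agent.Lib.CharTheory.Basics
import Cfsg.Agent.Lib.Cores.Fitting
import Cfsg.Agent.Solvable.Basics
import Cfsg.Agent.BlocksChars.Degrees

/-!
Garrison's lemma: a character whose kernel is large is dominated by one with smaller kernel.
-/

set_option autoImplicit false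
set_option linter.style.haveILetI false

namespace Cfsg.Agent.BlockCharsA.Garrison

open Cfsg.Agent.Characters Cfsg.Agent.CharTheory
open scoped ComplexConjugate

universe u

variable {G : Type u} [Group G] [Fintype G]

omit [Fintype G] in
theorem re_le [Finite G] {χ : G → ℂ} (h : Cfsg.IsCharacter G χ) (g : G) :
    (χ g).re ≤ (χ 1).re := by
  obtain ⟨n, hn⟩ := char_one_nat h
  have h1 := char_norm_le h g
  rw [hn, Complex.norm_natCast] at h1
  rw [hn, Complex.natCast_re]
  exact le_trans (le_trans (le_abs_self _) (Complex.abs_re_le_norm _)) h1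

omit [Fintype G] in
theorem eq_one_of_re [Finite G] {χ : G → ℂ} (h : Cfsg.IsCharacter G χ) {g : G}
    (hg : (χ 1).re ≤ (χ g).re) : χ g = χ 1 := by
  obtain ⟨n, hn⟩ := char_one_nat h
  have h1 := char_norm_le h g
  rw [hn, Complex.norm_natCast] at h1
  rw [hn, Complex.natCast_re] at hg
  have h2 : (χ g).re = n := le_antisymm
    (le_trans (le_trans (le_abs_self _) (Complex.abs_re_le_norm _)) h1) hg
  have h3 : (χ g).im = 0 := by
    have h4 : ‖χ g‖ ^ 2 = (χ g).re * (χ g).re + (χ g).im * (χ g).im := by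
      rw [← Complex.normSq_eq_norm_sq, Complex.normSq_apply]
    have h5 : ‖χ g‖ ^ 2 ≤ (n : ℝ) ^ 2 := pow_le_pow_left₀ (norm_nonneg _) h1 2
    rw [h4, h2] at h5
    nlinarith [mul_self_nonneg (χ g).im]
  rw [hn]
  exact Complex.ext (by simpa using h2) (by simpa using h3)

/-- An element in the kernel of a character is in the kernel of every constituent. -/
theorem constituent_kernel {Φ φ : G → ℂ} (hΦ : Cfsg.IsCharacter G Φ)
    (hφ : Cfsg.IsIrrCharacter G φ) (hne : Cfsg.classInner Φ φ ≠ 0) {l : G} (hl : Φ l = Φ 1) :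
    φ l = φ 1 := by
  obtain ⟨m, hm⟩ := classInner_char_nat hΦ (isCharacter_of_isIrr hφ)
  obtain ⟨ρ, hρ, hdec⟩ := Basics.eq_smul_of_degree hΦ hφ hm
  have hm0 : (0 : ℝ) < m := by
    rcases Nat.eq_zero_or_pos m with h | h
    · exact absurd (by rw [hm, h, Nat.cast_zero]) hne
    · exact_mod_cast h
  refine eq_one_of_re (isCharacter_of_isIrr hφ) ?_
  have h1 := congrFun hdec l
  have h2 := congrFun hdec 1
  rw [hl, h2] at h1
  have h3 := congrArg Complex.re h1
  simp only [Pi.add_apply, Pi.smul_apply, smul_eq_mul, Complex.add_re, Complex.mul_re,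
    Complex.natCast_re, Complex.natCast_im, zero_mul, sub_zero] at h3
  have h4 := re_le hρ l
  have h5 := re_le (isCharacter_of_isIrr hφ) l
  nlinarith

/-- Restriction to a supplement of a normal subgroup in the kernel stays irreducible. -/
theorem restrict_irr_of_sup {ψ : G → ℂ} (hψ : Cfsg.IsIrrCharacter G ψ) (L : Subgroup G)
    [L.Normal] (hker : ∀ l ∈ L, ψ l = ψ 1) (M : Subgroup G) (hLM : L ⊔ M = ⊤) :
    Cfsg.IsIrrCharacter M (fun m : M => ψ m) := by
  obtain ⟨η, -, hη, hηi⟩ := exists_deflate_quotient L (isCharacter_of_isIrr hψ) hker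
  have hf : Function.Surjective ((QuotientGroup.mk' L).comp M.subtype) := by
    intro q
    obtain ⟨g, rfl⟩ := QuotientGroup.mk_surjective q
    obtain ⟨l, hl, m, hm, rfl⟩ := Subgroup.mem_sup_of_normal_left.1 (hLM ▸ Subgroup.mem_top g)
    exact ⟨⟨m, hm⟩, by simp [(QuotientGroup.eq_one_iff l).2 hl]⟩
  have h := isIrrCharacter_comp_surjective _ hf (hηi hψ)
  have e : (fun m : M => ψ m) = η ∘ ((QuotientGroup.mk' L).comp M.subtype) :=
    funext fun m => (hη (m : G)).symm
  rwa [e]

/-- Kernel of an induced character. -/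
theorem indFun_eq_one {M : Subgroup G} {φ : M → ℂ} (hφ : Cfsg.IsIrrCharacter M φ) {a : G}
    (ha : Cfsg.indFun M φ a = Cfsg.indFun M φ 1) :
    ∃ h : a ∈ M, φ ⟨a, h⟩ = φ 1 := by
  classical
  obtain ⟨d, hd0, hd⟩ := irr_one_pos hφ
  have hpos : (0 : ℝ) < (φ 1).re := by rw [hd, Complex.natCast_re]; exact_mod_cast hd0
  have hle : ∀ y : G, (Cfsg.extendByZero M φ y).re ≤ (φ 1).re := by
    intro y
    by_cases hy : y ∈ M
    · rw [IndBasic.extendByZero_of_mem _ _ hy]; exact re_le (isCharacter_of_isIrr hφ) _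
    · rw [IndBasic.extendByZero_of_notMem _ _ hy, Complex.zero_re]; exact hpos.le
  have hsum := IndBasic.card_mul_indFun M φ a
  rw [ha, indFun_one, ← mul_assoc, ← Nat.cast_mul, Subgroup.card_mul_index,
    Nat.card_eq_fintype_card, ← Finset.card_univ] at hsum
  have h1 : ∑ x : G, (Cfsg.extendByZero M φ (x⁻¹ * a * x)).re = ∑ _x : G, (φ 1).re := by
    rw [← Complex.re_sum, ← hsum, Finset.sum_const, nsmul_eq_mul]
    simp [Complex.mul_re]
  have h2 := (Finset.sum_eq_sum_iff_of_le fun x _ => hle _).1 h1 1 (Finset.mem_univ _)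
  simp only [inv_one, one_mul, mul_one] at h2
  by_cases hm : a ∈ M
  · refine ⟨hm, eq_one_of_re (isCharacter_of_isIrr hφ) ?_⟩
    rw [IndBasic.extendByZero_of_mem _ _ hm] at h2
    exact h2.ge
  · rw [IndBasic.extendByZero_of_notMem _ _ hm, Complex.zero_re] at h2
    exact absurd h2 hpos.ne

/-- The conclusion of Garrison's lemma. -/
def Good (χ : G → ℂ) (K : Subgroup G) : Prop :=
  ∃ ψ : Cfsg.IrrCharacter G, Cfsg.charDegree χ < Cfsg.charDegree (ψ : G → ℂ) ∧
    ∃ L : Subgroup G, (∀ g : G, g ∈ L ↔ (ψ : G → ℂ) g = (ψ : G → ℂ) 1) ∧ L < K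

theorem core {χ : G → ℂ} (hχ : Cfsg.IsIrrCharacter G χ) {K : Subgroup G} [K.Normal]
    (hK : ∀ g : G, g ∈ K ↔ χ g = χ 1) {M : Subgroup G} (hM : IsCoatom M) (hKM : ¬ K ≤ M) :
    Good χ K ∨ ((K ⊓ M).Normal ∧ ∀ ψ : Cfsg.IrrCharacter G, ∀ [Fintype M],
      Cfsg.classInner (fun m : M => (ψ : G → ℂ) m) (fun m : M => χ m) ≠ 0 →
        ∀ m : M, (ψ : G → ℂ) m = χ m) := by
  classical
  by_cases hgood : Good χ K
  · exact Or.inl hgood
  right
  haveI := Fintype.ofFinite (Cfsg.IrrCharacter G)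
  have hsup : K ⊔ M = ⊤ := hM.2 _ (lt_of_le_of_ne le_sup_right fun h => hKM (h ▸ le_sup_left))
  have hres : Cfsg.IsIrrCharacter M (fun m : M => χ m) :=
    restrict_irr_of_sup hχ K (fun l hl => (hK l).1 hl) M hsup
  have hext : ∀ ψ : Cfsg.IrrCharacter G, ∀ [Fintype M],
      Cfsg.classInner (fun m : M => (ψ : G → ℂ) m) (fun m : M => χ m) ≠ 0 →
        ∀ m : M, (ψ : G → ℂ) m = χ m := by
    intro ψ _ hne
    have hψM := isCharacter_restrict M (irr_isCharacter ψ)
    obtain ⟨k, hk⟩ := classInner_char_nat hψM (isCharacter_of_isIrr hres)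
    obtain ⟨ρ, hρ, hdec⟩ := Basics.eq_smul_of_degree hψM hres hk
    obtain ⟨r, hr⟩ := char_one_nat hρ
    obtain ⟨c, hc0, hc⟩ := irr_one_pos hχ
    obtain ⟨d, hd0, hd⟩ := irr_one_pos ψ.2
    have h1 := congrFun hdec 1
    simp only [Pi.add_apply, Pi.smul_apply, smul_eq_mul, OneMemClass.coe_one, hr, hc, hd] at h1
    have hdn : d = k * c + r := by exact_mod_cast h1
    have hk0 : 0 < k := by
      rcases Nat.eq_zero_or_pos k with h | h
      · exact absurd (by rw [hk, h, Nat.cast_zero]) hne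
      · exact h
    have hdc : d ≤ c := by
      by_contra hlt
      apply hgood
      refine ⟨ψ, ?_, charKernel (ψ : G → ℂ) (irr_isCharacter ψ), fun g => mem_charKernel, ?_⟩
      · simp only [Cfsg.charDegree, hc, hd, Complex.natCast_re, Nat.floor_natCast]
        omega
      · haveI := charKernel_normal (irr_isCharacter ψ)
        set L := charKernel (ψ : G → ℂ) (irr_isCharacter ψ)
        have hLM : L ≤ M := by
          by_contra hLM
          have hsup' : L ⊔ M = ⊤ :=
            hM.2 _ (lt_of_le_of_ne le_sup_right fun h => hLM (h ▸ le_sup_left))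
          have hirr := restrict_irr_of_sup ψ.2 L (fun l hl => mem_charKernel.1 hl) M hsup'
          by_cases heq : (fun m : M => (ψ : G → ℂ) m) = fun m : M => χ m
          · have := congrFun heq 1
            simp only [OneMemClass.coe_one, hc, hd, Nat.cast_inj] at this
            omega
          · exact hne (classInner_isIrr_ne hirr hres heq)
        refine lt_of_le_of_ne (fun l hl => (hK l).2 ?_) fun h => hKM (h ▸ hLM)
        exact constituent_kernel hψM hres hne (l := ⟨l, hLM hl⟩) (mem_charKernel.1 hl)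
    have hk1 : k = 1 ∧ r = 0 := by
      have : k * c ≥ c := Nat.le_mul_of_pos_left c hk0
      constructor <;> nlinarith
    intro m
    have h2 := congrFun hdec m
    rw [show ρ = 0 from Basics.char_eq_zero_of_one hρ (by rw [hr, hk1.2, Nat.cast_zero]), hk1.1] at h2
    simpa using h2
  refine ⟨⟨fun a ha g => ?_⟩, hext⟩
  haveI := Fintype.ofFinite M
  have hΦ := isCharacter_indFun M (isCharacter_of_isIrr hres)
  have hfix : ∀ b : G, b ∈ K ⊓ M →
      Cfsg.indFun M (fun m : M => χ m) (g * b * g⁻¹) = Cfsg.indFun M (fun m : M => χ m) 1 := by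
    intro b hb
    rw [IndBasic.indFun_conj]
    have h := classFun_eq_sum (char_isClassFunction hΦ)
    rw [congrFun h b, congrFun h 1]
    simp only [Finset.sum_apply, Pi.smul_apply, smul_eq_mul]
    refine Finset.sum_congr rfl fun ψ _ => ?_
    by_cases h0 : Cfsg.classInner (Cfsg.indFun M fun m : M => χ m) (ψ : G → ℂ) = 0
    · simp [h0]
    · congr 1
      rw [frobenius_reciprocity M _ (irr_isClassFunction ψ), classInner_conj_symm] at h0
      have h1 := hext ψ (fun h => h0 (by rw [h, map_zero]))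
      exact (h1 ⟨b, hb.2⟩).trans (((hK b).1 hb.1).trans (h1 1).symm)
  obtain ⟨h1, h2⟩ := indFun_eq_one hres (hfix a ha)
  exact ⟨(hK _).2 h2, h1⟩

omit [Fintype G] in
/-- Frattini argument inside a normal subgroup `S` of `N` containing a Sylow subgroup of `N`. -/
theorem normalizer_sup_eq_top [Finite G] {p : ℕ} [Fact p.Prime] {N : Subgroup G} (P : Sylow p N)
    {S : Subgroup G} [S.Normal] (hPS : (P : Subgroup N).map N.subtype ≤ S) (hSN : S ≤ N) :
    Subgroup.normalizer (((P : Subgroup N).map N.subtype : Subgroup G) : Set G) ⊔ S = ⊤ := by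
  set Pg := (P : Subgroup N).map N.subtype with hPg
  have hsub : Pg.subgroupOf N = P := Subgroup.comap_map_eq_self_of_injective N.subtype_injective _
  have hpg : IsPGroup p (Pg.subgroupOf S) :=
    IsPGroup.comap_of_injective (P.isPGroup'.map N.subtype) S.subtype S.subtype_injective
  have hidx : ¬ p ∣ (Pg.subgroupOf S).index := by
    intro h
    apply P.not_dvd_index
    rw [← hsub]
    have h2 := Subgroup.relIndex_mul_relIndex Pg S N hPS hSN
    exact dvd_trans h (Dvd.intro (S.relIndex N) h2)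
  have h := Sylow.normalizer_sup_eq_top (hpg.toSylow hidx)
  have e : (((hpg.toSylow hidx : Sylow p S) : Subgroup S).map S.subtype) = Pg := by
    show (Pg.subgroupOf S).map S.subtype = Pg
    rw [Subgroup.subgroupOf_map_subtype, inf_eq_left.2 hPS]
  rwa [e] at h

omit [Fintype G] in
/-- A normal subgroup outside the Fitting subgroup has a Sylow subgroup that is not normal. -/
theorem exists_sylow_not_normal [Finite G] {K : Subgroup G} [hKn : K.Normal]
    (hK : ¬ K ≤ Cfsg.fittingSubgroup G) :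
    ∃ p : ℕ, ∃ _ : Fact p.Prime, ∃ P : Sylow p K, ¬ ((P : Subgroup K).map K.subtype).Normal := by
  by_contra h
  push Not at h
  refine hK (Cfsg.Agent.Cores.le_fittingSubgroup ?_)
  refine ((Group.isNilpotent_of_finite_tfae (G := K)).out 3 0).1 fun p hp P => ?_
  have := h p hp P
  rw [show (P : Subgroup K) = ((P : Subgroup K).map K.subtype).comap K.subtype from
    (Subgroup.comap_map_eq_self_of_injective K.subtype_injective _).symm]
  exact Subgroup.Normal.comap this _

theorem first_case {χ : G → ℂ} (hχ : Cfsg.IsIrrCharacter G χ) {K : Subgroup G} [K.Normal]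
    (hK : ∀ g : G, g ∈ K ↔ χ g = χ 1) (hF : ¬ K ≤ Cfsg.fittingSubgroup G) : Good χ K := by
  obtain ⟨p, _, P, hP⟩ := exists_sylow_not_normal hF
  set Pg := (P : Subgroup K).map K.subtype
  have hNtop : Subgroup.normalizer (Pg : Set G) ≠ ⊤ := fun h =>
    hP (Subgroup.normalizer_eq_top_iff.1 h)
  obtain ⟨M, hM, hNM⟩ := (eq_top_or_exists_le_coatom _).resolve_left hNtop
  have hKM : ¬ K ≤ M := fun h => hM.1 (top_le_iff.1
    ((Sylow.normalizer_sup_eq_top P).ge.trans (sup_le hNM h)))
  rcases core hχ hK hM hKM with hg | ⟨hn, -⟩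
  · exact hg
  exfalso
  haveI := hn
  have h := normalizer_sup_eq_top P (S := K ⊓ M)
    (le_inf (Subgroup.map_subtype_le _) ((Subgroup.le_normalizer).trans hNM)) inf_le_left
  exact hM.1 (top_le_iff.1 (h.ge.trans (sup_le hNM inf_le_right)))

omit [Fintype G] in
/-- Averaging: a linear character of `K` trivial on `S` with trivial stabilizer outside `K`. -/
theorem exists_regular [Finite G] {K S N : Subgroup G} [K.Normal] [S.Normal] [N.Normal]
    (hab : ∀ a ∈ K, ∀ b ∈ K, a * b * a⁻¹ * b⁻¹ ∈ S) {q : ℕ} (hq : q.Prime) {Q : Subgroup G}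
    (hQ : IsPGroup q Q) (hqidx : ¬ q ∣ S.relIndex K) (hQN : Q ≤ N) (hKQ : K ⊔ Q = N)
    (hcomm : ∀ a ∈ N, ∀ b ∈ N, a * b * a⁻¹ * b⁻¹ ∈ K)
    (htriv : ∀ n ∈ N, (∀ a ∈ K, n * a * n⁻¹ * a⁻¹ ∈ S) → n ∈ K) :
    ∃ μ : K →* ℂˣ, (∀ a : K, (a : G) ∈ S → μ a = 1) ∧
      ∀ n ∈ N, (∀ a : K, μ (MulAut.conjNormal n a) = μ a) → n ∈ K := by
  classical
  set S' := S.subgroupOf K
  letI : CommGroup (K ⧸ S') :=
    { (inferInstance : Group (K ⧸ S')) with
      mul_comm := fun a b => by
        induction a using QuotientGroup.induction_on with | _ a => ?_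
        induction b using QuotientGroup.induction_on with | _ b => ?_
        refine QuotientGroup.eq.2 ?_
        show ((a : G) * b)⁻¹ * (b * a) ∈ S
        simpa [mul_assoc] using hab _ (K.inv_mem b.2) _ (K.inv_mem a.2) }
  haveI : NeZero (Monoid.exponent (K ⧸ S') : ℂ) :=
    ⟨Nat.cast_ne_zero.2 Monoid.ExponentExists.of_finite.exponent_ne_zero⟩
  have hsep : ∀ a : K, (a : G) ∉ S → ∃ μ : K →* ℂˣ,
      (∀ b : K, (b : G) ∈ S → μ b = 1) ∧ μ a ≠ 1 := by
    intro a ha
    obtain ⟨φ, hφ⟩ := CommGroup.exists_apply_ne_one_of_hasEnoughRootsOfUnity (K ⧸ S') ℂ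
      (a := (a : K ⧸ S')) (fun h => ha ((QuotientGroup.eq_one_iff a).1 h))
    refine ⟨φ.comp (QuotientGroup.mk' S'), fun b hb => ?_, hφ⟩
    show φ (b : K ⧸ S') = 1
    rw [(QuotientGroup.eq_one_iff b).2 hb, map_one]
  let act : (K →* ℂˣ) → G → (K →* ℂˣ) := fun μ n =>
    μ.comp (MulAut.conjNormal n : K ≃* K).toMonoidHom
  have act_apply : ∀ μ n a, act μ n a = μ (MulAut.conjNormal n a) := fun μ n a => rfl
  have act_one : ∀ μ, act μ 1 = μ := fun μ => MonoidHom.ext fun a => by simp [act_apply]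
  have act_mul : ∀ μ m n, act (act μ m) n = act μ (m * n) := fun μ m n =>
    MonoidHom.ext fun a => by simp only [act_apply, map_mul, MulAut.mul_apply]
  have act_mulhom : ∀ μ ν n, act (μ * ν) n = act μ n * act ν n := fun μ ν n => rfl
  have act_inv : ∀ μ n, act μ⁻¹ n = (act μ n)⁻¹ := fun μ n => rfl
  have act_pow : ∀ μ (j : ℕ) n, act (μ ^ j) n = act μ n ^ j := fun μ j n => rfl
  have act_K : ∀ μ, ∀ k ∈ K, act μ k = μ := fun μ k hk => MonoidHom.ext fun a => by
    rw [act_apply, show MulAut.conjNormal k a = (⟨k, hk⟩ : K) * a * (⟨k, hk⟩ : K)⁻¹ from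
      Subtype.ext (MulAut.conjNormal_apply k a), map_mul, map_mul, map_inv, mul_right_comm,
      mul_inv_cancel, one_mul]
  have act_comm : ∀ μ, ∀ a ∈ N, ∀ b ∈ N, act μ (a * b) = act μ (b * a) := by
    intro μ a ha b hb
    rw [show a * b = (a * b * a⁻¹ * b⁻¹) * (b * a) by group, ← act_mul, act_K μ _ (hcomm a ha b hb)]
  -- exponent
  have hexp : ∀ (μ : K →* ℂˣ), (∀ a : K, (a : G) ∈ S → μ a = 1) → μ ^ S'.index = 1 := by
    intro μ hμ
    refine MonoidHom.ext fun a => ?_
    rw [MonoidHom.pow_apply, MonoidHom.one_apply, ← map_pow]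
    exact hμ _ (Subgroup.mem_subgroupOf.1 (S'.pow_index_mem a))
  let A : Set (K →* ℂˣ) := {μ | ∀ a : K, (a : G) ∈ S → μ a = 1}
  have hA_act : ∀ μ ∈ A, ∀ n, act μ n ∈ A := fun μ hμ n a ha => hμ _ (by
    show ((MulAut.conjNormal n a : K) : G) ∈ S
    rw [MulAut.conjNormal_apply]; exact ‹S.Normal›.conj_mem _ ha n)
  have hA_mul : ∀ μ ∈ A, ∀ ν ∈ A, μ * ν ∈ A := fun μ hμ ν hν a ha => by
    rw [MonoidHom.mul_apply, hμ a ha, hν a ha, one_mul]
  have hA_inv : ∀ μ ∈ A, μ⁻¹ ∈ A := fun μ hμ a ha => by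
    rw [MonoidHom.inv_apply, hμ a ha, inv_one]
  let st : (K →* ℂˣ) → Set G := fun μ => {n | n ∈ N ∧ act μ n = μ}
  have hne : ∃ c : ℕ, ∃ μ ∈ A, (st μ).ncard = c := ⟨_, 1, fun _ _ => rfl, rfl⟩
  obtain ⟨μ, hμA, hμc⟩ := Nat.find_spec hne
  refine ⟨μ, hμA, fun n hnN hn => ?_⟩
  by_contra hnK
  have hnfix : act μ n = μ := MonoidHom.ext hn
  -- write `n = k * y` with `y ∈ Q`
  obtain ⟨k, hk, y, hy, rfl⟩ := Subgroup.mem_sup_of_normal_left.1 (hKQ.ge hnN)
  have hyK : y ∉ K := fun h => hnK (K.mul_mem hk h)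
  have hyfix : act μ y = μ := by rw [← act_mul, act_K μ k hk] at hnfix; exact hnfix
  obtain ⟨ν, hνA, hνy⟩ : ∃ ν ∈ A, act ν y ≠ ν := by
    by_contra hno
    push Not at hno
    refine hyK (htriv y (hQN hy) fun a ha => ?_)
    by_contra hS
    obtain ⟨ν, hν, hne⟩ := hsep ⟨_, K.mul_mem (‹K.Normal›.conj_mem a ha y) (K.inv_mem ha)⟩ hS
    apply hne
    have h := DFunLike.congr_fun (hno ν hν) ⟨a, ha⟩
    rw [act_apply] at h
    rw [show (⟨_, K.mul_mem (‹K.Normal›.conj_mem a ha y) (K.inv_mem ha)⟩ : K) =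
      MulAut.conjNormal y ⟨a, ha⟩ * (⟨a, ha⟩ : K)⁻¹ from
        Subtype.ext (by simp [MulAut.conjNormal_apply]), map_mul, map_inv, h, mul_inv_cancel]
  -- the part of `Q` fixing `μ`
  let T : Subgroup Q :=
    { carrier := {t | act μ (t : G) = μ}
      one_mem' := act_one μ
      mul_mem' := fun {a b} ha hb => by
        show act μ ((a : G) * b) = μ
        rw [← act_mul, show act μ (a : G) = μ from ha, show act μ (b : G) = μ from hb]
      inv_mem' := fun {a} ha => by
        show act μ (a : G)⁻¹ = μ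
        conv_lhs => rw [← show act μ (a : G) = μ from ha]
        rw [act_mul, mul_inv_cancel, act_one] }
  haveI := Fintype.ofFinite T
  set m := Nat.card T
  have hcop : ∀ ρ : K →* ℂˣ, ρ ∈ A → ρ ^ m = 1 → ρ = 1 := by
    intro ρ hρ hρm
    haveI := Fact.mk hq
    obtain ⟨j, hj⟩ := hQ.exists_card_eq
    have hTd : m ∣ q ^ j := by rw [← hj]; exact T.card_subgroup_dvd_card
    obtain ⟨i, -, hi⟩ := (Nat.dvd_prime_pow hq).1 hTd
    have hg : Nat.gcd m S'.index = 1 := by
      rw [hi]
      exact Nat.Coprime.pow_left i (hq.coprime_iff_not_dvd.2 hqidx)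
    have h := (pow_gcd_eq_one (a := ρ)).2 ⟨hρm, hexp ρ hρ⟩
    rwa [hg, pow_one] at h
  let e : (K →* ℂˣ) → (K →* ℂˣ) := fun ρ => ∏ t : T, act ρ ((t : Q) : G)
  let v := ν ^ m * (e ν)⁻¹
  have hem : ∀ ρ, ∀ z ∈ Q, e (act ρ z) = act (e ρ) z := by
    intro ρ z hz
    show ∏ t : T, act (act ρ z) ((t : Q) : G) = act (∏ t : T, act ρ ((t : Q) : G)) z
    refine MonoidHom.ext fun a => ?_
    rw [act_apply, MonoidHom.finsetProd_apply, MonoidHom.finsetProd_apply]
    refine Finset.prod_congr rfl fun t _ => ?_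
    rw [act_mul, act_comm ρ z (hQN hz) _ (hQN (t : Q).2), ← act_mul, act_apply]
  have hemul : ∀ ρ σ, e (ρ * σ) = e ρ * e σ := fun ρ σ => by
    simp only [e, act_mulhom, Finset.prod_mul_distrib]
  have heμ : e μ = μ ^ m := by
    show ∏ t : T, act μ ((t : Q) : G) = μ ^ m
    rw [Finset.prod_congr rfl (g := fun _ => μ) fun t _ => t.2, Finset.prod_const,
      Finset.card_univ, ← Nat.card_eq_fintype_card]
  have heT : ∀ ρ, ∀ t : T, act (e ρ) ((t : Q) : G) = e ρ := by
    intro ρ t
    refine MonoidHom.ext fun a => ?_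
    show (∏ s : T, act ρ ((s : Q) : G)) (MulAut.conjNormal ((t : Q) : G) a) =
      (∏ s : T, act ρ ((s : Q) : G)) a
    rw [MonoidHom.finsetProd_apply, MonoidHom.finsetProd_apply]
    refine Fintype.prod_equiv (Equiv.mulRight t) _ _ fun s => ?_
    rw [Equiv.coe_mulRight, ← act_apply, act_mul]
    rfl
  have heν : e v = 1 := by
    have h1 : e (ν ^ m) = e ν ^ m := by
      simp only [e, act_pow, Finset.prod_pow]
    have h2 : e (e ν)⁻¹ = (e ν ^ m)⁻¹ := by
      show ∏ t : T, act (e ν)⁻¹ ((t : Q) : G) = (e ν ^ m)⁻¹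
      rw [Finset.prod_congr rfl (g := fun _ => (e ν)⁻¹) fun t _ => by rw [act_inv, heT],
        Finset.prod_const, Finset.card_univ, ← Nat.card_eq_fintype_card]
      exact MonoidHom.ext fun a => by simp [m]
    rw [hemul, h1, h2]
    exact MonoidHom.ext fun a => by simp
  have hvA : v ∈ A := fun a ha => by
    simp only [v, e, MonoidHom.mul_apply, MonoidHom.inv_apply, MonoidHom.pow_apply,
      MonoidHom.finsetProd_apply]
    rw [hνA a ha, Finset.prod_eq_one fun t _ => hA_act ν hνA _ a ha]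
    simp
  have hyT : (⟨y, hy⟩ : Q) ∈ T := hyfix
  have hvy : act v y ≠ v := by
    intro h
    apply hνy
    have h1 : act (ν ^ m) y = ν ^ m := by
      have h2 : act v y = act (ν ^ m) y * (e ν)⁻¹ := by
        rw [act_mulhom, act_inv, heT ν ⟨⟨y, hy⟩, hyT⟩]
      rw [h] at h2
      exact mul_right_cancel h2.symm
    rw [act_pow] at h1
    have h3 := hcop (act ν y * ν⁻¹) (hA_mul _ (hA_act ν hνA y) _ (hA_inv ν hνA))
      (MonoidHom.ext fun a => by
        have h4 := DFunLike.congr_fun h1 a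
        simp only [MonoidHom.pow_apply] at h4
        simp only [MonoidHom.pow_apply, MonoidHom.mul_apply, MonoidHom.inv_apply, mul_pow, h4,
          inv_pow, mul_inv_cancel, MonoidHom.one_apply])
    refine MonoidHom.ext fun a => ?_
    have h4 := DFunLike.congr_fun h3 a
    simp only [MonoidHom.mul_apply, MonoidHom.inv_apply, MonoidHom.one_apply] at h4
    exact mul_inv_eq_one.1 h4
  have hsub : st (μ * v) ⊂ st μ := by
    refine Set.ssubset_iff_subset_ne.2 ⟨?_, fun heq => ?_⟩
    · rintro g ⟨hgN, hg⟩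
      refine ⟨hgN, ?_⟩
      obtain ⟨k', hk', z, hz, rfl⟩ := Subgroup.mem_sup_of_normal_left.1 (hKQ.ge hgN)
      rw [← act_mul, act_K _ k' hk'] at hg ⊢
      have h1 := congrArg e hg
      rw [hem _ z hz, hemul, heμ, heν,
        show μ ^ m * 1 = μ ^ m from MonoidHom.ext fun a => mul_one _, act_pow] at h1
      have h3 := hcop (act μ z * μ⁻¹) (hA_mul _ (hA_act μ hμA z) _ (hA_inv μ hμA))
        (MonoidHom.ext fun a => by
          have h4 := DFunLike.congr_fun h1 a
          simp only [MonoidHom.pow_apply] at h4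
          simp only [MonoidHom.pow_apply, MonoidHom.mul_apply, MonoidHom.inv_apply, mul_pow, h4,
            inv_pow, mul_inv_cancel, MonoidHom.one_apply])
      refine MonoidHom.ext fun a => ?_
      have h4 := DFunLike.congr_fun h3 a
      simp only [MonoidHom.mul_apply, MonoidHom.inv_apply, MonoidHom.one_apply] at h4
      exact mul_inv_eq_one.1 h4
    · have h1 : y ∈ st (μ * v) := heq ▸ ⟨hQN hy, hyfix⟩
      apply hvy
      have h2 := h1.2
      rw [act_mulhom, hyfix] at h2
      exact mul_left_cancel h2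
  have hlt := Set.ncard_lt_ncard hsub (Set.toFinite _)
  have := Nat.find_min' hne ⟨μ * v, hA_mul μ hμA v hvA, rfl⟩
  omega

/-- The trace of the component of `ψ` on a linear character of `K` not fixed by `y`, resp. not
occurring in `ψ`, vanishes. -/
theorem sum_linear_eq_zero {ψ : G → ℂ} (hψ : Cfsg.IsCharacter G ψ) {K : Subgroup G} [Fintype K]
    (μ : K →* ℂˣ) (h0 : ∑ k : K, conj (μ k : ℂ) * ψ k = 0) (y : G) :
    ∑ k : K, conj (μ k : ℂ) * ψ ((k : G) * y) = 0 := by
  obtain ⟨d, ρ, rfl⟩ := hψ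
  set P : (Fin d → ℂ) →ₗ[ℂ] (Fin d → ℂ) := ∑ k : K, conj (μ k : ℂ) • ρ (k : G) with hP
  have hPk : ∀ k : K, ρ (k : G) * P = (μ k : ℂ) • P := by
    intro k
    rw [hP, Finset.mul_sum, Finset.smul_sum]
    refine Fintype.sum_equiv (Equiv.mulLeft k) _ _ fun j => ?_
    rw [Equiv.coe_mulLeft, mul_smul_comm, ← map_mul, Subgroup.coe_mul, smul_smul]
    congr 1
    rw [map_mul μ, Units.val_mul, map_mul, ← mul_assoc, Complex.mul_conj,
      Complex.normSq_eq_norm_sq, linear_norm_eq_one μ k]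
    simp
  have hPP : P * P = (Nat.card K : ℂ) • P := by
    conv_lhs => arg 1; rw [hP]
    rw [Finset.sum_mul, Finset.sum_congr rfl (g := fun _ => P) fun k _ => by
      rw [smul_mul_assoc, hPk, smul_smul, mul_comm, Complex.mul_conj, Complex.normSq_eq_norm_sq,
        linear_norm_eq_one μ k]
      simp, Finset.sum_const, Finset.card_univ, ← Nat.card_eq_fintype_card, Nat.cast_smul_eq_nsmul]
  have hc : (Nat.card K : ℂ) ≠ 0 := natCard_ne_zero
  set E := (Nat.card K : ℂ)⁻¹ • P with hE
  have hEE : IsIdempotentElem E := by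
    show E * E = E
    rw [hE, smul_mul_assoc, mul_smul_comm, hPP, inv_smul_smul₀ hc]
  have htrP : LinearMap.trace ℂ _ P = 0 := by
    rw [hP, map_sum, ← h0]
    refine Finset.sum_congr rfl fun k _ => ?_
    rw [map_smul, smul_eq_mul]
    rfl
  have hP0 : P = 0 := by
    have h1 := (LinearMap.IsIdempotentElem.isProj_range E hEE).trace
    rw [hE, map_smul, htrP, smul_zero, eq_comm, Nat.cast_eq_zero, Submodule.finrank_eq_zero,
      LinearMap.range_eq_bot] at h1
    exact (smul_eq_zero.1 h1).resolve_left (inv_ne_zero hc)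
  have h2 : ∑ k : K, conj (μ k : ℂ) * ρ.character ((k : G) * y) =
      LinearMap.trace ℂ _ (P * ρ y) := by
    rw [hP, Finset.sum_mul, map_sum]
    refine Finset.sum_congr rfl fun k _ => ?_
    rw [smul_mul_assoc, map_smul, ← map_mul, smul_eq_mul]
    rfl
  rw [h2, hP0, zero_mul, map_zero]

theorem second_case {χ : G → ℂ} (hχ : Cfsg.IsIrrCharacter G χ) {K : Subgroup G} [K.Normal]
    (hK : ∀ g : G, g ∈ K ↔ χ g = χ 1) (hF : K = Cfsg.fittingSubgroup G)
    (hsolv : Group.IsSolvable (G ⧸ K)) (htop : K ≠ ⊤) : Good χ K := by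
  classical
  haveI := hsolv
  haveI := nontrivial_iff.mpr ⟨(1 : G ⧸ K), by
    by_contra h
    push Not at h
    exact htop (top_le_iff.1 fun g _ => (QuotientGroup.eq_one_iff g).1 (h (g : G ⧸ K)).symm)⟩
  -- a chief factor above `K`
  obtain ⟨N₀, hN₀, -, hN₀ne, hN₀min⟩ :=
    Cfsg.Agent.Solvable.Basics.exists_minimal_normal (N := (⊤ : Subgroup (G ⧸ K))) top_ne_bot
  haveI := hN₀
  obtain ⟨hN₀c, q, hq, hN₀q⟩ := Cfsg.Agent.Solvable.Basics.minimal_normal_solvable
    (inferInstance : Group.IsSolvable N₀) hN₀ne hN₀min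
  haveI := Fact.mk hq
  set N := N₀.comap (QuotientGroup.mk' K) with hNdef
  have hKN : K ≤ N := fun a ha => by
    show (a : G ⧸ K) ∈ N₀
    rw [(QuotientGroup.eq_one_iff a).2 ha]; exact one_mem _
  have hNK : ¬ N ≤ K := fun h => hN₀ne (le_bot_iff.1 fun z hz => by
    obtain ⟨g, rfl⟩ := QuotientGroup.mk_surjective z
    exact Subgroup.mem_bot.2 ((QuotientGroup.eq_one_iff g).2 (h hz)))
  have hNcomm : ∀ a ∈ N, ∀ b ∈ N, a * b * a⁻¹ * b⁻¹ ∈ K := by
    intro a ha b hb
    rw [← QuotientGroup.eq_one_iff]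
    have h : (a : G ⧸ K) * b = b * a :=
      congrArg Subtype.val (hN₀c.is_comm.comm (⟨_, ha⟩ : N₀) ⟨_, hb⟩)
    simp only [QuotientGroup.mk_mul, QuotientGroup.mk_inv, h]
    group
  have hNexp : ∀ a ∈ N, a ^ q ∈ K := fun a ha => by
    rw [← QuotientGroup.eq_one_iff, QuotientGroup.mk_pow]
    exact hN₀q _ ha
  have hqidxNK : ∃ j, K.relIndex N = q ^ j := by
    haveI := Fintype.ofFinite N
    have : IsPGroup q (N ⧸ K.subgroupOf N) := by
      intro z
      induction z using QuotientGroup.induction_on with | _ a => ?_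
      exact ⟨1, by
        rw [pow_one, ← QuotientGroup.mk_pow]
        exact (QuotientGroup.eq_one_iff _).2 (Subgroup.mem_subgroupOf.2 (by simpa using hNexp _ a.2))⟩
    obtain ⟨j, hj⟩ := this.exists_card_eq
    exact ⟨j, by rw [Subgroup.relIndex, Subgroup.index_eq_card, hj]⟩
  have hNF : ¬ N ≤ Cfsg.fittingSubgroup G := hF ▸ hNK
  obtain ⟨r, _, P, hP⟩ := exists_sylow_not_normal hNF
  set Q := (P : Subgroup N).map N.subtype with hQdef
  have hQN : Q ≤ N := Subgroup.map_subtype_le _
  have hQsub : Q.subgroupOf N = P := Subgroup.comap_map_eq_self_of_injective N.subtype_injective _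
  have hQidx : ¬ r ∣ Q.relIndex N := by
    rw [Subgroup.relIndex, hQsub]; exact P.not_dvd_index
  have hQp : IsPGroup r Q := P.isPGroup'.map N.subtype
  have hnilK : Group.IsNilpotent K := hF ▸ Cfsg.Agent.Cores.fittingSubgroup_isNilpotent
  have hKsylow : ∀ (s : ℕ) [Fact s.Prime] (R : Sylow s K), ((R : Subgroup K).map K.subtype).Normal := by
    intro s _ R
    haveI : (R : Subgroup K).Normal :=
      ((Group.isNilpotent_of_finite_tfae (G := K)).out 0 3 rfl rfl).1 hnilK s inferInstance R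
    haveI : (R : Subgroup K).Characteristic := R.characteristic_of_normal inferInstance
    infer_instance
  have hrq : r = q := by
    by_contra hne
    apply hP
    have hQK : Q ≤ K := by
      intro a ha
      obtain ⟨j, hj⟩ := hQp ⟨a, ha⟩
      have h1 : (a : G ⧸ K) ^ r ^ j = 1 := by
        rw [← QuotientGroup.mk_pow, show a ^ r ^ j = 1 from congrArg Subtype.val hj,
          QuotientGroup.mk_one]
      have h2 : (a : G ⧸ K) ^ q = 1 := hN₀q _ (hQN ha)
      have h3 := (pow_gcd_eq_one (a := (a : G ⧸ K))).2 ⟨h1, h2⟩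
      rw [(Nat.Coprime.pow_left j ((Nat.coprime_primes (Fact.out : r.Prime) hq).2 hne)).gcd_eq_one,
        pow_one] at h3
      exact (QuotientGroup.eq_one_iff a).1 h3
    have hpg : IsPGroup r (Q.subgroupOf K) :=
      IsPGroup.comap_of_injective hQp K.subtype K.subtype_injective
    have hidx : ¬ r ∣ (Q.subgroupOf K).index := fun h => hQidx (by
      rw [← Subgroup.relIndex_mul_relIndex Q K N hQK hKN]
      exact dvd_mul_of_dvd_left h _)
    have h := hKsylow r (hpg.toSylow hidx)
    rwa [show ((hpg.toSylow hidx : Sylow r K) : Subgroup K).map K.subtype = Q from by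
      show (Q.subgroupOf K).map K.subtype = Q
      rw [Subgroup.subgroupOf_map_subtype, inf_eq_left.2 hQK]] at h
  subst hrq
  have hKQ : K ⊔ Q = N := by
    refine le_antisymm (sup_le hKN hQN) (Subgroup.relIndex_eq_one.1 ?_)
    obtain ⟨j, hj⟩ := hqidxNK
    have h1 : (K ⊔ Q).relIndex N ∣ r ^ j :=
      hj ▸ Subgroup.relIndex_dvd_of_le_left N le_sup_left
    have h2 : (K ⊔ Q).relIndex N ∣ Q.relIndex N := Subgroup.relIndex_dvd_of_le_left N le_sup_right
    obtain ⟨i, -, hi⟩ := (Nat.dvd_prime_pow hq).1 h1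
    rcases Nat.eq_zero_or_pos i with h0 | h0
    · rw [hi, h0, pow_zero]
    · exact absurd ((dvd_pow_self r h0.ne').trans (hi ▸ h2)) hQidx
  have hNtop : Subgroup.normalizer (Q : Set G) ≠ ⊤ := fun h =>
    hP (Subgroup.normalizer_eq_top_iff.1 h)
  obtain ⟨M, hM, hNM⟩ := (eq_top_or_exists_le_coatom _).resolve_left hNtop
  have hQM : Q ≤ M := Subgroup.le_normalizer.trans hNM
  have hnotNM : ¬ N ≤ M := fun h => hM.1 (top_le_iff.1
    ((Sylow.normalizer_sup_eq_top P).ge.trans (sup_le hNM h)))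
  have hKM : ¬ K ≤ M := fun h => hnotNM (hKQ ▸ sup_le h hQM)
  rcases core hχ hK hM hKM with hg | ⟨hSn, hext⟩
  · exact hg
  exfalso
  haveI := hSn
  set S := K ⊓ M with hSdef
  have hSK : S ≤ K := inf_le_left
  have hchief : ∀ R : Subgroup G, R.Normal → S ≤ R → R ≤ K → R = S ∨ R = K := by
    intro R hR hSR hRK
    by_cases hRM : R ≤ M
    · exact Or.inl (le_antisymm (le_inf hRK hRM) hSR)
    · right
      refine le_antisymm hRK fun a ha => ?_
      have htop' : R ⊔ M = ⊤ := hM.2 _ (lt_of_le_of_ne le_sup_right fun h => hRM (h ▸ le_sup_left))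
      haveI := hR
      obtain ⟨x, hx, m, hm, rfl⟩ := Subgroup.mem_sup_of_normal_left.1 (htop' ▸ Subgroup.mem_top a)
      refine R.mul_mem hx (hSR ⟨?_, hm⟩)
      simpa using K.mul_mem (K.inv_mem (hRK hx)) ha
  have hab : ∀ a ∈ K, ∀ b ∈ K, a * b * a⁻¹ * b⁻¹ ∈ S := by
    rcases hchief (⁅K, K⁆ ⊔ S) inferInstance le_sup_right (sup_le (Subgroup.commutator_le_self K) hSK)
      with h | h
    · intro a ha b hb
      exact h.le (Subgroup.mem_sup_left (Subgroup.commutator_mem_commutator ha hb))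
    · exfalso
      set Kb := K.map (QuotientGroup.mk' S)
      have hKb : Kb ≠ ⊥ := fun hb => hKM fun a ha => by
        have h1 : (a : G ⧸ S) ∈ Kb := ⟨a, ha, rfl⟩
        rw [hb, Subgroup.mem_bot] at h1
        exact ((QuotientGroup.eq_one_iff a).1 h1).2
      haveI : Group.IsNilpotent K := hnilK
      haveI : Group.IsNilpotent Kb := Cfsg.Agent.Cores.isNilpotent_map K _ hnilK
      have hlt := Cfsg.Agent.Coprime.commutator_lt_of_isSolvable
        (inferInstance : Group.IsSolvable Kb) hKb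
      refine hlt.ne ?_
      have h2 := congrArg (Subgroup.map (QuotientGroup.mk' S)) h
      rwa [Subgroup.map_sup, QuotientGroup.map_mk'_self, sup_bot_eq, Subgroup.map_commutator] at h2
  have hqidx : ¬ r ∣ S.relIndex K := by
    intro hd
    obtain ⟨R⟩ : Nonempty (Sylow r K) := inferInstance
    haveI := hKsylow r R
    set Rg := (R : Subgroup K).map K.subtype
    have hRK : Rg ≤ K := Subgroup.map_subtype_le _
    have hRsub : Rg.subgroupOf K = R := Subgroup.comap_map_eq_self_of_injective K.subtype_injective _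
    rcases hchief (Rg ⊔ S) inferInstance le_sup_right (sup_le hRK hSK) with h | h
    · have h1 : S.relIndex K ∣ Rg.relIndex K :=
        Subgroup.relIndex_dvd_of_le_left K (h ▸ le_sup_left)
      refine R.not_dvd_index ?_
      rw [← hRsub]
      exact hd.trans h1
    · obtain ⟨i, hi⟩ : ∃ i, S.relIndex K = r ^ i := by
        rw [← h, Subgroup.relIndex_sup_right]
        have h1 : S.relIndex Rg ∣ Nat.card Rg := Subgroup.relIndex_dvd_card _ _
        obtain ⟨c, hc⟩ := (R.isPGroup'.map K.subtype).exists_card_eq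
        obtain ⟨i, -, hi⟩ := (Nat.dvd_prime_pow hq).1 (hc ▸ h1)
        exact ⟨i, hi⟩
      obtain ⟨j, hj⟩ := hqidxNK
      apply hnotNM
      have h2 : Q ⊔ S = N := by
        refine le_antisymm (sup_le hQN (hSK.trans hKN)) (Subgroup.relIndex_eq_one.1 ?_)
        have h3 : S.relIndex N = r ^ (i + j) := by
          rw [← Subgroup.relIndex_mul_relIndex S K N hSK hKN, hi, hj, pow_add]
        have h4 : (Q ⊔ S).relIndex N ∣ r ^ (i + j) :=
          h3 ▸ Subgroup.relIndex_dvd_of_le_left N le_sup_right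
        obtain ⟨l, -, hl⟩ := (Nat.dvd_prime_pow hq).1 h4
        rcases Nat.eq_zero_or_pos l with h0 | h0
        · rw [hl, h0, pow_zero]
        · exact absurd ((dvd_pow_self r h0.ne').trans
            (hl ▸ Subgroup.relIndex_dvd_of_le_left N (le_sup_left : Q ≤ Q ⊔ S))) hQidx
      exact h2 ▸ sup_le hQM inf_le_right
  haveI : N.Normal := hN₀.comap _
  have htriv : ∀ n ∈ N, (∀ a ∈ K, n * a * n⁻¹ * a⁻¹ ∈ S) → n ∈ K := by
    let N₁ : Subgroup G := (Subgroup.centralizer ((K.map (QuotientGroup.mk' S) : Subgroup (G ⧸ S)) :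
      Set (G ⧸ S))).comap (QuotientGroup.mk' S) ⊓ N
    have hN₁mem : ∀ n, n ∈ N₁ ↔ n ∈ N ∧ ∀ a ∈ K, n * a * n⁻¹ * a⁻¹ ∈ S := by
      intro n
      rw [Subgroup.mem_inf, and_comm,
        Subgroup.mem_comap (f := QuotientGroup.mk' S), Subgroup.mem_centralizer_iff]
      refine and_congr_right fun _ => ⟨fun h a ha => ?_, fun h z hz => ?_⟩
      · rw [← QuotientGroup.eq_one_iff]
        have h1 := h _ ⟨a, ha, rfl⟩
        simp only [QuotientGroup.mk'_apply] at h1
        simp only [QuotientGroup.mk_mul, QuotientGroup.mk_inv, ← h1]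
        group
      · obtain ⟨a, ha, rfl⟩ := hz
        have h1 := (QuotientGroup.eq_one_iff _).2 (h a ha)
        simp only [QuotientGroup.mk_mul, QuotientGroup.mk_inv, mul_inv_eq_one,
          mul_inv_eq_iff_eq_mul] at h1
        simpa using h1.symm
    haveI : N₁.Normal := by
      haveI : (K.map (QuotientGroup.mk' S)).Normal :=
        ‹K.Normal›.map _ (QuotientGroup.mk'_surjective S)
      exact Subgroup.normal_inf_normal _ _
    rcases hN₀min (N₁.map (QuotientGroup.mk' K)) (Subgroup.Normal.map inferInstance _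
        (QuotientGroup.mk'_surjective K)) (Subgroup.map_le_iff_le_comap.2 inf_le_right) with h | h
    · intro n hn hall
      have h1 : (n : G ⧸ K) ∈ N₁.map (QuotientGroup.mk' K) := ⟨n, (hN₁mem n).2 ⟨hn, hall⟩, rfl⟩
      rw [h, Subgroup.mem_bot] at h1
      exact (QuotientGroup.eq_one_iff n).1 h1
    · exfalso
      have hall : ∀ n ∈ N, ∀ a ∈ K, n * a * n⁻¹ * a⁻¹ ∈ S := by
        intro n hn a ha
        obtain ⟨m, hm, hmn⟩ := (h ▸ hn : (n : G ⧸ K) ∈ N₁.map (QuotientGroup.mk' K))
        have hk : m⁻¹ * n ∈ K := QuotientGroup.eq.1 hmn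
        have h1 := ((hN₁mem m).1 hm).2 _ (‹K.Normal›.conj_mem a ha (m⁻¹ * n))
        have h2 := hab _ hk _ ha
        have h3 := S.mul_mem h1 h2
        simpa [mul_assoc] using h3
      have hgen : N ≤ Subgroup.normalizer ((Q ⊔ S : Subgroup G) : Set G) := by
        rw [← hKQ]
        refine sup_le (fun k hk => ?_) ((le_sup_left).trans Subgroup.le_normalizer)
        have key : ∀ k ∈ K, ∀ x ∈ Q ⊔ S, k * x * k⁻¹ ∈ Q ⊔ S := by
          intro k hk x hx
          have h1 := hall x (sup_le hQN (hSK.trans hKN) hx) _ hk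
          have h2 : k * x * k⁻¹ = (x * k * x⁻¹ * k⁻¹)⁻¹ * x := by group
          rw [h2]
          exact Subgroup.mul_mem _ (Subgroup.mem_sup_right (S.inv_mem h1)) hx
        rw [Subgroup.mem_normalizer_iff]
        refine fun x => ⟨key k hk x, fun hx => ?_⟩
        have := key k⁻¹ (K.inv_mem hk) _ hx
        simpa [mul_assoc] using this
      haveI : (Q ⊔ S).Normal := by
        rw [← Subgroup.normalizer_eq_top_iff, eq_top_iff, ← Sylow.normalizer_sup_eq_top P]
        refine sup_le (fun g hg => ?_) hgen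
        rw [Subgroup.mem_normalizer_iff]
        have key : ∀ g ∈ Subgroup.normalizer (Q : Set G), ∀ x ∈ Q ⊔ S, g * x * g⁻¹ ∈ Q ⊔ S := by
          intro g hg x hx
          obtain ⟨u, hu, s, hs, rfl⟩ := Subgroup.mem_sup_of_normal_right.1 hx
          rw [show g * (u * s) * g⁻¹ = (g * u * g⁻¹) * (g * s * g⁻¹) by group]
          exact Subgroup.mul_mem _ (Subgroup.mem_sup_left ((Subgroup.mem_normalizer_iff.1 hg u).1 hu))
            (Subgroup.mem_sup_right (hSn.conj_mem s hs g))
        refine fun x => ⟨key g hg x, fun hx => ?_⟩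
        have := key g⁻¹ (Subgroup.inv_mem _ hg) _ hx
        simpa [mul_assoc] using this
      have h5 := normalizer_sup_eq_top P (S := Q ⊔ S) le_sup_left (sup_le hQN (hSK.trans hKN))
      exact hM.1 (top_le_iff.1 (h5.ge.trans (sup_le hNM (sup_le hQM inf_le_right))))
  obtain ⟨μ, hμS, hμreg⟩ := exists_regular hab hq hQp hqidx hQN hKQ hNcomm htriv
  haveI := Fintype.ofFinite M
  haveI := Fintype.ofFinite K
  haveI := Fintype.ofFinite N
  haveI := Fintype.ofFinite (K →* ℂˣ)
  haveI := Fintype.ofFinite (Cfsg.IrrCharacter G)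
  set φ : M → ℂ := fun m => χ m with hφdef
  have hsup : K ⊔ M = ⊤ := hM.2 _ (lt_of_le_of_ne le_sup_right fun h => hKM (h ▸ le_sup_left))
  have hres : Cfsg.IsIrrCharacter M φ :=
    restrict_irr_of_sup hχ K (fun l hl => (hK l).1 hl) M hsup
  have hχ1 := irr_one_ne_zero hχ
  have hlin : Cfsg.IsIrrCharacter K (fun k : K => (μ k : ℂ)) := isIrrCharacter_linear μ
  -- a constituent of the induced character over `μ`
  obtain ⟨ψ, hψφ, hψμ⟩ : ∃ ψ : Cfsg.IrrCharacter G,
      Cfsg.classInner (fun m : M => (ψ : G → ℂ) m) φ ≠ 0 ∧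
        Cfsg.classInner (fun k : K => (ψ : G → ℂ) k) (fun k : K => (μ k : ℂ)) ≠ 0 := by
    by_contra hno
    push Not at hno
    have hΦ := isCharacter_indFun M (isCharacter_of_isIrr hres)
    have h0 : Cfsg.classInner (fun k : K => Cfsg.indFun M φ k) (fun k : K => (μ k : ℂ)) = 0 := by
      have h := classFun_eq_sum (char_isClassFunction hΦ)
      rw [show (fun k : K => Cfsg.indFun M φ k) = ∑ ψ : Cfsg.IrrCharacter G,
        Cfsg.classInner (Cfsg.indFun M φ) (ψ : G → ℂ) • (fun k : K => (ψ : G → ℂ) k) from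
        funext fun k => by
          rw [congrFun h k]
          simp only [Finset.sum_apply, Pi.smul_apply], classInner_sum_left]
      refine Finset.sum_eq_zero fun ψ _ => ?_
      rw [classInner_smul_left]
      by_cases hc : Cfsg.classInner (fun m : M => (ψ : G → ℂ) m) φ = 0
      · rw [frobenius_reciprocity M φ (irr_isClassFunction ψ), classInner_conj_symm, hc]
        simp
      · rw [hno ψ hc, mul_zero]
    have hterm : ∀ k : K, Cfsg.indFun M φ k * conj (μ k : ℂ) =
        if (k : G) ∈ S then (M.index : ℂ) * χ 1 else 0 := by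
      intro k
      have hM0 : (Nat.card M : ℂ) ≠ 0 := natCard_ne_zero
      have h1 := IndBasic.card_mul_indFun M φ (k : G)
      by_cases hkS : (k : G) ∈ S
      · rw [if_pos hkS, hμS k hkS, Units.val_one, map_one, mul_one]
        refine mul_left_cancel₀ hM0 ?_
        rw [h1, Finset.sum_congr rfl (g := fun _ => χ 1) fun x _ => ?_, Finset.sum_const,
          Finset.card_univ, nsmul_eq_mul, ← Nat.card_eq_fintype_card, ← Subgroup.card_mul_index M,
          Nat.cast_mul, mul_assoc]
        have hc := hSn.conj_mem _ hkS x⁻¹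
        rw [inv_inv] at hc
        rw [IndBasic.extendByZero_of_mem _ _ hc.2]
        exact (hK _).1 hc.1
      · rw [if_neg hkS]
        refine mul_eq_zero_of_left ((mul_eq_zero.1 (h1.trans (Finset.sum_eq_zero fun x _ => ?_))
          ).resolve_left hM0) _
        refine IndBasic.extendByZero_of_notMem _ _ fun hc => hkS ?_
        have h2 : x⁻¹ * (k : G) * x ∈ S := ⟨by
          simpa using ‹K.Normal›.conj_mem _ k.2 x⁻¹, hc⟩
        simpa [mul_assoc] using hSn.conj_mem _ h2 x
    rw [classInner_def, Finset.sum_congr rfl fun k _ => hterm k, ← Finset.sum_filter,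
      Finset.sum_const, nsmul_eq_mul] at h0
    refine mul_ne_zero (inv_ne_zero natCard_ne_zero) (mul_ne_zero ?_
      (mul_ne_zero (Nat.cast_ne_zero.2 Subgroup.index_ne_zero_of_finite) hχ1)) h0
    exact Nat.cast_ne_zero.2 (Finset.card_ne_zero.2 ⟨1, by simp⟩)
  have hψM := hext ψ hψφ
  have hψS : ∀ s ∈ S, (ψ : G → ℂ) s = (ψ : G → ℂ) 1 := fun s hs =>
    (hψM ⟨s, hs.2⟩).trans (((hK s).1 hs.1).trans (hψM 1).symm)
  -- vanishing off `K` on `Q`
  have hvan : ∀ y ∈ Q, y ∉ K → (ψ : G → ℂ) y = 0 := by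
    intro y hy hyK
    let A := Finset.univ.filter fun ν : K →* ℂˣ => ∀ a : K, (a : G) ∈ S → ν a = 1
    have horth : ∀ k : K, ∑ ν ∈ A, conj (ν k : ℂ) = if (k : G) ∈ S then (A.card : ℂ) else 0 := by
      intro k
      by_cases hkS : (k : G) ∈ S
      · rw [if_pos hkS, Finset.sum_congr rfl (g := fun _ => (1 : ℂ)) fun ν hν => by
          rw [(Finset.mem_filter.1 hν).2 k hkS]; simp, Finset.sum_const, nsmul_one]
      · rw [if_neg hkS]
        obtain ⟨ν₀, hν₀, hne⟩ : ∃ ν : K →* ℂˣ, (∀ a : K, (a : G) ∈ S → ν a = 1) ∧ ν k ≠ 1 := by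
          letI : CommGroup (K ⧸ S.subgroupOf K) :=
            { (inferInstance : Group (K ⧸ S.subgroupOf K)) with
              mul_comm := fun a b => by
                induction a using QuotientGroup.induction_on with | _ a => ?_
                induction b using QuotientGroup.induction_on with | _ b => ?_
                refine QuotientGroup.eq.2 ?_
                show ((a : G) * b)⁻¹ * (b * a) ∈ S
                simpa [mul_assoc] using hab _ (K.inv_mem b.2) _ (K.inv_mem a.2) }
          haveI : NeZero (Monoid.exponent (K ⧸ S.subgroupOf K) : ℂ) :=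
            ⟨Nat.cast_ne_zero.2 Monoid.ExponentExists.of_finite.exponent_ne_zero⟩
          obtain ⟨ν, hν⟩ := CommGroup.exists_apply_ne_one_of_hasEnoughRootsOfUnity
            (K ⧸ S.subgroupOf K) ℂ (a := (k : K ⧸ S.subgroupOf K))
            (fun h => hkS ((QuotientGroup.eq_one_iff k).1 h))
          refine ⟨ν.comp (QuotientGroup.mk' _), fun a ha => ?_, hν⟩
          show ν (a : K ⧸ S.subgroupOf K) = 1
          rw [(QuotientGroup.eq_one_iff a).2 ha, map_one]
        have hshift : conj (ν₀ k : ℂ) * ∑ ν ∈ A, conj (ν k : ℂ) = ∑ ν ∈ A, conj (ν k : ℂ) := by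
          rw [Finset.mul_sum]
          refine Finset.sum_nbij' (fun ν => ν₀ * ν) (fun ν => ν₀⁻¹ * ν) ?_ ?_ ?_ ?_ ?_
          · exact fun ν hν => Finset.mem_filter.2 ⟨Finset.mem_univ _, fun a ha => by
              rw [MonoidHom.mul_apply, hν₀ a ha, (Finset.mem_filter.1 hν).2 a ha, one_mul]⟩
          · exact fun ν hν => Finset.mem_filter.2 ⟨Finset.mem_univ _, fun a ha => by
              rw [MonoidHom.mul_apply, MonoidHom.inv_apply, hν₀ a ha,
                (Finset.mem_filter.1 hν).2 a ha, inv_one, one_mul]⟩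
          · exact fun ν _ => MonoidHom.ext fun a => by simp
          · exact fun ν _ => MonoidHom.ext fun a => by simp
          · exact fun ν _ => by rw [MonoidHom.mul_apply, Units.val_mul, map_mul]
        by_contra h0
        exact hne (Units.val_eq_one.1 ((map_eq_one_iff _ (starRingEnd ℂ).injective).1
          ((mul_eq_right₀ h0).1 hshift)))
    have hF0 : ∀ ν ∈ A, ∑ k : K, conj (ν k : ℂ) * (ψ : G → ℂ) ((k : G) * y) = 0 := by
      intro ν hν
      by_cases h0 : ∑ k : K, conj (ν k : ℂ) * (ψ : G → ℂ) k = 0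
      · exact sum_linear_eq_zero (irr_isCharacter ψ) ν h0 y
      -- `ν` is conjugate to `μ`, hence not fixed by `y`
      have hν' : Cfsg.classInner (fun k : K => (ψ : G → ℂ) k) (fun k : K => (ν k : ℂ)) ≠ 0 := by
        rw [classInner_def]
        refine mul_ne_zero (inv_ne_zero natCard_ne_zero) ?_
        rwa [Finset.sum_congr rfl fun k _ => mul_comm _ _]
      obtain ⟨g, hg⟩ := Clifford.exists_conjBy_eq K ψ.2 hlin (isIrrCharacter_linear ν) hψμ hν'
      have hgν : ∀ a : K, μ (MulAut.conjNormal g a) = ν a := fun a => Units.ext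
        ((congrArg (fun z : K => (μ z : ℂ)) (Subtype.ext (MulAut.conjNormal_apply g a))).trans
          (congrFun hg a))
      obtain ⟨a, ha⟩ : ∃ a : K, ν (MulAut.conjNormal y a) ≠ ν a := by
        by_contra hfix
        push Not at hfix
        apply hyK
        have h1 := hμreg (g * y * g⁻¹) (‹N.Normal›.conj_mem y (hQN hy) g) fun a => by
          have h2 := hfix (MulAut.conjNormal g⁻¹ a)
          rw [← hgν, ← hgν] at h2
          simp only [← MulAut.mul_apply, ← map_mul] at h2
          simpa [mul_assoc] using h2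
        simpa [mul_assoc] using ‹K.Normal›.conj_mem _ h1 g⁻¹
      set z : K := a * (MulAut.conjNormal y a)⁻¹
      have hz : ∀ k : K, (a : G) * ((k : G) * y) * (a : G)⁻¹ =
          ((a * k * a⁻¹ * z : K) : G) * y := fun k => by
        simp only [z, Subgroup.coe_mul, Subgroup.coe_inv, MulAut.conjNormal_apply]
        group
      have hsum : conj (ν z : ℂ) * ∑ k : K, conj (ν k : ℂ) * (ψ : G → ℂ) ((k : G) * y) =
          ∑ k : K, conj (ν k : ℂ) * (ψ : G → ℂ) ((k : G) * y) := by
        rw [Finset.mul_sum]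
        refine Fintype.sum_equiv ((MulAut.conj a).toEquiv.trans (Equiv.mulRight z)) _ _ fun k => ?_
        show _ = conj (ν (a * k * a⁻¹ * z) : ℂ) * (ψ : G → ℂ) (((a * k * a⁻¹ * z : K) : G) * y)
        have e : ν (a * k * a⁻¹ * z) = ν k * ν z := by
          rw [MonoidHom.map_mul, MonoidHom.map_mul, MonoidHom.map_mul, MonoidHom.map_inv,
            mul_right_comm (ν a), mul_inv_cancel, one_mul]
        rw [← hz, irr_isClassFunction ψ, e, Units.val_mul]
        simp only [map_mul]
        ring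
      by_contra hne
      have h1 := Units.val_eq_one.1 ((map_eq_one_iff _ (starRingEnd ℂ).injective).1
        ((mul_eq_right₀ hne).1 hsum))
      rw [map_mul, map_inv, mul_inv_eq_one] at h1
      exact ha h1.symm
    have h1 : ∑ ν ∈ A, ∑ k : K, conj (ν k : ℂ) * (ψ : G → ℂ) ((k : G) * y) = 0 :=
      Finset.sum_eq_zero hF0
    rw [Finset.sum_comm] at h1
    simp only [← Finset.sum_mul, horth, ite_mul, zero_mul] at h1
    rw [← Finset.sum_filter, Finset.sum_congr rfl (g := fun _ => (A.card : ℂ) * (ψ : G → ℂ) y)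
      fun k hk => by
        rw [char_mul_of_eq_one (irr_isCharacter ψ) (hψS _ (Finset.mem_filter.1 hk).2) y],
      Finset.sum_const, nsmul_eq_mul, mul_eq_zero, mul_eq_zero] at h1
    rcases h1 with h | h | h
    · exact absurd h (Nat.cast_ne_zero.2 (Finset.card_ne_zero.2 ⟨1, by simp⟩))
    · exact absurd h (Nat.cast_ne_zero.2 (Finset.card_ne_zero.2 ⟨1, by simp [A]⟩))
    · exact h
  -- `χ` on `N` is supported on `K`
  have hχN : ∀ n : N, χ n = if (n : G) ∈ K then χ 1 else 0 := by
    intro n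
    by_cases hn : (n : G) ∈ K
    · rw [if_pos hn]; exact (hK _).1 hn
    · rw [if_neg hn]
      obtain ⟨k, hk, y, hy, hky⟩ := Subgroup.mem_sup_of_normal_left.1 (hKQ.ge n.2)
      rw [← hky, char_mul_of_eq_one (isCharacter_of_isIrr hχ) ((hK k).1 hk) y,
        ← show (ψ : G → ℂ) y = χ y from hψM ⟨y, hQM hy⟩]
      exact hvan y hy fun h => hn (hky ▸ K.mul_mem hk h)
  rcases Average.avg_irr (N := N) hχ with h | h
  · apply hNK
    intro n hn
    rw [hK]
    have h1 := congrFun h 1
    have h2 := congrFun h n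
    have h3 := Average.avg_mul_left N χ ⟨n, hn⟩ 1
    rw [mul_one, h1, h2] at h3
    exact h3
  · have h1 := congrFun h 1
    rw [Average.avg_one, Pi.zero_apply, mul_eq_zero] at h1
    have h2 := h1.resolve_left (inv_ne_zero natCard_ne_zero)
    rw [Finset.sum_congr rfl fun n _ => hχN n, ← Finset.sum_filter, Finset.sum_const,
      nsmul_eq_mul, mul_eq_zero] at h2
    exact h2.elim (Nat.cast_ne_zero.2 (Finset.card_ne_zero.2 ⟨1, by simp⟩)) hχ1

end Cfsg.Agent.BlockCharsA.Garrison
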