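import Mathlib
import Cfsg.Agent.BlockCharsA.CoverOver

/-!
# A vanishing criterion for idempotents under the principal block of a normal subgroup

`N` is normal, contains a Sylow subgroup `P`, and every coset of `N` meets `C(P)`. An integral
idempotent commuting with `N`, absorbed by the principal block of `N` and with vanishing sums over
all cosets is zero.
-/

set_option linter.style.haveILetI false
set_option linter.unusedSectionVars false

namespace Cfsg.Agent.BlockCharsA.IdemVanish

open Cfsg.Agent.Blocks Cfsg.Agent.Characters Cfsg.Agent.CharTheory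
open Cfsg.Agent.BlockCharsA.NormalSupport Cfsg.Agent.BlockCharsA.CoveringDefect

universe u

variable {G : Type u} [Group G] [Finite G] {p : ℕ} {M : Ideal Cfsg.AlgInt}

theorem cong_prod {ι : Type*} (hM : Cfsg.IsPModular p M) (s : Finset ι) {f g : ι → ℂ}
    (h : ∀ i ∈ s, Cong M (f i) (g i)) (hg : ∀ i ∈ s, Cfsg.MemLocalRing M (g i)) :
    Cong M (∏ i ∈ s, f i) (∏ i ∈ s, g i) := by
  classical
  induction s using Finset.induction with
  | empty => exact cong_refl hM _
  | @insert a s ha ih =>
    rw [Finset.prod_insert ha, Finset.prod_insert ha]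
    exact cong_mul hM (h a (Finset.mem_insert_self a s))
      (ih (fun i hi => h i (Finset.mem_insert_of_mem hi))
        fun i hi => hg i (Finset.mem_insert_of_mem hi))
      (hg a (Finset.mem_insert_self a s))
      (Finset.prod_induction g _ (fun _ _ => ring_mul hM) (ring_one hM)
        fun i hi => hg i (Finset.mem_insert_of_mem hi))

/-- An idempotent with all coefficients in the local ideal is zero. -/
theorem eq_zero_of_idem (hM : Cfsg.IsPModular p M) {f : MonoidAlgebra ℂ G} (hf : f * f = f)
    (hI : IdealEl M f) : f = 0 := by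
  classical
  haveI := Fintype.ofFinite G
  set A : Matrix G G ℂ := 1 - Matrix.of fun g h => f.coeff (g * h⁻¹)
  have h1 : A.mulVec (fun g => f.coeff g) = 0 := by
    funext g
    rw [Matrix.sub_mulVec, Matrix.one_mulVec, Pi.sub_apply, Pi.zero_apply, sub_eq_zero]
    conv_lhs => rw [← hf, coeff_mul']
    simp only [Matrix.mulVec, dotProduct, Matrix.of_apply]
    refine Fintype.sum_equiv ((Equiv.inv G).trans (Equiv.mulRight g)) _ _ fun h => ?_
    simp only [Equiv.trans_apply, Equiv.inv_apply, Equiv.coe_mulRight]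
    rw [show g * (h⁻¹ * g)⁻¹ = h by group]
  have hent : ∀ g h, Cong M (A g h) (if g = h then 1 else 0) := by
    intro g h
    simp only [A, Cong, Matrix.sub_apply, Matrix.one_apply, Matrix.of_apply, sub_sub_cancel_left]
    exact ideal_neg hM (hI _)
  have hdet : Cong M A.det 1 := by
    rw [← Matrix.det_one (n := G) (R := ℂ), Matrix.det_apply', Matrix.det_apply']
    exact cong_sum hM fun σ _ => cong_mul_left hM (ring_intCast hM _) (cong_prod hM _
      (fun i _ => by rw [Matrix.one_apply]; exact hent _ _)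
      (fun i _ => by
        rw [Matrix.one_apply]
        split
        · exact ring_one hM
        · exact ring_zero hM))
  have hne : A.det ≠ 0 := fun h0 => not_ideal_one hM (by
    rw [h0] at hdet
    exact cong_zero_iff.1 (cong_symm hM hdet))
  exact el_ext fun g => by simpa using congrFun (Matrix.eq_zero_of_mulVec_eq_zero hne h1) g

variable {N : Subgroup G} [hN : N.Normal]

/-- An element invariant under `N` commutes with the group algebra of `N`. -/
theorem nInv_comm {f : MonoidAlgebra ℂ G} (hf : NInv N f) (w : MonoidAlgebra ℂ N) :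
    f * push N w = push N w * f := by
  classical
  haveI := Fintype.ofFinite G
  refine el_ext fun g => ?_
  rw [coeff_mul', coeff_mul']
  refine Fintype.sum_equiv ((Equiv.inv G).trans (Equiv.mulRight g)) _ _ fun h => ?_
  simp only [Equiv.trans_apply, Equiv.inv_apply, Equiv.coe_mulRight]
  by_cases hh : h⁻¹ * g ∈ N
  · rw [show (h⁻¹ * g)⁻¹ * g = g⁻¹ * h * g by group, mul_comm (f.coeff h)]
    congr 1
    have h1 := hf (g⁻¹ * h) (by simpa [mul_inv_rev] using N.inv_mem hh) h
    have h2 : g⁻¹ * h * h * (g⁻¹ * h)⁻¹ = g⁻¹ * h * g := by group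
    rw [h2] at h1
    exact h1.symm
  · rw [coeff_push_notMem _ hh]; simp

/-- The sum of the coefficients on a coset. -/
noncomputable def augK (k : G ⧸ N) (x : MonoidAlgebra ℂ G) : ℂ :=
  haveI := Fintype.ofFinite G
  haveI := Classical.decEq (G ⧸ N)
  ∑ g : G, if (g : G ⧸ N) = k then x.coeff g else 0

theorem augK_def [Fintype G] [DecidableEq (G ⧸ N)] (k : G ⧸ N) (x : MonoidAlgebra ℂ G) :
    augK k x = ∑ g : G, if (g : G ⧸ N) = k then x.coeff g else 0 := by
  rw [augK]
  convert rfl

theorem augK_mul [Fintype G] (k : G ⧸ N) (x y : MonoidAlgebra ℂ G) :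
    augK k (x * y) = ∑ h : G, x.coeff h * augK ((h : G ⧸ N)⁻¹ * k) y := by
  classical
  simp only [augK_def, coeff_mul', Finset.mul_sum]
  rw [Finset.sum_congr rfl (g := fun g : G => ∑ h : G,
    if (g : G ⧸ N) = k then x.coeff h * y.coeff (h⁻¹ * g) else 0) fun g _ => by split <;> simp,
    Finset.sum_comm]
  refine Finset.sum_congr rfl fun h _ => ?_
  refine Fintype.sum_equiv (Equiv.mulLeft h⁻¹) _ _ fun g => ?_
  simp only [Equiv.coe_mulLeft, QuotientGroup.mk_mul, QuotientGroup.mk_inv, mul_right_inj]
  split <;> simp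

theorem augK_mul_supp {l : G ⧸ N} {x : MonoidAlgebra ℂ G} (hx : Supp l x) (k : G ⧸ N)
    (y : MonoidAlgebra ℂ G) : augK k (x * y) = augK l x * augK (l⁻¹ * k) y := by
  classical
  haveI := Fintype.ofFinite G
  rw [augK_mul, augK_def l x, Finset.sum_mul]
  refine Finset.sum_congr rfl fun h _ => ?_
  by_cases hh : (h : G ⧸ N) = l
  · rw [if_pos hh, hh]
  · rw [if_neg hh, hx h hh, zero_mul, zero_mul]

theorem augK_part (k : G ⧸ N) (x : MonoidAlgebra ℂ G) : augK k (part k x) = augK k x := by
  classical
  haveI := Fintype.ofFinite G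
  rw [augK_def, augK_def]
  refine Finset.sum_congr rfl fun g _ => ?_
  rw [coeff_part]
  split <;> simp [*]

theorem augK_one_eq [Fintype N] {x : MonoidAlgebra ℂ G} :
    augK (1 : G ⧸ N) x = omega (trivIrr N : N → ℂ) (res N x) := by
  classical
  haveI := Fintype.ofFinite G
  rw [augK_def, omega, evalChar_eq_sum]
  simp only [trivIrr, mul_one, div_one]
  rw [← Finset.sum_filter,
    Finset.sum_subtype (Finset.univ.filter fun g : G => (g : G ⧸ N) = 1) (p := (· ∈ N))
      (fun g => by simp [QuotientGroup.eq_one_iff])]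
  exact Finset.sum_congr rfl fun n _ => (coeff_res x n).symm

theorem ring_augK (hM : Cfsg.IsPModular p M) (k : G ⧸ N) {x : MonoidAlgebra ℂ G} (hx : IntEl M x) :
    Cfsg.MemLocalRing M (augK k x) := by
  classical
  haveI := Fintype.ofFinite G
  rw [augK_def]
  refine ring_sum hM fun g _ => ?_
  split
  · exact hx g
  · exact ring_zero hM

/-- The sum of the `N`-conjugates of an element. -/
noncomputable def orbEl (N : Subgroup G) (c : G) : MonoidAlgebra ℂ G :=
  haveI := Classical.propDecidable
  ofFun fun g => if ∃ n : N, (n : G) * c * (n : G)⁻¹ = g then 1 else 0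

theorem coeff_orbEl (c g : G) [Decidable (∃ n : N, (n : G) * c * (n : G)⁻¹ = g)] :
    (orbEl N c).coeff g = if ∃ n : N, (n : G) * c * (n : G)⁻¹ = g then 1 else 0 := by
  simp only [orbEl, coeff_ofFun]
  split <;> rename_i h <;> simp [h]

theorem intEl_orbEl (hM : Cfsg.IsPModular p M) (c : G) : IntEl M (orbEl N c) := fun g => by
  classical
  rw [coeff_orbEl]
  split <;> simp [ring_one hM, ring_zero hM]

theorem supp_orbEl (c : G) : Supp (c : G ⧸ N) (orbEl N c) := fun g hg => by
  classical
  rw [coeff_orbEl, if_neg]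
  rintro ⟨n, rfl⟩
  exact hg (mk_conj_of_mem n.2 c)

theorem nInv_orbEl (c : G) : NInv N (orbEl N c) := fun u hu g => by
  classical
  rw [coeff_orbEl, coeff_orbEl]
  refine if_congr ⟨?_, ?_⟩ rfl rfl
  · rintro ⟨n, hn⟩
    refine ⟨⟨u⁻¹, inv_mem hu⟩ * n, ?_⟩
    push_cast
    calc u⁻¹ * n * c * (u⁻¹ * n)⁻¹ = u⁻¹ * (n * c * (n : G)⁻¹) * u := by group
      _ = g := by rw [hn]; group
  · rintro ⟨n, rfl⟩
    exact ⟨⟨u, hu⟩ * n, by push_cast; group⟩

theorem augK_orbEl_unit (hM : Cfsg.IsPModular p M) [Fact p.Prime] (P : Sylow p G)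
    (hPN : (P : Subgroup G) ≤ N) {c : G} (hc : c ∈ Subgroup.centralizer ((P : Subgroup G) : Set G)) :
    ¬ Cfsg.MemLocalIdeal M (augK (c : G ⧸ N) (orbEl N c)) := by
  classical
  haveI := Fintype.ofFinite G
  letI := conjActionOn N
  have e : augK (c : G ⧸ N) (orbEl N c) = ((MulAction.stabilizer N c).index : ℂ) := by
    rw [MulAction.index_stabilizer, Set.ncard_eq_toFinset_card', augK_def]
    rw [Finset.sum_congr rfl (g := fun g : G => if g ∈ (MulAction.orbit N c).toFinset then (1 : ℂ) else 0)
      fun g _ => ?_, Finset.sum_ite_mem, Finset.univ_inter, Finset.sum_const, nsmul_one]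
    by_cases hg : (g : G ⧸ N) = c
    · rw [if_pos hg, coeff_orbEl]
      refine if_congr ?_ rfl rfl
      rw [Set.mem_toFinset, MulAction.mem_orbit_iff]
      rfl
    · rw [if_neg hg, if_neg]
      rw [Set.mem_toFinset, MulAction.mem_orbit_iff]
      rintro ⟨n, rfl⟩
      exact hg (mk_conj_of_mem n.2 c)
  rw [e, ideal_natCast_iff hM]
  intro hd
  refine P.not_dvd_index (hd.trans ((Subgroup.index_dvd_of_le
    (H := (P : Subgroup G).subgroupOf N) ?_).trans ?_))
  · intro a ha
    rw [MulAction.mem_stabilizer_iff]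
    show (a : G) * c * (a : G)⁻¹ = c
    rw [Subgroup.mem_centralizer_iff.1 hc a ha, mul_inv_cancel_right]
  · exact Dvd.intro _ (Subgroup.relIndex_mul_index hPN)

/-- An annihilator of the augmentation ideal of the centre, not killing `f`. -/
theorem exists_annihilator [Fintype N] (hM : Cfsg.IsPModular p M) {f : MonoidAlgebra ℂ G}
    (hfi : IntEl M f) (hfN : NInv N f) (hff : f * f = f)
    (hfb : f * push N (blockIdem (Cfsg.principalBlock M N)) = f) (hne : ¬ IdealEl M f) :
    ∃ x : MonoidAlgebra ℂ G, IntEl M x ∧ ¬ IdealEl M (x * f) ∧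
      ∀ w : MonoidAlgebra ℂ N, IsCentralEl w → IntEl M w →
        Cfsg.MemLocalIdeal M (omega (trivIrr N : N → ℂ) w) → IdealEl M (x * push N w) := by
  classical
  haveI := Fintype.ofFinite (ConjClasses N)
  have hc := isPBlock_principal M N
  have hθ : trivIrr N ∈ Cfsg.principalBlock M N := trivIrr_mem_principal hM
  set b := blockIdem (Cfsg.principalBlock M N)
  have hbc : IsCentralEl b := central_blockIdem _
  have hbi : IntEl M b := intEl_blockIdem hM hc
  set lam : ConjClasses N → ℂ := fun C => omega (trivIrr N : N → ℂ) (classSum (Quotient.out C))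
    with hlam
  have hlr : ∀ C, Cfsg.MemLocalRing M (lam C) := fun C =>
    omega_ring hM _ (central_classSum _) (intEl_classSum hM _)
  set z : ConjClasses N → MonoidAlgebra ℂ N :=
    fun C => classSum (Quotient.out C) - lam C • 1 with hz
  have hzc : ∀ C, IsCentralEl (z C) := fun C =>
    central_sub (central_classSum _) (central_smul _ central_one)
  have hzi : ∀ C, IntEl M (z C) := fun C =>
    intEl_sub hM (intEl_classSum hM _) (intEl_smul hM (hlr C) (intEl_one hM))
  have hnil : ∀ C, ∃ n, IdealEl M ((b * z C) ^ n) := fun C => by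
    obtain ⟨n, hn⟩ := exists_pow_mul_blockIdem hM hc hθ (hzc C) (hzi C) (by
      rw [hz, omega_sub, omega_smul, omega_one (irr_one_ne_zero (trivIrr N).2), mul_one, sub_self]
      exact ideal_zero hM)
    exact ⟨n, hn n le_rfl⟩
  have hiter : ∀ s : Finset (ConjClasses N), ∃ u : MonoidAlgebra ℂ N, IsCentralEl u ∧ IntEl M u ∧
      ¬ IdealEl M (push N u * f) ∧
      ∀ C ∈ s, IdealEl M (push N u * f * push N (b * z C)) := by
    intro s
    induction s using Finset.induction with
    | empty => exact ⟨1, central_one, intEl_one hM, by rwa [push_one, one_mul], by simp⟩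
    | @insert C s _ ih =>
      obtain ⟨u, huc, hui, hu, hus⟩ := ih
      have hyc := central_mul hbc (hzc C)
      have hyi := intEl_mul hM hbi (hzi C)
      obtain ⟨n, hn⟩ := hnil C
      have hex : ∃ m, IdealEl M (push N (u * (b * z C) ^ m) * f) := ⟨n,
        idealEl_mul_right hM (idealEl_push hM (idealEl_mul_left hM hui hn)) hfi⟩
      obtain ⟨m, hm⟩ : ∃ m, Nat.find hex = m + 1 := by
        refine Nat.exists_eq_succ_of_ne_zero fun h0 => hu ?_
        have h1 := Nat.find_spec hex
        rwa [h0, pow_zero, mul_one] at h1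
      refine ⟨u * (b * z C) ^ m, central_mul huc (central_pow hyc m),
        intEl_mul hM hui (intEl_pow hM hyi m), Nat.find_min hex (by omega), fun D hD => ?_⟩
      rcases Finset.mem_insert.1 hD with rfl | hD
      · have h1 := Nat.find_spec hex
        rw [hm, pow_succ, ← mul_assoc, push_mul] at h1
        rw [mul_assoc, nInv_comm hfN, ← mul_assoc]
        exact h1
      · rw [(central_commute huc ((b * z C) ^ m)).eq, push_mul, mul_assoc, mul_assoc,
          ← mul_assoc (push N u)]
        exact idealEl_mul_left hM (intEl_push hM (intEl_pow hM hyi m)) (hus D hD)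
  obtain ⟨u, -, hui, hu, hus⟩ := hiter Finset.univ
  set x := push N u * f with hx
  have hxi : IntEl M x := intEl_mul hM (intEl_push hM hui) hfi
  have hxb : x * push N b = x := by rw [hx, mul_assoc, hfb]
  refine ⟨x, hxi, by rwa [hx, mul_assoc, hff], fun w hw hwi hwω => ?_⟩
  have hexp : b * w = (∑ C : ConjClasses N, w.coeff (Quotient.out C) • (b * z C)) +
      omega (trivIrr N : N → ℂ) w • b := by
    have hω : omega (trivIrr N : N → ℂ) w =
        ∑ C : ConjClasses N, w.coeff (Quotient.out C) * lam C := by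
      conv_lhs => rw [central_eq_sum hw]
      rw [omega_sum]
      exact Finset.sum_congr rfl fun C _ => omega_smul _ _ _
    conv_lhs => rw [central_eq_sum hw, Finset.mul_sum]
    rw [hω, Finset.sum_smul, ← Finset.sum_add_distrib]
    refine Finset.sum_congr rfl fun C _ => ?_
    rw [hz, mul_sub, mul_smul_comm, mul_smul_comm, mul_one, smul_sub, smul_smul]
    abel
  have hpush_add : ∀ a a' : MonoidAlgebra ℂ N, push N (a + a') = push N a + push N a' :=
    fun a a' => el_ext fun g => by
      by_cases hg : g ∈ N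
      · simp [coeff_push_mem _ hg]
      · simp [coeff_push_notMem _ hg]
  have hpush_smul : ∀ (r : ℂ) (a : MonoidAlgebra ℂ N), push N (r • a) = r • push N a :=
    fun r a => el_ext fun g => by
      by_cases hg : g ∈ N
      · simp [coeff_push_mem _ hg]
      · simp [coeff_push_notMem _ hg]
  have hpush_sum : push N (∑ C : ConjClasses N, w.coeff (Quotient.out C) • (b * z C)) =
      ∑ C : ConjClasses N, push N (w.coeff (Quotient.out C) • (b * z C)) :=
    map_sum (AddMonoidHom.mk' (push N) hpush_add) _ _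
  rw [← hxb, mul_assoc, ← push_mul, hexp, hpush_add, mul_add, hpush_sum, Finset.mul_sum]
  refine idealEl_add hM (fun g => ?_) ?_
  · rw [MonoidAlgebra.coeff_sum, Finsupp.finsetSum_apply]
    refine ideal_sum hM fun C _ => ?_
    rw [hpush_smul, mul_smul_comm, MonoidAlgebra.coeff_smul, Finsupp.smul_apply, smul_eq_mul]
    exact ideal_mul_left hM (hwi _) (hus C (Finset.mem_univ C) g)
  · rw [hpush_smul, mul_smul_comm]
    intro g
    rw [MonoidAlgebra.coeff_smul, Finsupp.smul_apply, smul_eq_mul]
    exact ideal_mul_right hM hwω (intEl_mul hM hxi (intEl_push hM hbi) g)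

/-- The vanishing criterion. -/
theorem idem_eq_zero [Fintype N] [Fact p.Prime] (hM : Cfsg.IsPModular p M) (P : Sylow p G)
    (hPN : (P : Subgroup G) ≤ N)
    (hcov : ∀ k : G ⧸ N, ∃ c ∈ Subgroup.centralizer ((P : Subgroup G) : Set G), (c : G ⧸ N) = k)
    {f : MonoidAlgebra ℂ G} (hfi : IntEl M f) (hfN : NInv N f) (hff : f * f = f)
    (hfb : f * push N (blockIdem (Cfsg.principalBlock M N)) = f)
    (haug : ∀ k : G ⧸ N, augK k f = 0) : f = 0 := by
  classical
  haveI := Fintype.ofFinite G
  haveI := Fintype.ofFinite (G ⧸ N)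
  refine eq_zero_of_idem hM hff ?_
  by_contra hne
  obtain ⟨x, hxi, hxf, hx⟩ := exists_annihilator hM hfi hfN hff hfb hne
  apply hxf
  rw [← sum_part (N := N) f, Finset.mul_sum]
  intro y
  rw [MonoidAlgebra.coeff_sum, Finsupp.finsetSum_apply]
  refine ideal_sum hM fun k _ => ?_
  revert y
  obtain ⟨c, hc, rfl⟩ := hcov k
  set fk := part (c : G ⧸ N) f
  have hfk : Supp (c : G ⧸ N) fk := supp_part _ f
  have hfkn : NInv N fk := nInv_part _ hfN
  have hfki : IntEl M fk := intEl_part hM _ hfi
  set z := orbEl N c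
  set z' := orbEl N c⁻¹
  have hs1 : Supp (1 : G ⧸ N) (fk * z') := by
    simpa using supp_mul hfk (supp_orbEl (N := N) c⁻¹)
  have hs2 : Supp (1 : G ⧸ N) (z' * z) := by
    simpa using supp_mul (supp_orbEl (N := N) c⁻¹) (supp_orbEl (N := N) c)
  set w := res N (z' * z)
  set a := omega (trivIrr N : N → ℂ) w
  have hwc : IsCentralEl w := central_res_of_nInv (nInv_mul (nInv_orbEl _) (nInv_orbEl _))
  have hwi : IntEl M w := intEl_res (intEl_mul hM (intEl_orbEl hM _) (intEl_orbEl hM _))
  have har : Cfsg.MemLocalRing M a := omega_ring hM _ hwc hwi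
  have hau : ¬ Cfsg.MemLocalIdeal M a := by
    simp only [a, w]
    rw [← augK_one_eq, augK_mul_supp (supp_orbEl c⁻¹)]
    have hcl : ((c⁻¹ : G) : G ⧸ N)⁻¹ * 1 = (c : G ⧸ N) := by simp
    rw [hcl, ideal_mul_iff hM (ring_augK hM _ (intEl_orbEl hM _))
      (ring_augK hM _ (intEl_orbEl hM _))]
    exact fun h => h.elim (augK_orbEl_unit hM P hPN (inv_mem hc)) (augK_orbEl_unit hM P hPN hc)
  have h1 : IdealEl M (x * (fk * z') * z) := by
    refine idealEl_mul_right hM ?_ (intEl_orbEl hM _)
    rw [← push_res_of_supp hs1]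
    refine hx _ (central_res_of_nInv (nInv_mul hfkn (nInv_orbEl _)))
      (intEl_res (intEl_mul hM hfki (intEl_orbEl hM _))) ?_
    rw [← augK_one_eq, augK_mul_supp hfk, augK_part, haug, zero_mul]
    exact ideal_zero hM
  set w' := conjEl c w
  have h2 : IdealEl M (x * (push N w' - a • (1 : MonoidAlgebra ℂ G)) * fk) := by
    refine idealEl_mul_right hM ?_ hfki
    have e : push N w' - a • (1 : MonoidAlgebra ℂ G) = push N (w' - a • 1) := el_ext fun g => by
      have h1 := congrArg (fun z : MonoidAlgebra ℂ G => z.coeff g) (push_one (H := N))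
      by_cases hg : g ∈ N
      · simp only [coeff_push_mem _ hg] at h1
        simp [coeff_push_mem _ hg, MonoidAlgebra.coeff_sub, MonoidAlgebra.coeff_smul, h1]
      · simp only [coeff_push_notMem _ hg] at h1
        simp [coeff_push_notMem _ hg, MonoidAlgebra.coeff_sub, MonoidAlgebra.coeff_smul, ← h1]
    rw [e]
    refine hx _ (central_sub (central_conjEl c hwc) (central_smul _ central_one))
      (intEl_sub hM (intEl_conjEl c hwi) (intEl_smul hM har (intEl_one hM))) ?_
    rw [omega_sub, omega_smul, omega_one (irr_one_ne_zero (trivIrr N).2), mul_one, omega_conjEl,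
      show conjIrr c (trivIrr N) = trivIrr N from Subtype.ext (funext fun _ => rfl), sub_self]
    exact ideal_zero hM
  have e1 : x * (fk * z') * z = x * push N w' * fk := by
    rw [mul_assoc, mul_assoc fk, ← push_res_of_supp hs2, supp_mul_push hfk hwc, mul_assoc x]
  rw [mul_sub, sub_mul, ← e1, mul_smul_comm, mul_one, smul_mul_assoc] at h2
  intro y
  have h3 := ideal_sub hM (h1 y) (h2 y)
  rw [MonoidAlgebra.coeff_sub, Finsupp.sub_apply, sub_sub_cancel, MonoidAlgebra.coeff_smul_apply,
    smul_eq_mul] at h3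
  exact ((ideal_mul_iff hM har (intEl_mul hM hxi hfki y)).1 h3).resolve_left hau

end Cfsg.Agent.BlockCharsA.IdemVanish
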