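import Mathlib
import Cfsg.Agent.Lib.ZStar.KleinFour
import Cfsg.Agent.Lib.CharTheory.DihedralEight
import Cfsg.Agent.Lib.Involutions.KleinSylow
import Cfsg.Agent.Lib.Transfer.NormalPComplement

/-!
# The order formula for a Klein four Sylow subgroup and one class of involutions

Pairs of involutions with singular product, counted in the centralizer of an involution and by the
principal block.
-/

set_option autoImplicit false
set_option linter.style.haveILetI false
set_option linter.unusedSectionVars false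

namespace Cfsg.Agent.BlockCharsA.KleinOrder

open Cfsg.Agent.Blocks Cfsg.Agent.Characters Cfsg.Agent.ZStar
open scoped ComplexConjugate

universe u

variable {G : Type u} [Group G] [Fintype G]

theorem mul_self_of_two {u : G} (h : orderOf u = 2) : u * u = 1 := by
  rw [← sq, ← h, pow_orderOf_eq_one]

theorem orderOf_two {u : G} (h : u * u = 1) (hne : u ≠ 1) : orderOf u = 2 := by
  haveI := Fact.mk Nat.prime_two
  exact orderOf_eq_prime (by rw [sq]; exact h) hne

/-- The centralizer of the involution: commutators fall into the complement. -/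
theorem mul_conj_mem {C : Type*} [Group C] {N : Subgroup C} [hN : N.Normal] {Q : Set C}
    (hQ : ∀ x ∈ Q, ∀ y ∈ Q, Commute x y) (hsup : ∀ a : C, ∃ n ∈ N, ∃ x ∈ Q, a = n * x)
    (a p : C) (hp : p ∈ Q) : a * p * a⁻¹ * p⁻¹ ∈ N := by
  obtain ⟨n, hn, x, hx, rfl⟩ := hsup a
  rw [show n * x * p * (n * x)⁻¹ * p⁻¹ = n * ((x * p * x⁻¹) * n⁻¹ * p⁻¹) by group,
    (hQ x hx p hp).eq, mul_inv_cancel_right]
  exact N.mul_mem hn (by simpa using hN.conj_mem _ (inv_mem hn) p)

/-- `|G| ∑ a / χ(1) = 8 c(J)³ / c(P)²`. -/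
theorem order_formula {M : Ideal Cfsg.AlgInt} (hM : Cfsg.IsPModular 2 M) (P : Sylow 2 G)
    (hP : IsKleinFour (P : Subgroup G))
    (hone : ∀ s t : G, orderOf s = 2 → orderOf t = 2 → IsConj s t) {J : G}
    (hJ : J ∈ (P : Subgroup G)) (hJ2 : orderOf J = 2) [Fintype (Cfsg.IrrCharacter G)] :
    ∃ (B : Finset (Cfsg.IrrCharacter G)) (a : Cfsg.IrrCharacter G → ℤ),
      (∀ χ, χ ∈ B ↔ χ ∈ Cfsg.principalBlock M G) ∧ B.card = 4 ∧
      (∀ χ ∈ B, (χ : G → ℂ) J = (a χ : ℂ)) ∧
      ∑ χ ∈ B, (a χ : ℂ) * (χ : G → ℂ) 1 = 0 ∧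
      (Nat.card G : ℂ) * ∑ χ ∈ B, (a χ : ℂ) / (χ : G → ℂ) 1 =
        8 * (Nat.card (Subgroup.centralizer ({J} : Set G)) : ℂ) ^ 3 /
          (Nat.card (Subgroup.centralizer ((P : Subgroup G) : Set G)) : ℂ) ^ 2 := by
  classical
  haveI := Fact.mk Nat.prime_two
  obtain ⟨B, a, hmem, hcard, ha, hval, -, hsum, -⟩ := KleinFour.principal P hP hone hM
  have hJs : 2 ∣ orderOf J := by rw [hJ2]
  have h0 : ∑ χ ∈ B, (a χ : ℂ) * (χ : G → ℂ) 1 = 0 := by
    rw [hsum, if_neg (by simp)]
  refine ⟨B, a, hmem, hcard, fun χ hχ => hval χ hχ J hJs, h0, ?_⟩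
  set C := Subgroup.centralizer ({J} : Set G)
  obtain ⟨N, hNn, hNodd, hNmem, hN4⟩ := KleinFour.exists_complement P hP hJ2 hJ
  haveI := hNn
  have hPC : ∀ x ∈ (P : Subgroup G), x ∈ C := fun x hx =>
    Subgroup.mem_centralizer_singleton_iff.2 (KleinFour.sylow_comm P hP hx hJ).eq
  set Q : Set C := {c | (c : G) ∈ (P : Subgroup G)} with hQ
  have hQc : ∀ x ∈ Q, ∀ y ∈ Q, Commute x y := fun x hx y hy =>
    Subtype.ext (KleinFour.sylow_comm P hP hx hy).eq
  let Q' : Subgroup C := (P : Subgroup G).subgroupOf C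
  have hQ4 : Nat.card Q' = 4 := by
    rw [Nat.card_congr (Subgroup.subgroupOfEquivOfLe (show (P : Subgroup G) ≤ C from hPC)).toEquiv]
    exact hP.card_four
  have hdisj : ∀ c : C, c ∈ N → c ∈ Q → c = 1 := fun c hcN hcQ => by
    by_contra hne
    refine (hNmem c).1 hcN ?_
    rw [orderOf_eq_prime (p := 2) (Subtype.ext (by
      rw [sq]; exact (show (c : G) * c = 1 from congrArg Subtype.val (KleinFour.isKleinFour_mul_self hP ⟨_, hcQ⟩)))) hne]
  have hsup : ∀ c : C, ∃ n ∈ N, ∃ x ∈ Q, c = n * x := by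
    intro c
    have hbij : Function.Bijective fun z : N × Q' => (z.1 : C) * z.2 := by
      haveI := Fintype.ofFinite C
      haveI := Fintype.ofFinite N
      haveI := Fintype.ofFinite Q'
      rw [Fintype.bijective_iff_injective_and_card]
      refine ⟨fun z w e => ?_, ?_⟩
      · have e' : (w.1 : C)⁻¹ * z.1 = w.2 * (z.2 : C)⁻¹ := by
          rw [inv_mul_eq_iff_eq_mul, ← mul_assoc, ← mul_inv_eq_iff_eq_mul.2 e.symm]
        have h1 := hdisj _ (N.mul_mem (inv_mem w.1.2) z.1.2) (e'.symm ▸ Q'.mul_mem w.2.2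
          (inv_mem z.2.2))
        rw [inv_mul_eq_one] at h1
        have h1' : w.1 = z.1 := Subtype.ext h1
        refine Prod.ext h1'.symm (Subtype.ext ?_)
        simpa [h1'] using e
      · rw [Fintype.card_prod, ← Nat.card_eq_fintype_card, ← Nat.card_eq_fintype_card,
          ← Nat.card_eq_fintype_card, hQ4, mul_comm]
        exact hN4
    obtain ⟨z, hz⟩ := hbij.2 c
    exact ⟨z.1, z.1.2, z.2, z.2.2, hz.symm⟩
  have hcomm := fun (x p : C) (hp : p ∈ Q) => mul_conj_mem hQc hsup x p hp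
  -- the classes in the centralizer
  set cl : G → Finset G := fun p => Finset.univ.filter fun x => ∃ c ∈ C, c * p * c⁻¹ = x with hcl
  have hclC : ∀ {p : G} (hp : p ∈ (P : Subgroup G)) {x : G}, x ∈ cl p → ∃ hx : x ∈ C,
      (⟨x, hx⟩ : C) * (⟨p, hPC p hp⟩ : C)⁻¹ ∈ N := by
    intro p hp x hx
    obtain ⟨c, hc, rfl⟩ := (Finset.mem_filter.1 hx).2
    exact ⟨C.mul_mem (C.mul_mem hc (hPC p hp)) (inv_mem hc), hcomm ⟨c, hc⟩ ⟨p, hPC p hp⟩ hp⟩
  have hclI : ∀ {p x : G}, orderOf p = 2 → x ∈ cl p → orderOf x = 2 := fun {p x} hp hx => by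
    obtain ⟨c, -, rfl⟩ := (Finset.mem_filter.1 hx).2
    rw [RegularPart.orderOf_conj', hp]
  have hexists : ∀ {x : G}, x ∈ C → orderOf x = 2 →
      ∃ p ∈ (P : Subgroup G), orderOf p = 2 ∧ x ∈ cl p := by
    intro x hx hx2
    obtain ⟨R, hR⟩ := (IsPGroup.of_card (n := 1) (show Nat.card (Subgroup.zpowers (⟨x, hx⟩ : C)) = 2 ^ 1
      by rw [Nat.card_zpowers, Subgroup.orderOf_mk, hx2, pow_one])).exists_le_sylow
    set S : Sylow 2 C := P.subtype hPC
    obtain ⟨c, hc⟩ := MulAction.exists_smul_eq C R S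
    have hm : c * ⟨x, hx⟩ * c⁻¹ ∈ S := by
      rw [← hc, ← SetLike.mem_coe, Sylow.coe_smul]
      exact ⟨⟨x, hx⟩, hR (Subgroup.mem_zpowers _), rfl⟩
    refine ⟨(c : G) * x * (c : G)⁻¹, hm, by rw [RegularPart.orderOf_conj', hx2],
      Finset.mem_filter.2 ⟨Finset.mem_univ _, (c : G)⁻¹, inv_mem c.2, by group⟩⟩
  set cP := Nat.card (Subgroup.centralizer ((P : Subgroup G) : Set G)) with hcP
  have hclcard : ∀ {p : G}, p ∈ (P : Subgroup G) → p ≠ 1 → p ≠ J →
      (cl p).card * cP = Nat.card C := by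
    intro p hp hp1 hpJ
    rw [← card_carrier_mul_card_centralizer (⟨p, hPC p hp⟩ : C)]
    congr 1
    · rw [Nat.card_eq_fintype_card, ← Set.toFinset_card]
      refine (Finset.card_bij (fun (x : C) _ => (x : G)) (fun x hx => ?_) (fun _ _ _ _ e => by exact Subtype.ext e)
        fun x hx => ?_).symm
      · rw [Set.mem_toFinset, ConjClasses.mem_carrier_iff_mk_eq,
          ConjClasses.mk_eq_mk_iff_isConj] at hx
        obtain ⟨c, hc⟩ := isConj_iff.1 hx.symm
        exact Finset.mem_filter.2 ⟨Finset.mem_univ _, c, c.2, congrArg Subtype.val hc⟩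
      · obtain ⟨c, hc, rfl⟩ := (Finset.mem_filter.1 hx).2
        refine ⟨⟨c, hc⟩ * ⟨p, hPC p hp⟩ * ⟨c, hc⟩⁻¹, ?_, rfl⟩
        rw [Set.mem_toFinset, ConjClasses.mem_carrier_iff_mk_eq, ConjClasses.mk_eq_mk_iff_isConj]
        exact (isConj_iff.2 ⟨(⟨c, hc⟩ : C), rfl⟩).symm
    · have hle : Subgroup.centralizer ((P : Subgroup G) : Set G) ≤ C := fun g hg =>
        Subgroup.mem_centralizer_singleton_iff.2
          ((Subgroup.mem_centralizer_iff.1 hg J hJ).symm)
      rw [hcP, ← Nat.card_congr (Subgroup.subgroupOfEquivOfLe hle).toEquiv]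
      congr 2
      ext c
      rw [Subgroup.mem_subgroupOf, Subgroup.mem_centralizer_singleton_iff,
        Subgroup.mem_centralizer_iff]
      refine ⟨fun h => Subtype.ext (h p hp).symm, fun h x hx => ?_⟩
      have hcp : Commute p (c : G) := (congrArg Subtype.val h).symm
      have hcJ : Commute J (c : G) := (Subgroup.mem_centralizer_singleton_iff.1 c.2).symm
      by_cases hx1 : x = 1
      · rw [hx1, one_mul, mul_one]
      by_cases hxJ : x = J
      · rw [hxJ]; exact hcJ
      rcases KleinFour.sylow_eq P hP hJ (fun e => by simp [e] at hJ2) hp hp1 hpJ hx hx1 hxJ with e | e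
      · rw [e]; exact hcp
      · rw [e]; exact hcJ.mul_left hcp
  obtain ⟨p, hp, hp1, hpJ⟩ : ∃ p ∈ (P : Subgroup G), p ≠ 1 ∧ p ≠ J := by
    by_contra! h
    haveI := Fintype.ofFinite (P : Subgroup G)
    have hle := Finset.card_le_card (show (Finset.univ : Finset (P : Subgroup G)) ⊆ {1, ⟨J, hJ⟩} from
      fun x _ => by
        by_cases hx : x = 1
        · simp [hx]
        · simp [Subtype.ext_iff, h x x.2 (fun e => hx (Subtype.ext e))])
    rw [Finset.card_univ, ← Nat.card_eq_fintype_card, hP.card_four] at hle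
    exact absurd (hle.trans (Finset.card_insert_le _ _)) (by simp)
  set q := J * p with hq
  have hqP : q ∈ (P : Subgroup G) := mul_mem hJ hp
  have hJJ := mul_self_of_two hJ2
  have hpp : p * p = 1 := congrArg Subtype.val (KleinFour.isKleinFour_mul_self hP ⟨p, hp⟩)
  have hq1 : q ≠ 1 := fun e => hpJ (mul_left_cancel (e.trans hJJ.symm))
  have hqJ : q ≠ J := fun e => hp1 (mul_eq_left.1 e)
  have hqp : q ≠ p := fun e => by rw [mul_eq_right.1 e, orderOf_one] at hJ2; omega
  have hord : ∀ {x : G}, x ∈ (P : Subgroup G) → x ≠ 1 → orderOf x = 2 := fun {x} hx hx1 =>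
    orderOf_two (congrArg Subtype.val (KleinFour.isKleinFour_mul_self hP ⟨x, hx⟩)) hx1
  have hdis : Disjoint (cl p) (cl q) := by
    rw [Finset.disjoint_left]
    intro x hx hx'
    obtain ⟨hxC, h1⟩ := hclC hp hx
    obtain ⟨hxC', h2⟩ := hclC hqP hx'
    have h3 := N.mul_mem (inv_mem h1) h2
    rw [mul_inv_rev, inv_inv, mul_assoc, inv_mul_cancel_left] at h3
    have h4 := congrArg Subtype.val (hdisj _ h3 ((P : Subgroup G).mul_mem hp (inv_mem hqP)))
    exact hqp (mul_inv_eq_one.1 h4).symm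
  -- the pairs over `J`
  set I := Finset.univ.filter fun x : G => orderOf x = 2 with hI
  set Pr := (I ×ˢ I).filter fun z : G × G => Cfsg.IsPPart 2 (z.1 * z.2) J with hPr
  have hPreq : Pr = (cl p ×ˢ cl q) ∪ (cl q ×ˢ cl p) := by
    ext z
    obtain ⟨u, v⟩ := z
    simp only [hPr, hI, Finset.mem_union, Finset.mem_product, Finset.mem_filter, Finset.mem_univ,
      true_and]
    constructor
    · rintro ⟨⟨hu, hv⟩, hpart⟩
      obtain ⟨s, hg', hJsC, hJo, hso⟩ := id hpart
      have hg : u * v = J * s := hg'.symm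
      have huu := mul_self_of_two hu
      have hvv := mul_self_of_two hv
      have hui : u⁻¹ = u := inv_eq_of_mul_eq_one_right huu
      have hinv : (u * v)⁻¹ = v * u := by
        rw [mul_inv_rev, inv_eq_of_mul_eq_one_right hvv, hui]
      have hconj : u * J * u⁻¹ = J := by
        refine ppart_unique Nat.prime_two (g := (u * v)⁻¹) ?_ ?_
        · refine ⟨u * s * u⁻¹, ?_, ?_, ⟨1, by rw [RegularPart.orderOf_conj', hJ2, pow_one]⟩,
            by rwa [RegularPart.orderOf_conj']⟩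
          · symm
            calc (u * v)⁻¹ = v * u := hinv
              _ = u * (u * v) * u⁻¹ := by rw [← mul_assoc, huu, one_mul, hui]
              _ = u * J * u⁻¹ * (u * s * u⁻¹) := by rw [hg]; group
          · exact hJsC.map (MulAut.conj u).toMonoidHom
        · refine ⟨s⁻¹, ?_, hJsC.inv_right, hJo, by rwa [orderOf_inv]⟩
          rw [hg, mul_inv_rev, inv_eq_of_mul_eq_one_right hJJ]
          exact hJsC.inv_right.eq
      have huC : u ∈ C := Subgroup.mem_centralizer_singleton_iff.2 (mul_inv_eq_iff_eq_mul.1 hconj)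
      have hsC : s ∈ C := Subgroup.mem_centralizer_singleton_iff.2 hJsC.eq.symm
      have hvC : v ∈ C := by
        rw [show v = u⁻¹ * (J * s) by rw [← hg, inv_mul_cancel_left]]
        exact C.mul_mem (inv_mem huC) (C.mul_mem (hPC J hJ) hsC)
      obtain ⟨x, hx, hx2, hux⟩ := hexists huC hu
      obtain ⟨y, hy, hy2, hvy⟩ := hexists hvC hv
      obtain ⟨huC', hm1⟩ := hclC hx hux
      obtain ⟨hvC', hm2⟩ := hclC hy hvy
      set X : C := ⟨x, hPC x hx⟩
      set Y : C := ⟨y, hPC y hy⟩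
      set U : C := ⟨u, huC⟩
      set V : C := ⟨v, hvC⟩
      have h3 : U * V * (X * Y)⁻¹ ∈ N := by
        rw [show U * V * (X * Y)⁻¹ = U * (V * Y⁻¹) * U⁻¹ * (U * X⁻¹) by group]
        exact N.mul_mem (hNn.conj_mem _ hm2 U) hm1
      have h4 : U * V * (⟨J, hPC J hJ⟩ : C)⁻¹ ∈ N := by
        rw [hNmem, ← Subgroup.orderOf_coe]
        show ¬ 2 ∣ orderOf (u * v * J⁻¹)
        rwa [hg, hJsC.eq, mul_inv_cancel_right]
      have h5 := N.mul_mem (inv_mem h4) h3
      rw [mul_inv_rev, inv_inv, mul_assoc, inv_mul_cancel_left] at h5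
      have h6 : J * (x * y)⁻¹ = 1 := congrArg Subtype.val
        (hdisj _ h5 ((P : Subgroup G).mul_mem hJ (inv_mem (mul_mem hx hy))))
      have hxy : J = x * y := mul_inv_eq_one.1 h6
      have hx1 : x ≠ 1 := fun e => by rw [e, orderOf_one] at hx2; omega
      have hy1 : y ≠ 1 := fun e => by rw [e, orderOf_one] at hy2; omega
      have hxJ : x ≠ J := fun e => hy1 (by rw [e] at hxy; exact mul_eq_left.1 hxy.symm)
      have hy' : y = x * J := by
        rw [hxy, ← mul_assoc, mul_self_of_two hx2, one_mul]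
      rcases KleinFour.sylow_eq P hP hJ (fun e => by simp [e] at hJ2) hp hp1 hpJ hx hx1 hxJ with e | e
      · refine Or.inl ⟨by rw [e] at hux; exact hux, ?_⟩
        rwa [hy', e, (KleinFour.sylow_comm P hP hp hJ).eq] at hvy
      · refine Or.inr ⟨by rw [e] at hux; exact hux, ?_⟩
        rwa [hy', e, (KleinFour.sylow_comm P hP hJ hp).eq, mul_assoc, hJJ, mul_one] at hvy
    · intro h
      suffices key : ∀ {x y : G}, ∀ hx : x ∈ (P : Subgroup G), ∀ hy : y ∈ (P : Subgroup G),
          x ≠ 1 → y ≠ 1 → x * y = J → u ∈ cl x → v ∈ cl y →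
          (orderOf u = 2 ∧ orderOf v = 2) ∧ Cfsg.IsPPart 2 (u * v) J by
        rcases h with ⟨hu, hv⟩ | ⟨hu, hv⟩
        · refine key hp hqP hp1 hq1 ?_ hu hv
          rw [hq, (KleinFour.sylow_comm P hP hJ hp).eq, ← mul_assoc, hpp, one_mul]
        · exact key hqP hp hq1 hp1 (by rw [hq, mul_assoc, hpp, mul_one]) hu hv
      intro x y hx hy hx1 hy1 hxy hu hv
      refine ⟨⟨hclI (hord hx hx1) hu, hclI (hord hy hy1) hv⟩, ?_⟩
      obtain ⟨huC, hm1⟩ := hclC hx hu
      obtain ⟨hvC, hm2⟩ := hclC hy hv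
      set X : C := ⟨x, hPC x hx⟩
      set Y : C := ⟨y, hPC y hy⟩
      set U : C := ⟨u, huC⟩
      set V : C := ⟨v, hvC⟩
      have h3 : U * V * (X * Y)⁻¹ ∈ N := by
        rw [show U * V * (X * Y)⁻¹ = U * (V * Y⁻¹) * U⁻¹ * (U * X⁻¹) by group]
        exact N.mul_mem (hNn.conj_mem _ hm2 U) hm1
      have hs : ¬ 2 ∣ orderOf (u * v * J⁻¹) := by
        have := (hNmem _).1 h3
        rw [← Subgroup.orderOf_coe] at this
        rw [← hxy]
        exact this
      have hcs : Commute J (u * v * J⁻¹) :=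
        ((Subgroup.mem_centralizer_singleton_iff.1
          (C.mul_mem (C.mul_mem huC hvC) (inv_mem (hPC J hJ)))).symm : _)
      exact ⟨u * v * J⁻¹, by rw [hcs.eq, inv_mul_cancel_right], hcs, ⟨1, by rw [hJ2, pow_one]⟩, hs⟩
  have hPrcard : Pr.card * cP ^ 2 = 2 * Nat.card C ^ 2 := by
    rw [hPreq, Finset.card_union_of_disjoint, Finset.card_product, Finset.card_product]
    · rw [← hclcard hp hp1 hpJ]
      nth_rewrite 2 [sq]
      nth_rewrite 2 [hclcard hp hp1 hpJ]
      rw [← hclcard hqP hq1 hqJ]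
      ring
    · rw [Finset.disjoint_left]
      intro z h1 h2
      exact Finset.disjoint_left.1 hdis (Finset.mem_product.1 h1).1 (Finset.mem_product.1 h2).1
  -- all pairs with singular product
  set T := (I ×ˢ I).filter fun z : G × G => 2 ∣ orderOf (z.1 * z.2) with hT
  have hTcard : T.card = I.card * Pr.card := by
    have hTeq : T = I.biUnion fun w =>
        (I ×ˢ I).filter fun z : G × G => Cfsg.IsPPart 2 (z.1 * z.2) w := by
      ext z
      simp only [hT, hI, Finset.mem_biUnion, Finset.mem_filter, Finset.mem_univ, true_and]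
      refine ⟨fun h => ?_, ?_⟩
      · obtain ⟨w, hw, hw'⟩ := KleinFour.singular_ppart P hP hone h.2
        exact ⟨w, hw, h.1, hw'⟩
      · rintro ⟨w, hw, h1, s, hg, hc, -, hso⟩
        refine ⟨h1, ?_⟩
        rw [← hg, hc.orderOf_mul_eq_mul_orderOf_of_coprime
          (by rw [hw]; exact Nat.prime_two.coprime_iff_not_dvd.2 hso), hw]
        exact dvd_mul_right 2 _
    rw [hTeq, Finset.card_biUnion]
    · rw [Finset.sum_congr rfl (g := fun _ => Pr.card) fun w hw => ?_, Finset.sum_const, smul_eq_mul]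
      obtain ⟨c, hc⟩ := isConj_iff.1 (hone J w hJ2 (Finset.mem_filter.1 hw).2)
      refine (Finset.card_bij (fun z _ => (c * z.1 * c⁻¹, c * z.2 * c⁻¹)) (fun z hz => ?_)
        (fun _ _ _ _ e => ?_) fun z hz => ?_).symm
      · obtain ⟨hz1, s, hg, hcm, hJo, hso⟩ := Finset.mem_filter.1 hz
        simp only [hI, Finset.mem_product, Finset.mem_filter, Finset.mem_univ, true_and,
          RegularPart.orderOf_conj'] at hz1 ⊢
        refine ⟨hz1, c * s * c⁻¹, ?_, ?_, ⟨1, by rw [(Finset.mem_filter.1 hw).2, pow_one]⟩,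
          by rwa [RegularPart.orderOf_conj']⟩
        · rw [← hc, show c * z.1 * c⁻¹ * (c * z.2 * c⁻¹) = c * (z.1 * z.2) * c⁻¹ by group, ← hg]
          group
        · rw [← hc]; exact hcm.map (MulAut.conj c).toMonoidHom
      · exact Prod.ext (mul_left_cancel (mul_right_cancel (congrArg Prod.fst e)))
          (mul_left_cancel (mul_right_cancel (congrArg Prod.snd e)))
      · obtain ⟨hz1, s, hg, hcm, -, hso⟩ := Finset.mem_filter.1 hz
        have hord' : ∀ x : G, orderOf (c⁻¹ * x * c) = orderOf x := fun x => by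
          have := RegularPart.orderOf_conj' x c⁻¹
          rwa [inv_inv] at this
        refine ⟨(c⁻¹ * z.1 * c, c⁻¹ * z.2 * c), ?_, Prod.ext (by group) (by group)⟩
        simp only [hPr, hI, Finset.mem_product, Finset.mem_filter, Finset.mem_univ, true_and,
          hord'] at hz1 ⊢
        refine ⟨hz1, c⁻¹ * s * c, ?_, ?_, ⟨1, by rw [hJ2, pow_one]⟩, by rwa [hord']⟩
        · rw [show c⁻¹ * z.1 * c * (c⁻¹ * z.2 * c) = c⁻¹ * (z.1 * z.2) * c by group, ← hg, ← hc]
          group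
        · have := hcm.map (MulAut.conj c⁻¹).toMonoidHom
          rw [← hc] at this
          simpa [mul_assoc] using this
    · intro w _ w' _ hne
      rw [Function.onFun, Finset.disjoint_left]
      intro z h1 h2
      exact hne (ppart_unique Nat.prime_two (Finset.mem_filter.1 h1).2 (Finset.mem_filter.1 h2).2)
  -- the count by the principal block
  have hchar : 4 * (T.card : ℂ) = (I.card : ℂ) ^ 2 * ∑ χ ∈ B, (a χ : ℂ) / (χ : G → ℂ) 1 := by
    have e : 4 * (T.card : ℂ) =
        ∑ u ∈ I, ∑ v ∈ I, ∑ χ ∈ B, (a χ : ℂ) * (χ : G → ℂ) (u * v) := by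
      simp only [hsum]
      rw [hT, Finset.card_eq_sum_ones, Finset.sum_filter, ← Finset.sum_product', Nat.cast_sum,
        Finset.mul_sum]
      exact Finset.sum_congr rfl fun z _ => by split_ifs <;> simp
    rw [e, Finset.mul_sum, Finset.sum_congr rfl fun u _ => Finset.sum_comm, Finset.sum_comm]
    refine Finset.sum_congr rfl fun χ hχ => ?_
    simp only [← Finset.mul_sum]
    have h := CharTheory.DihedralEight.sum_mul_involutions χ.2 I J
      (fun u hu x => Finset.mem_filter.2 ⟨Finset.mem_univ _, by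
        rw [RegularPart.orderOf_conj']; exact (Finset.mem_filter.1 hu).2⟩)
      (fun u hu => by
        rw [hval χ hχ J hJs, hval χ hχ u (by rw [(Finset.mem_filter.1 hu).2])])
    rw [hval χ hχ J hJs] at h
    have h1 : (χ : G → ℂ) 1 ≠ 0 := irr_one_ne_zero χ.2
    field_simp
    rw [mul_assoc, mul_comm _ ((χ : G → ℂ) 1), h]
    rcases ha χ hχ with e | e <;> simp [e]
  have hIcard : I.card * Nat.card C = Nat.card G := by
    rw [← card_carrier_mul_card_centralizer J]
    congr 1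
    rw [Nat.card_eq_fintype_card, ← Set.toFinset_card]
    congr 1
    ext x
    simp only [hI, Finset.mem_filter, Finset.mem_univ, true_and, Set.mem_toFinset,
      ConjClasses.mem_carrier_iff_mk_eq, ConjClasses.mk_eq_mk_iff_isConj]
    exact ⟨fun h => hone x J h hJ2, fun h => by
      obtain ⟨c, hc⟩ := isConj_iff.1 h
      rw [← RegularPart.orderOf_conj' x c, hc, hJ2]⟩
  have hI0 : (I.card : ℂ) ≠ 0 := Nat.cast_ne_zero.2
    (Finset.card_ne_zero.2 ⟨J, Finset.mem_filter.2 ⟨Finset.mem_univ _, hJ2⟩⟩)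
  have hP' : (Pr.card : ℂ) * (cP : ℂ) ^ 2 = 2 * (Nat.card C : ℂ) ^ 2 := by exact_mod_cast hPrcard
  have hI' : (I.card : ℂ) * (Nat.card C : ℂ) = (Nat.card G : ℂ) := by exact_mod_cast hIcard
  rw [hTcard, Nat.cast_mul] at hchar
  set S := ∑ χ ∈ B, (a χ : ℂ) / (χ : G → ℂ) 1
  have h4 : 4 * (Pr.card : ℂ) = (I.card : ℂ) * S :=
    mul_left_cancel₀ hI0 (by linear_combination hchar)
  rw [eq_div_iff (pow_ne_zero 2 (Nat.cast_ne_zero.2 (Nat.card_pos
    (α := Subgroup.centralizer ((P : Subgroup G) : Set G))).ne'))]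
  show (Nat.card G : ℂ) * S * (cP : ℂ) ^ 2 = 8 * (Nat.card C : ℂ) ^ 3
  rw [← hI']
  linear_combination 4 * (Nat.card C : ℂ) * hP' - (Nat.card C : ℂ) * (cP : ℂ) ^ 2 * h4

/-- Without a normal 2-complement a Sylow subgroup of order four is a four-group and the involutions
are conjugate. -/
theorem setting (P : Sylow 2 G) {g₀ : ℕ} (hg₀ : Odd g₀) (hG : Nat.card G = 4 * g₀)
    (hnc : ¬ ∃ N : Subgroup G, N.Normal ∧ Nat.card N = g₀) :
    IsKleinFour (P : Subgroup G) ∧ ∀ s t : G, orderOf s = 2 → orderOf t = 2 → IsConj s t := by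
  classical
  haveI := Fact.mk Nat.prime_two
  have hP4 : Nat.card (P : Subgroup G) = 4 := by
    rw [P.card_eq_multiplicity, hG, Nat.factorization_mul (by norm_num) hg₀.pos.ne',
      Finsupp.add_apply, Nat.factorization_eq_zero_of_not_dvd (show ¬ 2 ∣ g₀ by
        rw [Nat.two_dvd_ne_zero]; exact Nat.odd_iff.1 hg₀),
      show (4 : ℕ) = 2 ^ 2 from rfl, Nat.prime_two.factorization_pow, Finsupp.single_eq_same]
  have hno : ¬ Subgroup.normalizer ((P : Subgroup G) : Set G) ≤
      Subgroup.centralizer ((P : Subgroup G) : Set G) := fun h => by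
    obtain ⟨Q, N, hN, hc⟩ :=
      Transfer.NormalPComplement.hasNormalPComplement_of_normalizer_le_centralizer P h
    refine hnc ⟨N, hN, ?_⟩
    have h1 := hc.card_mul_card
    rw [Q.card_eq_multiplicity, ← P.card_eq_multiplicity, hP4, hG, mul_comm] at h1
    omega
  have hcyc : ¬ IsCyclic (P : Subgroup G) := fun h => hno (IsCyclic.normalizer_le_centralizer (by
    refine (Nat.minFac_eq_two_iff _).2 ?_
    rw [hG]; exact ⟨2 * g₀, by ring⟩) h)
  have hV : IsKleinFour (P : Subgroup G) :=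
    ⟨hP4, (not_isCyclic_iff_exponent_eq_prime Nat.prime_two (by rw [hP4]; rfl)).1 hcyc⟩
  refine ⟨hV, ?_⟩
  rcases Involutions.KleinSylow.conj_dichotomy P hV with h | h
  · refine absurd (fun n hn => ?_) hno
    rw [Subgroup.mem_centralizer_iff]
    intro x hx
    exact (mul_inv_eq_iff_eq_mul.1
      (h x hx n ((Subgroup.mem_normalizer_iff.1 hn x).1 hx))).symm
  · intro s t hs ht
    obtain ⟨Q, hQ⟩ := (IsPGroup.of_card (n := 1) (show Nat.card (Subgroup.zpowers s) = 2 ^ 1 by
      rw [Nat.card_zpowers, hs, pow_one])).exists_le_sylow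
    obtain ⟨R, hR⟩ := (IsPGroup.of_card (n := 1) (show Nat.card (Subgroup.zpowers t) = 2 ^ 1 by
      rw [Nat.card_zpowers, ht, pow_one])).exists_le_sylow
    obtain ⟨c, hc⟩ := MulAction.exists_smul_eq G Q P
    obtain ⟨d, hd⟩ := MulAction.exists_smul_eq G R P
    have hm : c * s * c⁻¹ ∈ (P : Subgroup G) := by
      show c * s * c⁻¹ ∈ P
      rw [← hc, ← SetLike.mem_coe, Sylow.coe_smul]
      exact ⟨s, hQ (Subgroup.mem_zpowers s), rfl⟩
    have hm' : d * t * d⁻¹ ∈ (P : Subgroup G) := by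
      show d * t * d⁻¹ ∈ P
      rw [← hd, ← SetLike.mem_coe, Sylow.coe_smul]
      exact ⟨t, hR (Subgroup.mem_zpowers t), rfl⟩
    refine (isConj_iff.2 ⟨c, rfl⟩ : IsConj s (c * s * c⁻¹)).trans (((h _ hm ?_ _ hm' ?_)).trans
      (isConj_iff.2 ⟨d, rfl⟩ : IsConj t (d * t * d⁻¹)).symm)
    · exact fun e => by
        rw [← RegularPart.orderOf_conj' s c, e, orderOf_one] at hs; omega
    · exact fun e => by
        rw [← RegularPart.orderOf_conj' t d, e, orderOf_one] at ht; omega

end Cfsg.Agent.BlockCharsA.KleinOrder
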