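import Mathlib
import Cfsg.Agent.Lib.CharTheory.MonomialLift
import Cfsg.Agent.Lib.CharTheory.BrauerInduction
import Cfsg.Agent.Lib.CharTheory.NormalSylow.Extend
import Cfsg.Agent.Lib.Characters.Monomial

/-!
M-groups are closed under regular wreath products with a group of prime order; hence every finite
solvable group embeds in an M-group.
-/

set_option autoImplicit false
set_option linter.style.haveILetI false

namespace Cfsg.Agent.BlockCharsA.MGroup

open Cfsg.Agent.Characters Cfsg.Agent.CharTheory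
open scoped ComplexConjugate

universe u v

/-- A class function that is induced from a homomorphism of a subgroup into `ℂˣ`. -/
def IsMon {G : Type u} [Group G] [Fintype G] (χ : G → ℂ) : Prop :=
  ∃ (H : Subgroup G) (lam : ↥H →* ℂˣ), χ = Cfsg.indFun H (fun h => (lam h : ℂ))

/-- All irreducible characters are monomial. -/
def IsM (G : Type u) [Group G] [Fintype G] : Prop :=
  ∀ χ : G → ℂ, Cfsg.IsIrrCharacter G χ → IsMon χ

section Lifting

variable {G : Type u} [Group G] [Fintype G]

theorem isMon_indFun {T : Subgroup G} [Fintype T] {ψ : T → ℂ} (h : IsMon ψ) :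
    IsMon (Cfsg.indFun T ψ) := by
  obtain ⟨H, lam, rfl⟩ := h
  exact ⟨H.map T.subtype,
    lam.comp (H.equivMapOfInjective T.subtype T.subtype_injective).symm.toMonoidHom,
    (MonomialLift.indFun_map_subtype T H fun h => (lam h : ℂ)).symm⟩

theorem isMon_comp {Q : Type v} [Group Q] [Fintype Q] (π : G →* Q) (hπ : Function.Surjective π)
    {ψ : Q → ℂ} (h : IsMon ψ) : IsMon (ψ ∘ π) := by
  obtain ⟨H, lam, rfl⟩ := h
  exact ⟨H.comap π, lam.comp (π.subgroupComap H), (Monomial.indFun_comap π hπ H _).symm⟩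

theorem isMon_mul {χ : G → ℂ} (h : IsMon χ) (μ : G →* ℂˣ) : IsMon (χ * fun g => (μ g : ℂ)) := by
  obtain ⟨H, lam, rfl⟩ := h
  refine ⟨H, lam * μ.comp H.subtype, ?_⟩
  rw [← BrauerInduction.indFun_mul_classFun H _
    (char_isClassFunction (isCharacter_linear μ))]
  rfl

theorem isM_of_subsingleton [Subsingleton G] : IsM G := by
  intro χ hχ
  have h1 := irr_degree_one_of_comm (fun a b => Subsingleton.elim _ _) hχ
  refine ⟨⊤, 1, funext fun g => ?_⟩
  rw [Subsingleton.elim g 1, h1, indFun_one, Subgroup.index_top]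
  simp

end Lifting

section Product

variable {ι : Type v} [Fintype ι] {A : Type u} [Group A] [Fintype A]

/-- The product character on a power of `A`. -/
def boxFun (φ : ι → A → ℂ) : (ι → A) → ℂ := fun f => ∏ i, φ i (f i)

omit [Fintype A] in
theorem isCharacter_boxFun {φ : ι → A → ℂ} (hφ : ∀ i, Cfsg.IsCharacter A (φ i)) :
    Cfsg.IsCharacter (ι → A) (boxFun φ) := by
  classical
  suffices h : ∀ s : Finset ι, Cfsg.IsCharacter (ι → A) fun f => ∏ i ∈ s, φ i (f i) from
    h Finset.univ
  intro s
  induction s using Finset.induction_on with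
  | empty => simpa using isCharacter_one (G := ι → A)
  | insert a s ha ih =>
    simp only [Finset.prod_insert ha]
    exact isCharacter_mul (isCharacter_comp (Pi.evalMonoidHom (fun _ : ι => A) a) (hφ a)) ih

variable [DecidableEq ι]

theorem classInner_boxFun (φ ψ : ι → A → ℂ) :
    Cfsg.classInner (boxFun φ) (boxFun ψ) = ∏ i, Cfsg.classInner (φ i) (ψ i) := by
  simp only [classInner_def, boxFun, map_prod, ← Finset.prod_mul_distrib]
  rw [← Fintype.prod_sum fun i a => φ i a * conj (ψ i a), Finset.prod_mul_distrib,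
    Finset.prod_const, Finset.card_univ, Nat.card_fun, Nat.card_eq_fintype_card (α := ι),
    Nat.cast_pow, inv_pow]

theorem isIrr_boxFun {φ : ι → A → ℂ} (hφ : ∀ i, Cfsg.IsIrrCharacter A (φ i)) :
    Cfsg.IsIrrCharacter (ι → A) (boxFun φ) := by
  refine isIrr_of_isCharacter_of_norm_one
    (isCharacter_boxFun fun i => isCharacter_of_isIrr (hφ i)) ?_
  rw [classInner_boxFun]
  exact Finset.prod_eq_one fun i _ => classInner_isIrr_self (hφ i)

theorem boxFun_inj {φ ψ : ι → A → ℂ} (hφ : ∀ i, Cfsg.IsIrrCharacter A (φ i))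
    (hψ : ∀ i, Cfsg.IsIrrCharacter A (ψ i)) (h : boxFun φ = boxFun ψ) : φ = ψ := by
  by_contra hne
  obtain ⟨i, hi⟩ := Function.ne_iff.mp hne
  have h1 := classInner_isIrr_self (isIrr_boxFun hφ)
  conv_lhs at h1 => arg 2; rw [h]
  rw [classInner_boxFun,
    Finset.prod_eq_zero (Finset.mem_univ i) (classInner_isIrr_ne (hφ i) (hψ i) hi)] at h1
  exact zero_ne_one h1

theorem exists_boxFun {θ : (ι → A) → ℂ} (hθ : Cfsg.IsIrrCharacter (ι → A) θ) :
    ∃ φ : ι → A → ℂ, (∀ i, Cfsg.IsIrrCharacter A (φ i)) ∧ θ = boxFun φ := by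
  classical
  haveI := Fintype.ofFinite (Cfsg.IrrCharacter A)
  haveI := Fintype.ofFinite (Cfsg.IrrCharacter (ι → A))
  let F : (ι → Cfsg.IrrCharacter A) → Cfsg.IrrCharacter (ι → A) :=
    fun Φ => ⟨boxFun fun i => (Φ i : A → ℂ), isIrr_boxFun fun i => (Φ i).2⟩
  have hF : Function.Injective F := fun Φ Ψ h => by
    have := boxFun_inj (fun i => (Φ i).2) (fun i => (Ψ i).2) (congrArg Subtype.val h)
    funext i
    exact Subtype.ext (congrFun this i)
  suffices h : (⟨θ, hθ⟩ : Cfsg.IrrCharacter (ι → A)) ∈ Finset.univ.image F by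
    obtain ⟨Φ, -, hΦ⟩ := Finset.mem_image.mp h
    exact ⟨fun i => (Φ i : A → ℂ), fun i => (Φ i).2, (congrArg Subtype.val hΦ).symm⟩
  by_contra hmem
  choose d hd using fun χ : Cfsg.IrrCharacter (ι → A) => irr_one_pos χ.2
  have hsum : ∑ χ ∈ Finset.univ.image F, d χ ^ 2 = ∑ χ, d χ ^ 2 := by
    have h1 : (∑ χ : Cfsg.IrrCharacter (ι → A), ((d χ : ℂ)) ^ 2) =
        ∑ χ ∈ Finset.univ.image F, ((d χ : ℂ)) ^ 2 := by
      simp only [← (hd _).2]
      rw [sum_degree_sq, Finset.sum_image fun x _ y _ h => hF h]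
      simp only [F, boxFun, Pi.one_apply, ← Finset.prod_pow]
      rw [← Fintype.prod_sum fun _ (φ : Cfsg.IrrCharacter A) => (φ : A → ℂ) 1 ^ 2, sum_degree_sq,
        Finset.prod_const, Finset.card_univ, Nat.card_fun, Nat.card_eq_fintype_card (α := ι),
        Nat.cast_pow]
    exact_mod_cast h1.symm
  refine hsum.not_lt (Finset.sum_lt_sum_of_subset (Finset.subset_univ _) (Finset.mem_univ _) hmem
    (pow_pos (hd _).1 2) fun j _ _ => Nat.zero_le _)

omit [DecidableEq ι] [Fintype A] in
theorem extendByZero_pi (H : ι → Subgroup A) (lam : ∀ i, ↥(H i) →* ℂˣ) (f : ι → A) :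
    Cfsg.extendByZero (Subgroup.pi Set.univ H)
        (fun k => ∏ i, (lam i ⟨(k : ι → A) i, k.2 i (Set.mem_univ i)⟩ : ℂ)) f =
      ∏ i, Cfsg.extendByZero (H i) (fun h => (lam i h : ℂ)) (f i) := by
  by_cases hf : ∀ i, f i ∈ H i
  · rw [IndBasic.extendByZero_of_mem _ _
      (show f ∈ Subgroup.pi Set.univ H from fun i _ => hf i)]
    exact Finset.prod_congr rfl fun i _ =>
      (IndBasic.extendByZero_of_mem (H i) (fun h => (lam i h : ℂ)) (hf i)).symm
  · rw [IndBasic.extendByZero_of_notMem _ _
      (show f ∉ Subgroup.pi Set.univ H from fun h => hf fun i => h i (Set.mem_univ i))]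
    push Not at hf
    obtain ⟨i, hi⟩ := hf
    exact (Finset.prod_eq_zero (Finset.mem_univ i)
      (IndBasic.extendByZero_of_notMem (H i) (fun h => (lam i h : ℂ)) hi)).symm

theorem isMon_boxFun {φ : ι → A → ℂ} (hφ : ∀ i, IsMon (φ i)) : IsMon (boxFun φ) := by
  classical
  choose H lam h using hφ
  let K : Subgroup (ι → A) := Subgroup.pi Set.univ H
  let Λ : K →* ℂˣ :=
    { toFun := fun k => ∏ i, lam i ⟨(k : ι → A) i, k.2 i (Set.mem_univ i)⟩
      map_one' := Finset.prod_eq_one fun i _ => map_one (lam i)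
      map_mul' := fun a b => by
        rw [← Finset.prod_mul_distrib]
        exact Finset.prod_congr rfl fun i _ => by rw [← map_mul]; rfl }
  refine ⟨K, Λ, funext fun f => ?_⟩
  have hval : (fun k : K => (Λ k : ℂ)) =
      fun k : K => ∏ i, (lam i ⟨(k : ι → A) i, k.2 i (Set.mem_univ i)⟩ : ℂ) :=
    funext fun k => by simp [Λ, Units.coe_prod]
  rw [hval]
  have hK : Nat.card K = ∏ i, Nat.card (H i) := by
    rw [← Nat.card_pi]
    exact Nat.card_congr
      { toFun := fun (k : K) i => ⟨(k : ι → A) i, k.2 i (Set.mem_univ i)⟩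
        invFun := fun k => ⟨fun i => k i, fun i _ => (k i).2⟩
        left_inv := fun k => rfl
        right_inv := fun k => rfl }
  apply mul_left_cancel₀ (Nat.cast_ne_zero.mpr (Nat.card_pos (α := K)).ne' : (Nat.card K : ℂ) ≠ 0)
  rw [IndBasic.card_mul_indFun, hK, Nat.cast_prod, boxFun, ← Finset.prod_mul_distrib]
  have hi : ∀ i, (Nat.card (H i) : ℂ) * φ i (f i) =
      ∑ a : A, Cfsg.extendByZero (H i) (fun h => (lam i h : ℂ)) (a⁻¹ * f i * a) := fun i => by
    rw [h i, IndBasic.card_mul_indFun]
  rw [Finset.prod_congr rfl fun i _ => hi i, Fintype.prod_sum]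
  exact Finset.sum_congr rfl fun x _ => (extendByZero_pi H lam _).symm

end Product

section Wreath

variable {A : Type u} [Group A] [Fintype A] {Q : Type u} [Group Q] [Fintype Q] [DecidableEq Q]

open RegularWreathProduct

/-- The base of the wreath product. -/
def base : (Q → A) →* A ≀ᵣ Q where
  toFun f := ⟨f, 1⟩
  map_one' := rfl
  map_mul' f g := by ext <;> simp

omit [Fintype A] [Fintype Q] [DecidableEq Q] in
theorem mem_ker_iff {w : A ≀ᵣ Q} :
    w ∈ (rightHom : A ≀ᵣ Q →* Q).ker ↔ w.right = 1 := MonoidHom.mem_ker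

/-- The projection of the base group onto the power of `A`. -/
def leftHom : (rightHom : A ≀ᵣ Q →* Q).ker →* (Q → A) where
  toFun w := (w : A ≀ᵣ Q).left
  map_one' := rfl
  map_mul' v w := by
    funext x
    simp [mem_ker_iff.mp v.2]

omit [Fintype A] [Fintype Q] [DecidableEq Q] in
theorem leftHom_surjective : Function.Surjective (leftHom (A := A) (Q := Q)) :=
  fun f => ⟨⟨⟨f, 1⟩, mem_ker_iff.mpr rfl⟩, rfl⟩

/-- The subgroup of elements with all coordinates in `H`. -/
def coordSub (H : Subgroup A) : Subgroup (A ≀ᵣ Q) where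
  carrier := {w | ∀ x, w.left x ∈ H}
  one_mem' := fun x => H.one_mem
  mul_mem' {v w} hv hw := fun x => by
    simpa using H.mul_mem (hv x) (hw _)
  inv_mem' {v} hv := fun x => by
    simpa using H.inv_mem (hv _)

/-- The product homomorphism on `coordSub`. -/
noncomputable def coordHom {H : Subgroup A} (lam : ↥H →* ℂˣ) :
    ↥(coordSub (Q := Q) H) →* ℂˣ where
  toFun w := ∏ x, lam ⟨(w : A ≀ᵣ Q).left x, w.2 x⟩
  map_one' := Finset.prod_eq_one fun x _ => map_one lam
  map_mul' v w := by
    rw [← Equiv.prod_comp (Equiv.mulLeft ((v : A ≀ᵣ Q).right)⁻¹)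
      (fun x => lam ⟨(w : A ≀ᵣ Q).left x, w.2 x⟩), ← Finset.prod_mul_distrib]
    refine Finset.prod_congr rfl fun x _ => ?_
    rw [← map_mul]
    rfl

variable [Fintype (A ≀ᵣ Q)]

theorem indFun_coordHom_base {H : Subgroup A} (lam : ↥H →* ℂˣ) (b : Q → A) :
    Cfsg.indFun (coordSub H) (fun w => (coordHom lam w : ℂ)) (base b) =
      ∏ x, Cfsg.indFun H (fun h => (lam h : ℂ)) (b x) := by
  classical
  have hcard : Nat.card (coordSub (Q := Q) H) = Nat.card Q * Nat.card H ^ Nat.card Q := by
    rw [← Nat.card_fun (β := H), mul_comm, ← Nat.card_prod]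
    exact Nat.card_congr
      { toFun := fun w => (fun x => ⟨(w : A ≀ᵣ Q).left x, w.2 x⟩, (w : A ≀ᵣ Q).right)
        invFun := fun p => ⟨⟨fun x => p.1 x, p.2⟩, fun x => (p.1 x).2⟩
        left_inv := fun w => rfl
        right_inv := fun p => rfl }
  apply mul_left_cancel₀
    (Nat.cast_ne_zero.mpr (Nat.card_pos (α := coordSub (Q := Q) H)).ne' :
      (Nat.card (coordSub (Q := Q) H) : ℂ) ≠ 0)
  rw [IndBasic.card_mul_indFun, hcard, Nat.cast_mul, Nat.cast_pow,
    ← Equiv.sum_comp (equivProd A Q).symm, Fintype.sum_prod_type_right, mul_assoc,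
    Nat.card_eq_fintype_card (α := Q), ← Finset.card_univ, ← Finset.prod_const,
    ← Finset.prod_mul_distrib, Finset.prod_congr rfl fun x _ => IndBasic.card_mul_indFun H _ _,
    Fintype.prod_sum, ← nsmul_eq_mul, ← Finset.sum_const]
  refine Finset.sum_congr rfl fun q _ => Finset.sum_congr rfl fun f _ => ?_
  have hy : ((equivProd A Q).symm (f, q))⁻¹ * base b * (equivProd A Q).symm (f, q) =
      base fun x => (f (q * x))⁻¹ * b (q * x) * f (q * x) := by
    ext x <;> simp [equivProd, base]
  rw [hy, ← Equiv.prod_comp (Equiv.mulLeft q)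
    (fun x => Cfsg.extendByZero H (fun h => (lam h : ℂ)) ((f x)⁻¹ * b x * f x))]
  by_cases hm : ∀ x, (f (q * x))⁻¹ * b (q * x) * f (q * x) ∈ H
  · rw [IndBasic.extendByZero_of_mem _ _ (show base _ ∈ coordSub H from hm)]
    rw [show ((coordHom lam ⟨base _, _⟩ : ℂˣ) : ℂ) = _ from Units.coe_prod _ _]
    exact Finset.prod_congr rfl fun x _ =>
      (IndBasic.extendByZero_of_mem H (fun h => (lam h : ℂ)) (hm x)).symm
  · rw [IndBasic.extendByZero_of_notMem _ _ (show base _ ∉ coordSub H from hm)]
    push Not at hm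
    obtain ⟨x, hx⟩ := hm
    exact (Finset.prod_eq_zero (Finset.mem_univ x)
      (IndBasic.extendByZero_of_notMem H (fun h => (lam h : ℂ)) hx)).symm

theorem isM_wreath (hA : IsM A) (hp : (Nat.card Q).Prime) : IsM (A ≀ᵣ Q) := by
  classical
  intro χ hχ
  let B : Subgroup (A ≀ᵣ Q) := (rightHom : A ≀ᵣ Q →* Q).ker
  haveI := Fintype.ofFinite B
  have hr : Function.Surjective (rightHom : A ≀ᵣ Q →* Q) := fun q => ⟨inl q, rfl⟩
  have hidx : B.index = Nat.card Q := by
    rw [Subgroup.index_ker, MonoidHom.range_eq_top.mpr hr, Subgroup.card_top]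
  let e : (Q → A) ≃* B := (MulEquiv.ofBijective leftHom
    ⟨fun v w h => Subtype.ext (RegularWreathProduct.ext h
      ((mem_ker_iff.mp v.2).trans (mem_ker_iff.mp w.2).symm)), leftHom_surjective⟩).symm
  have he : ∀ f, ((e f : B) : A ≀ᵣ Q) = base f := by
    intro f
    obtain ⟨v, rfl⟩ := e.symm.surjective f
    rw [e.apply_symm_apply]
    exact RegularWreathProduct.ext rfl (mem_ker_iff.mp v.2)
  rcases RelativeM.induced_or_homogeneous B hχ with
    ⟨T, ψ, hBT, hT, hψ, rfl⟩ | ⟨θ, m, hθ, hm, hres, hinv⟩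
  · have hTB : T = B := by
      have hd : T.index ∣ Nat.card Q := hidx ▸ Subgroup.index_dvd_of_le hBT
      rcases (Nat.dvd_prime hp).mp hd with h | h
      · exact absurd (Subgroup.index_eq_one.mp h) hT
      · refine (le_antisymm hBT ?_).symm
        rw [← Subgroup.relIndex_eq_one]
        have := Subgroup.relIndex_mul_index hBT
        rw [hidx, h] at this
        exact Nat.eq_of_mul_eq_mul_right hp.pos (by rw [this, one_mul])
    subst hTB
    obtain ⟨φ, hφ, hbox⟩ := exists_boxFun (Basics.isIrrCharacter_comp_equiv e hψ)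
    refine isMon_indFun ?_
    have : ψ = boxFun φ ∘ (e.symm.toMonoidHom : B →* (Q → A)) := by
      funext v
      rw [← hbox]
      simp
    rw [this]
    exact isMon_comp _ e.symm.surjective (isMon_boxFun fun i => hA _ (hφ i))
  · obtain ⟨φ, hφ, hbox⟩ := exists_boxFun (Basics.isIrrCharacter_comp_equiv e hθ)
    have hshift : ∀ q : Q, φ = fun x => φ (q * x) := by
      intro q
      refine boxFun_inj hφ (fun i => hφ _) (funext fun f => ?_)
      have h1 : boxFun φ f = θ (e f) := congrFun hbox.symm f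
      have h2 : boxFun φ (fun x => f (q⁻¹ * x)) = θ (e fun x => f (q⁻¹ * x)) :=
        congrFun hbox.symm _
      have h3 := congrFun (hinv (inl q)) (e f)
      rw [Clifford.conjBy_apply] at h3
      rw [h1, ← h3]
      have h4 : boxFun (fun x => φ (q * x)) f = boxFun φ (fun x => f (q⁻¹ * x)) := by
        unfold boxFun
        rw [← Equiv.prod_comp (Equiv.mulLeft q) (fun x => φ x (f (q⁻¹ * x)))]
        simp
      rw [h4, h2]
      refine congrArg θ (Subtype.ext ?_)
      simp only [he]
      ext x <;> simp [base]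
    have hconst : ∀ x, φ x = φ 1 := fun x => by
      have := congrFun (hshift x) 1
      rw [mul_one] at this
      exact this.symm
    obtain ⟨H, lam, hlam⟩ := hA _ (hφ 1)
    set η : A ≀ᵣ Q → ℂ := Cfsg.indFun (coordSub H) (fun w => (coordHom lam w : ℂ)) with hη
    have hηb : ∀ b, η (base b) = boxFun φ b := fun b => by
      rw [hη, indFun_coordHom_base, boxFun]
      exact Finset.prod_congr rfl fun x _ => by rw [hconst x, hlam]
    have hηc : Cfsg.IsCharacter _ η := isCharacter_indFun _ (isCharacter_linear _)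
    have hηirr : Cfsg.IsIrrCharacter _ η := by
      refine NormalSylow.isIrr_of_restrict (base : (Q → A) →* A ≀ᵣ Q) hηc ?_
      rw [show η ∘ (base : (Q → A) →* A ≀ᵣ Q) = boxFun φ from funext hηb]
      exact isIrr_boxFun hφ
    have hηθ : ∀ v : B, η v = θ v := by
      intro v
      obtain ⟨f, rfl⟩ := e.surjective v
      rw [he, hηb]
      exact congrFun hbox.symm f
    haveI := Fintype.ofFinite (Cfsg.IrrCharacter Q)
    haveI : Fact (Nat.card Q).Prime := ⟨hp⟩
    haveI : IsCyclic Q := isCyclic_of_prime_card (p := Nat.card Q) rfl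
    have hQ : ∀ a b : Q, a * b = b * a := fun a b => by
      letI := IsCyclic.commGroup (α := Q)
      exact mul_comm a b
    let μ : Cfsg.IrrCharacter Q → Q →* ℂ := fun ξ =>
      { toFun := (ξ : Q → ℂ)
        map_one' := irr_degree_one_of_comm hQ ξ.2
        map_mul' := char_mul_of_degree_one (isCharacter_of_isIrr ξ.2)
          (irr_degree_one_of_comm hQ ξ.2) }
    let ν : Cfsg.IrrCharacter Q → A ≀ᵣ Q →* ℂˣ := fun ξ => ((μ ξ).comp rightHom).toHomUnits
    let ζ : Cfsg.IrrCharacter Q → A ≀ᵣ Q → ℂ := fun ξ => η * fun w => (ν ξ w : ℂ)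
    have hζ : ∀ ξ, Cfsg.IsIrrCharacter _ (ζ ξ) := fun ξ => by
      refine Basics.isIrr_mul_linear hηirr (isCharacter_linear (ν ξ)) ?_
      simp
    obtain ⟨ξ, hξ⟩ : ∃ ξ, Cfsg.classInner χ (ζ ξ) ≠ 0 := by
      by_contra hall
      push Not at hall
      have hsum : ∑ ξ, Cfsg.classInner χ (ζ ξ) = (Nat.card (A ≀ᵣ Q) : ℂ)⁻¹ *
          ((Nat.card Q : ℂ) * ∑ v : B, χ v * conj (θ v)) := by
        simp only [classInner_def, ← Finset.mul_sum]
        congr 1
        rw [Finset.sum_comm]
        have hw : ∀ w : A ≀ᵣ Q, ∑ ξ, χ w * conj (ζ ξ w) =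
            χ w * conj (η w) * if w ∈ B then (Nat.card Q : ℂ) else 0 := by
          intro w
          rw [← Finset.mul_sum, mul_assoc]
          congr 1
          have horth := second_orthogonality (1 : Q) w.right
          have hc : Nat.card (Subgroup.centralizer ({w.right} : Set Q)) = Nat.card Q := by
            rw [show Subgroup.centralizer ({w.right} : Set Q) = ⊤ from by
              ext x; simp [Subgroup.mem_centralizer_iff, hQ x w.right], Subgroup.card_top]
          rw [hc] at horth
          have hiff : IsConj (1 : Q) w.right ↔ w ∈ B := by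
            rw [mem_ker_iff, isConj_one_right]
          simp only [ζ, Pi.mul_apply, map_mul, ← Finset.mul_sum]
          congr 1
          convert horth using 1
          · refine Finset.sum_congr rfl fun ξ _ => ?_
            rw [show ((ξ : Q → ℂ) 1) = 1 from irr_degree_one_of_comm hQ ξ.2, one_mul]
            rfl
          · by_cases hwB : w ∈ B
            · rw [if_pos hwB, if_pos (hiff.mpr hwB)]
            · rw [if_neg hwB, if_neg fun h => hwB (hiff.mp h)]
        simp only [hw, mul_ite, mul_zero]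
        rw [← Finset.sum_filter, Finset.mul_sum,
          Finset.sum_subtype _ (fun w => by simp : ∀ w, w ∈ Finset.univ.filter (· ∈ B) ↔ w ∈ B)]
        refine Finset.sum_congr rfl fun v _ => ?_
        rw [hηθ]
        ring
      rw [Finset.sum_eq_zero fun ξ _ => hall ξ] at hsum
      have hin : Cfsg.classInner (fun v : B => χ v) θ = (m : ℂ) := by
        rw [hres, classInner_smul_left, classInner_isIrr_self hθ, mul_one]
      have h0 : ∑ v : B, χ v * conj (θ v) = 0 := by
        rcases mul_eq_zero.mp hsum.symm with h | h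
        · exact absurd (inv_eq_zero.mp h) natCard_ne_zero
        · exact (mul_eq_zero.mp h).resolve_left natCard_ne_zero
      rw [classInner_def, h0, mul_zero] at hin
      exact hm (by exact_mod_cast hin.symm)
    have hχζ : χ = ζ ξ := by
      by_contra hne
      exact hξ (classInner_isIrr_ne hχ (hζ ξ) hne)
    rw [hχζ]
    exact isMon_mul ⟨coordSub H, coordHom lam, rfl⟩ (ν ξ)

end Wreath

section Embed

/-- Every finite solvable group embeds in an M-group. -/
theorem embeds (n : ℕ) : ∀ (G : Type u) [Group G] [Finite G], Nat.card G = n →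
    Group.IsSolvable G → ∃ (M : Type u) (_ : Group M) (_ : Fintype M),
      IsM M ∧ ∃ f : G →* M, Function.Injective f := by
  classical
  induction n using Nat.strong_induction_on with | _ n ih => ?_
  intro G _ _ hn hsolv
  haveI := hsolv
  haveI := Fintype.ofFinite G
  rcases subsingleton_or_nontrivial G with hs | hnt
  · exact ⟨G, inferInstance, inferInstance, isM_of_subsingleton, MonoidHom.id G,
      Function.injective_id⟩
  obtain ⟨K, hK, hle⟩ := (eq_top_or_exists_le_coatom (commutator G)).resolve_left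
    (Group.IsSolvable.commutator_lt_top_of_nontrivial G).ne
  haveI hKn : K.Normal := ⟨fun x hx g => by
    have : g * x * g⁻¹ * x⁻¹ ∈ K :=
      hle (Subgroup.commutator_mem_commutator (Subgroup.mem_top g) (Subgroup.mem_top x))
    simpa using K.mul_mem this hx⟩
  have hp : (Nat.card (G ⧸ K)).Prime := by
    letI : CommGroup (G ⧸ K) :=
      { (inferInstance : Group (G ⧸ K)) with
        mul_comm := fun a b => by
          induction a using QuotientGroup.induction_on with | _ a => ?_
          induction b using QuotientGroup.induction_on with | _ b => ?_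
          rw [← QuotientGroup.mk_mul, ← QuotientGroup.mk_mul, QuotientGroup.eq]
          refine hle ?_
          rw [commutator_def]
          have := Subgroup.commutator_mem_commutator (Subgroup.mem_top b⁻¹) (Subgroup.mem_top a⁻¹)
          simpa [commutatorElement_def, mul_assoc] using this }
    haveI : Nontrivial (G ⧸ K) := by
      rw [← Finite.one_lt_card_iff_nontrivial]
      exact lt_of_le_of_ne Nat.card_pos fun h => hK.1 (Subgroup.index_eq_one.mp h.symm)
    haveI : IsSimpleGroup (G ⧸ K) := ⟨fun L _ => by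
      have h1 : K ≤ L.comap (QuotientGroup.mk' K) := fun x hx => by
        simp [(QuotientGroup.eq_one_iff x).mpr hx]
      have hm := Subgroup.map_comap_eq_self_of_surjective (QuotientGroup.mk'_surjective K) L
      rcases hK.le_iff.mp h1 with h | h
      · right; rw [← hm, h, Subgroup.map_top_of_surjective _ (QuotientGroup.mk'_surjective K)]
      · left; rw [← hm, h, QuotientGroup.map_mk'_self]⟩
    exact IsSimpleGroup.prime_card
  have hlt : Nat.card K < n := by
    rw [← hn, Subgroup.card_eq_card_quotient_mul_card_subgroup K]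
    exact lt_mul_of_one_lt_left Nat.card_pos hp.one_lt
  obtain ⟨M, _, _, hM, f, hf⟩ := ih _ hlt K rfl inferInstance
  haveI := Fintype.ofFinite (G ⧸ K)
  haveI := Fintype.ofFinite (RegularWreathProduct M (G ⧸ K))
  refine ⟨RegularWreathProduct M (G ⧸ K), inferInstance, inferInstance, isM_wreath hM hp, ?_⟩
  let s : G ⧸ K → G := Quotient.out
  have hs : ∀ x, (s x : G ⧸ K) = x := QuotientGroup.out_eq'
  have hmem : ∀ (g : G) (x : G ⧸ K), (s x)⁻¹ * g * s ((g : G ⧸ K)⁻¹ * x) ∈ K := fun g x => by
    rw [← QuotientGroup.eq_one_iff]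
    simp [hs]
  let L : G → G ⧸ K → K := fun g x => ⟨_, hmem g x⟩
  refine ⟨{ toFun := fun g => ⟨fun x => f (L g x), (g : G ⧸ K)⟩, map_one' := ?_, map_mul' := ?_ },
    fun a b h => ?_⟩
  · refine RegularWreathProduct.ext ?_ rfl
    funext x
    have : L 1 x = 1 := Subtype.ext (by simp [L])
    show f (L 1 x) = 1
    rw [this, map_one]
  · intro a b
    refine RegularWreathProduct.ext ?_ rfl
    funext x
    have : L (a * b) x = L a x * L b ((a : G ⧸ K)⁻¹ * x) := by
      apply Subtype.ext
      simp [L, mul_assoc]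
    show f (L (a * b) x) = f (L a x) * f (L b ((a : G ⧸ K)⁻¹ * x))
    rw [this, map_mul]
  · have h1 : (a : G ⧸ K) = b := congrArg RegularWreathProduct.right h
    have h2 : f (L a 1) = f (L b 1) := congrFun (congrArg RegularWreathProduct.left h) 1
    have h3 := congrArg Subtype.val (hf h2)
    simp only [L, h1, mul_left_inj, mul_right_inj] at h3
    exact h3

end Embed

end Cfsg.Agent.BlockCharsA.MGroup
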