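import Mathlib
import Cfsg.Agent.BlockCharsA.AlgAut
import Cfsg.Agent.BlockCharsA.DefectZeroVanish
import Cfsg.Agent.Lib.Blocks.Orthogonality

/-!
The number of `p`-conjugates of an irreducible character, times its degree, has `p`-part at most
that of the group order, with equality only for characters of defect zero.
-/

set_option autoImplicit false
set_option linter.style.haveILetI false

namespace Cfsg.Agent.BlockCharsA.PConjugate

open Cfsg.Agent.Blocks Cfsg.Agent.Characters
open Polynomial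
open scoped ComplexConjugate

universe u

section Ramanujan

/-- The indices `i` below `p ^ a` with `1 + g * i` prime to `p`. -/
def idx (p a g : ℕ) : Finset ℕ := (Finset.range (p ^ a)).filter fun i => ¬ p ∣ 1 + g * i

/-- A sum over `idx` of powers of a `p ^ a`-th root of unity is divisible by `p ^ (a - 1)`. -/
theorem exists_sum_pow {p : ℕ} (hp : p.Prime) (a : ℕ) {g : ℕ} (hg : ¬ p ∣ g) {η : ℂ}
    (hη : η ^ p ^ a = 1) :
    ∃ z : ℂ, IsIntegral ℤ z ∧ ∑ i ∈ idx p a g, η ^ i = (p : ℂ) ^ (a - 1) * z := by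
  classical
  have hηi : IsIntegral ℤ η :=
    IsIntegral.of_pow (pow_pos hp.pos a) (hη ▸ isIntegral_one)
  rcases a with _ | b
  · exact ⟨∑ i ∈ idx p 0 g, η ^ i, IsIntegral.sum _ fun i _ => hηi.pow i, by simp⟩
  haveI : Fact p.Prime := ⟨hp⟩
  have hg' : (g : ZMod p) ≠ 0 := by rwa [Ne, ZMod.natCast_eq_zero_iff]
  set i₀ := (-(g : ZMod p)⁻¹).val with hi₀
  have hbad : ∀ i, p ∣ 1 + g * i ↔ i % p = i₀ := by
    intro i
    rw [← ZMod.natCast_eq_zero_iff, hi₀, ← ZMod.val_natCast, (ZMod.val_injective p).eq_iff]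
    push_cast
    constructor
    · intro h
      field_simp
      linear_combination h
    · intro h
      rw [h]
      field_simp
      ring
  have hsplit : ∑ i ∈ Finset.range (p ^ (b + 1)), η ^ i =
      (∑ i ∈ idx p (b + 1) g, η ^ i) + ∑ t ∈ Finset.range (p ^ b), η ^ (i₀ + p * t) := by
    rw [idx, ← Finset.sum_filter_not_add_sum_filter (Finset.range (p ^ (b + 1)))
      (fun i => p ∣ 1 + g * i)]
    congr 1
    refine Finset.sum_nbij' (fun i => i / p) (fun t => i₀ + p * t) ?_ ?_ ?_ ?_ ?_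
    · intro i hi
      simp only [Finset.mem_filter, Finset.mem_range] at hi
      rw [Finset.mem_range]
      rw [Nat.div_lt_iff_lt_mul hp.pos, ← pow_succ]
      exact hi.1
    · intro t ht
      simp only [Finset.mem_range] at ht
      simp only [Finset.mem_filter, Finset.mem_range]
      have hlt : i₀ < p := ZMod.val_lt _
      refine ⟨?_, (hbad _).mpr (by rw [Nat.add_mul_mod_self_left, Nat.mod_eq_of_lt hlt])⟩
      calc i₀ + p * t < p * (t + 1) := by rw [mul_add, mul_one]; omega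
        _ ≤ p * p ^ b := Nat.mul_le_mul_left p ht
        _ = p ^ (b + 1) := (pow_succ' p b).symm
    · intro i hi
      simp only [Finset.mem_filter, Finset.mem_range] at hi
      have h := (hbad i).mp hi.2
      rw [← h]
      exact Nat.mod_add_div i p
    · intro t _
      have hlt : i₀ < p := ZMod.val_lt _
      show (i₀ + p * t) / p = t
      rw [Nat.add_mul_div_left _ _ hp.pos, Nat.div_eq_of_lt hlt, zero_add]
    · intro i hi
      simp only [Finset.mem_filter] at hi
      have h := (hbad i).mp hi.2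
      show η ^ i = η ^ (i₀ + p * (i / p))
      rw [← h, Nat.mod_add_div]
  have hall : ∃ z : ℂ, IsIntegral ℤ z ∧
      ∑ i ∈ Finset.range (p ^ (b + 1)), η ^ i = (p : ℂ) ^ b * z := by
    by_cases h1 : η = 1
    · exact ⟨(p : ℂ), isIntegral_algebraMap (x := (p : ℤ)), by simp [h1, pow_succ]⟩
    · exact ⟨0, isIntegral_zero, by rw [geom_sum_eq h1, hη, sub_self, zero_div, mul_zero]⟩
  have hsub : ∃ z : ℂ, IsIntegral ℤ z ∧
      ∑ t ∈ Finset.range (p ^ b), η ^ (i₀ + p * t) = (p : ℂ) ^ b * z := by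
    simp only [pow_add, pow_mul, ← Finset.mul_sum]
    by_cases h1 : η ^ p = 1
    · exact ⟨η ^ i₀, hηi.pow _, by simp [h1, mul_comm]⟩
    · refine ⟨0, isIntegral_zero, ?_⟩
      rw [geom_sum_eq h1, ← pow_mul, ← pow_succ', hη, sub_self, zero_div, mul_zero, mul_zero]
  obtain ⟨z, hz, hz'⟩ := hall
  obtain ⟨w, hw, hw'⟩ := hsub
  refine ⟨z - w, hz.sub hw, ?_⟩
  rw [hz', hw'] at hsplit
  rw [Nat.add_sub_cancel, mul_sub]
  linear_combination -hsplit

end Ramanujan

section Units

variable {n g : ℕ} [NeZero n] (hgn : g ∣ n)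

omit [NeZero n] in
theorem pow_val_mul {G : Type u} [Monoid G] {x : G} (hx : x ^ n = 1) (u v : (ZMod n)ˣ) :
    x ^ ((u * v : (ZMod n)ˣ) : ZMod n).val =
      (x ^ (v : ZMod n).val) ^ (u : ZMod n).val := by
  rw [← pow_mul, Units.val_mul, ZMod.val_mul, ← pow_eq_pow_mod _ hx, mul_comm]

theorem val_cast_eq_one {u : (ZMod n)ˣ} (hu : u ∈ (ZMod.unitsMap hgn).ker) :
    (((u : ZMod n).val : ℕ) : ZMod g) = 1 := by
  have h := congrArg Units.val (MonoidHom.mem_ker.mp hu)
  rw [ZMod.unitsMap_val, ZMod.cast_eq_val] at h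
  exact h

variable {p a : ℕ}

/-- Sums over the units congruent to `1` modulo the `p'`-part. -/
theorem sum_ker (hp : p.Prime) (hn : n = p ^ a * g) (hg : ¬ p ∣ g)
    [Fintype (ZMod.unitsMap hgn).ker] (F : ℕ → ℂ) (hF : ∀ k, F (k % n) = F k) :
    ∑ u : (ZMod.unitsMap hgn).ker, F ((u : (ZMod n)ˣ) : ZMod n).val =
      ∑ i ∈ idx p a g, F (1 + g * i) := by
  classical
  symm
  have hg0 : 0 < g := Nat.pos_of_ne_zero fun h => hg (h ▸ dvd_zero p)
  have hcop : ∀ i ∈ idx p a g, Nat.Coprime (1 + g * i) n := by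
    intro i hi
    rw [idx, Finset.mem_filter] at hi
    rw [hn]
    refine Nat.Coprime.mul_right (Nat.Coprime.pow_right _ ?_) (by simp)
    exact (hp.coprime_iff_not_dvd.mpr hi.2).symm
  refine Finset.sum_bij (fun i hi => (⟨ZMod.unitOfCoprime (1 + g * i) (hcop i hi), ?_⟩ :
    (ZMod.unitsMap hgn).ker)) (fun _ _ => Finset.mem_univ _) ?_ ?_ ?_
  · rw [MonoidHom.mem_ker]
    apply Units.ext
    rw [ZMod.unitsMap_val, ZMod.coe_unitOfCoprime, ZMod.cast_natCast hgn]
    simp
  · intro i hi j hj h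
    have h' := congrArg (fun u : (ZMod.unitsMap hgn).ker => ((u : (ZMod n)ˣ) : ZMod n)) h
    simp only [ZMod.coe_unitOfCoprime, ZMod.natCast_eq_natCast_iff] at h'
    have h2 : g * i ≡ g * j [MOD p ^ a * g] := hn ▸ Nat.ModEq.add_left_cancel' 1 h'
    rw [mul_comm (p ^ a) g] at h2
    have h3 := Nat.ModEq.mul_left_cancel' hg0.ne' h2
    rw [idx, Finset.mem_filter, Finset.mem_range] at hi hj
    exact h3.eq_of_lt_of_lt hi.1 hj.1
  · rintro ⟨u, hu⟩ -
    have hu' := val_cast_eq_one hgn hu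
    have hcopu : Nat.Coprime (u : ZMod n).val n := ZMod.val_coe_unit_coprime u
    have hlt := ZMod.val_lt (u : ZMod n)
    set k := (u : ZMod n).val with hk
    have hk1 : k ≡ 1 [MOD g] := by
      rw [← ZMod.natCast_eq_natCast_iff, hu', Nat.cast_one]
    -- write `k + n` as `1 + g * i`
    have hn0 : 0 < n := Nat.pos_of_ne_zero (NeZero.ne n)
    have h1 : 1 ≤ k + n := by omega
    obtain ⟨i, hi⟩ : g ∣ k + n - 1 := by
      refine (Nat.modEq_iff_dvd' h1).mp ?_
      exact ((Nat.ModEq.add hk1 ((Nat.modEq_zero_iff_dvd).mpr hgn)).trans (by rfl)).symm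
    have hi' : k + n = 1 + g * i := by omega
    have hmod : ((1 + g * (i % p ^ a) : ℕ) : ZMod n) = u := by
      have he : 1 + g * (i % p ^ a) + n * (i / p ^ a) = k + n := by
        rw [hi', hn]
        conv_rhs => rw [← Nat.mod_add_div i (p ^ a)]
        ring
      have := congrArg (fun m : ℕ => (m : ZMod n)) he
      simp only [Nat.cast_add, Nat.cast_mul, Nat.cast_one, ZMod.natCast_self, zero_mul, add_zero] at this
      rw [hk, ZMod.natCast_zmod_val] at this
      push_cast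
      exact this
    have hmem : i % p ^ a ∈ idx p a g := by
      rw [idx, Finset.mem_filter, Finset.mem_range]
      refine ⟨Nat.mod_lt _ (pow_pos hp.pos a), fun hdiv => ?_⟩
      rcases Nat.eq_zero_or_pos a with ha | ha
      · subst ha
        simp only [pow_zero, Nat.mod_one, mul_zero, add_zero] at hdiv
        exact hp.not_dvd_one hdiv
      · have hun : IsUnit ((1 + g * (i % p ^ a) : ℕ) : ZMod n) := hmod ▸ u.isUnit
        rw [ZMod.isUnit_iff_coprime] at hun
        exact hp.not_dvd_one (hun ▸ Nat.dvd_gcd hdiv (hn ▸ dvd_mul_of_dvd_left (dvd_pow_self p ha.ne') g))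
    refine ⟨i % p ^ a, hmem, Subtype.ext (Units.ext ?_)⟩
    rw [ZMod.coe_unitOfCoprime]
    exact hmod
  · intro i hi
    rw [ZMod.coe_unitOfCoprime, ZMod.val_natCast, hF]

end Units

section Main

variable {G : Type u} [Group G] [Fintype G]

/-- Field automorphisms permute the irreducible characters. -/
theorem isIrr_aut (σ : ℂ ≃+* ℂ) {χ : G → ℂ} (hχ : Cfsg.IsIrrCharacter G χ) :
    Cfsg.IsIrrCharacter G (fun x => σ (χ x)) := by
  obtain ⟨m, ρ, hρ, rfl⟩ := hχ
  let τ : Representation ℂ G (Fin m → ℂ) :=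
    (Matrix.toLinAlgEquiv' (R := ℂ) (n := Fin m)).toAlgHom.toRingHom.toMonoidHom.comp
      (σ.toRingHom.mapMatrix.toMonoidHom.comp
        ((LinearMap.toMatrixAlgEquiv' (R := ℂ) (n := Fin m)).toAlgHom.toRingHom.toMonoidHom.comp ρ))
  have hτ : τ.character = fun x => σ (ρ.character x) := by
    funext x
    rw [Representation.character, LinearMap.trace_eq_matrix_trace ℂ (Pi.basisFun ℂ (Fin m)),
      Representation.character, LinearMap.trace_eq_matrix_trace ℂ (Pi.basisFun ℂ (Fin m)),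
      LinearMap.toMatrix_eq_toMatrix']
    have : LinearMap.toMatrix' (τ x) = (LinearMap.toMatrix' (ρ x)).map σ := by
      simp [τ, Matrix.toLinAlgEquiv', LinearMap.toMatrixAlgEquiv']
    rw [this]
    exact (AddMonoidHom.map_trace σ.toRingHom.toAddMonoidHom _).symm
  have hc : Cfsg.IsCharacter G (fun x => σ (ρ.character x)) := hτ ▸ isCharacter_character τ
  refine isIrr_of_isCharacter_of_norm_one hc ?_
  have h1 : Cfsg.classInner ρ.character ρ.character = 1 :=
    classInner_isIrr_self ⟨m, ρ, hρ, rfl⟩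
  rw [classInner_def] at h1 ⊢
  simp only [← rep_char_inv] at h1
  rw [← map_one σ, ← h1, map_mul, map_inv₀, map_natCast, map_sum]
  congr 1
  refine Finset.sum_congr rfl fun x _ => ?_
  rw [map_mul, ← char_inv hc]

/-- Grouping a sum of a class function times values by classes. -/
theorem sum_eq_sum_index_mul [Fintype (ConjClasses G)] (F : G → ℂ)
    (hF : Cfsg.IsClassFunction G F) :
    ∑ x : G, F x = ∑ C : ConjClasses G,
      ((Subgroup.centralizer ({C.out} : Set G)).index : ℂ) * F C.out := by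
  classical
  rw [← Finset.sum_fiberwise Finset.univ ConjClasses.mk F]
  refine Finset.sum_congr rfl fun C _ => ?_
  have hout : ConjClasses.mk C.out = C := Quotient.out_eq C
  rw [Finset.sum_congr rfl (g := fun _ => F C.out) (fun x hx => ?_), Finset.sum_const,
    nsmul_eq_mul]
  · congr 1
    rw [← classCard_eq_index, hout, Nat.card_eq_fintype_card, Fintype.card_of_subtype]
    intro x
    simp [ConjClasses.mem_carrier_iff_mk_eq]
  · rw [Finset.mem_filter] at hx
    obtain ⟨c, rfl⟩ := isConj_iff.mp (ConjClasses.mk_eq_mk_iff_isConj.mp (hout.trans hx.2.symm))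
    exact hF _ _

theorem main (p : ℕ) (hp : p.Prime) (χ : Cfsg.IrrCharacter G) {n g a : ℕ}
    (hnG : n = Nat.card G) (hn : n = p ^ a * g) (hg : ¬ p ∣ g) {r : ℕ}
    (hr : Nat.card {ψ : Cfsg.IrrCharacter G // ∃ σ : ℂ ≃+* ℂ,
      σ (Complex.exp (2 * Real.pi * Complex.I / g)) = Complex.exp (2 * Real.pi * Complex.I / g) ∧
        (ψ : G → ℂ) = fun x => σ ((χ : G → ℂ) x)} = r) :
    (r * Cfsg.charDegree (χ : G → ℂ)).factorization p ≤ a ∧
      (p ^ a ∣ r * Cfsg.charDegree (χ : G → ℂ) → p ^ a ∣ Cfsg.charDegree (χ : G → ℂ)) := by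
  classical
  obtain ⟨d, hd0, hd⟩ := irr_one_pos χ.2
  have hdeg : Cfsg.charDegree (χ : G → ℂ) = d := by simp [Cfsg.charDegree, hd]
  rw [hdeg]
  obtain ⟨dim, ρ, hρ, hρχ⟩ := χ.2
  have hdim : (Module.finrank ℂ (Fin dim → ℂ) : ℂ) = d := by rw [← ρ.char_one, hρχ, hd]
  have hn0 : 0 < n := hnG ▸ Nat.card_pos
  haveI : NeZero n := ⟨hn0.ne'⟩
  have hg0 : 0 < g := Nat.pos_of_ne_zero fun h => hg (h ▸ dvd_zero p)
  have hgn : g ∣ n := ⟨p ^ a, by rw [hn, mul_comm]⟩
  have hord : ∀ x : G, x ^ n = 1 := fun x => hnG ▸ pow_card_eq_one'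
  set ζ := Complex.exp (2 * Real.pi * Complex.I / n) with hζdef
  have hζ : IsPrimitiveRoot ζ n := Complex.isPrimitiveRoot_exp n hn0.ne'
  have hζg : ζ ^ p ^ a = Complex.exp (2 * Real.pi * Complex.I / g) := by
    rw [hζdef, ← Complex.exp_nat_mul, hn]
    congr 1
    have h1 : (g : ℂ) ≠ 0 := Nat.cast_ne_zero.mpr hg0.ne'
    have h2 : (p : ℂ) ≠ 0 := Nat.cast_ne_zero.mpr hp.ne_zero
    push_cast
    field_simp
  -- values as integral polynomials in `ζ`
  have hpoly : ∀ x : G, ∃ P : ℤ[X], ∀ k : ℕ, (χ : G → ℂ) (x ^ k) = aeval (ζ ^ k) P := by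
    intro x
    obtain ⟨w, hw, hwk⟩ := exists_rootsOfUnity_sum ρ x
    have he : ∀ i, ∃ e : ℕ, ζ ^ e = w i := fun i => by
      obtain ⟨c, hc⟩ := orderOf_dvd_of_pow_eq_one (hord x)
      obtain ⟨e, -, he⟩ := hζ.eq_pow_of_pow_eq_one (ξ := w i)
        (by rw [hc, pow_mul, hw, one_pow])
      exact ⟨e, he⟩
    choose e he using he
    refine ⟨∑ i, X ^ e i, fun k => ?_⟩
    rw [← hρχ, hwk k, map_sum]
    refine Finset.sum_congr rfl fun i _ => ?_
    rw [map_pow, aeval_X, ← he i, ← pow_mul, ← pow_mul, mul_comm]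
  choose P hP using hpoly
  have hP1 : ∀ x, (χ : G → ℂ) x = aeval ζ (P x) := fun x => by simpa using hP x 1
  have hev : ∀ (σ : ℂ ≃+* ℂ) (z : ℂ) (Q : ℤ[X]), σ (aeval z Q) = aeval (σ z) Q := fun σ z Q =>
    (aeval_algHom_apply σ.toRingHom.toIntAlgHom z Q).symm
  set A := (ZMod.unitsMap hgn).ker with hA
  haveI := Fintype.ofFinite A
  -- the conjugates
  have hchi : ∀ u : A, ∃ ψ : Cfsg.IrrCharacter G,
      ∀ x, (ψ : G → ℂ) x = (χ : G → ℂ) (x ^ ((u : (ZMod n)ˣ) : ZMod n).val) := by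
    intro u
    have hu := ZMod.val_coe_unit_coprime (u : (ZMod n)ˣ)
    set k := ((u : (ZMod n)ˣ) : ZMod n).val
    obtain ⟨σ, hσ⟩ := AlgAut.exists_aut hζ (u : (ZMod n)ˣ)
    have hval : ∀ x, σ ((χ : G → ℂ) x) = (χ : G → ℂ) (x ^ k) := fun x => by
      rw [hP1, hev, hσ, hP]
    refine ⟨⟨fun x => (χ : G → ℂ) (x ^ k), ?_⟩, fun x => rfl⟩
    rw [← funext hval]
    exact isIrr_aut σ χ.2
  choose Χ hΧ using hchi
  have hOrbit : ∀ ψ : Cfsg.IrrCharacter G, (∃ σ : ℂ ≃+* ℂ,
      σ (Complex.exp (2 * Real.pi * Complex.I / g)) = Complex.exp (2 * Real.pi * Complex.I / g) ∧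
        (ψ : G → ℂ) = fun x => σ ((χ : G → ℂ) x)) ↔ ψ ∈ Finset.univ.image Χ := by
    intro ψ
    rw [Finset.mem_image]
    constructor
    · rintro ⟨σ, hσg, hψ⟩
      obtain ⟨k, hkn, hk⟩ := hζ.eq_pow_of_pow_eq_one (ξ := σ ζ)
        (by rw [← map_pow, hζ.pow_eq_one, map_one])
      have hcop : Nat.Coprime k n :=
        (hζ.pow_iff_coprime hn0 k).mp (hk ▸ hζ.map_of_injective σ.injective)
      have hmem : ZMod.unitOfCoprime k hcop ∈ A := by
        rw [hA, MonoidHom.mem_ker]
        apply Units.ext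
        rw [ZMod.unitsMap_val, ZMod.coe_unitOfCoprime, ZMod.cast_natCast hgn, Units.val_one,
          ← Nat.cast_one, ZMod.natCast_eq_natCast_iff]
        have h := hσg
        rw [← hζg, map_pow, ← hk, ← pow_mul, mul_comm, pow_mul, hζg] at h
        have := ((Complex.isPrimitiveRoot_exp g hg0.ne').isOfFinOrder hg0.ne').pow_eq_pow_iff_modEq.mp
          (h.trans (pow_one _).symm)
        rwa [← (Complex.isPrimitiveRoot_exp g hg0.ne').eq_orderOf] at this
      refine ⟨⟨_, hmem⟩, Finset.mem_univ _, Subtype.ext (funext fun x => ?_)⟩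
      rw [hΧ, congrFun hψ x, ZMod.coe_unitOfCoprime, ZMod.val_natCast,
        ← pow_eq_pow_mod _ (hord x), hP, hP1, hev, hk]
    · rintro ⟨u, -, rfl⟩
      obtain ⟨σ, hσ⟩ := AlgAut.exists_aut hζ (u : (ZMod n)ˣ)
      refine ⟨σ, ?_, funext fun x => ?_⟩
      · rw [← hζg, map_pow, hσ, ← pow_mul, mul_comm, pow_mul, hζg]
        have hu := val_cast_eq_one hgn u.2
        rw [← Nat.cast_one, ZMod.natCast_eq_natCast_iff] at hu
        have hη := Complex.isPrimitiveRoot_exp g hg0.ne'
        rw [pow_eq_pow_mod _ hη.pow_eq_one, hu, ← pow_eq_pow_mod _ hη.pow_eq_one, pow_one]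
      · rw [hΧ, hP1 x, hev, hσ, hP]
  have hrO : r = (Finset.univ.image Χ).card := by
    rw [← hr, ← Fintype.card_coe, ← Nat.card_eq_fintype_card]
    exact Nat.card_congr (Equiv.subtypeEquivRight hOrbit)
  -- equal fibres
  set m := (Finset.univ.filter fun u : A => Χ u = χ).card with hm
  have hfib : ∀ v : A, (Finset.univ.filter fun u : A => Χ u = Χ v).card = m := by
    intro v
    rw [hm]
    refine (Finset.card_bij (fun w _ => w * v) ?_ ?_ ?_).symm
    · intro w hw
      rw [Finset.mem_filter] at hw ⊢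
      refine ⟨Finset.mem_univ _, Subtype.ext (funext fun x => ?_)⟩
      rw [hΧ, hΧ, Subgroup.coe_mul, pow_val_mul (hord x), ← hΧ, hw.2]
    · intro w _ w' _ h
      exact mul_right_cancel h
    · intro u hu
      rw [Finset.mem_filter] at hu
      refine ⟨u * v⁻¹, Finset.mem_filter.mpr ⟨Finset.mem_univ _,
        Subtype.ext (funext fun x => ?_)⟩, inv_mul_cancel_right u v⟩
      rw [hΧ, mul_comm, Subgroup.coe_mul, pow_val_mul (hord x), ← pow_mul, mul_comm, pow_mul,
        ← hΧ u, hu.2, hΧ, ← pow_val_mul (hord x), ← Subgroup.coe_mul, mul_inv_cancel,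
        OneMemClass.coe_one, Units.val_one]
      rcases Nat.eq_or_lt_of_le hn0 with h1 | h1
      · have : x = 1 := by simpa [← h1] using hord x
        simp [this]
      · haveI : Fact (1 < n) := ⟨h1⟩
        rw [ZMod.val_one, pow_one]
  set e : ℕ := if a = 0 then 1 else p - 1 with he
  set c : ℕ := p ^ (a - 1) with hc
  have hcardA : Fintype.card A = e * c := by
    have h := sum_ker hgn hp hn hg (fun _ => (1 : ℂ)) (fun _ => rfl)
    simp only [Finset.sum_const, Finset.card_univ, nsmul_one, Nat.cast_inj] at h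
    rw [h, he, hc, idx]
    rcases Nat.eq_zero_or_pos a with ha | ha
    · subst ha
      simp [Finset.filter_eq_self.mpr, hp.ne_one]
    · rw [if_neg ha.ne']
      haveI : NeZero g := ⟨hg0.ne'⟩
      have hA' : Nat.card A * g.totient = n.totient := by
        have := Subgroup.card_eq_card_quotient_mul_card_subgroup A
        rw [Nat.card_congr (QuotientGroup.quotientKerEquivOfSurjective (ZMod.unitsMap hgn)
          (ZMod.unitsMap_surjective hgn)).toEquiv, Nat.card_eq_fintype_card (α := (ZMod n)ˣ),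
          Nat.card_eq_fintype_card (α := (ZMod g)ˣ), ZMod.card_units_eq_totient,
          ZMod.card_units_eq_totient] at this
        rw [this, mul_comm]
      have hA'' := hA'.trans (congrArg Nat.totient hn)
      rw [Nat.totient_mul ((hp.coprime_iff_not_dvd.mpr hg).pow_left a),
        Nat.totient_prime_pow hp ha] at hA''
      have := Nat.eq_of_mul_eq_mul_right (Nat.totient_pos.mpr hg0) hA''
      rw [Nat.card_eq_fintype_card, h, idx] at this
      rw [this, mul_comm]
  have hrm : r * m = e * c := by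
    rw [← hcardA, hrO, ← Finset.card_univ,
      Finset.card_eq_sum_card_image Χ Finset.univ,
      Finset.sum_congr rfl (g := fun _ => m) ?_, Finset.sum_const, smul_eq_mul]
    intro ψ hψ
    obtain ⟨v, -, rfl⟩ := Finset.mem_image.mp hψ
    exact hfib v
  have hr0 : 0 < r := by
    rw [hrO]; exact Finset.card_pos.mpr ((Finset.univ_nonempty).image Χ)
  have hep : ¬ p ∣ e := by
    rw [he]; split
    · exact hp.not_dvd_one
    · intro h
      have h2 := hp.two_le
      have := Nat.le_of_dvd (by omega) h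
      omega
  have hc0 : (c : ℂ) ≠ 0 := Nat.cast_ne_zero.mpr (pow_pos hp.pos _).ne'
  -- divisibility of the averaged sums
  have hdiv : ∀ Q : ℤ[X], ∃ z : ℂ, IsIntegral ℤ z ∧
      ∑ u : A, aeval (ζ ^ ((u : (ZMod n)ˣ) : ZMod n).val) Q = (c : ℂ) * z := by
    intro Q
    have hone : ∀ j : ℕ, ∃ z : ℂ, IsIntegral ℤ z ∧
        ∑ u : A, (ζ ^ ((u : (ZMod n)ˣ) : ZMod n).val) ^ j = (c : ℂ) * z := by
      intro j
      rw [sum_ker hgn hp hn hg (fun k => (ζ ^ k) ^ j)
        (fun k => by rw [← pow_eq_pow_mod k hζ.pow_eq_one])]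
      obtain ⟨z, hz, hz'⟩ := exists_sum_pow hp a hg (η := ζ ^ (g * j))
        (by rw [← pow_mul, mul_right_comm, mul_comm g, ← hn, pow_mul, hζ.pow_eq_one, one_pow])
      refine ⟨ζ ^ j * z, ((hζ.isIntegral hn0).pow j).mul hz, ?_⟩
      rw [hc, Nat.cast_pow, mul_left_comm, ← hz', Finset.mul_sum]
      refine Finset.sum_congr rfl fun i _ => ?_
      rw [← pow_mul, ← pow_mul, ← pow_add]
      congr 1
      ring
    choose z hz hz' using hone
    refine ⟨∑ j ∈ Q.support, (Q.coeff j : ℂ) * z j,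
      IsIntegral.sum _ fun j _ => (isIntegral_algebraMap (x := Q.coeff j)).mul (hz j), ?_⟩
    simp only [aeval_def, eval₂_eq_sum, Polynomial.sum, algebraMap_int_eq, eq_intCast]
    rw [Finset.sum_comm, Finset.mul_sum]
    refine Finset.sum_congr rfl fun j _ => ?_
    rw [← Finset.mul_sum, hz']
    ring
  let S : G → ℂ := fun x => ∑ u : A, (Χ u : G → ℂ) x
  have hScl : Cfsg.IsClassFunction G S := fun x y =>
    Finset.sum_congr rfl fun u _ => irr_isClassFunction (Χ u) x y
  have hSc : ∀ x, ∃ t : ℂ, IsIntegral ℤ t ∧ S x = (c : ℂ) * t := fun x => by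
    obtain ⟨t, ht, ht'⟩ := hdiv (P x)
    refine ⟨t, ht, ?_⟩
    rw [← ht']
    exact Finset.sum_congr rfl fun u _ => by rw [hΧ, hP]
  choose t ht ht' using hSc
  have htcl : Cfsg.IsClassFunction G t := fun x y => by
    have := hScl x y
    rw [ht', ht'] at this
    exact mul_left_cancel₀ hc0 this
  have hT : ∀ x, IsIntegral ℤ (((Subgroup.centralizer ({x} : Set G)).index : ℂ) * t x / d) := by
    intro x
    set L := (Subgroup.centralizer ({x} : Set G)).index
    have hω : IsIntegral ℤ (aeval ζ ((L : ℤ[X]) * P x) / (d : ℂ)) := by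
      rw [map_mul, map_natCast, ← hP1]
      have h := class_central_char_isIntegral ρ x
      rwa [hdim, hρχ] at h
    obtain ⟨Q, hQ⟩ := AlgAut.exists_intPoly hζ _ d hω
    obtain ⟨z, hz, hz'⟩ := hdiv Q
    convert hz using 1
    apply mul_left_cancel₀ hc0
    rw [← hz', mul_div_assoc', mul_left_comm, ← ht', Finset.mul_sum, Finset.sum_div]
    refine Finset.sum_congr rfl fun u _ => ?_
    obtain ⟨σ, hσ⟩ := AlgAut.exists_aut hζ (u : (ZMod n)ˣ)
    rw [hΧ, hP, ← hσ, ← hev σ ζ Q, ← hQ, map_div₀, hev, map_natCast, map_mul, map_natCast]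
  haveI := Fintype.ofFinite (ConjClasses G)
  have hnC : (n : ℂ) = (Nat.card G : ℂ) := by rw [hnG]
  -- orthogonality
  have horth : ∀ ψ : Cfsg.IrrCharacter G, ∑ x : G, (ψ : G → ℂ) x * conj (S x) =
      (n : ℂ) * ((Finset.univ.filter fun u : A => Χ u = ψ).card : ℂ) := by
    intro ψ
    simp only [S, map_sum, Finset.mul_sum]
    rw [Finset.sum_comm, Finset.card_filter, Nat.cast_sum, Finset.mul_sum]
    refine Finset.sum_congr rfl fun u _ => ?_
    have h : ∑ x : G, (ψ : G → ℂ) x * conj ((Χ u : G → ℂ) x) =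
        (n : ℂ) * Cfsg.classInner (ψ : G → ℂ) (Χ u : G → ℂ) := by
      rw [classInner_def, hnC, mul_inv_cancel_left₀ natCard_ne_zero]
    rw [h]
    congr 1
    by_cases hu : Χ u = ψ
    · rw [if_pos hu, hu, Nat.cast_one, classInner_isIrr_self ψ.2]
    · rw [if_neg hu, Nat.cast_zero,
        classInner_isIrr_ne ψ.2 (Χ u).2 fun h => hu (Subtype.ext h.symm)]
  -- first bound
  have hdvd : r * d ∣ n * e ^ 2 := by
    refine dvd_of_isIntegral_div (Nat.mul_ne_zero hr0.ne' hd0.ne') ?_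
    have h1 : ∑ x : G, S x * conj (S x) = (n : ℂ) * ((e * c * m : ℕ) : ℂ) := by
      have hSx : ∀ x, S x * conj (S x) = ∑ u : A, (Χ u : G → ℂ) x * conj (S x) := fun x =>
        Finset.sum_mul _ _ _
      simp only [hSx]
      rw [Finset.sum_comm]
      simp only [horth, hfib, Finset.sum_const, Finset.card_univ, hcardA, nsmul_eq_mul]
      push_cast
      ring
    have hint : IsIntegral ℤ ((∑ x : G, t x * conj (t x)) / (d : ℂ)) := by
      rw [sum_eq_sum_index_mul _ (fun x y => by simp only [htcl x y]), Finset.sum_div]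
      refine IsIntegral.sum _ fun C _ => ?_
      rw [show ∀ L : ℂ, L * (t C.out * conj (t C.out)) / (d : ℂ) =
        (L * t C.out / d) * conj (t C.out) from fun L => by ring]
      exact (hT _).mul (isIntegral_conj (ht _))
    convert hint using 1
    have h2 : ∑ x : G, S x * conj (S x) = (c : ℂ) ^ 2 * ∑ x : G, t x * conj (t x) := by
      rw [Finset.mul_sum]
      refine Finset.sum_congr rfl fun x _ => ?_
      rw [ht', map_mul, Complex.conj_natCast]
      ring
    rw [h2] at h1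
    have hd' : (d : ℂ) ≠ 0 := Nat.cast_ne_zero.mpr hd0.ne'
    have hr' : (r : ℂ) ≠ 0 := Nat.cast_ne_zero.mpr hr0.ne'
    have hrm' : (r : ℂ) * m = e * c := by exact_mod_cast hrm
    push_cast
    push_cast at h1
    field_simp
    apply mul_left_cancel₀ (pow_ne_zero 2 hc0)
    linear_combination -(r : ℂ) * h1 - (n : ℂ) * e * c * hrm'
  have hfac : (r * d).factorization p ≤ a := by
    have h1 := (Nat.factorization_le_iff_dvd (Nat.mul_ne_zero hr0.ne' hd0.ne')
      (Nat.mul_ne_zero hn0.ne' (pow_ne_zero 2 fun h => hep (by rw [h]; exact dvd_zero p)))).mpr hdvd p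
    rw [hn, Nat.factorization_mul (Nat.mul_ne_zero (pow_pos hp.pos a).ne' hg0.ne')
      (pow_ne_zero 2 fun h => hep (by rw [h]; exact dvd_zero p)),
      Nat.factorization_mul (pow_pos hp.pos a).ne' hg0.ne', hp.factorization_pow,
      Nat.factorization_pow] at h1
    simpa [Nat.factorization_eq_zero_of_not_dvd hg, Nat.factorization_eq_zero_of_not_dvd hep]
      using h1
  refine ⟨hfac, fun hpr => ?_⟩
  obtain ⟨M, hM⟩ := DefectZeroVanish.exists_modular hp
  -- the block of `χ` consists of conjugates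
  have hbase : ∀ ψ : Cfsg.IrrCharacter G, IsIntegral ℤ ((∑ x : G, (ψ : G → ℂ) x * conj (t x)) /
      (ψ : G → ℂ) 1) ∧ (∑ x : G, (ψ : G → ℂ) x * conj (t x)) / (ψ : G → ℂ) 1 =
        ∑ C : ConjClasses G, Cfsg.centralChar (ψ : G → ℂ) C.out * conj (t C.out) := by
    intro ψ
    have h : (∑ x : G, (ψ : G → ℂ) x * conj (t x)) / (ψ : G → ℂ) 1 =
        ∑ C : ConjClasses G, Cfsg.centralChar (ψ : G → ℂ) C.out * conj (t C.out) := by
      rw [sum_eq_sum_index_mul _ (fun x y => by
        simp only [htcl x y, irr_isClassFunction ψ x y]), Finset.sum_div]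
      refine Finset.sum_congr rfl fun C _ => ?_
      rw [Cfsg.centralChar]
      ring
    refine ⟨?_, h⟩
    rw [h]
    exact IsIntegral.sum _ fun C _ => (centralChar_isIntegral ψ _).mul (isIntegral_conj (ht _))
  have hrel : ∀ ψ : Cfsg.IrrCharacter G, (c : ℂ) * ∑ x : G, (ψ : G → ℂ) x * conj (t x) =
      (n : ℂ) * ((Finset.univ.filter fun u : A => Χ u = ψ).card : ℂ) := by
    intro ψ
    rw [← horth, Finset.mul_sum]
    refine Finset.sum_congr rfl fun x _ => ?_
    rw [ht', map_mul, Complex.conj_natCast]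
    ring
  have hblock : ∀ ψ ∈ Cfsg.blockOf M (χ : G → ℂ), ψ ∈ Finset.univ.image Χ := by
    intro ψ hψ
    by_contra hψn
    have h0 : (∑ x : G, (ψ : G → ℂ) x * conj (t x)) / (ψ : G → ℂ) 1 = 0 := by
      have := hrel ψ
      rw [Finset.card_eq_zero.mpr (Finset.filter_eq_empty_iff.mpr fun u _ hu =>
        hψn (Finset.mem_image.mpr ⟨u, Finset.mem_univ _, hu⟩)), Nat.cast_zero, mul_zero] at this
      rw [(mul_eq_zero.mp this).resolve_left hc0, zero_div]
    obtain ⟨hχint, hχeq⟩ := hbase χ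
    have hval : (∑ x : G, (χ : G → ℂ) x * conj (t x)) / (χ : G → ℂ) 1 =
        ((n * e : ℕ) : ℂ) / ((r * d : ℕ) : ℂ) := by
      have h := hrel χ
      rw [← hm] at h
      have hr' : (r : ℂ) ≠ 0 := Nat.cast_ne_zero.mpr hr0.ne'
      have hd' : (d : ℂ) ≠ 0 := Nat.cast_ne_zero.mpr hd0.ne'
      have hrm' : (r : ℂ) * m = e * c := by exact_mod_cast hrm
      rw [hd]
      push_cast
      field_simp
      apply mul_left_cancel₀ hc0
      linear_combination (r : ℂ) * h + (n : ℂ) * hrm'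
    rw [hval] at hχint hχeq
    obtain ⟨N, hN⟩ := dvd_of_isIntegral_div (Nat.mul_ne_zero hr0.ne' hd0.ne') hχint
    rw [hN, Nat.cast_mul, mul_div_cancel_left₀ _
      (Nat.cast_ne_zero.mpr (Nat.mul_ne_zero hr0.ne' hd0.ne'))] at hχeq
    have hNp : ¬ p ∣ N := by
      intro hpN
      have h1 : p ^ (a + 1) ∣ n * e := by
        rw [hN, pow_succ]; exact mul_dvd_mul hpr hpN
      rw [hn, pow_succ, mul_assoc, Nat.mul_dvd_mul_iff_left (pow_pos hp.pos a)] at h1
      rcases hp.dvd_mul.mp h1 with h | h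
      · exact hg h
      · exact hep h
    refine hNp ((ideal_natCast_iff hM N).mp ?_)
    rw [hχeq, ← sub_zero (∑ C : ConjClasses G, _), ← h0, (hbase ψ).2, ← Finset.sum_sub_distrib]
    refine ideal_sum hM fun C _ => ?_
    rw [← sub_mul]
    exact ideal_mul_right hM (hψ C.out) (ring_of_isIntegral hM (isIntegral_conj (ht _)))
  -- vanishing on nontrivial elements of a Sylow subgroup
  haveI : Fact p.Prime := ⟨hp⟩
  obtain ⟨R⟩ : Nonempty (Sylow p G) := inferInstance
  have hR : Nat.card (R : Subgroup G) = p ^ a := by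
    rw [R.card_eq_multiplicity, ← hnG, hn, Nat.factorization_mul (pow_pos hp.pos a).ne' hg0.ne',
      hp.factorization_pow]
    simp [Nat.factorization_eq_zero_of_not_dvd hg]
  haveI := Fintype.ofFinite (R : Subgroup G)
  set B := Finset.univ.image Χ |>.filter (· ∈ Cfsg.blockOf M (χ : G → ℂ)) with hB
  have hχB : χ ∈ B := by
    have hsb : χ ∈ Cfsg.blockOf M (χ : G → ℂ) := fun x => by
      simpa using ideal_zero hM
    exact Finset.mem_filter.mpr ⟨hblock χ hsb, hsb⟩
  have hBeq : ∀ ψ, ψ ∈ B ↔ ψ ∈ Cfsg.blockOf M (χ : G → ℂ) := fun ψ =>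
    ⟨fun h => (Finset.mem_filter.mp h).2, fun h => Finset.mem_filter.mpr ⟨hblock ψ h, h⟩⟩
  have hdegB : ∀ ψ ∈ B, (ψ : G → ℂ) 1 = (d : ℂ) := by
    intro ψ hψ
    obtain ⟨u, -, rfl⟩ := Finset.mem_image.mp (Finset.mem_filter.mp hψ).1
    rw [hΧ, one_pow, hd]
  have hint := intEl_blockIdem hM (B := Cfsg.blockOf M (χ : G → ℂ)) ⟨χ, rfl⟩
  have hvan : ∀ x : (R : Subgroup G), x ≠ 1 → ∑ ψ ∈ B, conj ((ψ : G → ℂ) x) = 0 := by
    intro x hx
    obtain ⟨k, hk⟩ := IsPGroup.iff_orderOf.mp R.isPGroup' x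
    have hord' : p ∣ orderOf (x : G) := by
      rw [Subgroup.orderOf_coe, hk]
      refine dvd_pow_self p fun h0 => hx ?_
      rw [h0, pow_zero] at hk
      exact orderOf_eq_one_iff.mp hk
    have h := sum_block_reg_sing hM hint (x := (1 : G)) (by simpa using hp.not_dvd_one) hord'
    rw [finsum_mem_eq_finite_toFinset_sum _ (Set.toFinite _)] at h
    rw [show (Set.toFinite (Cfsg.blockOf M (χ : G → ℂ))).toFinset = B from by
      ext ψ; simp [hBeq]] at h
    rw [Finset.sum_congr rfl fun ψ hψ => by rw [hdegB ψ hψ], ← Finset.mul_sum] at h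
    exact (mul_eq_zero.mp h).resolve_left (Nat.cast_ne_zero.mpr hd0.ne')
  have hsame : ∀ ψ ∈ B, ∑ x : (R : Subgroup G), (ψ : G → ℂ) x =
      ∑ x : (R : Subgroup G), (χ : G → ℂ) x := by
    intro ψ hψ
    obtain ⟨u, -, rfl⟩ := Finset.mem_image.mp (Finset.mem_filter.mp hψ).1
    have hcop : Nat.Coprime (Nat.card (R : Subgroup G)) ((u : (ZMod n)ˣ) : ZMod n).val :=
      ((ZMod.val_coe_unit_coprime (u : (ZMod n)ˣ)).coprime_dvd_right
        (hnG ▸ Subgroup.card_subgroup_dvd_card _)).symm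
    simp only [hΧ]
    exact Fintype.sum_equiv (powCoprime hcop) _ _ fun x => by simp
  obtain ⟨k, hk⟩ := classInner_char_nat (isCharacter_restrict (R : Subgroup G) (irr_isCharacter χ))
    (isCharacter_one (G := (R : Subgroup G)))
  have hχR : ∑ x : (R : Subgroup G), (χ : G → ℂ) x = ((p ^ a * k : ℕ) : ℂ) := by
    rw [Nat.cast_mul, ← hk, classInner_def, ← hR, mul_inv_cancel_left₀ natCard_ne_zero]
    simp
  have htot : (B.card : ℂ) * conj ((p ^ a * k : ℕ) : ℂ) = (B.card : ℂ) * (d : ℂ) := by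
    calc (B.card : ℂ) * conj ((p ^ a * k : ℕ) : ℂ)
        = ∑ ψ ∈ B, ∑ x : (R : Subgroup G), conj ((ψ : G → ℂ) x) := by
          rw [Finset.sum_congr rfl fun ψ hψ => by rw [← map_sum, hsame ψ hψ, hχR],
            Finset.sum_const, nsmul_eq_mul]
      _ = ∑ x : (R : Subgroup G), ∑ ψ ∈ B, conj ((ψ : G → ℂ) x) := Finset.sum_comm
      _ = ∑ ψ ∈ B, conj ((ψ : G → ℂ) ((1 : (R : Subgroup G)) : G)) :=
          Finset.sum_eq_single 1 (fun x _ hx => hvan x hx) (fun h => absurd (Finset.mem_univ _) h)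
      _ = (B.card : ℂ) * (d : ℂ) := by
          rw [Finset.sum_congr rfl fun ψ hψ => by
            rw [OneMemClass.coe_one, hdegB ψ hψ, Complex.conj_natCast],
            Finset.sum_const, nsmul_eq_mul]
  rw [Complex.conj_natCast] at htot
  have hB0 : (B.card : ℂ) ≠ 0 :=
    Nat.cast_ne_zero.mpr (Finset.card_pos.mpr ⟨χ, hχB⟩).ne'
  have := mul_left_cancel₀ hB0 htot
  exact ⟨k, by exact_mod_cast this.symm⟩

end Main

end Cfsg.Agent.BlockCharsA.PConjugate
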