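import Mathlib
import Cfsg.Agent.BlockCharsA.IdemVanish
import Cfsg.Agent.BlockCharsA.AbelianIndex

/-!
# Restriction of the principal block along a `p'`-index with `G = N C(P)`

The members of the principal block of `G` restrict irreducibly and bijectively to those of `N`.
-/

set_option linter.style.haveILetI false
set_option linter.unusedSectionVars false

namespace Cfsg.Agent.BlockCharsA.PrincipalRestrict

open Cfsg.Agent.Blocks Cfsg.Agent.Characters Cfsg.Agent.CharTheory
open Cfsg.Agent.BlockCharsA.NormalSupport Cfsg.Agent.BlockCharsA.CoveringDefect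
open Cfsg.Agent.BlockCharsA.IdemVanish
open scoped ComplexConjugate

universe u

variable {G : Type u} [Group G] [Finite G] {p : ℕ} {M : Ideal Cfsg.AlgInt}

/-- Evaluation at a primitive central idempotent of a subgroup. -/
theorem evalChar_push_fourier (H : Subgroup G) [Fintype H] [DecidableEq (Cfsg.IrrCharacter H)]
    (χ : Cfsg.IrrCharacter G) (θ : Cfsg.IrrCharacter H) :
    evalChar (χ : G → ℂ) (push H (fourier fun ψ => if ψ = θ then 1 else 0)) =
      Cfsg.classInner (fun n : H => (χ : G → ℂ) n) (θ : H → ℂ) * (θ : H → ℂ) 1 := by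
  haveI := Fintype.ofFinite (Cfsg.IrrCharacter H)
  set e : MonoidAlgebra ℂ H := fourier fun ψ => if ψ = θ then 1 else 0
  rw [evalChar_push]
  have hexp := classFun_eq_sum (char_isClassFunction
    (isCharacter_restrict H (irr_isCharacter χ)))
  conv_lhs =>
    arg 2
    intro n
    rw [show (χ : G → ℂ) (n : G) = (fun n : H => (χ : G → ℂ) n) n from rfl, hexp]
  simp only [Finset.sum_apply, Pi.smul_apply, smul_eq_mul, Finset.mul_sum]
  rw [Finset.sum_comm]
  have h : ∀ ψ : Cfsg.IrrCharacter H, ∑ n : H, e.coeff n *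
      (Cfsg.classInner (fun n : H => (χ : G → ℂ) n) (ψ : H → ℂ) * (ψ : H → ℂ) n) =
      Cfsg.classInner (fun n : H => (χ : G → ℂ) n) (ψ : H → ℂ) *
        ((ψ : H → ℂ) 1 * omega (ψ : H → ℂ) e) := fun ψ => by
    rw [omega, mul_div_cancel₀ _ (irr_one_ne_zero ψ.2), evalChar_eq_sum, Finset.mul_sum]
    exact Finset.sum_congr rfl fun n _ => by ring
  simp only [h]
  rw [Finset.sum_eq_single θ (fun ψ _ hne => by rw [omega_fourier, if_neg hne]; ring) (by simp),
    omega_fourier, if_pos rfl, mul_one]

/-- The hypotheses of the theorem. -/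
structure Setup (p : ℕ) (N : Subgroup G) (P : Sylow p G) : Prop where
  le : (P : Subgroup G) ≤ N
  cov : ∀ g : G, ∃ c ∈ Subgroup.centralizer ((P : Subgroup G) : Set G),
    (c : G)⁻¹ * g ∈ N
  idx : ¬ p ∣ N.index

theorem omega_classSum_cong (hM : Cfsg.IsPModular p M) {χ : Cfsg.IrrCharacter G}
    (hχ : χ ∈ Cfsg.principalBlock M G) (c : G) :
    Cong M (omega (χ : G → ℂ) (classSum c)) ((Subgroup.centralizer ({c} : Set G)).index : ℂ) := by
  classical
  haveI := Fintype.ofFinite G
  refine cong_trans hM (omega_cong_of_mem hM (isPBlock_principal M G) hχ (trivIrr_mem_principal hM)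
    (central_classSum c) (intEl_classSum hM c)) (cong_of_eq hM ?_)
  rw [omega, evalChar_eq_sum]
  simp only [trivIrr, div_one, mul_one, coeff_classSum]
  refine Eq.trans ?_ (congrArg Nat.cast (card_filter_isConj c))
  rw [Finset.card_filter, Nat.cast_sum]
  refine Finset.sum_congr rfl fun g _ => ?_
  split <;> simp [*]

theorem class_index_unit [Fact p.Prime] (hM : Cfsg.IsPModular p M) (P : Sylow p G) {c : G}
    (hc : c ∈ Subgroup.centralizer ((P : Subgroup G) : Set G)) :
    ¬ Cfsg.MemLocalIdeal M ((Subgroup.centralizer ({c} : Set G)).index : ℂ) := by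
  rw [ideal_natCast_iff hM]
  intro hd
  exact P.not_dvd_index (hd.trans (Subgroup.index_dvd_of_le (le_centralizer_iff_mem.2 hc)))

variable {N : Subgroup G} [hN : N.Normal] [Fintype N]

/-- For commutative quotients, class sums on cosets with unit central character. -/
theorem coset_elements [Fact p.Prime] (hM : Cfsg.IsPModular p M) {P : Sylow p G}
    (hS : Setup p N P) (hcomm : ∀ a b : G ⧸ N, a * b = b * a) {χ : Cfsg.IrrCharacter G}
    (hχ : χ ∈ Cfsg.principalBlock M G) (g : G) :
    ∃ r : MonoidAlgebra ℂ G, IsCentralEl r ∧ Supp (g : G ⧸ N) r ∧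
      omega (χ : G → ℂ) r ≠ 0 := by
  classical
  obtain ⟨c, hc, hcg⟩ := hS.cov g
  refine ⟨classSum c, central_classSum c, fun a ha => ?_, ne_zero_of_not_ideal hM fun hi =>
    class_index_unit hM P hc ((ideal_iff_of_cong hM (omega_classSum_cong hM hχ c)).1 hi)⟩
  rw [coeff_classSum, if_neg fun hca => ha ?_]
  obtain ⟨x, rfl⟩ := isConj_iff.1 hca
  rw [QuotientGroup.mk_mul, QuotientGroup.mk_mul, QuotientGroup.mk_inv, hcomm,
    inv_mul_cancel_left]
  exact QuotientGroup.eq.2 hcg

/-- Uniqueness of the principal extension for commutative quotients. -/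
theorem ext_unique [Fact p.Prime] [Fintype (G ⧸ N)] (hM : Cfsg.IsPModular p M) {P : Sylow p G}
    (hS : Setup p N P) (hcomm : ∀ a b : G ⧸ N, a * b = b * a) {ψ ψ' : Cfsg.IrrCharacter G}
    (hψ : ψ ∈ Cfsg.principalBlock M G) (hψ' : ψ' ∈ Cfsg.principalBlock M G)
    (hres : ∀ n : N, (ψ' : G → ℂ) n = (ψ : G → ℂ) n) : ψ' = ψ := by
  classical
  haveI := Fintype.ofFinite G
  have hr := coset_elements hM hS hcomm hψ
  have hirr : Cfsg.IsIrrCharacter N (fun n : N => (ψ : G → ℂ) n) :=
    isIrr_of_isCharacter_of_norm_one (isCharacter_restrict N (irr_isCharacter ψ))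
      (AbelianIndex.restrict_norm hcomm ψ hr)
  obtain ⟨l, hl, hl1, hlN, hlm⟩ := ExtendChar.extension_eq_linear_mul N (θ := fun n : N => (ψ : G → ℂ) n)
    hirr ψ.2 (fun n => rfl) ψ'.2 hres
  have hlh : ∀ a b, l (a * b) = l a * l b := char_mul_of_degree_one hl hl1
  refine Subtype.ext (funext fun g => ?_)
  obtain ⟨c, hc, hcg⟩ := hS.cov g
  have hlg : l g = l c := by
    rw [← mul_inv_cancel_left c g, hlh, hlN ⟨_, hcg⟩, mul_one]
  suffices l c = 1 by rw [← hlm, Pi.mul_apply, hlg, this, one_mul]
  have hsupp : ∀ a, IsConj c a → l a = l c := fun a ha => by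
    obtain ⟨x, rfl⟩ := isConj_iff.1 ha
    exact char_isClassFunction hl c x
  have h1 : omega (ψ' : G → ℂ) (classSum c) = l c * omega (ψ : G → ℂ) (classSum c) := by
    have h11 : l 1 = 1 := hl1
    rw [omega, omega, evalChar_eq_sum, evalChar_eq_sum, ← mul_div_assoc, Finset.mul_sum, ← hlm]
    simp only [Pi.mul_apply, h11, one_mul]
    congr 1
    refine Finset.sum_congr rfl fun a _ => ?_
    rw [coeff_classSum]
    split
    · rw [hsupp a ‹_›]; ring
    · ring
  have h2 := omega_classSum_cong hM hψ c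
  have h3 := omega_classSum_cong hM hψ' c
  rw [h1] at h3
  have hu := class_index_unit hM P hc
  set d := ((Subgroup.centralizer ({c} : Set G)).index : ℂ)
  -- the value is a root of unity of order prime to `p`
  have hN1 : ∀ j, l (c ^ j) = l c ^ j := by
    intro j
    induction j with
    | zero => simpa using hl1
    | succ j ih => rw [pow_succ, hlh, ih, pow_succ]
  have hpow : l c ^ N.index = 1 := by rw [← hN1, hlN ⟨_, N.pow_index_mem c⟩]
  refine eq_one_of_cong_one hM hS.idx hpow ?_
  have hlr : Cfsg.MemLocalRing M (l c) :=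
    irr_value_ring hM ⟨_, isIrrCharacter_linear (linearOfDegreeOne hl hl1)⟩ c
  have h4 : Cong M (l c * d) d := cong_trans hM (cong_symm hM (cong_mul_left hM hlr h2)) h3
  unfold Cong at h4 ⊢
  rw [← sub_one_mul] at h4
  exact ((ideal_mul_iff hM (ring_sub hM hlr (ring_one hM)) (ring_natCast hM _)).1 h4).resolve_right hu

/-- The values of an irreducibly restricting character on a coset have norm one. -/
theorem coset_norm [Fintype G] [Fintype (G ⧸ N)] [DecidableEq (G ⧸ N)]
    (hcomm : ∀ a b : G ⧸ N, a * b = b * a) (χ : Cfsg.IrrCharacter G)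
    (hr : ∀ g : G, ∃ r : MonoidAlgebra ℂ G, IsCentralEl r ∧ Supp (g : G ⧸ N) r ∧
      omega (χ : G → ℂ) r ≠ 0) (q : G ⧸ N) :
    ∑ g : G, (if (g : G ⧸ N) = q then (χ : G → ℂ) g * conj ((χ : G → ℂ) g) else 0) =
      (Nat.card N : ℂ) := by
  classical
  haveI := Fintype.ofFinite (Cfsg.IrrCharacter (G ⧸ N))
  let F : G → ℂ := fun g => (χ : G → ℂ) g * conj ((χ : G → ℂ) g)
  have hsum : ∀ η : Cfsg.IrrCharacter (G ⧸ N), ∑ g : G, (η : G ⧸ N → ℂ) g * F g =
      if η = trivIrr (G ⧸ N) then (Nat.card G : ℂ) else 0 := by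
    intro η
    have h1 := classInner_irr (AbelianIndex.tw hcomm η χ) χ
    rw [classInner_def, inv_mul_eq_iff_eq_mul₀ natCard_ne_zero] at h1
    have h2 : ∑ g : G, (η : G ⧸ N → ℂ) g * F g =
        ∑ g : G, (AbelianIndex.tw hcomm η χ : G → ℂ) g * conj ((χ : G → ℂ) g) :=
      Finset.sum_congr rfl fun g _ => by rw [AbelianIndex.tw_apply]; simp only [F]; ring
    rw [h2, h1]
    have htriv : AbelianIndex.tw hcomm (trivIrr (G ⧸ N)) χ = χ :=
      Subtype.ext (funext fun g => by rw [AbelianIndex.tw_apply, trivIrr_coe, one_mul])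
    by_cases hη : η = trivIrr (G ⧸ N)
    · rw [if_pos hη, hη, htriv, if_pos rfl, mul_one]
    · rw [if_neg hη, if_neg fun h =>
        hη (AbelianIndex.tw_injective hcomm χ hr (h.trans htriv.symm)), mul_zero]
  have hs : ∑ η : Cfsg.IrrCharacter (G ⧸ N),
      conj ((η : G ⧸ N → ℂ) q) * ∑ g : G, (η : G ⧸ N → ℂ) g * F g = (Nat.card G : ℂ) := by
    simp [hsum, trivIrr]
  simp only [Finset.mul_sum] at hs
  rw [Finset.sum_comm] at hs
  have hone : ∀ g : G, ∑ η : Cfsg.IrrCharacter (G ⧸ N),
      conj ((η : G ⧸ N → ℂ) q) * ((η : G ⧸ N → ℂ) g * F g) =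
      (N.index : ℂ) * (if (g : G ⧸ N) = q then F g else 0) := by
    intro g
    have h := second_orthogonality (g : G ⧸ N) q
    have hiff : IsConj (g : G ⧸ N) q ↔ (g : G ⧸ N) = q := ⟨fun h => by
      obtain ⟨x, hx⟩ := isConj_iff.1 h
      rw [← hx, hcomm x, mul_inv_cancel_right], fun h => h ▸ IsConj.refl _⟩
    rw [Subgroup.centralizer_eq_top_iff_subset.2 (by
      intro a _; exact Subgroup.mem_center_iff.2 fun b => hcomm b a), Subgroup.card_top,
      ← Subgroup.index_eq_card] at h
    calc ∑ η : Cfsg.IrrCharacter (G ⧸ N), conj ((η : G ⧸ N → ℂ) q) * ((η : G ⧸ N → ℂ) g * F g)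
        = (∑ η : Cfsg.IrrCharacter (G ⧸ N), (η : G ⧸ N → ℂ) g * conj ((η : G ⧸ N → ℂ) q)) * F g := by
          rw [Finset.sum_mul]; exact Finset.sum_congr rfl fun η _ => by ring
      _ = _ := by rw [h]; simp only [hiff]; split <;> simp
  simp only [hone, ← Finset.mul_sum] at hs
  rw [← Subgroup.index_mul_card N, Nat.cast_mul] at hs
  exact mul_left_cancel₀ (Nat.cast_ne_zero.2 Subgroup.index_ne_zero_of_finite) hs

/-- The principal idempotent of `G` has constant coset sums. -/
theorem augK_principal [Fact p.Prime] (hM : Cfsg.IsPModular p M) {P : Sylow p G}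
    (hS : Setup p N P) (k : G ⧸ N) :
    augK k (blockIdem (Cfsg.principalBlock M G)) =
      augK (1 : G ⧸ N) (blockIdem (Cfsg.principalBlock M G)) := by
  classical
  haveI := Fintype.ofFinite G
  haveI := Fintype.ofFinite (G ⧸ N)
  haveI := Fintype.ofFinite (Cfsg.IrrCharacter (G ⧸ N))
  set e := blockIdem (Cfsg.principalBlock M G)
  set F : G ⧸ N → ℂ := fun k => augK k e with hF
  have hFc : Cfsg.IsClassFunction (G ⧸ N) F := by
    intro k x
    induction x using QuotientGroup.induction_on with | _ x => ?_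
    simp only [hF, augK_def]
    refine Fintype.sum_equiv (MulAut.conj x⁻¹).toEquiv _ _ fun g => ?_
    simp only [MulEquiv.toEquiv_eq_coe, MulEquiv.coe_toEquiv, MulAut.conj_apply, inv_inv]
    have h1 := central_blockIdem (Cfsg.principalBlock M G) g x⁻¹
    rw [inv_inv] at h1
    have hiff : (g : G ⧸ N) = (x : G ⧸ N) * k * (x : G ⧸ N)⁻¹ ↔
        ((x⁻¹ * g * x : G) : G ⧸ N) = k := by
      rw [QuotientGroup.mk_mul, QuotientGroup.mk_mul, QuotientGroup.mk_inv, eq_mul_inv_iff_mul_eq,
        mul_assoc, inv_mul_eq_iff_eq_mul]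
    simp only [hiff, e, h1]
  have hnt : ∀ ξ : Cfsg.IrrCharacter (G ⧸ N), ξ ≠ trivIrr (G ⧸ N) →
      Cfsg.classInner F (ξ : G ⧸ N → ℂ) = 0 := by
    intro ξ hξ
    set χ : Cfsg.IrrCharacter G := ⟨(fun k => conj ((ξ : G ⧸ N → ℂ) k)) ∘ QuotientGroup.mk' N,
      isIrrCharacter_comp_surjective _ (QuotientGroup.mk'_surjective N) (isIrrCharacter_conj ξ.2)⟩
      with hχ
    have hnot : χ ∉ Cfsg.principalBlock M G := by
      intro hmem
      have hsum : ∑ q : G ⧸ N, (χ : G → ℂ) (Function.surjInv (QuotientGroup.mk'_surjective N) q) = 0 := by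
        have h := classInner_irr (trivIrr (G ⧸ N)) ξ
        rw [if_neg (Ne.symm hξ), classInner_def, mul_eq_zero, inv_eq_zero] at h
        refine Eq.trans (Finset.sum_congr rfl fun q _ => ?_) (h.resolve_left natCard_ne_zero)
        show conj ((ξ : G ⧸ N → ℂ) (QuotientGroup.mk' N (Function.surjInv _ q))) = _
        rw [Function.surjInv_eq (QuotientGroup.mk'_surjective N) q]
        simp [trivIrr]
      have hval : ∀ g : G, Cong M ((χ : G → ℂ) g) ((χ : G → ℂ) 1) := by
        intro g
        obtain ⟨c, hc, hcg⟩ := hS.cov g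
        have hgc : (χ : G → ℂ) g = (χ : G → ℂ) c := by
          simp only [hχ, Function.comp_apply, QuotientGroup.mk'_apply]
          rw [show (g : G ⧸ N) = c from (QuotientGroup.eq.2 hcg).symm]
        rw [hgc]
        have h1 := omega_classSum_cong hM hmem c
        rw [omega_classSum (irr_isClassFunction χ)] at h1
        have hcc : Cfsg.centralChar (χ : G → ℂ) c =
            ((Subgroup.centralizer ({c} : Set G)).index : ℂ) * ((χ : G → ℂ) c / (χ : G → ℂ) 1) := by
          rw [← omega_classSum (irr_isClassFunction χ), omega, evalChar_eq_sum]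
          simp only [coeff_classSum, ite_mul, one_mul, zero_mul]
          rw [← Finset.sum_filter, Finset.sum_congr rfl (g := fun _ => (χ : G → ℂ) c) fun a ha => by
            obtain ⟨x, rfl⟩ := isConj_iff.1 (Finset.mem_filter.1 ha).2
            exact irr_isClassFunction χ c x, Finset.sum_const, card_filter_isConj, nsmul_eq_mul,
            mul_div_assoc]
        rw [hcc] at h1
        have hdeg : (χ : G → ℂ) 1 ≠ 0 := irr_one_ne_zero χ.2
        have hu := class_index_unit hM P hc
        set d := ((Subgroup.centralizer ({c} : Set G)).index : ℂ)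
        have h5 : Cfsg.MemLocalIdeal M (d * ((χ : G → ℂ) c - (χ : G → ℂ) 1)) := by
          have e : d * ((χ : G → ℂ) c - (χ : G → ℂ) 1) =
              (d * ((χ : G → ℂ) c / (χ : G → ℂ) 1) - d) * (χ : G → ℂ) 1 := by
            field_simp
          rw [e]
          exact ideal_mul_right hM h1 (irr_value_ring hM χ 1)
        exact ((ideal_mul_iff hM (ring_natCast hM _) (ring_sub hM (irr_value_ring hM χ c)
          (irr_value_ring hM χ 1))).1 h5).resolve_left hu
      have hd : ¬ Cfsg.MemLocalIdeal M ((χ : G → ℂ) 1) := by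
        have hQ : ¬ p ∣ Nat.card (G ⧸ N) := by rw [← Subgroup.index_eq_card]; exact hS.idx
        obtain ⟨n, -, hn⟩ := irr_one_pos (isIrrCharacter_conj ξ.2)
        obtain ⟨m, hm, hdvd⟩ := irr_degree_dvd_card (isIrrCharacter_conj ξ.2)
        have h1 : (χ : G → ℂ) 1 = conj ((ξ : G ⧸ N → ℂ) 1) := by
          simp [hχ]
        rw [h1, show conj ((ξ : G ⧸ N → ℂ) 1) = (m : ℂ) from hm, ideal_natCast_iff hM]
        exact fun h => hQ (h.trans hdvd.2)
      have h6 : Cong M (0 : ℂ) ((Nat.card (G ⧸ N) : ℂ) * (χ : G → ℂ) 1) := by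
        have h := cong_sum hM (s := Finset.univ)
          (fun q (_ : q ∈ Finset.univ) => hval (Function.surjInv (QuotientGroup.mk'_surjective N) q))
        rwa [hsum, Finset.sum_const, Finset.card_univ, nsmul_eq_mul,
          ← Nat.card_eq_fintype_card] at h
      refine ((ideal_mul_iff hM (ring_natCast hM _) (irr_value_ring hM χ 1)).1
        (cong_zero_iff.1 (cong_symm hM h6))).elim (fun h => ?_) hd
      rw [ideal_natCast_iff hM, ← Subgroup.index_eq_card] at h
      exact hS.idx h
    have h0 : omega (χ : G → ℂ) e = 0 := omega_blockIdem_notMem hnot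
    rw [omega, div_eq_zero_iff, evalChar_eq_sum] at h0
    have h0' := h0.resolve_right (irr_one_ne_zero χ.2)
    rw [classInner_def]
    refine mul_eq_zero_of_right _ ?_
    rw [← h0']
    simp only [hF, augK_def, Finset.sum_mul, ite_mul, zero_mul]
    rw [Finset.sum_comm]
    refine Finset.sum_congr rfl fun g _ => ?_
    rw [Finset.sum_ite_eq, if_pos (Finset.mem_univ _)]
    rfl
  have hexp := classFun_eq_sum hFc
  have hconst : ∀ k, F k = Cfsg.classInner F (trivIrr (G ⧸ N) : G ⧸ N → ℂ) := by
    intro k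
    conv_lhs => rw [hexp]
    rw [Finset.sum_apply, Finset.sum_eq_single (trivIrr (G ⧸ N))
      (fun ξ _ hξ => by rw [Pi.smul_apply, hnt ξ hξ, zero_smul]) (by simp)]
    simp [trivIrr]
  show F k = F 1
  rw [hconst k, hconst 1]

/-- Constituents on an intermediate subgroup lie in its principal block. -/
theorem constituent_mem [Fact p.Prime] (hM : Cfsg.IsPModular p M) {P : Sylow p G}
    (hS : Setup p N P) (L : Subgroup G) (hNL : N ≤ L) [Fintype L] {χ : Cfsg.IrrCharacter G}
    (hχ : χ ∈ Cfsg.principalBlock M G) {ψ : Cfsg.IrrCharacter L}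
    (hψ : Cfsg.classInner (fun n : L => (χ : G → ℂ) n) (ψ : L → ℂ) ≠ 0) :
    ψ ∈ Cfsg.principalBlock M L := by
  classical
  haveI := Fintype.ofFinite G
  haveI := Fintype.ofFinite (G ⧸ N)
  set eB := blockIdem (Cfsg.principalBlock M G)
  set eL := blockIdem (Cfsg.principalBlock M L)
  set b := blockIdem (Cfsg.principalBlock M N)
  have heBc : IsCentralEl eB := central_blockIdem _
  have heBi : IntEl M eB := intEl_blockIdem hM (isPBlock_principal M G)
  have heLi : IntEl M eL := intEl_blockIdem hM (isPBlock_principal M L)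
  have hbinv : IsInvEl b := isInvEl_blockIdem fun g θ h => CoverOver.principal_inv hM g h
  have hBb : eB * push N b = eB := by
    refine central_omega_ext (central_mul heBc (central_push hbinv)) heBc fun φ => ?_
    rw [omega_mul φ heBc]
    by_cases hφ : φ ∈ Cfsg.principalBlock M G
    · obtain ⟨η, hη⟩ := exists_under (N := N) φ
      rw [omega_push_eq φ η hη hbinv,
        omega_blockIdem_mem (CoverOver.principal_under hM hφ hη), mul_one]
    · rw [omega_blockIdem_notMem hφ, zero_mul]
  set E : MonoidAlgebra ℂ G := push L eL with hE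
  have hEN : NInv N E := by
    intro x hx g
    have hxL : x ∈ L := hNL hx
    by_cases hg : g ∈ L
    · rw [hE, coeff_push_mem _ hg, coeff_push_mem _ (L.mul_mem (L.mul_mem hxL hg) (L.inv_mem hxL))]
      exact central_blockIdem (Cfsg.principalBlock M L) ⟨g, hg⟩ ⟨x, hxL⟩
    · rw [hE, coeff_push_notMem _ hg, coeff_push_notMem]
      intro h
      exact hg (by simpa [mul_assoc] using L.mul_mem (L.mul_mem (L.inv_mem hxL) h) hxL)
  have hEE : E * E = E := by rw [hE, ← push_mul, blockIdem_mul_self]
  set f := eB - eB * E with hf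
  have hfi : IntEl M f := intEl_sub hM heBi (intEl_mul hM heBi (intEl_push hM heLi))
  have hfN : NInv N f := by
    intro x hx g
    rw [hf, MonoidAlgebra.coeff_sub, Finsupp.sub_apply, Finsupp.sub_apply,
      nInv_of_central heBc x hx g, nInv_mul (nInv_of_central heBc) hEN x hx g]
  have hcomm := central_commute heBc
  have hff : f * f = f := by
    have h1 : eB * eB = eB := blockIdem_mul_self _
    have h2 : eB * E * eB = eB * E := by rw [mul_assoc, ← (hcomm E).eq, ← mul_assoc, h1]
    have h3 : eB * E * (eB * E) = eB * E := by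
      rw [← mul_assoc, h2, mul_assoc, hEE]
    have h4 : eB * (eB * E) = eB * E := by rw [← mul_assoc, h1]
    rw [hf, sub_mul, mul_sub, mul_sub, h1, h2, h3, h4, sub_self, sub_zero]
  have hfb : f * push N b = f := by
    rw [hf, sub_mul, hBb, mul_assoc, (central_commute (central_push hbinv) E).eq.symm, ← mul_assoc,
      hBb]
  have hr := fun k => augK_principal hM hS k
  have htot : ∑ g : G, E.coeff g = 1 := by
    have h := omega_blockIdem_mem (trivIrr_mem_principal (G := L) hM)
    rw [omega, evalChar_eq_sum] at h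
    simp only [trivIrr, mul_one, div_one] at h
    rw [← h, hE, ← Finset.sum_subset (Finset.subset_univ (Finset.univ.filter (· ∈ L)))
      fun a _ ha => coeff_push_notMem _ (by simpa using ha),
      Finset.sum_subtype (Finset.univ.filter (· ∈ L)) (p := (· ∈ L)) (fun a => by simp)]
    exact Finset.sum_congr rfl fun a _ => coeff_push_coe _ a
  have haug : ∀ k : G ⧸ N, augK k f = 0 := by
    intro k
    have h1 : augK k f = augK k eB - augK k (eB * E) := by
      simp only [augK_def, hf, MonoidAlgebra.coeff_sub, Finsupp.sub_apply, ← Finset.sum_sub_distrib]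
      exact Finset.sum_congr rfl fun g _ => by split <;> simp
    rw [h1, (hcomm E).eq, augK_mul]
    simp only [eB, hr]
    rw [← Finset.sum_mul, htot, one_mul, sub_self]
  have hf0 := idem_eq_zero hM P hS.le (fun k => by
    induction k using QuotientGroup.induction_on with | _ g => ?_
    obtain ⟨c, hc, hcg⟩ := hS.cov g
    exact ⟨c, hc, QuotientGroup.eq.2 hcg⟩) hfi hfN hff hfb haug
  rw [hf, sub_eq_zero] at hf0
  by_contra hne
  set eψ : MonoidAlgebra ℂ L := fourier fun φ => if φ = ψ then 1 else 0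
  have h0 : eL * eψ = 0 := central_omega_ext (central_mul (central_blockIdem _) (central_fourier _))
    central_zero fun φ => by
      rw [omega_mul φ (central_blockIdem _), omega_fourier, omega_zero]
      by_cases hφ : φ = ψ
      · rw [hφ, omega_blockIdem_notMem hne, zero_mul]
      · rw [if_neg hφ, mul_zero]
  have h1 : eB * push L eψ = 0 := by
    rw [hf0, mul_assoc, hE, ← push_mul, h0]
    refine el_ext fun g => ?_
    rw [coeff_mul']
    simp only [MonoidAlgebra.coeff_zero, Finsupp.coe_zero, Pi.zero_apply]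
    refine Finset.sum_eq_zero fun a _ => ?_
    by_cases ha : a⁻¹ * g ∈ L
    · rw [coeff_push_mem _ ha]; simp
    · rw [coeff_push_notMem _ ha, mul_zero]
  have h2 := evalChar_central_mul χ heBc (push L eψ)
  rw [h1, evalChar_zero, omega_blockIdem_mem hχ, one_mul, evalChar_push_fourier] at h2
  exact mul_ne_zero hψ (irr_one_ne_zero ψ.2) h2.symm

end Cfsg.Agent.BlockCharsA.PrincipalRestrict
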