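import Mathlib
import Cfsg.Agent.BlockCharsA.PrincipalRestrict

/-!
# The restriction bijection between principal blocks
-/

set_option linter.style.haveILetI false
set_option linter.unusedSectionVars false

namespace Cfsg.Agent.BlockCharsA.PrincipalBijection

open Cfsg.Agent.Blocks Cfsg.Agent.Characters Cfsg.Agent.CharTheory
open Cfsg.Agent.BlockCharsA.PrincipalRestrict
open scoped ComplexConjugate

universe u

variable {G : Type u} [Group G] [Finite G] {p : ℕ} {M : Ideal Cfsg.AlgInt}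
  {N : Subgroup G} [hN : N.Normal] [Fintype N]

/-- The preimage of the cyclic subgroup of the quotient generated by the image of `g`. -/
def cyc (N : Subgroup G) [N.Normal] (g : G) : Subgroup G :=
  (Subgroup.zpowers (g : G ⧸ N)).comap (QuotientGroup.mk' N)

theorem le_cyc (g : G) : N ≤ cyc N g := fun n hn => by
  show (n : G ⧸ N) ∈ Subgroup.zpowers (g : G ⧸ N)
  rw [(QuotientGroup.eq_one_iff n).2 hn]
  exact Subgroup.one_mem _

theorem mem_cyc (g : G) : g ∈ cyc N g := Subgroup.mem_zpowers _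

theorem cyc_comm (g : G) (a b : cyc N g ⧸ N.subgroupOf (cyc N g)) : a * b = b * a := by
  induction a using QuotientGroup.induction_on with | _ a => ?_
  induction b using QuotientGroup.induction_on with | _ b => ?_
  rw [← QuotientGroup.mk_mul, ← QuotientGroup.mk_mul, QuotientGroup.eq, Subgroup.mem_subgroupOf]
  push_cast
  rw [← QuotientGroup.eq, QuotientGroup.mk_mul, QuotientGroup.mk_mul]
  obtain ⟨i, hi⟩ := Subgroup.mem_zpowers_iff.1 (show ((a : G) : G ⧸ N) ∈ Subgroup.zpowers _ from a.2)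
  obtain ⟨j, hj⟩ := Subgroup.mem_zpowers_iff.1 (show ((b : G) : G ⧸ N) ∈ Subgroup.zpowers _ from b.2)
  rw [← hi, ← hj]
  exact (Commute.refl (g : G ⧸ N)).zpow_zpow i j

variable [Fact p.Prime] {P : Sylow p G}

theorem setup_cyc (hS : Setup p N P) (g : G) :
    Setup p (N.subgroupOf (cyc N g)) (P.subtype (hS.le.trans (le_cyc g))) := by
  refine ⟨?_, fun x => ?_, ?_⟩
  · intro a ha
    rw [Sylow.coe_subtype, Subgroup.mem_subgroupOf] at ha
    exact hS.le ha
  · obtain ⟨c, hc, hcx⟩ := hS.cov (x : G)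
    have hcL : c ∈ cyc N g := by
      rw [show c = (x : G) * (c⁻¹ * (x : G))⁻¹ by group]
      exact mul_mem x.2 (inv_mem (le_cyc g hcx))
    refine ⟨⟨c, hcL⟩, ?_, hcx⟩
    rw [Sylow.coe_subtype]
    exact fun a ha => Subtype.ext (hc _ ha)
  · exact fun h => hS.idx (h.trans (Subgroup.relIndex_dvd_index_of_normal N (cyc N g)))

/-- The restriction to `N` of a constituent on a cyclic extension. -/
theorem sub_irr (hM : Cfsg.IsPModular p M) (hS : Setup p N P) (g : G) [Fintype (cyc N g)]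
    {ψ : Cfsg.IrrCharacter (cyc N g)} (hψ : ψ ∈ Cfsg.principalBlock M (cyc N g)) :
    Cfsg.IsIrrCharacter N
      (fun n : N => (ψ : cyc N g → ℂ) (Subgroup.inclusion (le_cyc g) n)) := by
  classical
  haveI := Fintype.ofFinite (N.subgroupOf (cyc N g))
  haveI := Fintype.ofFinite (cyc N g ⧸ N.subgroupOf (cyc N g))
  have h := isIrr_of_isCharacter_of_norm_one
    (isCharacter_restrict (N.subgroupOf (cyc N g)) (irr_isCharacter ψ))
    (AbelianIndex.restrict_norm (cyc_comm g) ψ (coset_elements hM (setup_cyc hS g) (cyc_comm g) hψ))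
  exact (isIrrCharacter_comp_mulEquiv (Subgroup.subgroupOfEquivOfLe (le_cyc g)).symm).2 h

/-- Constituents of members of the principal block are invariant. -/
theorem invariant [Fintype G] (hM : Cfsg.IsPModular p M) (hS : Setup p N P)
    {χ : Cfsg.IrrCharacter G} (hχ : χ ∈ Cfsg.principalBlock M G) {θ : Cfsg.IrrCharacter N}
    (hθ : Cfsg.classInner (fun n : N => (χ : G → ℂ) n) (θ : N → ℂ) ≠ 0) (g : G) :
    Clifford.conjBy N g (θ : N → ℂ) = θ := by
  classical
  haveI := Fintype.ofFinite (cyc N g)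
  haveI := Fintype.ofFinite (Cfsg.IrrCharacter (cyc N g))
  have hexp : (fun n : N => (χ : G → ℂ) n) = ∑ ψ : Cfsg.IrrCharacter (cyc N g),
      Cfsg.classInner (fun h : cyc N g => (χ : G → ℂ) h) (ψ : cyc N g → ℂ) •
        (fun n : N => (ψ : cyc N g → ℂ) (Subgroup.inclusion (le_cyc g) n)) := by
    funext n
    have := congrFun (classFun_eq_sum (classFun_restrict (cyc N g) (irr_isClassFunction χ)))
      (Subgroup.inclusion (le_cyc g) n)
    simpa [Finset.sum_apply] using this
  rw [hexp, classInner_sum_left] at hθ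
  obtain ⟨ψ, -, hψ⟩ := Finset.exists_ne_zero_of_sum_ne_zero hθ
  rw [classInner_smul_left] at hψ
  obtain ⟨h1, h2⟩ := mul_ne_zero_iff.1 hψ
  have hψB := constituent_mem hM hS (cyc N g) (le_cyc g) hχ h1
  have he : (fun n : N => (ψ : cyc N g → ℂ) (Subgroup.inclusion (le_cyc g) n)) = (θ : N → ℂ) := by
    by_contra hne
    exact h2 (classInner_isIrr_ne (sub_irr hM hS g hψB) θ.2 hne)
  funext n
  rw [Clifford.conjBy_apply, ← he]
  simp only
  rw [show Subgroup.inclusion (le_cyc g) ⟨g * n * g⁻¹, hN.conj_mem (n : G) n.2 g⟩ =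
    (⟨g, mem_cyc g⟩ : cyc N g) * Subgroup.inclusion (le_cyc g) n * (⟨g, mem_cyc g⟩ : cyc N g)⁻¹ from
    Subtype.ext rfl, irr_isClassFunction ψ]

/-- On each cyclic extension the restriction is a multiple of one principal member. -/
theorem cyc_restrict [Fintype G] (hM : Cfsg.IsPModular p M) (hS : Setup p N P)
    {χ : Cfsg.IrrCharacter G} (hχ : χ ∈ Cfsg.principalBlock M G) {θ : Cfsg.IrrCharacter N} {c : ℕ}
    (hc : ∀ n : N, (χ : G → ℂ) n = (c : ℂ) * (θ : N → ℂ) n) (g : G) [Fintype (cyc N g)] :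
    ∃ ψ ∈ Cfsg.principalBlock M (cyc N g),
      (∀ h : cyc N g, (χ : G → ℂ) h = (c : ℂ) * (ψ : cyc N g → ℂ) h) ∧
      ∀ n : N, (ψ : cyc N g → ℂ) (Subgroup.inclusion (le_cyc g) n) = (θ : N → ℂ) n := by
  classical
  haveI := Fintype.ofFinite (Cfsg.IrrCharacter (cyc N g))
  haveI := Fintype.ofFinite (cyc N g ⧸ N.subgroupOf (cyc N g))
  haveI := Fintype.ofFinite (N.subgroupOf (cyc N g))
  choose a ha using fun ψ : Cfsg.IrrCharacter (cyc N g) =>
    classInner_char_nat (isCharacter_restrict (cyc N g) (irr_isCharacter χ)) (irr_isCharacter ψ)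
  have hexp := classFun_eq_sum (classFun_restrict (cyc N g) (irr_isClassFunction χ))
  simp only [ha] at hexp
  let r : Cfsg.IrrCharacter (cyc N g) → N → ℂ :=
    fun ψ n => (ψ : cyc N g → ℂ) (Subgroup.inclusion (le_cyc g) n)
  have hN' : (fun n : N => (χ : G → ℂ) n) = ∑ ψ, (a ψ : ℂ) • r ψ := by
    funext n
    have := congrFun hexp (Subgroup.inclusion (le_cyc g) n)
    simpa [Finset.sum_apply, r] using this
  have hmem : ∀ ψ, a ψ ≠ 0 → ψ ∈ Cfsg.principalBlock M (cyc N g) := fun ψ h =>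
    constituent_mem hM hS (cyc N g) (le_cyc g) hχ (by rw [ha]; exact Nat.cast_ne_zero.2 h)
  have hres : ∀ ψ, a ψ ≠ 0 → r ψ = (θ : N → ℂ) := by
    intro ψ hψ
    by_contra hne
    have hirr := sub_irr hM hS g (hmem ψ hψ)
    have h0 : Cfsg.classInner (fun n : N => (χ : G → ℂ) n) (r ψ) = 0 := by
      rw [show (fun n : N => (χ : G → ℂ) n) = (c : ℂ) • (θ : N → ℂ) from funext hc,
        classInner_smul_left, classInner_isIrr_ne θ.2 hirr (Ne.symm hne), mul_zero]
    rw [hN', classInner_sum_left] at h0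
    choose d hd using fun φ : Cfsg.IrrCharacter (cyc N g) => classInner_char_nat
      (isCharacter_comp (Subgroup.inclusion (le_cyc g)) (irr_isCharacter φ))
      (isCharacter_of_isIrr hirr)
    simp only [classInner_smul_left, r, Function.comp_def] at h0 hd
    simp only [hd, ← Nat.cast_mul, ← Nat.cast_sum, Nat.cast_eq_zero] at h0
    rcases mul_eq_zero.1 (Finset.sum_eq_zero_iff.1 h0 ψ (Finset.mem_univ _)) with h | h
    · exact hψ h
    · have h2 := hd ψ
      rw [h, Nat.cast_zero, classInner_isIrr_self hirr] at h2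
      exact one_ne_zero h2
  obtain ⟨ψ, hψ⟩ : ∃ ψ, a ψ ≠ 0 := by
    by_contra hno
    push Not at hno
    have := congrFun hexp 1
    exact irr_one_ne_zero χ.2 (by simpa [hno] using this)
  have huniq : ∀ φ, a φ ≠ 0 → φ = ψ := fun φ hφ => by
    refine ext_unique hM (setup_cyc hS g) (cyc_comm g) (hmem ψ hψ) (hmem φ hφ) fun n => ?_
    have h1 := congrFun ((hres φ hφ).trans (hres ψ hψ).symm) ⟨(n : cyc N g), n.2⟩
    exact h1
  have hsum : (fun h : cyc N g => (χ : G → ℂ) h) = (a ψ : ℂ) • (ψ : cyc N g → ℂ) := by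
    rw [hexp]
    refine Finset.sum_eq_single ψ (fun φ _ hne => ?_) (by simp)
    rw [show a φ = 0 from by_contra fun h => hne (huniq φ h), Nat.cast_zero, zero_smul]
  have hac : (a ψ : ℂ) = c := by
    have h1 := congrFun hsum 1
    have h2 := hc 1
    have h3 := congrFun (hres ψ hψ) 1
    simp only [r, map_one] at h3
    simp only [Pi.smul_apply, smul_eq_mul, OneMemClass.coe_one] at h1 h2
    rw [h2, h3] at h1
    exact (mul_right_cancel₀ (irr_one_ne_zero θ.2) h1).symm
  refine ⟨ψ, hmem ψ hψ, fun h => ?_, fun n => congrFun (hres ψ hψ) n⟩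
  rw [← hac]
  exact congrFun hsum h

/-- Members of the principal block restrict irreducibly. -/
theorem restrict_irr [Fintype G] (hM : Cfsg.IsPModular p M) (hS : Setup p N P)
    {χ : Cfsg.IrrCharacter G} (hχ : χ ∈ Cfsg.principalBlock M G) {θ : Cfsg.IrrCharacter N}
    (hθ : Cfsg.classInner (fun n : N => (χ : G → ℂ) n) (θ : N → ℂ) ≠ 0) :
    ∀ n : N, (χ : G → ℂ) n = (θ : N → ℂ) n := by
  classical
  haveI := Fintype.ofFinite (G ⧸ N)
  have hr := Clifford.restrict_eq_smul_of_invariant N χ.2 θ.2 hθ (invariant hM hS hχ hθ)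
  obtain ⟨c, hc'⟩ := classInner_char_nat (isCharacter_restrict N (irr_isCharacter χ))
    (irr_isCharacter θ)
  rw [hc'] at hr
  have hc : ∀ n : N, (χ : G → ℂ) n = (c : ℂ) * (θ : N → ℂ) n := fun n => congrFun hr n
  have hcoset : ∀ q : G ⧸ N, ∑ g : G, (if (g : G ⧸ N) = q then
      (χ : G → ℂ) g * conj ((χ : G → ℂ) g) else 0) = ((c * c * Nat.card N : ℕ) : ℂ) := by
    intro q
    induction q using QuotientGroup.induction_on with | _ g => ?_
    haveI := Fintype.ofFinite (cyc N g)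
    haveI := Fintype.ofFinite (cyc N g ⧸ N.subgroupOf (cyc N g))
    haveI := Fintype.ofFinite (N.subgroupOf (cyc N g))
    obtain ⟨ψ, hψ, hval, -⟩ := cyc_restrict hM hS hχ hc g
    have h := coset_norm (cyc_comm g) ψ (coset_elements hM (setup_cyc hS g) (cyc_comm g) hψ)
      ((⟨g, mem_cyc g⟩ : cyc N g) : cyc N g ⧸ N.subgroupOf (cyc N g))
    rw [Nat.cast_mul, Nat.cast_mul, ← Nat.card_congr (Subgroup.subgroupOfEquivOfLe (le_cyc g)).toEquiv,
      ← h, Finset.mul_sum]
    symm
    refine Fintype.sum_of_injective (Subtype.val : cyc N g → G) Subtype.val_injective _ _ ?_ ?_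
    · intro y hy
      rw [if_neg]
      intro e
      apply hy
      refine ⟨⟨y, ?_⟩, rfl⟩
      rw [show y = g * (g⁻¹ * y) by group]
      exact mul_mem (mem_cyc g) (le_cyc g (QuotientGroup.eq.1 e.symm))
    · intro y
      have hiff : ((y : G) : G ⧸ N) = (g : G ⧸ N) ↔
          (y : cyc N g ⧸ N.subgroupOf (cyc N g)) =
            ((⟨g, mem_cyc g⟩ : cyc N g) : cyc N g ⧸ N.subgroupOf (cyc N g)) := by
        rw [QuotientGroup.eq, QuotientGroup.eq, Subgroup.mem_subgroupOf]
        exact Iff.rfl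
      by_cases hy : ((y : G) : G ⧸ N) = (g : G ⧸ N)
      · rw [if_pos hy, if_pos (hiff.1 hy), hval y, map_mul, Complex.conj_natCast]; ring
      · rw [if_neg hy, if_neg fun e => hy (hiff.2 e), mul_zero]
  have h1 := classInner_irr χ χ
  rw [if_pos rfl, classInner_def, inv_mul_eq_iff_eq_mul₀ natCard_ne_zero, mul_one] at h1
  have h2 : ∑ q : G ⧸ N, ∑ g : G, (if (g : G ⧸ N) = q then
      (χ : G → ℂ) g * conj ((χ : G → ℂ) g) else 0) = (Nat.card G : ℂ) := by
    rw [Finset.sum_comm, ← h1]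
    exact Finset.sum_congr rfl fun g _ => by rw [Finset.sum_ite_eq, if_pos (Finset.mem_univ _)]
  simp only [hcoset, Finset.sum_const, Finset.card_univ, nsmul_eq_mul, ← Nat.cast_mul,
    Nat.cast_inj, ← Nat.card_eq_fintype_card, ← Subgroup.index_eq_card] at h2
  rw [← Subgroup.index_mul_card N, mul_comm (c * c), ← mul_assoc] at h2
  have hc1 : c = 1 := Nat.eq_one_of_mul_eq_one_right (n := c)
    (Nat.eq_of_mul_eq_mul_left (Nat.mul_pos (Nat.pos_of_ne_zero Subgroup.index_ne_zero_of_finite)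
      Nat.card_pos) (h2.trans (mul_one _).symm))
  intro n
  rw [hc, hc1, Nat.cast_one, one_mul]

/-- The principal extension is unique. -/
theorem unique [Fintype G] (hM : Cfsg.IsPModular p M) (hS : Setup p N P)
    {χ χ' : Cfsg.IrrCharacter G} (hχ : χ ∈ Cfsg.principalBlock M G)
    (hχ' : χ' ∈ Cfsg.principalBlock M G) {θ : Cfsg.IrrCharacter N}
    (h : ∀ n : N, (χ : G → ℂ) n = (θ : N → ℂ) n) (h' : ∀ n : N, (χ' : G → ℂ) n = (θ : N → ℂ) n) :
    χ' = χ := by
  classical
  refine Subtype.ext (funext fun g => ?_)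
  haveI := Fintype.ofFinite (cyc N g)
  haveI := Fintype.ofFinite (cyc N g ⧸ N.subgroupOf (cyc N g))
  haveI := Fintype.ofFinite (N.subgroupOf (cyc N g))
  obtain ⟨ψ, hψ, hv, hn⟩ := cyc_restrict hM hS hχ (θ := θ) (c := 1) (fun n => by simpa using h n) g
  obtain ⟨ψ', hψ', hv', hn'⟩ :=
    cyc_restrict hM hS hχ' (θ := θ) (c := 1) (fun n => by simpa using h' n) g
  have e : ψ' = ψ := ext_unique hM (setup_cyc hS g) (cyc_comm g) hψ hψ' fun n => by
    have h1 := hn ⟨((n : cyc N g) : G), n.2⟩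
    have h2 := hn' ⟨((n : cyc N g) : G), n.2⟩
    exact h2.trans h1.symm
  rw [show g = ((⟨g, mem_cyc g⟩ : cyc N g) : G) from rfl, hv, hv', e]

end Cfsg.Agent.BlockCharsA.PrincipalBijection
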