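import Mathlib
import Cfsg.Agent.Lib.Blocks.Covering
import Cfsg.Agent.Lib.Blocks.Defect

/-!
# 2-blocks of odd degree stable under inversion of the regular classes
-/

set_option linter.style.haveILetI false
set_option linter.unusedSectionVars false

namespace Cfsg.Agent.BlockCharsA.RealBlock

open Cfsg.Agent.Blocks Cfsg.Agent.Characters
open scoped ComplexConjugate

variable {G : Type*} [Group G] [Finite G] {M : Ideal Cfsg.AlgInt}

/-- Modulo 2 only the fixed points of an involution contribute. -/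
theorem cong_sum_fixed_two {ι : Type*} [Fintype ι] [DecidableEq ι] (hM : Cfsg.IsPModular 2 M)
    {σ : ι → ι} (hσ : Function.Involutive σ) {f : ι → ℂ} (hf : ∀ i, Cfsg.MemLocalRing M (f i))
    (hinv : ∀ i, Cong M (f (σ i)) (f i)) :
    Cong M (∑ i, f i) (∑ i ∈ Finset.univ.filter (fun i => σ i = i), f i) := by
  classical
  obtain ⟨e⟩ := Fintype.truncEquivFin ι |>.nonempty
  set L := Finset.univ.filter fun i => e i < e (σ i)
  set U := Finset.univ.filter fun i => e (σ i) < e i
  have hU : ∑ i ∈ U, f i = ∑ i ∈ L, f (σ i) := by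
    refine Finset.sum_nbij' σ σ ?_ ?_ (fun i _ => hσ i) (fun i _ => hσ i) fun i _ => by rw [hσ i]
    · intro i hi; simpa [L, U, hσ i] using hi
    · intro i hi; simpa [L, U, hσ i] using hi
  have hsplit : ∑ i, f i = ∑ i ∈ Finset.univ.filter (fun i => σ i = i), f i +
      (∑ i ∈ L, f i + ∑ i ∈ U, f i) := by
    rw [← Finset.sum_filter_add_sum_filter_not Finset.univ (fun i => σ i = i) f]
    congr 1
    rw [← Finset.sum_union (Finset.disjoint_filter.2 fun i _ h => h.asymm)]
    refine Finset.sum_congr (Finset.ext fun i => ?_) fun _ _ => rfl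
    simp only [L, U, Finset.mem_filter, Finset.mem_univ, true_and, Finset.mem_union,
      lt_or_lt_iff_ne]
    exact ⟨fun h e' => h (e.injective e').symm, fun h e' => h (by rw [e'])⟩
  rw [hsplit]
  have h2 : Cong M (∑ i ∈ L, f i + ∑ i ∈ U, f i) 0 := by
    rw [hU]
    refine cong_trans hM (cong_add hM (cong_refl hM _) (cong_sum hM fun i _ => hinv i)) ?_
    rw [cong_zero_iff, show ∑ i ∈ L, f i + ∑ i ∈ L, f i = (((2 : ℕ) : ℂ)) * ∑ i ∈ L, f i by
      push_cast; ring]
    exact ideal_mul_right hM (ideal_p hM) (ring_sum hM fun i _ => hf i)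
  simpa using cong_add hM (cong_refl hM _) h2

theorem two_dvd_index_of_real (hM : Cfsg.IsPModular 2 M) {g : G} (hg : g⁻¹ ≠ g)
    (hreal : IsConj g g⁻¹) : 2 ∣ (Subgroup.centralizer ({g} : Set G)).index := by
  classical
  haveI := Fintype.ofFinite G
  obtain ⟨t, ht⟩ := isConj_iff.1 hreal
  have hmem : ∀ x : {x : G // IsConj g x}, IsConj g (x : G)⁻¹ := fun x => by
    obtain ⟨a, ha⟩ := isConj_iff.1 x.2
    refine isConj_iff.2 ⟨a * t, ?_⟩
    rw [show a * t * g * (a * t)⁻¹ = a * (t * g * t⁻¹) * a⁻¹ by group, ht, ← ha]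
    group
  have h := cong_sum_fixed_two (ι := {x : G // IsConj g x}) hM
    (σ := fun x => ⟨(x : G)⁻¹, hmem x⟩) (fun x => Subtype.ext (inv_inv _)) (f := fun _ => 1)
    (fun _ => ring_one hM) fun _ => cong_refl hM 1
  rw [Finset.filter_eq_empty_iff.2 fun x _ hx => hg ?_] at h
  · rw [Finset.sum_empty, Finset.sum_const, nsmul_eq_mul, mul_one, Finset.card_univ,
      cong_zero_iff, ideal_natCast_iff hM, Fintype.card_subtype, card_filter_isConj] at h
    exact h
  · obtain ⟨a, ha⟩ := isConj_iff.1 x.2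
    have hx' : (x : G)⁻¹ = x := congrArg Subtype.val hx
    rw [← ha] at hx'
    have : a * g⁻¹ * a⁻¹ = a * g * a⁻¹ := by rw [← hx']; group
    exact mul_left_cancel (mul_right_cancel this)

/-- The value of the central character on the idempotent is congruent to the coefficient at `1`. -/
theorem omega_cong_coeff_one (hM : Cfsg.IsPModular 2 M) {B : Set (Cfsg.IrrCharacter G)}
    (hB : Cfsg.IsPBlock M B)
    (ha : ∀ g : G, ¬ 2 ∣ orderOf g → Cfsg.blockCoeff B g⁻¹ = Cfsg.blockCoeff B g)
    (χ : Cfsg.IrrCharacter G) (hodd : ¬ 2 ∣ Cfsg.charDegree (χ : G → ℂ))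
    (hχ : ∀ g : G, ¬ 2 ∣ orderOf g →
      Cong M (Cfsg.centralChar (χ : G → ℂ) g⁻¹) (Cfsg.centralChar (χ : G → ℂ) g)) :
    Cong M (omega (χ : G → ℂ) (blockIdem B)) (Cfsg.blockCoeff B 1) := by
  classical
  haveI := Fintype.ofFinite G
  haveI := Fintype.ofFinite (ConjClasses G)
  have hint := intEl_blockIdem hM hB
  have hc : ∀ {x y : G}, IsConj x y → Cfsg.blockCoeff B x = Cfsg.blockCoeff B y := fun h => by
    rw [← coeff_blockIdem, ← coeff_blockIdem, central_isConj (central_blockIdem B) h]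
  have hcc : ∀ {x y : G}, IsConj x y →
      Cfsg.centralChar (χ : G → ℂ) x = Cfsg.centralChar (χ : G → ℂ) y := fun {x y} h => by
    rw [← omega_classSum (irr_isClassFunction χ), ← omega_classSum (irr_isClassFunction χ)]
    congr 1
    exact el_ext fun z => by
      rw [coeff_classSum, coeff_classSum]
      split_ifs with a b b
      · rfl
      · exact absurd (h.symm.trans a) b
      · exact absurd (h.trans b) a
      · rfl
  set f : ConjClasses G → ℂ := fun C =>
    Cfsg.blockCoeff B C.out * Cfsg.centralChar (χ : G → ℂ) C.out with hf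
  have hfmk : ∀ g : G, f (ConjClasses.mk g) =
      Cfsg.blockCoeff B g * Cfsg.centralChar (χ : G → ℂ) g := fun g => by
    have h : IsConj (ConjClasses.mk g).out g :=
      ConjClasses.mk_eq_mk_iff_isConj.1 (Quotient.out_eq _)
    simp only [f]
    rw [hc h, hcc h]
  have hfr : ∀ C, Cfsg.MemLocalRing M (f C) := fun C =>
    ring_mul hM (by rw [← coeff_blockIdem]; exact hint _) (by
      rw [← omega_classSum (irr_isClassFunction χ)]
      exact omega_ring hM χ (central_classSum _) (intEl_classSum hM _))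
  set σ : ConjClasses G → ConjClasses G := fun C => ConjClasses.mk C.out⁻¹ with hσ
  have hσmk : ∀ g : G, σ (ConjClasses.mk g) = ConjClasses.mk g⁻¹ := fun g => by
    simp only [σ]
    refine ConjClasses.mk_eq_mk_iff_isConj.2 ?_
    obtain ⟨a, ha⟩ := isConj_iff.1
      (ConjClasses.mk_eq_mk_iff_isConj.1 (Quotient.out_eq (ConjClasses.mk g)))
    refine isConj_iff.2 ⟨a, ?_⟩
    conv_rhs => rw [← ha]
    group
  have hσσ : Function.Involutive σ := fun C => by
    obtain ⟨g, rfl⟩ := ConjClasses.mk_surjective C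
    show σ (σ (ConjClasses.mk g)) = ConjClasses.mk g
    rw [hσmk g, hσmk g⁻¹, inv_inv]
  have hreg : ∀ g : G, ¬ ¬ 2 ∣ orderOf g ∨ Cong M (f (ConjClasses.mk g⁻¹)) (f (ConjClasses.mk g)) :=
    fun g => by
    by_cases h : 2 ∣ orderOf g
    · exact Or.inl (not_not.2 h)
    · right
      rw [hfmk, hfmk, ha g h]
      exact cong_mul_left hM (by rw [← coeff_blockIdem]; exact hint _) (hχ g h)
  have hsing : ∀ g : G, 2 ∣ orderOf g → f (ConjClasses.mk g) = 0 := fun g h => by
    rw [hfmk, blockCoeff_eq_zero_of_singular hM hint h, zero_mul]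
  have h := cong_sum_fixed_two hM hσσ hfr fun C => by
    obtain ⟨g, rfl⟩ := ConjClasses.mk_surjective C
    rw [hσmk]
    rcases hreg g with h | h
    · rw [hsing g (not_not.1 h), hsing g⁻¹ (by rw [orderOf_inv]; exact not_not.1 h)]
      exact cong_refl hM 0
    · exact h
  have he : omega (χ : G → ℂ) (blockIdem B) = ∑ C : ConjClasses G, f C := by
    conv_lhs => rw [central_eq_sum (central_blockIdem B), omega_sum]
    refine Finset.sum_congr rfl fun C _ => ?_
    rw [omega_smul, omega_classSum (irr_isClassFunction χ), coeff_blockIdem]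
  rw [he]
  refine cong_trans hM h ?_
  rw [← Finset.add_sum_erase _ _ (show ConjClasses.mk (1 : G) ∈
    Finset.univ.filter (fun C => σ C = C) by simp [hσmk]), hfmk,
    show Cfsg.centralChar (χ : G → ℂ) 1 = 1 by
      rw [Cfsg.centralChar, div_eq_one_iff_eq (irr_one_ne_zero χ.2)]
      have : Subgroup.centralizer ({(1 : G)} : Set G) = ⊤ := by
        ext; simp [Subgroup.mem_centralizer_singleton_iff]
      rw [this, Subgroup.index_top, Nat.cast_one, one_mul], mul_one]
  nth_rewrite 2 [← add_zero (Cfsg.blockCoeff B 1)]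
  refine cong_add hM (cong_refl hM _) (cong_zero_iff.2 (ideal_sum hM fun C hC => ?_))
  obtain ⟨g, rfl⟩ := ConjClasses.mk_surjective C
  obtain ⟨hne, hfix⟩ := Finset.mem_erase.1 hC
  by_cases hg : 2 ∣ orderOf g
  · rw [hsing g hg]; exact ideal_zero hM
  · rw [hfmk]
    refine ideal_mul_left hM (by rw [← coeff_blockIdem]; exact hint _) ?_
    have hreal : IsConj g g⁻¹ := by
      have := (Finset.mem_filter.1 hfix).2
      rw [hσmk] at this
      exact (ConjClasses.mk_eq_mk_iff_isConj.1 this).symm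
    have hgg : g⁻¹ ≠ g := fun e => by
      have : orderOf g ∣ 2 := orderOf_dvd_of_pow_eq_one (by
        rw [sq]; nth_rewrite 1 [← e]; exact inv_mul_cancel g)
      rcases (Nat.dvd_prime Nat.prime_two).1 this with h | h
      · exact hne (by rw [orderOf_eq_one_iff.1 h])
      · exact hg (by rw [h])
    obtain ⟨m, hm⟩ := two_dvd_index_of_real hM hgg hreal
    rw [Cfsg.centralChar, hm, Nat.cast_mul, mul_assoc, mul_div_assoc]
    refine ideal_mul_right hM (ideal_p hM) ?_
    rw [mul_div_assoc]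
    refine ring_mul hM (ring_natCast hM m) ?_
    rw [← charDegree_cast χ, div_eq_mul_inv]
    exact ring_mul hM (irr_value_ring hM χ g) (ring_inv_natCast hM hodd)

/-- A 2-block of odd degree, stable under inversion of the regular classes, is principal. -/
theorem eq_principal (hM : Cfsg.IsPModular 2 M) {B : Set (Cfsg.IrrCharacter G)}
    (hB : Cfsg.IsPBlock M B)
    (ha : ∀ g : G, ¬ 2 ∣ orderOf g → Cfsg.blockCoeff B g⁻¹ = Cfsg.blockCoeff B g)
    {χ : Cfsg.IrrCharacter G} (hχB : χ ∈ B) (hodd : ¬ 2 ∣ Cfsg.charDegree (χ : G → ℂ))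
    (hχ : ∀ g : G, ¬ 2 ∣ orderOf g →
      Cong M (Cfsg.centralChar (χ : G → ℂ) g⁻¹) (Cfsg.centralChar (χ : G → ℂ) g)) :
    B = Cfsg.principalBlock M G := by
  have h1 := omega_cong_coeff_one hM hB ha χ hodd hχ
  have h2 := omega_cong_coeff_one hM hB ha (trivIrr G) (by
    rw [show Cfsg.charDegree ((trivIrr G : Cfsg.IrrCharacter G) : G → ℂ) = 1 by
      simp [Cfsg.charDegree, trivIrr]]
    norm_num) fun g _ => by
      refine cong_of_eq hM ?_
      have : Subgroup.centralizer ({g⁻¹} : Set G) = Subgroup.centralizer ({g} : Set G) := by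
        ext c
        simp only [Subgroup.mem_centralizer_singleton_iff]
        exact Commute.inv_right_iff (a := c) (b := g)
      simp [Cfsg.centralChar, trivIrr, this]
  rw [omega_blockIdem_mem hχB] at h1
  by_contra hne
  have hnot : trivIrr G ∉ B := fun h =>
    hne (block_eq_of_mem hM hB (isPBlock_principal M G) h (trivIrr_mem_principal hM))
  rw [omega_blockIdem_notMem hnot] at h2
  exact not_cong_zero_one hM (cong_trans hM h2 (cong_symm hM h1))

/-- The coefficients of a block closed under a twist inverting the regular elements. -/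
theorem coeff_inv (B : Set (Cfsg.IrrCharacter G))
    (t : Cfsg.IrrCharacter G → Cfsg.IrrCharacter G) (hinj : Set.InjOn t B)
    (hmaps : ∀ ψ ∈ B, t ψ ∈ B) {g : G}
    (ht : ∀ ψ ∈ B, (t ψ : G → ℂ) g = (ψ : G → ℂ) g⁻¹)
    (h1 : ∀ ψ ∈ B, (t ψ : G → ℂ) 1 = (ψ : G → ℂ) 1) :
    Cfsg.blockCoeff B g⁻¹ = Cfsg.blockCoeff B g := by
  have himg : t '' B = B := by
    refine Set.eq_of_subset_of_ncard_le (Set.image_subset_iff.2 hmaps) ?_ (Set.toFinite _)
    rw [hinj.ncard_image]
  rw [Cfsg.blockCoeff, Cfsg.blockCoeff]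
  congr 1
  conv_rhs => rw [← himg, finsum_mem_image hinj]
  exact finsum_congr fun ψ => finsum_congr fun hψ => by rw [ht ψ hψ, h1 ψ hψ]

theorem centralChar_inv_eq (χ ψ : G → ℂ) (g : G) (h : ψ g = χ g⁻¹) (h1 : ψ 1 = χ 1) :
    Cfsg.centralChar ψ g = Cfsg.centralChar χ g⁻¹ := by
  have : Subgroup.centralizer ({g⁻¹} : Set G) = Subgroup.centralizer ({g} : Set G) := by
    ext c
    simp only [Subgroup.mem_centralizer_singleton_iff]
    exact Commute.inv_right_iff (a := c) (b := g)
  rw [Cfsg.centralChar, Cfsg.centralChar, h, h1, this]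

end Cfsg.Agent.BlockCharsA.RealBlock
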