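import Cfsg.Agent.BlockCharsA.SelfCentralizing
import Cfsg.Agent.S0851
import Cfsg.Agent.Lib.CharTheory.TIFrobenius
import Cfsg.Agent.Lib.CharTheory.Average
import Cfsg.Agent.Lib.CharTheory.ExtendChar
import Cfsg.Agent.Lib.Characters.Kernel
import Cfsg.Prelude.Def_Blocks

/-!
Irreducible characters of degree `p - 1` in a group with a self-centralizing element of order `p`.
-/

set_option autoImplicit false
set_option linter.style.haveILetI false
set_option linter.unusedSectionVars false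

namespace Cfsg.Agent.BlockCharsA.SelfCentDegree

open Cfsg.Agent.Characters Cfsg.Agent.CharTheory
open Cfsg.Agent.BlockCharsA.SelfCentralizing
open scoped ComplexConjugate

universe u

variable {G : Type u} [Group G] [Fintype G] {p : ℕ} [Fact p.Prime] {x : G}

/-- The determinant of an element with regular spectrum. -/
theorem det_of_regular {d : ℕ} (ρ : Representation ℂ G (Fin d → ℂ)) (g : G) {e t : ℕ}
    (he : Even e) (he0 : 0 < e) (ht : Odd t) (hge : g ^ e = 1) (hd : d = t * e)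
    (hvan : ∀ i : ℕ, ¬ e ∣ i → ρ.character (g ^ i) = 0) : LinearMap.det (ρ g) = -1 := by
  classical
  obtain ⟨b, w, hw, hb⟩ := exists_eigenbasis ρ g
  haveI : NeZero e := ⟨he0.ne'⟩
  set ζ := Complex.exp (2 * Real.pi * Complex.I / e)
  have hζ : IsPrimitiveRoot ζ e := Complex.isPrimitiveRoot_exp e he0.ne'
  have hwe : ∀ i, w i ^ e = 1 := fun i => by
    obtain ⟨c, hc⟩ := orderOf_dvd_of_pow_eq_one hge
    rw [hc, pow_mul, hw, one_pow]
  choose l hl hl' using fun i => hζ.eq_pow_of_pow_eq_one (hwe i)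
  have hdet : LinearMap.det (ρ g) = ∏ i, w i := by
    rw [← LinearMap.det_toMatrix b]
    have e1 : LinearMap.toMatrix b b (ρ g) = Matrix.diagonal w := by
      ext i j
      rw [LinearMap.toMatrix_apply, hb, map_smul, b.repr_self]
      by_cases h : i = j
      · subst h; simp
      · simp [h]
    rw [e1, Matrix.det_diagonal]
  have hζ0 : ζ ≠ 0 := hζ.ne_zero he0.ne'
  -- multiplicities
  have hmult : ∀ k ∈ Finset.range e, (Finset.univ.filter fun i => l i = k).card = t := by
    intro k hk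
    have hk' := Finset.mem_range.1 hk
    have htr : ∀ j : ℕ, ρ.character (g ^ j) = ∑ i, w i ^ j := fun j =>
      trace_of_eigenbasis b _ (apply_pow_eigenbasis ρ b w hb j)
    have h1 : ∑ j ∈ Finset.range e, ρ.character (g ^ j) * (ζ ^ k)⁻¹ ^ j = ((t * e : ℕ) : ℂ) := by
      rw [Finset.sum_eq_single 0]
      · rw [pow_zero, pow_zero, mul_one, ρ.char_one, Module.finrank_fin_fun, hd]
      · intro j hj hj0
        rw [hvan j fun hdvd => hj0 (Nat.eq_zero_of_dvd_of_lt hdvd (Finset.mem_range.1 hj)), zero_mul]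
      · exact fun h => absurd (Finset.mem_range.2 he0) h
    have h2 : ∀ i, ∑ j ∈ Finset.range e, w i ^ j * (ζ ^ k)⁻¹ ^ j =
        if l i = k then (e : ℂ) else 0 := by
      intro i
      simp only [← mul_pow, ← hl' i]
      by_cases h : l i = k
      · rw [if_pos h, h, mul_inv_cancel₀ (pow_ne_zero _ hζ0)]
        simp
      · rw [if_neg h]
        have hne : ζ ^ l i * (ζ ^ k)⁻¹ ≠ 1 := fun h1 => h (hζ.pow_inj (hl i) hk'
          (mul_inv_eq_one₀ (pow_ne_zero _ hζ0) |>.1 h1))
        rw [geom_sum_eq hne, mul_pow, inv_pow, ← pow_mul, ← pow_mul, mul_comm (l i), mul_comm k,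
          pow_mul, pow_mul, hζ.pow_eq_one, one_pow, one_pow, inv_one, mul_one, sub_self, zero_div]
    simp only [htr, Finset.sum_mul] at h1
    rw [Finset.sum_comm, Finset.sum_congr rfl fun i _ => h2 i, ← Finset.sum_filter,
      Finset.sum_const, nsmul_eq_mul, ← Nat.cast_mul, Nat.cast_inj] at h1
    exact Nat.eq_of_mul_eq_mul_right he0 h1
  have hsum : ∑ i, l i = t * ∑ k ∈ Finset.range e, k := by
    rw [← Finset.sum_fiberwise_of_maps_to (g := l) (t := Finset.range e)
      (fun i _ => Finset.mem_range.2 (hl i)), Finset.mul_sum]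
    refine Finset.sum_congr rfl fun k hk => ?_
    rw [Finset.sum_congr rfl (g := fun _ => k) fun i hi => (Finset.mem_filter.1 hi).2,
      Finset.sum_const, hmult k hk, smul_eq_mul]
  rw [hdet, Finset.prod_congr rfl fun i _ => (hl' i).symm, Finset.prod_pow_eq_pow_sum, hsum]
  obtain ⟨h, hh⟩ := he
  have hs : ∑ k ∈ Finset.range e, k = h * (e - 1) := by
    have h3 := Finset.sum_range_id_mul_two e
    have h4 : e * (e - 1) = 2 * (h * (e - 1)) := by rw [hh]; ring
    omega
  have hζh : ζ ^ h = -1 := by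
    have h5 : (ζ ^ h) ^ 2 = 1 := by
      rw [← pow_mul, show h * 2 = e by omega]; exact hζ.pow_eq_one
    have h7 : (ζ ^ h - 1) * (ζ ^ h + 1) = 0 := by linear_combination h5
    rcases mul_eq_zero.1 h7 with h6 | h6
    · exact absurd (sub_eq_zero.1 h6) (hζ.pow_ne_one_of_pos_of_lt (by omega) (by omega))
    · exact eq_neg_of_add_eq_zero_left h6
  rw [hs, show t * (h * (e - 1)) = h * (t * (e - 1)) by ring, pow_mul, hζh]
  exact Odd.neg_one_pow (ht.mul ⟨h - 1, by omega⟩)

set_option maxHeartbeats 1000000 in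
theorem main (hx : orderOf x = p) (hC : Subgroup.centralizer ({x} : Set G) = Subgroup.zpowers x)
    (hp2 : p ≠ 2) {t : ℕ} (hte : t * eIdx x = p - 1) (ht : Odd t) (χ : Cfsg.IrrCharacter G)
    (hχ : Cfsg.charDegree (χ : G → ℂ) + 1 = p) : Even (commutator G).index := by
  classical
  have hp := (Fact.out : p.Prime)
  obtain ⟨SP, hSP⟩ := exists_sylow hx hC
  set e := eIdx x
  have he_even : Even e := by
    have h : Even (p - 1) := hp.even_sub_one hp2
    rw [← hte, Nat.even_mul] at h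
    exact h.resolve_left (Nat.not_even_iff_odd.2 ht)
  have he2 : 2 ≤ e := by
    obtain ⟨h, hh⟩ := he_even
    have := eIdx_pos (p := p) hx
    omega
  have hp3 : 3 ≤ p := by have := hp.two_le; omega
  set P := Subgroup.zpowers x with hPdef
  set N := Subgroup.normalizer (P : Set G) with hNdef
  have hPN : P ≤ N := Subgroup.le_normalizer
  haveI := Fintype.ofFinite N
  set P' := P.subgroupOf N with hP'def
  haveI hP'n : P'.Normal := (Subgroup.normal_subgroupOf_iff_le_normalizer hPN).2 le_rfl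
  haveI := Fintype.ofFinite P'
  have hcP : Nat.card P = p := by rw [hPdef, Nat.card_zpowers, hx]
  have hcP' : Nat.card P' = p := by
    rw [Nat.card_congr (Subgroup.subgroupOfEquivOfLe hPN).toEquiv, hcP]
  have hidx : P'.index = e := rfl
  have hcN : Nat.card N = p * e := by rw [← P'.card_mul_index, hcP', hidx]
  have hgen : ∀ k ∈ P, k ≠ 1 → Subgroup.zpowers k = P := by
    intro k hk hk1
    refine Subgroup.eq_of_le_of_card_ge (Subgroup.zpowers_le.2 hk) ?_
    have hd : orderOf k ∣ p := hcP ▸ Subgroup.orderOf_dvd_natCard _ hk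
    rw [hcP, Nat.card_zpowers]
    rcases (Nat.dvd_prime hp).1 hd with h | h
    · exact absurd (orderOf_eq_one_iff.1 h) hk1
    · exact h.ge
  have hcent : ∀ k ∈ P, k ≠ 1 → Subgroup.centralizer ({k} : Set G) ≤ P := by
    intro k hk hk1 y hy
    obtain ⟨i, hi⟩ := Subgroup.mem_zpowers_iff.1 ((hgen k hk hk1).symm ▸ Subgroup.mem_zpowers x :
      x ∈ Subgroup.zpowers k)
    refine mem_of_comm hx hC ?_
    have h1 : Commute y (k ^ i) := Commute.zpow_right (Subgroup.mem_centralizer_singleton_iff.1 hy) i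
    rw [hi] at h1
    exact h1
  have hTI : ∀ g : G, g ∉ N → ∀ k ∈ P, g * k * g⁻¹ ∈ P → k = 1 := by
    intro g hg k hk hgk
    by_contra hk1
    apply hg
    have h1 : g * k * g⁻¹ ≠ 1 := fun h => hk1 (conj_eq_one_iff.1 h)
    have e1 : P.map (MulAut.conj g).toMonoidHom = P := by
      conv_lhs => rw [← hgen k hk hk1]
      rw [MonoidHom.map_zpowers]
      exact hgen _ hgk h1
    rw [hNdef, Subgroup.mem_normalizer_iff]
    intro y
    constructor
    · exact fun hy => e1.le ⟨y, hy, rfl⟩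
    · intro hy
      obtain ⟨z, hz, hzy⟩ := e1.ge hy
      have : z = y := (MulAut.conj g).injective hzy
      exact this ▸ hz
  have hlt : P < N := by
    refine lt_of_le_of_ne hPN fun h => ?_
    rw [show Nat.card N = p from h ▸ hcP] at hcN
    have h2 : 2 * p ≤ p * e := by rw [mul_comm]; exact Nat.mul_le_mul_left p he2
    omega
  have hCK : TIFrobenius.CentLe P' := fun k hk hk1 y hy =>
    hcent k hk (fun h => hk1 (Subtype.ext h))
      (Subgroup.mem_centralizer_singleton_iff.2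
        (congrArg Subtype.val (Subgroup.mem_centralizer_singleton_iff.1 hy)))
  -- an element generating `N` modulo `P`
  obtain ⟨g, hge, hgi⟩ : ∃ g : N, g ^ e = 1 ∧ ∀ i : ℕ, (g : N) ^ i ∈ P' → e ∣ i := by
    let φ := Subgroup.normalizerMonoidHom P
    have hker : φ.ker = P' := by
      rw [Subgroup.normalizerMonoidHom_ker]
      ext n
      rw [Subgroup.mem_subgroupOf, Subgroup.mem_subgroupOf]
      refine ⟨fun h => mem_of_comm hx hC ((Subgroup.mem_centralizer_iff.1 h x
        (Subgroup.mem_zpowers x)).symm), fun h => ?_⟩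
      rw [Subgroup.mem_centralizer_iff]
      intro y hy
      obtain ⟨i, hi⟩ := Subgroup.mem_zpowers_iff.1 h
      obtain ⟨j, rfl⟩ := Subgroup.mem_zpowers_iff.1 hy
      rw [← hi]
      exact zpow_mul_comm x j i
    haveI : IsCyclic P := inferInstanceAs (IsCyclic (Subgroup.zpowers x))
    haveI : IsCyclic (MulAut P) := by
      haveI : IsCyclic (ZMod (Nat.card P))ˣ := by rw [hcP]; infer_instance
      exact isCyclic_of_surjective (IsCyclic.mulAutMulEquiv P).symm.toMonoidHom
        (IsCyclic.mulAutMulEquiv P).symm.surjective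
    obtain ⟨⟨r, g, hg⟩, hr⟩ := IsCyclic.exists_generator (α := φ.range)
    have hord : orderOf (φ g) = e := by
      have h1 := orderOf_eq_card_of_forall_mem_zpowers hr
      rw [← Subgroup.index_ker, hker, hidx, ← Subgroup.orderOf_coe] at h1
      rw [hg]; exact h1
    have hiff : ∀ i : ℕ, g ^ i ∈ P' ↔ e ∣ i := fun i => by
      rw [← hker, MonoidHom.mem_ker, map_pow, ← orderOf_dvd_iff_pow_eq_one, hord]
    refine ⟨g, ?_, fun i => (hiff i).1⟩
    by_contra hne
    have hgP : ((g ^ e : N) : G) ∈ P := (hiff e).2 dvd_rfl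
    have hgc : (g : G) ∈ P := hcent _ hgP (fun h => hne (Subtype.ext h))
      (Subgroup.mem_centralizer_singleton_iff.2 (by
        push_cast
        exact (Commute.self_pow (g : G) e).eq))
    have := (hiff 1).1 (by rw [pow_one]; exact hgc)
    rw [Nat.dvd_one] at this
    omega
  -- the characters of `N`
  haveI := Fintype.ofFinite (Cfsg.IrrCharacter N)
  set R := Finset.univ.filter fun θ : Cfsg.IrrCharacter N =>
    ∃ k : N, (k : G) ∈ P ∧ (θ : N → ℂ) k ≠ (θ : N → ℂ) 1 with hRdef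
  have hnon : ∀ θ ∉ R, ∀ k : N, (k : G) ∈ P → (θ : N → ℂ) k = (θ : N → ℂ) 1 := by
    intro θ hθ k hk
    by_contra hne
    exact hθ (Finset.mem_filter.2 ⟨Finset.mem_univ _, k, hk, hne⟩)
  have hrel : ∀ θ ∈ R, TIFrobenius.Rel P' (θ : N → ℂ) := fun θ hθ => (Finset.mem_filter.1 hθ).2
  have hdeg : ∀ θ ∈ R, (θ : N → ℂ) 1 = (e : ℂ) := by
    intro θ hθ
    obtain ⟨ξ, hξ, -, hind⟩ := TIFrobenius.exists_theta hCK θ.2 (hrel θ hθ)
    have hcomm : ∀ a b : P', a * b = b * a := by
      intro a b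
      obtain ⟨i, hi⟩ := Subgroup.mem_zpowers_iff.1 (a.2 : ((a : N) : G) ∈ Subgroup.zpowers x)
      obtain ⟨j, hj⟩ := Subgroup.mem_zpowers_iff.1 (b.2 : ((b : N) : G) ∈ Subgroup.zpowers x)
      apply Subtype.ext; apply Subtype.ext
      show ((a : N) : G) * ((b : N) : G) = ((b : N) : G) * ((a : N) : G)
      simp only [Subgroup.coe_subtype] at hi hj
      rw [← hi, ← hj]
      exact zpow_mul_comm x i j
    rw [← hind, indFun_one, irr_degree_one_of_comm hcomm hξ, mul_one, hidx]
  have hnonsum : ∑ θ ∈ Rᶜ, (θ : N → ℂ) 1 * (θ : N → ℂ) 1 = (e : ℂ) := by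
    have h0 : ∑ θ : Cfsg.IrrCharacter N, (θ : N → ℂ) 1 * Average.avg P' (θ : N → ℂ) 1 = (e : ℂ) := by
      simp only [Average.avg_one, Finset.mul_sum]
      rw [Finset.sum_comm, Finset.sum_eq_single (1 : P') ?_ (by simp)]
      · have h1 := second_orthogonality (1 : N) 1
        rw [if_pos (IsConj.refl _), show Subgroup.centralizer ({(1 : N)} : Set N) = ⊤ from by
          ext y; simp [Subgroup.mem_centralizer_singleton_iff], Subgroup.card_top, hcN,
          Nat.cast_mul] at h1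
        rw [hcP', Finset.sum_congr rfl (g := fun θ : Cfsg.IrrCharacter N => (p : ℂ)⁻¹ *
          ((θ : N → ℂ) 1 * conj ((θ : N → ℂ) 1))) fun θ _ => ?_, ← Finset.mul_sum, h1,
          inv_mul_cancel_left₀ (Nat.cast_ne_zero.2 hp.pos.ne')]
        obtain ⟨n, hn⟩ := char_one_nat (irr_isCharacter θ)
        simp [hn]
        ring
      · intro k _ hk
        have h1 := second_orthogonality (k : N) 1
        rw [if_neg fun h => hk (Subtype.ext (isConj_one_left.1 h))] at h1
        rw [Finset.sum_congr rfl (g := fun θ : Cfsg.IrrCharacter N => (Nat.card P' : ℂ)⁻¹ *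
          ((θ : N → ℂ) k * conj ((θ : N → ℂ) 1))) fun θ _ => ?_, ← Finset.mul_sum, h1, mul_zero]
        obtain ⟨n, hn⟩ := char_one_nat (irr_isCharacter θ)
        simp [hn]
        ring
    rw [← h0, ← Finset.sum_add_sum_compl R, Finset.sum_eq_zero (s := R) ?_, zero_add]
    · refine Finset.sum_congr rfl fun θ hθ => ?_
      congr 1
      rw [Average.avg_one, Finset.sum_congr rfl (g := fun _ => (θ : N → ℂ) 1) fun (k : P') _ =>
        hnon θ (Finset.mem_compl.1 hθ) (k : N) (Subgroup.mem_subgroupOf.1 k.2), Finset.sum_const, Finset.card_univ, nsmul_eq_mul,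
        ← Nat.card_eq_fintype_card, inv_mul_cancel_left₀ natCard_ne_zero]
    · intro θ hθ
      rcases Average.avg_irr (N := P') θ.2 with h | h
      · exfalso
        obtain ⟨k, hk, hne⟩ := hrel θ hθ
        apply hne
        have h3 := Average.avg_mul_left P' (θ : N → ℂ) ⟨k, hk⟩ 1
        rw [mul_one, h] at h3
        exact h3
      · rw [h, Pi.zero_apply, mul_zero]
  have hRcard : R.card = t := by
    have h1 := sum_degree_sq (G := N)
    rw [← Finset.sum_add_sum_compl R, Finset.sum_congr rfl (g := fun _ => (e : ℂ) ^ 2) fun θ hθ => by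
      rw [hdeg θ hθ], Finset.sum_const, nsmul_eq_mul,
      Finset.sum_congr rfl (s₁ := Rᶜ) (g := fun θ => (θ : N → ℂ) 1 * (θ : N → ℂ) 1)
        fun θ _ => sq _, hnonsum, hcN] at h1
    have h2 : R.card * e ^ 2 + e = p * e := by exact_mod_cast h1
    have h3 : (R.card * e + 1) * e = p * e := by rw [← h2]; ring
    have h4 := Nat.eq_of_mul_eq_mul_right (by omega : 0 < e) h3
    have h5 : R.card * e = t * e := by omega
    exact Nat.eq_of_mul_eq_mul_right (by omega : 0 < e) h5
  have hRy : ∀ k : N, (k : G) ∈ P → k ≠ 1 → (∑ θ ∈ R, (θ : N → ℂ) k = -1) ∧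
      ∑ θ ∈ R, (θ : N → ℂ) k * conj ((θ : N → ℂ) k) = (p : ℂ) - e := by
    intro k hk hk1
    have hnon1 : ∀ θ ∉ R, (θ : N → ℂ) k * conj ((θ : N → ℂ) 1) =
        (θ : N → ℂ) 1 * (θ : N → ℂ) 1 := fun θ hθ => by
      obtain ⟨n, hn⟩ := char_one_nat (irr_isCharacter θ)
      rw [hnon θ hθ k hk, hn, Complex.conj_natCast]
    constructor
    · have h1 := second_orthogonality k 1
      rw [if_neg fun h => hk1 (isConj_one_left.1 h), ← Finset.sum_add_sum_compl R,
        Finset.sum_congr rfl (g := fun θ : Cfsg.IrrCharacter N => (θ : N → ℂ) k * (e : ℂ))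
          fun θ hθ => by rw [hdeg θ hθ, Complex.conj_natCast],
        Finset.sum_congr rfl (s₁ := Rᶜ) fun θ hθ => hnon1 θ (Finset.mem_compl.1 hθ), hnonsum,
        ← Finset.sum_mul] at h1
      have he0 : (e : ℂ) ≠ 0 := Nat.cast_ne_zero.2 (by omega)
      refine mul_right_cancel₀ he0 ?_
      linear_combination h1
    · have h1 := second_orthogonality k k
      have hCk : Nat.card (Subgroup.centralizer ({k} : Set N)) = p := by
        rw [← hcP']
        congr 2
        refine le_antisymm (hCK k hk hk1) fun y hy => Subgroup.mem_centralizer_singleton_iff.2 ?_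
        obtain ⟨i, hi⟩ := Subgroup.mem_zpowers_iff.1 (hy : (y : G) ∈ Subgroup.zpowers x)
        obtain ⟨j, hj⟩ := Subgroup.mem_zpowers_iff.1 (hk : (k : G) ∈ Subgroup.zpowers x)
        apply Subtype.ext
        show (y : G) * (k : G) = (k : G) * (y : G)
        simp only [Subgroup.coe_subtype] at hi hj
        rw [← hi, ← hj]
        exact zpow_mul_comm x i j
      rw [if_pos (IsConj.refl _), hCk, ← Finset.sum_add_sum_compl R,
        Finset.sum_congr rfl (s₁ := Rᶜ) (g := fun θ => (θ : N → ℂ) 1 * (θ : N → ℂ) 1)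
          fun θ hθ => by
            obtain ⟨n, hn⟩ := char_one_nat (irr_isCharacter θ)
            rw [hnon θ (Finset.mem_compl.1 hθ) k hk, hn, Complex.conj_natCast], hnonsum] at h1
      linear_combination h1
  -- restrictions of characters of degree `p - 1`
  have hdec : ∀ X : Cfsg.IrrCharacter G, (X : G → ℂ) 1 = ((t * e : ℕ) : ℂ) →
      ∃ (a : ℕ) (b : Cfsg.IrrCharacter N → ℕ), (∀ θ : Cfsg.IrrCharacter N, Cfsg.classInner (fun n : N => (X : G → ℂ) n)
        (θ : N → ℂ) = (b θ : ℂ)) ∧ a + e * ∑ θ ∈ R, b θ = t * e ∧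
        (a = 0 → ∀ θ ∉ R, b θ = 0) ∧
        ∀ k : N, (k : G) ∈ P → (X : G → ℂ) k = (a : ℂ) + ∑ θ ∈ R, (b θ : ℂ) * (θ : N → ℂ) k := by
    intro X hX
    have hc := isCharacter_restrict N (irr_isCharacter X)
    choose b hb using fun θ : Cfsg.IrrCharacter N => classInner_char_nat hc (irr_isCharacter θ)
    choose dg hdg0 hdg using fun θ : Cfsg.IrrCharacter N => irr_one_pos θ.2
    have hexp : ∀ n : N, (X : G → ℂ) n = ∑ θ : Cfsg.IrrCharacter N, (b θ : ℂ) * (θ : N → ℂ) n :=
      fun n => by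
        have := congrFun (classFun_eq_sum (char_isClassFunction hc)) n
        simpa [Finset.sum_apply, hb] using this
    have hval : ∀ k : N, (k : G) ∈ P → (X : G → ℂ) k =
        ((∑ θ ∈ Rᶜ, b θ * dg θ : ℕ) : ℂ) + ∑ θ ∈ R, (b θ : ℂ) * (θ : N → ℂ) k := by
      intro k hk
      rw [hexp k, ← Finset.sum_add_sum_compl R, add_comm, Nat.cast_sum]
      congr 1
      exact Finset.sum_congr rfl fun θ hθ => by
        rw [hnon θ (Finset.mem_compl.1 hθ) k hk, hdg, Nat.cast_mul]
    refine ⟨∑ θ ∈ Rᶜ, b θ * dg θ, b, hb, ?_, fun h0 θ hθ => ?_, hval⟩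
    · have h1 := hval 1 P.one_mem
      rw [OneMemClass.coe_one, hX, Finset.sum_congr rfl (s₁ := R)
        (g := fun θ => ((e * b θ : ℕ) : ℂ)) fun θ hθ => by
          rw [hdeg θ hθ]; push_cast; ring, ← Nat.cast_sum, ← Finset.mul_sum, ← Nat.cast_add,
        Nat.cast_inj] at h1
      exact h1.symm
    · have := Finset.sum_eq_zero_iff.1 h0 θ (Finset.mem_compl.2 hθ)
      exact (mul_eq_zero.1 this).resolve_right (hdg0 θ).ne'
  have hχ1 : (χ : G → ℂ) 1 = ((t * e : ℕ) : ℂ) := by
    obtain ⟨d, hd⟩ := char_one_nat (irr_isCharacter χ)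
    rw [Cfsg.charDegree, hd, Complex.natCast_re, Nat.floor_natCast] at hχ
    rw [hd, hte, Nat.cast_inj]
    omega
  have hker : (χ : G → ℂ) x ≠ (χ : G → ℂ) 1 := by
    intro h
    set K := charKernel (χ : G → ℂ) (irr_isCharacter χ)
    haveI : K.Normal := charKernel_normal _
    have hd := index_dvd_eIdx (S := K) hx SP hSP (mem_charKernel.2 h)
    obtain ⟨η, -, hη, hηi⟩ :=
      exists_deflate_quotient K (irr_isCharacter χ) (fun y hy => mem_charKernel.1 hy)
    haveI := Fintype.ofFinite (Cfsg.IrrCharacter (G ⧸ K))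
    haveI := Fintype.ofFinite (G ⧸ K)
    choose dd _ hdd using fun ξ : Cfsg.IrrCharacter (G ⧸ K) => irr_one_pos ξ.2
    have h1 := sum_degree_sq (G := G ⧸ K)
    rw [Finset.sum_congr rfl (g := fun ξ => ((dd ξ ^ 2 : ℕ) : ℂ)) fun ξ _ => by
      rw [hdd]; push_cast; ring, ← Nat.cast_sum, Nat.cast_inj] at h1
    have h2 : dd ⟨η, hηi χ.2⟩ = t * e := by
      have h3 : η 1 = (dd ⟨η, hηi χ.2⟩ : ℂ) := hdd ⟨η, hηi χ.2⟩
      rw [show η 1 = (χ : G → ℂ) 1 from hη 1, hχ1, Nat.cast_inj] at h3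
      exact h3.symm
    have h3 : (t * e) ^ 2 ≤ Nat.card (G ⧸ K) := by
      rw [← h1, ← h2]
      exact Finset.single_le_sum (f := fun ξ => dd ξ ^ 2) (fun _ _ => Nat.zero_le _)
        (Finset.mem_univ _)
    rw [← Subgroup.index_eq_card] at h3
    have h4 : K.index ≤ e := Nat.le_of_dvd (by omega) hd
    have h5 : e ≤ t * e := Nat.le_mul_of_pos_left e ht.pos
    nlinarith
  obtain ⟨a, b, hb, hab, hb0, hval⟩ := hdec χ hχ1
  -- it suffices that `a = 0`
  suffices ha : a = 0 by
    obtain ⟨d, ρ, hρ, hρχ⟩ := χ.2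
    have hd : d = t * e := by
      have h1 := ρ.char_one
      rw [Module.finrank_fin_fun, hρχ, hχ1, Nat.cast_inj] at h1
      exact h1.symm
    have hdet : LinearMap.det (ρ (g : G)) = -1 := by
      refine det_of_regular ρ (g : G) he_even (by omega) ht ?_ hd ?_
      · rw [← Subgroup.coe_pow, hge, OneMemClass.coe_one]
      intro i hi
      have hnP : g ^ i ∉ P' := fun h => hi (hgi i h)
      have h1 := congrFun (classFun_eq_sum (char_isClassFunction
        (isCharacter_restrict N (irr_isCharacter χ)))) (g ^ i)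
      rw [hρχ, ← Subgroup.coe_pow]
      refine h1.trans ?_
      simp only [Finset.sum_apply, Pi.smul_apply, smul_eq_mul, hb]
      refine Finset.sum_eq_zero fun θ _ => ?_
      by_cases hθ : θ ∈ R
      · rw [TIFrobenius.vanish_off hCK θ.2 (hrel θ hθ) hnP, mul_zero]
      · rw [hb0 ha θ hθ, Nat.cast_zero, zero_mul]
    let δ : G →* ℂˣ :=
      ((LinearMap.det : ((Fin d → ℂ) →ₗ[ℂ] (Fin d → ℂ)) →* ℂ).comp ρ).toHomUnits
    have hle : commutator G ≤ δ.ker := Abelianization.commutator_subset_ker δ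
    refine even_iff_two_dvd.2 (dvd_trans ?_ (Subgroup.index_dvd_of_le hle))
    rw [Subgroup.index_ker]
    have h2 : orderOf (δ (g : G)) = 2 := by
      have e1 : δ (g : G) = -1 := Units.ext (by simpa [δ] using hdet)
      refine orderOf_eq_prime (by rw [e1]; exact Units.ext (by simp)) fun h => ?_
      rw [e1] at h
      have h1 := congrArg (fun u : ℂˣ => (u : ℂ)) h
      norm_num at h1
    rw [← h2]
    exact Subgroup.orderOf_dvd_natCard _ ⟨_, rfl⟩
  -- some relevant constituent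
  have hbne : ∃ θ ∈ R, b θ ≠ 0 := by
    by_contra hno
    push Not at hno
    apply hker
    have h1 := hval ⟨x, hPN (Subgroup.mem_zpowers x)⟩ (Subgroup.mem_zpowers x)
    have h2 := hval 1 P.one_mem
    rw [Finset.sum_eq_zero fun θ hθ => by rw [hno θ hθ, Nat.cast_zero, zero_mul], add_zero] at h1 h2
    rw [OneMemClass.coe_one] at h2
    exact h1.trans h2.symm
  by_cases hconst : ∃ β : ℕ, ∀ θ ∈ R, b θ = β
  · obtain ⟨β, hβ⟩ := hconst
    rw [Finset.sum_congr rfl hβ, Finset.sum_const, hRcard, smul_eq_mul] at hab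
    obtain ⟨θ, hθ, hθb⟩ := hbne
    rw [hβ θ hθ] at hθb
    have : t * e ≤ e * (t * β) := by
      rw [mul_comm t e, ← mul_assoc]; exact Nat.le_mul_of_pos_right _ (Nat.pos_of_ne_zero hθb)
    omega
  exfalso
  push Not at hconst
  have ht3 : 3 ≤ t := by
    by_contra hlt3
    obtain ⟨k, hk⟩ := ht
    have ht1 : t = 1 := by omega
    obtain ⟨θ, hθ⟩ := Finset.card_eq_one.1 (hRcard.trans ht1)
    obtain ⟨θ', hθ', hne⟩ := hconst (b θ)
    rw [hθ, Finset.mem_singleton] at hθ'
    exact hne (by rw [hθ'])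
  -- coherence
  rcases Cfsg.Agent.S0851.result P hTI hlt hcent (fun u hu v hv => by
    obtain ⟨i, hi⟩ := Subgroup.mem_zpowers_iff.1 hu
    obtain ⟨j, hj⟩ := Subgroup.mem_zpowers_iff.1 hv
    rw [← hi, ← hj]
    exact zpow_mul_comm x i j) with ⟨h1, -⟩ | ⟨ε, f, hε, hfinj, hf⟩
  · rw [Nat.card_eq_fintype_card, Fintype.card_subtype] at h1
    have : R.card = 1 := by rw [hRdef]; convert h1
    omega
  have hdiff : ∀ (X : Cfsg.IrrCharacter G) (bX : Cfsg.IrrCharacter N → ℕ),
      (∀ θ : Cfsg.IrrCharacter N,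
        Cfsg.classInner (fun n : N => (X : G → ℂ) n) (θ : N → ℂ) = (bX θ : ℂ)) →
      ∀ (θ θ' : Cfsg.IrrCharacter N) (hθ : θ ∈ R) (hθ' : θ' ∈ R), (bX θ : ℂ) - bX θ' =
        conj ε * ((if X = f ⟨θ, (Finset.mem_filter.1 hθ).2⟩ then 1 else 0) -
          (if X = f ⟨θ', (Finset.mem_filter.1 hθ').2⟩ then 1 else 0)) := by
    intro X bX hbX θ θ' hθ hθ'
    rw [← hbX, ← hbX, ← classInner_sub_right,
      ← frobenius_reciprocity' N _ (irr_isClassFunction X),
      hf ⟨θ, (Finset.mem_filter.1 hθ).2⟩ ⟨θ', (Finset.mem_filter.1 hθ').2⟩, classInner_smul_right,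
      classInner_sub_right, classInner_irr, classInner_irr]
  obtain ⟨θ₀, hθ₀, hχθ₀⟩ : ∃ θ, ∃ h : θ ∈ R, χ = f ⟨θ, (Finset.mem_filter.1 h).2⟩ := by
    by_contra hno
    push Not at hno
    obtain ⟨θ, hθ, -⟩ := hbne
    obtain ⟨θ', hθ', hne⟩ := hconst (b θ)
    apply hne
    have := hdiff χ b hb θ' θ hθ' hθ
    rw [if_neg (hno θ' hθ'), if_neg (hno θ hθ), sub_self, mul_zero, sub_eq_zero] at this
    exact_mod_cast this
  obtain ⟨s, hs, hεs⟩ : ∃ s : ℤ, (s = 1 ∨ s = -1) ∧ ε = (s : ℂ) := by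
    rcases hε with h | h
    · exact ⟨1, Or.inl rfl, by simp [h]⟩
    · exact ⟨-1, Or.inr rfl, by simp [h]⟩
  let F : R → Cfsg.IrrCharacter G := fun θ => f ⟨θ.1, (Finset.mem_filter.1 θ.2).2⟩
  have hFdeg : ∀ θ : R, (F θ : G → ℂ) 1 = ((t * e : ℕ) : ℂ) := by
    intro θ
    have h1 := congrFun (hf ⟨θ.1, (Finset.mem_filter.1 θ.2).2⟩ ⟨θ₀, (Finset.mem_filter.1 hθ₀).2⟩) 1
    have h4 : ((θ.1 : N → ℂ) - (θ₀ : N → ℂ)) 1 = 0 := by
      rw [Pi.sub_apply, hdeg _ θ.2, hdeg _ hθ₀, sub_self]
    rw [Characters.indFun_one, h4, mul_zero,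
      Pi.smul_apply, smul_eq_mul, Pi.sub_apply, ← hχθ₀, hχ1, eq_comm, mul_eq_zero,
      sub_eq_zero] at h1
    refine h1.resolve_left ?_
    rcases hε with h | h <;> simp [h]
  -- the values of the exceptional characters on `P`
  set c : ℤ := if s = 1 then (e : ℤ) * ((t : ℤ) - 1) else (e : ℤ) - 1 with hc
  let k₀ : N := ⟨x, hPN (Subgroup.mem_zpowers x)⟩
  have hk₀P : (k₀ : G) ∈ P := Subgroup.mem_zpowers x
  have hk₀1 : k₀ ≠ 1 := fun h => by
    have : x = 1 := congrArg Subtype.val h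
    rw [this, orderOf_one] at hx
    omega
  obtain ⟨hS1, hS2⟩ := hRy k₀ hk₀P hk₀1
  have hvalF : ∀ θ : R, (F θ : G → ℂ) x = (c : ℂ) + (s : ℂ) * (θ.1 : N → ℂ) k₀ := by
    intro θ
    obtain ⟨a', b', hb', hab', -, hval'⟩ := hdec (F θ) (hFdeg θ)
    obtain ⟨θ₁, hθ₁, hne₁⟩ : ∃ θ₁ ∈ R, θ₁ ≠ θ.1 :=
      Finset.exists_mem_ne (by omega) _
    have hFne : ∀ θ' (h : θ' ∈ R), θ' ≠ θ.1 → F θ ≠ f ⟨θ', (Finset.mem_filter.1 h).2⟩ :=
      fun θ' h hne heq => hne (congrArg Subtype.val (hfinj heq)).symm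
    have hbeta : ∀ θ' ∈ R, (b' θ' : ℤ) = b' θ₁ + if θ' = θ.1 then s else 0 := by
      intro θ' hθ'
      have h1 := hdiff (F θ) b' hb' θ' θ₁ hθ' hθ₁
      rw [if_neg (hFne θ₁ hθ₁ hne₁), sub_zero, hεs, map_intCast] at h1
      by_cases heq : θ' = θ.1
      · subst heq
        rw [if_pos rfl, mul_one] at h1
        rw [if_pos rfl]
        have : ((b' θ.1 : ℤ) : ℂ) = ((b' θ₁ + s : ℤ) : ℂ) := by push_cast; linear_combination h1
        exact_mod_cast this
      · rw [if_neg (hFne θ' hθ' heq), mul_zero, sub_eq_zero, Nat.cast_inj] at h1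
        rw [if_neg heq, h1, add_zero]
    set β : ℤ := (b' θ₁ : ℤ) with hβ
    have hsum : (∑ θ' ∈ R, (b' θ' : ℤ)) = t * β + s := by
      rw [Finset.sum_congr rfl hbeta, Finset.sum_add_distrib, Finset.sum_const, hRcard,
        Finset.sum_ite_eq', if_pos θ.2, nsmul_eq_mul]
    have heq : (a' : ℤ) + e * (t * β + s) = t * e := by
      rw [← hsum]; exact_mod_cast hab'
    have hb0' : 0 ≤ β + s := by
      have := hbeta θ.1 θ.2
      rw [if_pos rfl] at this
      omega
    have hcβ : (a' : ℤ) - β = c := by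
      have ha0 : (0 : ℤ) ≤ a' := Int.natCast_nonneg _
      have hβ0 : 0 ≤ β := Int.natCast_nonneg _
      have he' : (2 : ℤ) ≤ e := by exact_mod_cast he2
      have ht' : (3 : ℤ) ≤ t := by exact_mod_cast ht3
      rcases hs with rfl | rfl
      · have hz : β = 0 := by
          by_contra h
          have h6 : (t : ℤ) ≤ t * β := le_mul_of_one_le_right (by omega) (by omega)
          nlinarith
        rw [hz] at heq ⊢
        simp only [hc, if_true]
        linear_combination heq
      · have hz : β = 1 := by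
          by_contra h
          have h6 : (2 * t : ℤ) ≤ t * β := by nlinarith [show (2 : ℤ) ≤ β by omega]
          nlinarith
        rw [hz] at heq ⊢
        simp only [hc, show ((-1 : ℤ) = 1) = False by simp, if_false]
        linear_combination heq
    rw [show x = ((k₀ : N) : G) from rfl, hval' k₀ hk₀P,
      Finset.sum_congr rfl (g := fun θ' : Cfsg.IrrCharacter N => (β : ℂ) * (θ' : N → ℂ) k₀ +
        if θ' = θ.1 then (s : ℂ) * (θ' : N → ℂ) k₀ else 0) fun θ' hθ' => ?_,
      Finset.sum_add_distrib, ← Finset.mul_sum, hS1, Finset.sum_ite_eq', if_pos θ.2, ← hcβ]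
    · push_cast; ring
    · have h1 : (b' θ' : ℂ) = ((β + if θ' = θ.1 then s else 0 : ℤ) : ℂ) := by
        rw [← hbeta θ' hθ']; push_cast; ring
      rw [h1]
      split_ifs <;> push_cast <;> ring
  haveI := Fintype.ofFinite (Cfsg.IrrCharacter G)
  have horth := second_orthogonality x x
  rw [if_pos (IsConj.refl _), hC, hcP] at horth
  have hre := congrArg Complex.re horth
  rw [Complex.re_sum, Complex.natCast_re] at hre
  have hFinj : Function.Injective F := fun u v h => Subtype.ext (congrArg Subtype.val (hfinj h) :)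
  have hnot : trivIrr G ∉ Finset.univ.image F := by
    intro h
    obtain ⟨θ, -, hθ⟩ := Finset.mem_image.1 h
    have h1 := hFdeg θ
    rw [hθ] at h1
    simp only [trivIrr_coe] at h1
    rw [eq_comm, Nat.cast_eq_one] at h1
    have := Nat.le_mul_of_pos_left e ht.pos
    omega
  have hge0 : ∀ X : Cfsg.IrrCharacter G, 0 ≤ ((X : G → ℂ) x * conj ((X : G → ℂ) x)).re := fun X => by
    rw [Complex.mul_conj, Complex.ofReal_re]; exact Complex.normSq_nonneg _
  have hle := Finset.sum_le_univ_sum_of_nonneg (s := insert (trivIrr G) (Finset.univ.image F)) hge0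
  rw [hre, Finset.sum_insert hnot, Finset.sum_image (fun u _ v _ h => hFinj h)] at hle
  have hsumF : ∑ θ : R, (F θ : G → ℂ) x * conj ((F θ : G → ℂ) x) =
      (((t : ℤ) * c ^ 2 - 2 * s * c + ((p : ℤ) - e) : ℤ) : ℂ) := by
    simp only [hvalF, map_add, map_mul, map_intCast]
    rw [Finset.sum_coe_sort R (fun θ => ((c : ℂ) + (s : ℂ) * (θ : N → ℂ) k₀) *
      ((c : ℂ) + (s : ℂ) * conj ((θ : N → ℂ) k₀))),
      Finset.sum_congr rfl (g := fun θ : Cfsg.IrrCharacter N => (c : ℂ) * c +
        (c : ℂ) * s * (θ : N → ℂ) k₀ + (c : ℂ) * s * conj ((θ : N → ℂ) k₀) +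
        (s : ℂ) * s * ((θ : N → ℂ) k₀ * conj ((θ : N → ℂ) k₀))) fun θ _ => by ring,
      Finset.sum_add_distrib, Finset.sum_add_distrib, Finset.sum_add_distrib, Finset.sum_const,
      hRcard, nsmul_eq_mul, ← Finset.mul_sum, ← Finset.mul_sum, ← Finset.mul_sum, ← map_sum, hS1,
      hS2, map_neg, map_one]
    have hss : (s : ℂ) * s = 1 := by rcases hs with h | h <;> simp [h]
    rw [hss]; push_cast; ring
  rw [← Complex.re_sum, hsumF, Complex.intCast_re] at hle
  simp only [trivIrr_coe, map_one, mul_one, Complex.one_re] at hle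
  have hle' : 1 + ((t : ℤ) * c ^ 2 - 2 * s * c + ((p : ℤ) - e)) ≤ (p : ℤ) := by exact_mod_cast hle
  have he' : (2 : ℤ) ≤ e := by exact_mod_cast he2
  have ht' : (3 : ℤ) ≤ t := by exact_mod_cast ht3
  rcases hs with rfl | rfl
  · simp only [hc, if_true] at hle'
    have h2c : 2 * (e : ℤ) ≤ (e : ℤ) * ((t : ℤ) - 1) := by nlinarith
    nlinarith [mul_le_mul_of_nonneg_left h2c (by omega : (0 : ℤ) ≤ e)]
  · simp only [hc, show ((-1 : ℤ) = 1) = False by simp, if_false] at hle'
    nlinarith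

end Cfsg.Agent.BlockCharsA.SelfCentDegree
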