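import Mathlib
import Cfsg.Prelude.Def_Solvable
import Cfsg.Agent.S4496
import Cfsg.Agent.Lib.Cores.Basic
import Cfsg.Agent.Lib.Transfer.NormalPComplement

/-!
# Groups with a self-centralizing element of prime order

`e = |N(⟨x⟩) : ⟨x⟩|`; the number `t` of classes of elements of order `p` satisfies `t * e = p - 1`.
-/

namespace Cfsg.Agent.BlockCharsA.SelfCentralizing

open scoped commutatorElement

variable {G : Type*} [Group G] [Finite G] {p : ℕ} [Fact p.Prime] {x : G}

/-- The inertial index. -/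
noncomputable def eIdx (x : G) : ℕ :=
  (Subgroup.zpowers x).relIndex (Subgroup.normalizer (Subgroup.zpowers x : Set G))

section

variable (hx : orderOf x = p) (hC : Subgroup.centralizer ({x} : Set G) = Subgroup.zpowers x)

include hx hC

theorem mem_of_comm {y : G} (hy : y * x = x * y) : y ∈ Subgroup.zpowers x := by
  rw [← hC]; exact Subgroup.mem_centralizer_singleton_iff.2 hy

omit hC in
theorem card_P : Nat.card (Subgroup.zpowers x) = p := by rw [Nat.card_zpowers, hx]

theorem exists_sylow : ∃ P : Sylow p G, (P : Subgroup G) = Subgroup.zpowers x := by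
  have hp := (Fact.out : p.Prime)
  obtain ⟨P, hPx⟩ := (IsPGroup.of_card (n := 1) (by rw [card_P hx, pow_one])).exists_le_sylow
  refine ⟨P, le_antisymm ?_ hPx⟩
  have hxP : x ∈ (P : Subgroup G) := hPx (Subgroup.mem_zpowers x)
  haveI : Nontrivial P := ⟨⟨x, hxP⟩, 1, fun h => by
    have : x = 1 := congrArg Subtype.val h
    rw [this, orderOf_one] at hx
    exact hp.ne_one hx.symm⟩
  haveI := P.2.center_nontrivial
  obtain ⟨⟨z, hz⟩, hzne⟩ := exists_ne (1 : Subgroup.center P)
  have hzne' : (z : G) ≠ 1 := fun h => hzne (Subtype.ext (Subtype.ext h))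
  have hzc : ∀ y ∈ (P : Subgroup G), y * (z : G) = (z : G) * y := fun y hy =>
    congrArg Subtype.val (Subgroup.mem_center_iff.1 hz ⟨y, hy⟩)
  have hzx : (z : G) ∈ Subgroup.zpowers x := mem_of_comm hx hC (hzc x hxP).symm
  have hxz : x ∈ Subgroup.zpowers (z : G) := by
    have : Subgroup.zpowers (z : G) = Subgroup.zpowers x := by
      refine Subgroup.eq_of_le_of_card_ge (Subgroup.zpowers_le.2 hzx) ?_
      rcases (Nat.dvd_prime hp).1 ((Subgroup.card_dvd_of_le (Subgroup.zpowers_le.2 hzx)).trans
        (dvd_of_eq (card_P hx))) with h | h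
      · rw [Subgroup.card_eq_one, Subgroup.zpowers_eq_bot] at h
        exact absurd h hzne'
      · rw [card_P hx, h]
    exact this ▸ Subgroup.mem_zpowers x
  intro y hy
  obtain ⟨k, hk⟩ := Subgroup.mem_zpowers_iff.1 hxz
  refine mem_of_comm hx hC ?_
  have : Commute y ((z : G) ^ k) := Commute.zpow_right (hzc y hy) k
  rw [hk] at this
  exact this

theorem not_sq_dvd : ¬ p ^ 2 ∣ Nat.card G := by
  obtain ⟨P, hP⟩ := exists_sylow hx hC
  have h1 : Nat.card P = p := (congrArg (fun K : Subgroup G => Nat.card K) hP).trans (card_P hx)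
  rw [P.card_eq_multiplicity] at h1
  intro h
  have h2 := ((Fact.out : p.Prime).pow_dvd_iff_le_factorization Nat.card_pos.ne').1 h
  have h3 : (Nat.card G).factorization p = 1 :=
    Nat.pow_right_injective (Fact.out : p.Prime).two_le (h1.trans (pow_one p).symm)
  omega

/-- A normal subgroup of order divisible by `p` contains every element of order `p`. -/
theorem mem_of_dvd {S : Subgroup G} (hS : S.Normal) (h : p ∣ Nat.card S) : x ∈ S := by
  obtain ⟨P, hP⟩ := exists_sylow hx hC
  obtain ⟨s, hs⟩ := exists_prime_orderOf_dvd_card' p h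
  obtain ⟨Q, hQ⟩ := (IsPGroup.of_card (n := 1)
    (show Nat.card (Subgroup.zpowers (s : G)) = p ^ 1 by
      rw [Nat.card_zpowers, Subgroup.orderOf_coe, hs, pow_one])).exists_le_sylow
  have hQS : (Q : Subgroup G) ≤ S := by
    have hQeq : Subgroup.zpowers (s : G) = (Q : Subgroup G) := Subgroup.eq_of_le_of_card_ge hQ (by
      rw [Nat.card_zpowers, Subgroup.orderOf_coe, hs, Q.card_eq_multiplicity,
        ← P.card_eq_multiplicity]
      exact le_of_eq ((congrArg (fun K : Subgroup G => Nat.card K) hP).trans (card_P hx)))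
    exact hQeq ▸ Subgroup.zpowers_le.2 s.2
  obtain ⟨g, hg⟩ := MulAction.exists_smul_eq G Q P
  have hxP : x ∈ (P : Subgroup G) := hP ▸ Subgroup.mem_zpowers x
  rw [← hg, Sylow.coe_subgroup_smul, Subgroup.mem_pointwise_smul_iff_inv_smul_mem] at hxP
  have hy : g⁻¹ * x * g ∈ S := by simpa using hQS hxP
  simpa [mul_assoc] using hS.conj_mem _ hy g

omit hC in
theorem disjoint_P {S : Subgroup G} (h : ¬ p ∣ Nat.card S) {y : G} (hyS : y ∈ S)
    (hyP : y ∈ Subgroup.zpowers x) : y = 1 := by
  have h1 : orderOf y ∣ p := (Subgroup.orderOf_dvd_natCard _ hyP).trans (dvd_of_eq (card_P hx))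
  rcases (Nat.dvd_prime (Fact.out : p.Prime)).1 h1 with h2 | h2
  · exact orderOf_eq_one_iff.1 h2
  · exact absurd (h2 ▸ Subgroup.orderOf_dvd_natCard S hyS) h

/-- A normal `p'`-subgroup lies in its commutator with `x`. -/
theorem le_commutator_zpowers {S : Subgroup G} (hS : S.Normal) (h : ¬ p ∣ Nat.card S) :
    S ≤ ⁅S, Subgroup.zpowers x⁆ := by
  let φ : S → S := fun s => ⟨⁅(s : G), x⁆, by
    simpa [commutatorElement_def, mul_assoc] using
      S.mul_mem s.2 (hS.conj_mem _ (S.inv_mem s.2) x)⟩
  have hinj : Function.Injective φ := by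
    intro s t hst
    have h1 : (s : G) * x * (s : G)⁻¹ = (t : G) * x * (t : G)⁻¹ :=
      mul_right_cancel (congrArg Subtype.val hst)
    have h2 : ((t⁻¹ * s : S) : G) * x = x * ((t⁻¹ * s : S) : G) := by
      have h3 := congrArg (fun z => (t : G)⁻¹ * z * (s : G)) h1
      simpa [mul_assoc] using h3
    have h4 : (t⁻¹ * s : S) = 1 :=
      Subtype.ext (disjoint_P hx h (t⁻¹ * s : S).2 (mem_of_comm hx hC h2))
    exact (inv_mul_eq_one.1 h4).symm
  intro s hs
  obtain ⟨t, ht⟩ := (Finite.injective_iff_surjective.1 hinj) ⟨s, hs⟩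
  rw [← show ⁅(t : G), x⁆ = s from congrArg Subtype.val ht]
  exact Subgroup.commutator_mem_commutator t.2 (Subgroup.mem_zpowers x)

theorem le_commutator {S : Subgroup G} (hS : S.Normal) (h : ¬ p ∣ Nat.card S) :
    S ≤ commutator G :=
  (le_commutator_zpowers hx hC hS h).trans (Subgroup.commutator_mono le_top le_top)

/-- Elements of a normal `p'`-subgroup normalizing `⟨x⟩` are trivial. -/
theorem inf_normalizer {S : Subgroup G} (hS : S.Normal) (h : ¬ p ∣ Nat.card S) {y : G} (hyS : y ∈ S)
    (hyN : y ∈ Subgroup.normalizer (Subgroup.zpowers x : Set G)) : y = 1 := by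
  refine disjoint_P hx h hyS (mem_of_comm hx hC ?_)
  have h1 : y * x * y⁻¹ * x⁻¹ ∈ S := by
    simpa [mul_assoc] using S.mul_mem hyS (hS.conj_mem _ (S.inv_mem hyS) x)
  have h2 : y * x * y⁻¹ * x⁻¹ ∈ Subgroup.zpowers x :=
    Subgroup.mul_mem _ ((Subgroup.mem_normalizer_iff.1 hyN x).1 (Subgroup.mem_zpowers x))
      (Subgroup.inv_mem _ (Subgroup.mem_zpowers x))
  have h3 := disjoint_P hx h h1 h2
  rwa [mul_inv_eq_one, mul_inv_eq_iff_eq_mul] at h3

omit hC in
theorem card_normalizer :
    Nat.card (Subgroup.normalizer (Subgroup.zpowers x : Set G)) = p * eIdx x := by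
  rw [← card_P hx, eIdx, Subgroup.relIndex, ← Nat.card_congr
    (Subgroup.subgroupOfEquivOfLe (Subgroup.le_normalizer (H := Subgroup.zpowers x))).toEquiv,
    Subgroup.card_mul_index]

omit hC in
theorem eIdx_pos : 0 < eIdx x := by
  have h := card_normalizer (p := p) hx
  have h2 := Nat.card_pos (α := Subgroup.normalizer (Subgroup.zpowers x : Set G))
  by_contra h0
  rw [show eIdx x = 0 by omega, mul_zero] at h
  omega

/-- The classes of elements of order `p`. -/
theorem count_classes :
    Nat.card {C : ConjClasses G // ∃ g ∈ C.carrier, orderOf g = p} * eIdx x = p - 1 := by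
  classical
  have hp := (Fact.out : p.Prime)
  obtain ⟨P, hP⟩ := exists_sylow hx hC
  set Z := Subgroup.zpowers x with hZ
  set N := Subgroup.normalizer (Z : Set G)
  let X := {y : Z // y ≠ 1}
  have hXord : ∀ y : X, orderOf ((y.1 : G)) = p := fun y => by
    rcases (Nat.dvd_prime hp).1 ((Subgroup.orderOf_dvd_natCard _ y.1.2).trans
      (dvd_of_eq (card_P hx))) with h | h
    · exact absurd (Subtype.ext (orderOf_eq_one_iff.1 h)) y.2
    · exact h
  have hgen : ∀ y : X, Subgroup.zpowers ((y.1 : G)) = Z := fun y =>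
    Subgroup.eq_of_le_of_card_ge (Subgroup.zpowers_le.2 y.1.2)
      (by rw [card_P hx, Nat.card_zpowers, hXord])
  have hcentN : ∀ (y : X) (g : G), g * (y.1 : G) = (y.1 : G) * g → g ∈ Z := by
    intro y g hg
    obtain ⟨k, hk⟩ := Subgroup.mem_zpowers_iff.1 ((hgen y).symm ▸ Subgroup.mem_zpowers x :
      x ∈ Subgroup.zpowers (y.1 : G))
    refine mem_of_comm hx hC ?_
    have : Commute g ((y.1 : G) ^ k) := Commute.zpow_right hg k
    rw [hk] at this
    exact this
  have hfuse : ∀ (y : X) (g : G), g * (y.1 : G) * g⁻¹ ∈ Z → g ∈ N := by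
    intro y g hg
    rw [Subgroup.mem_normalizer_iff]
    have hle : ∀ h ∈ Z, g * h * g⁻¹ ∈ Z := by
      intro h hh
      obtain ⟨k, rfl⟩ := Subgroup.mem_zpowers_iff.1 ((hgen y).symm ▸ hh :
        h ∈ Subgroup.zpowers (y.1 : G))
      rw [← conj_zpow]
      exact Subgroup.zpow_mem _ hg k
    intro h
    refine ⟨hle h, fun hh => ?_⟩
    let φ : Z → Z := fun r => ⟨g * r * g⁻¹, hle r r.2⟩
    have hinj : Function.Injective φ := fun a b h =>
      Subtype.ext (mul_left_cancel (mul_right_cancel (congrArg Subtype.val h)))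
    obtain ⟨⟨r, hr⟩, he⟩ := Finite.injective_iff_surjective.1 hinj ⟨_, hh⟩
    exact mul_left_cancel (mul_right_cancel (congrArg Subtype.val he)) ▸ hr
  let f : X → {C : ConjClasses G // ∃ g ∈ C.carrier, orderOf g = p} := fun y =>
    ⟨ConjClasses.mk (y.1 : G), (y.1 : G), ConjClasses.mem_carrier_mk, hXord y⟩
  have hsurj : Function.Surjective f := by
    rintro ⟨C, g, hg, ho⟩
    obtain ⟨Q, hQ⟩ := (IsPGroup.of_card (n := 1)
      (show Nat.card (Subgroup.zpowers g) = p ^ 1 by rw [Nat.card_zpowers, ho, pow_one])).exists_le_sylow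
    obtain ⟨a, ha⟩ := MulAction.exists_smul_eq G Q P
    have hmem : a * g * a⁻¹ ∈ Z := by
      have : a * g * a⁻¹ ∈ (P : Subgroup G) := by
        rw [← ha, Sylow.coe_subgroup_smul]
        exact Subgroup.smul_mem_pointwise_smul g (MulAut.conj a) _ (hQ (Subgroup.mem_zpowers _))
      exact hP ▸ this
    refine ⟨⟨⟨_, hmem⟩, fun h => ?_⟩, Subtype.ext ?_⟩
    · have h1 : a * g * a⁻¹ = 1 := congrArg Subtype.val h
      rw [mul_inv_eq_one, mul_eq_left] at h1
      rw [h1, orderOf_one] at ho
      exact hp.ne_one ho.symm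
    · exact (ConjClasses.mk_eq_mk_iff_isConj.2 (isConj_iff.2 ⟨a⁻¹, by simp [mul_assoc]⟩)).trans
        (ConjClasses.mem_carrier_iff_mk_eq.1 hg)
  have hfib : ∀ y : X, Nat.card {z : X // f z = f y} = eIdx x := by
    intro y
    rw [eIdx, Subgroup.relIndex, Subgroup.index_eq_card]
    let ψ : N → {z : X // f z = f y} := fun n =>
      ⟨⟨⟨(n : G) * (y.1 : G) * (n : G)⁻¹, (Subgroup.mem_normalizer_iff.1 n.2 _).1 y.1.2⟩, fun h => by
        have h1 : (n : G) * (y.1 : G) * (n : G)⁻¹ = 1 := congrArg Subtype.val h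
        rw [mul_inv_eq_one, mul_eq_left] at h1
        exact y.2 (Subtype.ext h1)⟩,
        Subtype.ext (ConjClasses.mk_eq_mk_iff_isConj.2
          (isConj_iff.2 ⟨(n : G)⁻¹, by simp [mul_assoc]⟩))⟩
    have hψ : ∀ a b : N, ψ a = ψ b ↔ a⁻¹ * b ∈ Z.subgroupOf N := by
      intro a b
      rw [Subgroup.mem_subgroupOf]
      constructor
      · intro h
        have h1 : (a : G) * (y.1 : G) * (a : G)⁻¹ = (b : G) * (y.1 : G) * (b : G)⁻¹ :=
          congrArg (fun z : {z : X // f z = f y} => (z.1.1 : G)) h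
        refine hcentN y _ ?_
        have h3 := congrArg (fun z => (a : G)⁻¹ * z * (b : G)) h1
        simp only [mul_assoc, inv_mul_cancel, mul_one, inv_mul_cancel_left] at h3
        push_cast
        rw [mul_assoc]; exact h3.symm
      · intro h
        have h2 : Commute ((a⁻¹ * b : N) : G) (y.1 : G) := by
          obtain ⟨i, hi⟩ := Subgroup.mem_zpowers_iff.1 h
          obtain ⟨j, hj⟩ := Subgroup.mem_zpowers_iff.1 y.1.2
          rw [← hi, ← hj]
          exact Commute.zpow_zpow (Commute.refl x) i j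
        apply Subtype.ext; apply Subtype.ext; apply Subtype.ext
        change (a : G) * (y.1 : G) * (a : G)⁻¹ = (b : G) * (y.1 : G) * (b : G)⁻¹
        have h3 := congrArg (fun z => (a : G) * z * (b : G)⁻¹) h2.eq
        push_cast at h3
        simpa [mul_assoc] using h3.symm
    refine (Nat.card_congr (Equiv.ofBijective (Quotient.lift ψ fun a b h =>
      (hψ a b).2 (QuotientGroup.leftRel_apply.1 h)) ⟨?_, ?_⟩)).symm
    · intro a b h
      induction a using QuotientGroup.induction_on with
      | _ a =>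
        induction b using QuotientGroup.induction_on with
        | _ b => exact QuotientGroup.eq.2 ((hψ a b).1 h)
    · rintro ⟨z, hz⟩
      obtain ⟨g, hg⟩ := isConj_iff.1 (ConjClasses.mk_eq_mk_iff_isConj.1 (congrArg Subtype.val hz).symm)
      refine ⟨QuotientGroup.mk ⟨g, hfuse y g (by rw [hg]; exact z.1.2)⟩, ?_⟩
      exact Subtype.ext (Subtype.ext (Subtype.ext hg))
  have hXcard : Nat.card X = p - 1 := by
    have := Fintype.ofFinite Z
    rw [Nat.card_eq_fintype_card, Fintype.card_subtype_compl, Fintype.card_subtype_eq,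
      ← Nat.card_eq_fintype_card, card_P hx]
  haveI := Fintype.ofFinite {C : ConjClasses G // ∃ g ∈ C.carrier, orderOf g = p}
  rw [← hXcard, ← Nat.card_congr (Equiv.sigmaFiberEquiv f), Nat.card_sigma]
  rw [Finset.sum_congr rfl (g := fun _ => eIdx x) fun C _ => ?_, Finset.sum_const, smul_eq_mul,
    Finset.card_univ, ← Nat.card_eq_fintype_card]
  obtain ⟨y, rfl⟩ := hsurj C
  exact hfib y

omit hC in
/-- `G = N(⟨x⟩) S` for normal `S` containing `x`, so the index of `S` divides `e`. -/
theorem index_dvd_eIdx (P : Sylow p G) (hP : (P : Subgroup G) = Subgroup.zpowers x)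
    {S : Subgroup G} [S.Normal] (hxS : x ∈ S) : S.index ∣ eIdx x := by
  set N := Subgroup.normalizer (Subgroup.zpowers x : Set G)
  have htop : N ⊔ S = ⊤ := by
    have h := Sylow.normalizer_sup_eq_top' (N := S) P (hP ▸ Subgroup.zpowers_le.2 hxS)
    rw [show ((P : Set G)) = ((P : Subgroup G) : Set G) from rfl, hP] at h
    exact h
  let f : N →* G ⧸ S := (QuotientGroup.mk' S).comp N.subtype
  have hf : Function.Surjective f := by
    intro q
    induction q using QuotientGroup.induction_on with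
    | _ g =>
      obtain ⟨n, hn, s, hs, rfl⟩ := Subgroup.mem_sup_of_normal_right.1 (htop ▸ Subgroup.mem_top g)
      exact ⟨⟨n, hn⟩, by simp [f, (QuotientGroup.eq_one_iff s).2 hs]⟩
  have hker : (Subgroup.zpowers x).subgroupOf N ≤ f.ker := fun n hn => by
    rw [MonoidHom.mem_ker]
    exact (QuotientGroup.eq_one_iff _).2 (Subgroup.zpowers_le.2 hxS hn)
  have h1 : f.ker.index = S.index := by
    rw [Subgroup.index_ker, MonoidHom.range_eq_top.2 hf, Subgroup.card_top, Subgroup.index_eq_card]
  rw [← h1]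
  exact Subgroup.index_dvd_of_le hker

theorem comm_quotient_card {S : Subgroup G} [hS : S.Normal] (h : ¬ p ∣ Nat.card S)
    {D : Subgroup G} (hxD : x ∈ D) (hcomm : ∀ a ∈ D, ∀ b ∈ D, ⁅a, b⁆ ∈ S) :
    D ≤ S ⊔ Subgroup.zpowers x := by
  intro d hd
  have hC' := ((Cfsg.Agent.S4496.result p Fact.out x hx hC S).2 h).2.2.2
  have hmem : (d : G ⧸ S) ∈ Subgroup.centralizer ({(x : G ⧸ S)} : Set (G ⧸ S)) := by
    rw [Subgroup.mem_centralizer_singleton_iff, ← commutatorElement_eq_one_iff_mul_comm]
    exact (QuotientGroup.eq_one_iff ⁅d, x⁆).2 (hcomm d hd x hxD)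
  rw [hC'] at hmem
  obtain ⟨k, hk⟩ := Subgroup.mem_zpowers_iff.1 hmem
  rw [← QuotientGroup.mk_zpow, QuotientGroup.eq] at hk
  have : d = x ^ k * ((x ^ k)⁻¹ * d) := by group
  rw [this]
  exact Subgroup.mul_mem _ (Subgroup.mem_sup_right (Subgroup.zpow_mem_zpowers x k))
    (Subgroup.mem_sup_left hk)

theorem card_sup_zpowers {S : Subgroup G} [hS : S.Normal] (h : ¬ p ∣ Nat.card S) :
    Nat.card ↥(S ⊔ Subgroup.zpowers x) = Nat.card S * p := by
  have h0 : Subgroup.zpowers x ⊓ S = ⊥ := eq_bot_iff.2 fun y hy =>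
    Subgroup.mem_bot.2 (disjoint_P hx h hy.2 hy.1)
  have h1 := Cfsg.Agent.Cores.card_sup_mul_card_inf (Subgroup.zpowers x) S
  rw [h0, Subgroup.card_bot, mul_one, card_P hx] at h1
  rw [sup_comm, h1, mul_comm]

/-- `e = 1` is equivalent to `p ∤ |G'|`, and then `G'` is the normal `p`-complement. -/
theorem eIdx_eq_one_iff : eIdx x = 1 ↔ ¬ p ∣ Nat.card (commutator G) := by
  have hp := (Fact.out : p.Prime)
  obtain ⟨P, hP⟩ := exists_sylow hx hC
  constructor
  · intro he hd
    have hxG := mem_of_dvd hx hC inferInstance hd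
    have hN : Subgroup.normalizer (Subgroup.zpowers x : Set G) = Subgroup.zpowers x :=
      (Subgroup.eq_of_le_of_card_ge Subgroup.le_normalizer
        (by rw [card_normalizer hx, he, mul_one, card_P hx])).symm
    have hcomp : Cfsg.HasNormalPComplement p G :=
      Cfsg.Agent.Transfer.NormalPComplement.hasNormalPComplement_of_normalizer_le_centralizer P (by
        rw [show ((P : Set G)) = ((P : Subgroup G) : Set G) from rfl, hP, hN]
        intro a ha
        rw [Subgroup.mem_centralizer_iff]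
        intro b hb
        obtain ⟨i, rfl⟩ := Subgroup.mem_zpowers_iff.1 ha
        obtain ⟨j, rfl⟩ := Subgroup.mem_zpowers_iff.1 hb
        exact zpow_mul_comm x j i)
    obtain ⟨Q, K, hK, hKc⟩ := hcomp
    haveI := hK
    have hQcard : Nat.card Q = p :=
      Q.card_eq_multiplicity.trans (P.card_eq_multiplicity.symm.trans
        ((congrArg (fun L : Subgroup G => Nat.card L) hP).trans (card_P hx)))
    have hKi : K.index = p := (Subgroup.IsComplement'.index_eq_card hKc.symm).trans hQcard
    haveI : IsCyclic (G ⧸ K) := isCyclic_of_card_dvd_prime (p := p)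
      (by rw [← Subgroup.index_eq_card, hKi])
    have hle : commutator G ≤ K := by
      rw [commutator_def, Subgroup.commutator_le]
      intro a _ b _
      rw [← QuotientGroup.eq_one_iff]
      change QuotientGroup.mk' K ⁅a, b⁆ = 1
      rw [map_commutatorElement, commutatorElement_eq_one_iff_mul_comm]
      exact IsMulCommutative.is_comm.comm _ _
    have hcard := hKc.card_mul
    rw [hQcard] at hcard
    refine not_sq_dvd hx hC ?_
    rw [← hcard, sq]
    refine Nat.mul_dvd_mul ?_ dvd_rfl
    rw [← card_P hx]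
    exact Subgroup.card_dvd_of_le (Subgroup.zpowers_le.2 (hle hxG))
  · intro hd
    have htop : (⊤ : Subgroup G) ≤ commutator G ⊔ Subgroup.zpowers x :=
      comm_quotient_card hx hC hd (Subgroup.mem_top x) fun a _ b _ =>
        Subgroup.commutator_mem_commutator (Subgroup.mem_top a) (Subgroup.mem_top b)
    set N := Subgroup.normalizer (Subgroup.zpowers x : Set G)
    have hN : N ≤ Subgroup.zpowers x := by
      intro n hn
      obtain ⟨a, ha, b, hb, rfl⟩ := Subgroup.mem_sup_of_normal_left.1 (htop (Subgroup.mem_top n))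
      have : a ∈ N := by
        have := N.mul_mem hn (N.inv_mem (Subgroup.le_normalizer hb))
        rwa [mul_inv_cancel_right] at this
      rw [inf_normalizer hx hC inferInstance hd ha this, one_mul]
      exact hb
    have := card_normalizer (p := p) hx
    rw [show Nat.card N = p from (congrArg (fun L : Subgroup G => Nat.card L)
      (le_antisymm hN Subgroup.le_normalizer)).trans (card_P hx)] at this
    exact (Nat.eq_of_mul_eq_mul_left hp.pos (this.symm.trans (mul_one p).symm))

theorem commutator_eq_pPrimeCore (he : eIdx x = 1) :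
    commutator G = Cfsg.pPrimeCore p G ∧ (commutator G).index = p := by
  have hp := (Fact.out : p.Prime)
  have hd := (eIdx_eq_one_iff hx hC).1 he
  refine ⟨le_antisymm (Cfsg.Agent.Cores.le_pPrimeCore
    (Nat.Coprime.symm (hp.coprime_iff_not_dvd.2 hd)))
    (le_commutator hx hC inferInstance (Cfsg.Agent.Cores.pPrimeCore_not_dvd p)), ?_⟩
  have htop : (⊤ : Subgroup G) ≤ commutator G ⊔ Subgroup.zpowers x :=
    comm_quotient_card hx hC hd (Subgroup.mem_top x) fun a _ b _ =>
      Subgroup.commutator_mem_commutator (Subgroup.mem_top a) (Subgroup.mem_top b)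
  have h2 := card_sup_zpowers hx hC (S := commutator G) hd
  rw [top_le_iff.1 htop, Subgroup.card_top] at h2
  exact Nat.eq_of_mul_eq_mul_left Nat.card_pos ((commutator G).card_mul_index.trans h2)

end

end Cfsg.Agent.BlockCharsA.SelfCentralizing
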