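import Mathlib
import Cfsg.Agent.Lib.Coprime.PGroup

/-!
# Groups with a central subgroup of index `p²`
-/

namespace Cfsg.Agent.BlockCharsA.SmallPGroup

open scoped commutatorElement

variable {P : Type*} [Group P] [Finite P] {p : ℕ} [Fact p.Prime]

theorem card_commutator_dvd_of_index_sq {K : Subgroup P} (hK : K ≤ Subgroup.center P)
    (hi : K.index = p ^ 2) : Nat.card (commutator P) ∣ p := by
  have hp := (Fact.out : p.Prime)
  haveI hn : K.Normal := ⟨fun n hn g => by
    rw [Subgroup.mem_center_iff.1 (hK hn) g, mul_inv_cancel_right]; exact hn⟩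
  have hcard : Nat.card (P ⧸ K) = p ^ 2 := by rw [← Subgroup.index_eq_card, hi]
  by_cases hcyc : IsCyclic (P ⧸ K)
  · have hc : ∀ a b : P, a * b = b * a := fun a b =>
      commutative_of_cyclic_center_quotient (QuotientGroup.mk' K)
        (by rw [QuotientGroup.ker_mk']; exact hK) a b
    have : commutator P = ⊥ := by
      rw [commutator_def, eq_bot_iff, Subgroup.commutator_le]
      exact fun a _ b _ => Subgroup.mem_bot.2 (commutatorElement_eq_one_iff_mul_comm.2 (hc a b))
    rw [this, Subgroup.card_bot]; exact one_dvd p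
  have hexp : ∀ a : P, a ^ p ∈ K := by
    intro a
    rw [← QuotientGroup.eq_one_iff, QuotientGroup.mk_pow]
    obtain ⟨i, hi2, hia⟩ := (Nat.dvd_prime_pow hp).1 (hcard ▸ orderOf_dvd_natCard (a : P ⧸ K))
    rw [← orderOf_dvd_iff_pow_eq_one, hia]
    have : i ≠ 2 := fun h => hcyc (isCyclic_of_orderOf_eq_card (a : P ⧸ K) (by rw [hia, h, hcard]))
    calc p ^ i ∣ p ^ 1 := pow_dvd_pow p (by omega)
      _ = p := pow_one p
  -- two generators modulo `K`
  obtain ⟨a, ha⟩ : ∃ a, a ∉ K := by
    by_contra h
    push Not at h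
    rw [(Subgroup.eq_top_iff' K).2 h, Subgroup.index_top] at hi
    exact absurd hi (Nat.one_lt_pow two_ne_zero hp.one_lt).ne
  set L := Subgroup.closure ((K : Set P) ∪ {a})
  have hKL : K ≤ L := fun x hx => Subgroup.subset_closure (Or.inl hx)
  have hLne : L ≠ ⊤ := by
    intro h
    apply hcyc
    refine ⟨(a : P ⧸ K), fun q => ?_⟩
    induction q using QuotientGroup.induction_on with
    | _ g =>
      have hg : g ∈ L := h ▸ Subgroup.mem_top g
      have hle : L ≤ (Subgroup.zpowers (a : P ⧸ K)).comap (QuotientGroup.mk' K) := by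
        rw [Subgroup.closure_le]
        rintro x (hx | rfl)
        · simp [(QuotientGroup.eq_one_iff x).2 hx]
        · exact Subgroup.mem_zpowers _
      exact hle hg
  obtain ⟨b, hb⟩ : ∃ b, b ∉ L := by
    by_contra h
    push Not at h
    exact hLne ((Subgroup.eq_top_iff' L).2 h)
  set L2 := Subgroup.closure ((K : Set P) ∪ {a, b})
  have hLL2 : L ≤ L2 := Subgroup.closure_mono (Set.union_subset_union_right _ (by simp))
  have htop : L2 = ⊤ := by
    rw [← Subgroup.index_eq_one]
    have haL : a ∈ L := Subgroup.subset_closure (Or.inr rfl)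
    have hbL2 : b ∈ L2 := Subgroup.subset_closure (Or.inr (by simp))
    have h1 : L.index ∣ p ^ 2 := hi ▸ Subgroup.index_dvd_of_le hKL
    have h2 : L.index ≠ p ^ 2 := fun h => ha <| by
      have : K = L := Subgroup.eq_of_le_of_card_ge hKL (le_of_eq (mul_right_cancel₀
        (Subgroup.index_ne_zero_of_finite (H := L))
        (by rw [L.card_mul_index, h, ← hi, K.card_mul_index])))
      rw [this]; exact haL
    obtain ⟨i, hi2, hLi⟩ := (Nat.dvd_prime_pow hp).1 h1
    obtain ⟨j, hj, hL2j⟩ := (Nat.dvd_prime_pow hp).1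
      (hLi ▸ Subgroup.index_dvd_of_le hLL2 : L2.index ∣ p ^ i)
    have hij : j ≠ i := fun h => hb <| by
      have : L = L2 := Subgroup.eq_of_le_of_card_ge hLL2 (le_of_eq (mul_right_cancel₀
        (Subgroup.index_ne_zero_of_finite (H := L2))
        (by rw [L2.card_mul_index, hL2j, h, ← hLi, L.card_mul_index])))
      rw [this]; exact hbL2
    have : i ≠ 2 := fun h => h2 (by rw [hLi, h])
    rw [hL2j, show j = 0 by omega, pow_zero]
  by_cases hab : ⁅a, b⁆ = 1
  · -- commutative
    have : commutator P = ⊥ := by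
      have hc : L2 ≤ Subgroup.centralizer (L2 : Set P) := by
        rw [Subgroup.centralizer_closure, Subgroup.closure_le]
        intro x hx
        rw [SetLike.mem_coe, Subgroup.mem_centralizer_iff]
        intro y hy
        rcases hx with hx | hx
        · exact Subgroup.mem_center_iff.1 (hK hx) y
        rcases hy with hy | hy
        · exact (Subgroup.mem_center_iff.1 (hK hy) x).symm
        have hab' := commutatorElement_eq_one_iff_mul_comm.1 hab
        rcases hx with rfl | rfl <;> rcases hy with rfl | rfl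
        exacts [rfl, hab'.symm, hab', rfl]
      rw [commutator_def, eq_bot_iff, Subgroup.commutator_le]
      intro u _ v _
      refine Subgroup.mem_bot.2 (commutatorElement_eq_one_iff_mul_comm.2 ?_)
      exact Subgroup.mem_centralizer_iff.1 (hc (htop ▸ Subgroup.mem_top v)) u
        (htop ▸ Subgroup.mem_top u)
    rw [this, Subgroup.card_bot]; exact one_dvd p
  -- the commutator `c` is central
  have hcK : ⁅a, b⁆ ∈ K := by
    haveI hfin : Fact (Nat.card (P ⧸ K) = p ^ 2) := ⟨hcard⟩
    rw [← QuotientGroup.eq_one_iff]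
    have h : ∀ u v : P ⧸ K, u * v = v * u := fun u v => by
      haveI := IsPGroup.isMulCommutative_of_card_eq_prime_sq hcard
      exact mul_comm' u v
    simp [commutatorElement_def, h (a : P ⧸ K)]
  set C := Subgroup.zpowers ⁅a, b⁆
  haveI hCn : C.Normal := ⟨fun n hn g => by
    have : n ∈ Subgroup.center P := (Subgroup.zpowers_le.2 (hK hcK)) hn
    rw [Subgroup.mem_center_iff.1 this g, mul_inv_cancel_right]; exact hn⟩
  have hle : commutator P ≤ C := by
    rw [commutator_def, Subgroup.commutator_le]
    intro u _ v _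
    rw [← QuotientGroup.eq_one_iff]
    set f := QuotientGroup.mk' C
    set S : Set (P ⧸ C) := f '' ((K : Set P) ∪ {a, b})
    have hgen : Subgroup.closure S = ⊤ := by
      rw [← MonoidHom.map_closure]
      rw [show Subgroup.closure ((K : Set P) ∪ {a, b}) = ⊤ from htop]
      exact Subgroup.map_top_of_surjective f (QuotientGroup.mk'_surjective C)
    have hcab : f a * f b = f b * f a := by
      rw [← commutatorElement_eq_one_iff_mul_comm, ← map_commutatorElement]
      exact (QuotientGroup.eq_one_iff _).2 (Subgroup.mem_zpowers _)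
    have hc : Subgroup.closure S ≤ Subgroup.centralizer (Subgroup.closure S : Set (P ⧸ C)) := by
      rw [Subgroup.centralizer_closure, Subgroup.closure_le]
      rintro _ ⟨x, hx, rfl⟩
      rw [SetLike.mem_coe, Subgroup.mem_centralizer_iff]
      rintro _ ⟨y, hy, rfl⟩
      rcases hx with hx | hx
      · rw [← map_mul, ← map_mul, Subgroup.mem_center_iff.1 (hK hx) y]
      rcases hy with hy | hy
      · rw [← map_mul, ← map_mul, Subgroup.mem_center_iff.1 (hK hy) x]
      rcases hx with rfl | rfl <;> rcases hy with rfl | rfl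
      exacts [rfl, hcab.symm, hcab, rfl]
    change f ⁅u, v⁆ = 1
    rw [map_commutatorElement, commutatorElement_eq_one_iff_mul_comm]
    exact Subgroup.mem_centralizer_iff.1 (hc (hgen ▸ Subgroup.mem_top (f v))) (f u)
      (hgen ▸ Subgroup.mem_top (f u))
  refine (Subgroup.card_dvd_of_le hle).trans ?_
  rw [Nat.card_zpowers]
  apply orderOf_dvd_of_pow_eq_one
  have hcz := hK hcK
  have hstep : ∀ k : ℕ, a ^ k * b = ⁅a, b⁆ ^ k * (b * a ^ k) := by
    intro k
    induction k with
    | zero => simp
    | succ k ih =>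
      have h1 : a * b = ⁅a, b⁆ * (b * a) := by simp [commutatorElement_def, mul_assoc]
      calc a ^ (k + 1) * b = a * (a ^ k * b) := by rw [pow_succ', mul_assoc]
        _ = a * (⁅a, b⁆ ^ k * (b * a ^ k)) := by rw [ih]
        _ = ⁅a, b⁆ ^ k * (a * b * a ^ k) := by
            rw [← mul_assoc a, Subgroup.mem_center_iff.1 (Subgroup.pow_mem _ hcz k) a]
            simp [mul_assoc]
        _ = ⁅a, b⁆ ^ k * (⁅a, b⁆ * (b * a) * a ^ k) := by rw [h1]
        _ = ⁅a, b⁆ ^ (k + 1) * (b * a ^ (k + 1)) := by
            rw [pow_succ, pow_succ' a]; simp only [mul_assoc]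
  have hs := hstep p
  rw [Subgroup.mem_center_iff.1 (hK (hexp a)) b] at hs
  exact mul_eq_right.1 hs.symm

/-- A normal subgroup of order dividing `p` in a `p`-group is central. -/
theorem le_center_of_card_dvd (hP : IsPGroup p P) (Q : Subgroup P) [Q.Normal]
    (h : Nat.card Q ∣ p) : Q ≤ Subgroup.center P := by
  haveI := hP.isNilpotent
  rcases (Nat.dvd_prime (Fact.out : p.Prime)).1 h with h1 | h1
  · rw [Subgroup.card_eq_one.1 h1]; exact bot_le
  have hQ : Q ≠ ⊥ := fun e => (Fact.out : p.Prime).ne_one (by rw [← h1, e, Subgroup.card_bot])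
  haveI : Group.IsNilpotent (⊤ : Subgroup P) := Group.isNilpotent_top.2 inferInstance
  have hlt : ⁅Q, (⊤ : Subgroup P)⁆ < Q := Cfsg.Agent.Coprime.commutator_lt_of_isNilpotent le_top hQ
    (by rw [Subgroup.normalizer_eq_top_iff.mpr ‹Q.Normal›])
  have hb : ⁅Q, (⊤ : Subgroup P)⁆ = ⊥ := by
    have hd : Nat.card ↥⁅Q, (⊤ : Subgroup P)⁆ ∣ p := h1 ▸ Subgroup.card_dvd_of_le hlt.le
    rcases (Nat.dvd_prime (Fact.out : p.Prime)).1 hd with h2 | h2
    · exact Subgroup.card_eq_one.1 h2
    · exact absurd (Subgroup.eq_of_le_of_card_ge hlt.le (by rw [h1, h2])) hlt.ne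
  rw [Subgroup.commutator_eq_bot_iff_le_centralizer] at hb
  intro q hq
  rw [Subgroup.mem_center_iff]
  exact fun g => Subgroup.mem_centralizer_iff.1 (hb hq) g (Subgroup.mem_top g)

/-- The derived subgroup is central exactly in class at most two. -/
theorem class_le_two_iff [Group.IsNilpotent P] :
    Group.nilpotencyClass P ≤ 2 ↔ commutator P ≤ Subgroup.center P := by
  rw [← lowerCentralSeries_eq_bot_iff_nilpotencyClass_le,
    Subgroup.lowerCentralSeries_succ, Subgroup.top_lowerCentralSeries_one,
    Subgroup.commutator_eq_bot_iff_le_centralizer]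
  constructor
  · intro h q hq
    rw [Subgroup.mem_center_iff]
    exact fun g => Subgroup.mem_centralizer_iff.1 (h hq) g (Subgroup.mem_top g)
  · intro h q hq
    rw [Subgroup.mem_centralizer_iff]
    exact fun g _ => Subgroup.mem_center_iff.1 (h hq) g

/-- The centralizer of an element has index at most the order of the derived subgroup. -/
theorem index_centralizer_le (x : P) :
    (Subgroup.centralizer ({x} : Set P)).index ≤ Nat.card (commutator P) := by
  rw [Subgroup.index_eq_card]
  refine Nat.card_le_card_of_injective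
    (fun q => (⟨⁅q.out, x⁆, Subgroup.commutator_mem_commutator (Subgroup.mem_top _)
      (Subgroup.mem_top _)⟩ : commutator P)) fun a b h => ?_
  have h1 : ⁅a.out, x⁆ = ⁅b.out, x⁆ := congrArg Subtype.val h
  simp only [commutatorElement_def, mul_left_inj] at h1
  rw [← QuotientGroup.out_eq' a, ← QuotientGroup.out_eq' b, QuotientGroup.eq,
    Subgroup.mem_centralizer_singleton_iff]
  have h2 := congrArg (fun z => a.out⁻¹ * z * b.out) h1
  simp only [mul_assoc, inv_mul_cancel_left, inv_mul_cancel, mul_one] at h2 ⊢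
  exact h2.symm

end Cfsg.Agent.BlockCharsA.SmallPGroup
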