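import Mathlib

set_option autoImplicit false

/-!
A Sylow subgroup of a symmetric group is generated by elements of order `p`, arranged so that
for `p = 2` the odd generators commute with each other.
-/

namespace Cfsg.Agent.BlockCharsA.SymSylow

variable {p m : ℕ}

/-- translate each fibre -/
def shift (a : Fin m → ZMod p) : Equiv.Perm (ZMod p × Fin m) where
  toFun x := (x.1 + a x.2, x.2)
  invFun x := (x.1 - a x.2, x.2)
  left_inv x := by simp
  right_inv x := by simp

/-- permute the fibres -/
def lift (σ : Equiv.Perm (Fin m)) : Equiv.Perm (ZMod p × Fin m) :=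
  Equiv.prodCongrRight fun _ => σ

@[simp] theorem shift_apply (a : Fin m → ZMod p) (x : ZMod p × Fin m) :
    shift a x = (x.1 + a x.2, x.2) := rfl

@[simp] theorem lift_apply (σ : Equiv.Perm (Fin m)) (x : ZMod p × Fin m) :
    (lift σ : Equiv.Perm (ZMod p × Fin m)) x = (x.1, σ x.2) := rfl

theorem shift_add (a b : Fin m → ZMod p) : shift (a + b) = shift a * shift b := by
  refine Equiv.ext fun x => Prod.ext ?_ rfl
  simp [Equiv.Perm.mul_apply]
  ring

theorem shift_zero : shift (0 : Fin m → ZMod p) = 1 := by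
  refine Equiv.ext fun x => ?_
  simp

theorem lift_mul (σ τ : Equiv.Perm (Fin m)) :
    (lift (σ * τ) : Equiv.Perm (ZMod p × Fin m)) = lift σ * lift τ :=
  Equiv.ext fun x => rfl

theorem lift_one : (lift 1 : Equiv.Perm (ZMod p × Fin m)) = 1 :=
  Equiv.ext fun x => rfl

theorem lift_shift (σ : Equiv.Perm (Fin m)) (a : Fin m → ZMod p) :
    lift σ * shift a = shift (fun j => a (σ.symm j)) * lift σ := by
  refine Equiv.ext fun x => ?_
  simp [Equiv.Perm.mul_apply]

/-- the homomorphism `lift` -/
def liftHom : Equiv.Perm (Fin m) →* Equiv.Perm (ZMod p × Fin m) where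
  toFun := lift
  map_one' := lift_one
  map_mul' := lift_mul

/-- the homomorphism `shift` -/
def shiftHom : Multiplicative (Fin m → ZMod p) →* Equiv.Perm (ZMod p × Fin m) where
  toFun a := shift a.toAdd
  map_one' := shift_zero
  map_mul' a b := shift_add a.toAdd b.toAdd

theorem shift_lift_inj [NeZero p] {a b : Fin m → ZMod p} {σ τ : Equiv.Perm (Fin m)}
    (h : shift a * lift σ = shift b * lift τ) : a = b ∧ σ = τ := by
  have hστ : σ = τ := by
    refine Equiv.ext fun j => ?_
    have := congrArg Prod.snd (Equiv.congr_fun h (0, j))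
    simpa [Equiv.Perm.mul_apply] using this
  subst hστ
  refine ⟨?_, rfl⟩
  funext j
  have := congrArg Prod.fst (Equiv.congr_fun h (0, σ.symm j))
  simpa [Equiv.Perm.mul_apply] using this

theorem shift_pow (a : Fin m → ZMod p) : shift a ^ p = 1 := by
  have h : (shiftHom (Multiplicative.ofAdd a)) ^ p = 1 := by
    rw [← map_pow, ← ofAdd_nsmul]
    have : p • a = 0 := funext fun j => by simp
    rw [this, ofAdd_zero, map_one]
  exact h

theorem sign_lift_two (σ : Equiv.Perm (Fin m)) :
    Equiv.Perm.sign (lift σ : Equiv.Perm (ZMod 2 × Fin m)) = 1 := by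
  rw [lift, Equiv.Perm.sign_prodCongrRight, Finset.prod_const, Finset.card_univ, ZMod.card,
    sq, Int.units_mul_self]

/-- the data: a Sylow `p`-subgroup of `Perm (Fin n)` with good generators -/
theorem exists_gens (p : ℕ) [hp : Fact p.Prime] (n : ℕ) :
    ∃ (P : Sylow p (Equiv.Perm (Fin n))) (T E : Set (Equiv.Perm (Fin n))),
      (P : Subgroup (Equiv.Perm (Fin n))) = Subgroup.closure (T ∪ E) ∧
      (∀ s ∈ T ∪ E, s ^ p = 1) ∧ (∀ t ∈ T, ∀ t' ∈ T, Commute t t') ∧
      (p = 2 → ∀ e ∈ E, Equiv.Perm.sign e = 1) := by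
  induction n using Nat.strong_induction_on with
  | _ n ih =>
    rcases Nat.eq_zero_or_pos n with rfl | hn
    · exact ⟨default, ∅, ∅, Subsingleton.elim _ _, by simp, by simp, by simp⟩
    classical
    haveI : NeZero p := ⟨hp.out.ne_zero⟩
    set m := n / p with hm
    obtain ⟨P₀, T₀, E₀, hgen, hord, -, -⟩ := ih m (Nat.div_lt_self hn hp.out.one_lt)
    have hcard : Fintype.card ((ZMod p × Fin m) ⊕ Fin (n % p)) = Fintype.card (Fin n) := by
      rw [Fintype.card_sum, Fintype.card_prod, ZMod.card, Fintype.card_fin, Fintype.card_fin,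
        Fintype.card_fin]
      exact Nat.div_add_mod n p
    let e : (ZMod p × Fin m) ⊕ Fin (n % p) ≃ Fin n := Fintype.equivOfCardEq hcard
    let Ψ : Equiv.Perm (ZMod p × Fin m) →* Equiv.Perm (Fin n) :=
      { toFun := fun x => e.permCongr (Equiv.sumCongr x (1 : Equiv.Perm (Fin (n % p))))
        map_one' := by
          refine Equiv.ext fun y => ?_
          rcases h : e.symm y with a | a <;>
            simp [Equiv.permCongr_apply, h, e.symm_apply_eq.mp h]
        map_mul' := fun x y => by
          refine Equiv.ext fun z => ?_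
          rcases h : e.symm z with a | a <;>
            simp [Equiv.permCongr_apply, Equiv.Perm.mul_apply, h] }
    have hΨ : Function.Injective Ψ := by
      intro x y h
      have h' := e.permCongr.injective h
      refine Equiv.ext fun z => ?_
      have := Equiv.congr_fun h' (Sum.inl z)
      simpa using this
    have hΨs : ∀ x, Equiv.Perm.sign (Ψ x) = Equiv.Perm.sign x := by
      intro x
      show Equiv.Perm.sign (e.permCongr _) = _
      rw [Equiv.Perm.sign_permCongr, Equiv.Perm.sign_sumCongr]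
      simp
    set T' : Set (Equiv.Perm (ZMod p × Fin m)) :=
      Set.range fun jx : Fin m × ZMod p => shift (Pi.single jx.1 jx.2) with hT'
    set E' : Set (Equiv.Perm (ZMod p × Fin m)) := liftHom '' (T₀ ∪ E₀) with hE'
    set W : Subgroup (Equiv.Perm (ZMod p × Fin m)) := Subgroup.closure (T' ∪ E') with hW
    have hshift : ∀ a, shift a ∈ W := by
      intro a
      rw [← Finset.univ_sum_single a]
      refine Finset.sum_induction (fun j => Pi.single j (a j)) (fun b => shift b ∈ W)
        (fun b c hb hc => by rw [shift_add]; exact W.mul_mem hb hc)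
        (by rw [shift_zero]; exact W.one_mem)
        (fun j _ => Subgroup.subset_closure (Or.inl ⟨(j, a j), rfl⟩))
    have hlift : ∀ σ ∈ (P₀ : Subgroup (Equiv.Perm (Fin m))), lift σ ∈ W := by
      intro σ hσ
      have hle : (P₀ : Subgroup (Equiv.Perm (Fin m))) ≤ W.comap (liftHom (p := p)) := by
        rw [hgen, Subgroup.closure_le]
        exact fun s hs => Subgroup.subset_closure (Or.inr ⟨s, hs, rfl⟩)
      exact hle hσ
    have hform : ∀ w ∈ W, ∃ a, ∃ σ ∈ (P₀ : Subgroup (Equiv.Perm (Fin m))),
        w = shift a * lift σ := by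
      intro w hw
      induction hw using Subgroup.closure_induction with
      | mem x hx =>
        rcases hx with ⟨jx, rfl⟩ | ⟨s, hs, rfl⟩
        · exact ⟨_, 1, one_mem _, by rw [lift_one, mul_one]⟩
        · refine ⟨0, s, ?_, by rw [shift_zero, one_mul]; rfl⟩
          rw [hgen]
          exact Subgroup.subset_closure hs
      | one => exact ⟨0, 1, one_mem _, by rw [shift_zero, lift_one, mul_one]⟩
      | mul x y _ _ hx hy =>
        obtain ⟨a, σ, hσ, rfl⟩ := hx
        obtain ⟨b, τ, hτ, rfl⟩ := hy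
        refine ⟨a + fun j => b (σ.symm j), σ * τ, mul_mem hσ hτ, ?_⟩
        rw [shift_add, lift_mul, mul_assoc, ← mul_assoc (lift σ), lift_shift, mul_assoc,
          mul_assoc]
      | inv x _ hx =>
        obtain ⟨a, σ, hσ, rfl⟩ := hx
        refine ⟨fun j => -(a (σ j)), σ⁻¹, inv_mem hσ, ?_⟩
        refine inv_eq_of_mul_eq_one_right ?_
        refine Equiv.ext fun z => ?_
        simp [Equiv.Perm.mul_apply, lift_apply]
    have hWcard : Nat.card W = p ^ m * Nat.card (P₀ : Subgroup (Equiv.Perm (Fin m))) := by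
      let f : (Fin m → ZMod p) × (P₀ : Subgroup (Equiv.Perm (Fin m))) → W :=
        fun x => ⟨shift x.1 * lift x.2.1, W.mul_mem (hshift _) (hlift _ x.2.2)⟩
      have hf : Function.Bijective f := by
        refine ⟨fun x y h => ?_, fun w => ?_⟩
        · obtain ⟨h1, h2⟩ := shift_lift_inj (congrArg Subtype.val h)
          exact Prod.ext h1 (Subtype.ext h2)
        · obtain ⟨a, σ, hσ, h⟩ := hform w.1 w.2
          exact ⟨(a, ⟨σ, hσ⟩), Subtype.ext h.symm⟩
      rw [← Nat.card_eq_of_bijective f hf, Nat.card_prod, Nat.card_fun, Nat.card_eq_fintype_card,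
        Nat.card_eq_fintype_card (α := Fin m), ZMod.card, Fintype.card_fin]
    have hP : Nat.card (W.map Ψ) = p ^ (Nat.card (Equiv.Perm (Fin n))).factorization p := by
      rw [← Nat.card_congr (W.equivMapOfInjective Ψ hΨ).toEquiv, hWcard, P₀.card_eq_multiplicity,
        Nat.card_perm, Nat.card_perm, Nat.card_eq_fintype_card, Fintype.card_fin,
        Nat.card_eq_fintype_card, Fintype.card_fin, Nat.factorization_def _ hp.out,
        Nat.factorization_def _ hp.out, ← pow_add]
      conv_rhs => rw [← Nat.div_add_mod n p, padicValNat_factorial_mul_add _ (Nat.mod_lt _ hp.out.pos),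
        padicValNat_factorial_mul, ← hm]
      rw [add_comm]
    refine ⟨Sylow.ofCard (W.map Ψ) hP, Ψ '' T', Ψ '' E', ?_, ?_, ?_, ?_⟩
    · show W.map Ψ = _
      rw [← Set.image_union, ← MonoidHom.map_closure]
    · rintro _ (⟨t, ⟨jx, rfl⟩, rfl⟩ | ⟨_, ⟨s, hs, rfl⟩, rfl⟩)
      · rw [← map_pow, shift_pow, map_one]
      · rw [← map_pow, ← map_pow, hord s hs, map_one, map_one]
    · rintro _ ⟨_, ⟨x, rfl⟩, rfl⟩ _ ⟨_, ⟨y, rfl⟩, rfl⟩
      refine Commute.map ?_ Ψ
      show shift _ * shift _ = shift _ * shift _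
      rw [← shift_add, ← shift_add, add_comm]
    · rintro rfl _ ⟨_, ⟨s, hs, rfl⟩, rfl⟩
      rw [hΨs]
      exact sign_lift_two s

/-- the abelianization of a group generated by elements with `s ^ p = 1` has exponent `p` -/
theorem pow_mem_commutator {G : Type*} [Group G] (p : ℕ)
    (h : Subgroup.closure {x : G | x ^ p = 1} = ⊤) (x : G) : x ^ p ∈ commutator G := by
  rw [← QuotientGroup.eq_one_iff]
  show Abelianization.of (x ^ p) = 1
  have hle : Subgroup.closure {x : G | x ^ p = 1} ≤
      ((powMonoidHom p).comp (Abelianization.of (G := G))).ker := by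
    rw [Subgroup.closure_le]
    intro s hs
    rw [SetLike.mem_coe, MonoidHom.mem_ker, MonoidHom.comp_apply, powMonoidHom_apply, ← map_pow,
      hs, map_one]
  have := hle (h.symm ▸ Subgroup.mem_top x)
  rw [MonoidHom.mem_ker, MonoidHom.comp_apply, powMonoidHom_apply, ← map_pow] at this
  exact this

theorem closure_top_of_gen {G : Type*} [Group G] (p : ℕ) (H : Subgroup G) (S : Set G)
    (hH : H = Subgroup.closure S) (hS : ∀ s ∈ S, s ^ p = 1) :
    Subgroup.closure {x : H | x ^ p = 1} = ⊤ := by
  subst hH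
  refine top_le_iff.mp ((Subgroup.closure_closure_coe_preimage (k := S)).ge.trans
    (Subgroup.closure_mono ?_))
  intro x hx
  exact Subtype.ext (hS _ hx)

theorem closure_top_map {G H : Type*} [Group G] [Group H] (p : ℕ) (f : G ≃* H)
    (h : Subgroup.closure {x : G | x ^ p = 1} = ⊤) :
    Subgroup.closure {x : H | x ^ p = 1} = ⊤ := by
  refine top_le_iff.mp ?_
  rw [← Subgroup.map_top_of_surjective f.toMonoidHom f.surjective, ← h, MonoidHom.map_closure]
  refine Subgroup.closure_mono ?_
  rintro _ ⟨x, hx, rfl⟩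
  show f x ^ p = 1
  rw [← map_pow, hx, map_one]

/-- the index-2 subgroup given by the sign is again generated by involutions -/
theorem gens_inf_ker {G : Type*} [Group G] (ε : G →* ℤˣ) (T E : Set G)
    (hord : ∀ s ∈ T ∪ E, s ^ 2 = 1) (hcomm : ∀ t ∈ T, ∀ t' ∈ T, Commute t t')
    (hE : ∀ e ∈ E, ε e = 1) :
    ∃ S : Set G, Subgroup.closure (T ∪ E) ⊓ ε.ker = Subgroup.closure S ∧ ∀ s ∈ S, s ^ 2 = 1 := by
  by_cases h : ∀ t ∈ T, ε t = 1
  · refine ⟨T ∪ E, inf_eq_left.mpr ?_, hord⟩
    rw [Subgroup.closure_le]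
    rintro s (hs | hs)
    exacts [h s hs, hE s hs]
  push Not at h
  obtain ⟨τ, hτ, hετ⟩ := h
  have hετ' : ε τ = -1 := (Int.units_eq_one_or _).resolve_left hετ
  have hττ : τ * τ = 1 := by rw [← sq]; exact hord τ (Or.inl hτ)
  have hτi : ∀ y, τ * (τ * y) = y := fun y => by rw [← mul_assoc, hττ, one_mul]
  set S : Set G := {s ∈ T ∪ E | ε s = 1} ∪ (fun s => τ * s * τ) '' {s ∈ T ∪ E | ε s = 1} ∪
    (fun t => τ * t) '' {t ∈ T | ε t = -1} with hSdef
  have hSord : ∀ s ∈ S, s ^ 2 = 1 := by
    rintro _ ((⟨hs, -⟩ | ⟨s, ⟨hs, -⟩, rfl⟩) | ⟨t, ⟨ht, -⟩, rfl⟩)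
    · exact hord _ hs
    · have hsi : ∀ y, s * (s * y) = y := fun y => by
        rw [← mul_assoc, ← sq, hord s hs, one_mul]
      simp only [sq, mul_assoc, hτi, hsi, hττ]
    · rw [(hcomm τ hτ t ht).mul_pow, hord τ (Or.inl hτ), hord t (Or.inl ht), one_mul]
  refine ⟨S, le_antisymm ?_ ?_, hSord⟩
  · have hconj : ∀ k ∈ Subgroup.closure S, τ * k * τ ∈ Subgroup.closure S := by
      intro k hk
      induction hk using Subgroup.closure_induction with
      | mem x hx =>
        refine Subgroup.subset_closure ?_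
        rcases hx with (hs | ⟨s, hs, rfl⟩) | ⟨t, ⟨ht, hεt⟩, rfl⟩
        · exact Or.inl (Or.inr ⟨x, hs, rfl⟩)
        · refine Or.inl (Or.inl ?_)
          have : τ * (τ * s * τ) * τ = s := by
            simp only [mul_assoc, hττ, mul_one, hτi]
          simpa [this] using hs
        · refine Or.inr ⟨t, ⟨ht, hεt⟩, ?_⟩
          show τ * t = τ * (τ * t) * τ
          rw [hτi, (hcomm τ hτ t ht).eq]
      | one => simp [hττ]
      | mul x y _ _ hx hy =>
        have : τ * (x * y) * τ = τ * x * τ * (τ * y * τ) := by simp only [mul_assoc, hτi]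
        rw [this]; exact mul_mem hx hy
      | inv x _ hx =>
        have hinv : τ⁻¹ = τ := inv_eq_of_mul_eq_one_right hττ
        have : τ * x⁻¹ * τ = (τ * x * τ)⁻¹ := by simp [mul_inv_rev, hinv, mul_assoc]
        rw [this]; exact inv_mem hx
    have hall : ∀ x ∈ Subgroup.closure (T ∪ E),
        x ∈ Subgroup.closure S ∨ τ * x ∈ Subgroup.closure S := by
      intro x hx
      induction hx using Subgroup.closure_induction with
      | mem x hx =>
        rcases Int.units_eq_one_or (ε x) with h1 | h1
        · exact Or.inl (Subgroup.subset_closure (Or.inl (Or.inl ⟨hx, h1⟩)))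
        · refine Or.inr (Subgroup.subset_closure (Or.inr ⟨x, ⟨hx.resolve_right fun he => ?_, h1⟩, rfl⟩))
          rw [hE x he] at h1
          exact absurd h1 (by decide)
      | one => exact Or.inl (one_mem _)
      | mul x y _ _ hx hy =>
        rcases hx with hx | hx <;> rcases hy with hy | hy
        · exact Or.inl (mul_mem hx hy)
        · refine Or.inr ?_
          have := mul_mem (hconj x hx) hy
          simpa only [mul_assoc, hτi] using this
        · refine Or.inr ?_
          rw [← mul_assoc]; exact mul_mem hx hy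
        · refine Or.inl ?_
          have := mul_mem (hconj _ hx) hy
          simpa only [mul_assoc, hτi] using this
      | inv x _ hx =>
        rcases hx with hx | hx
        · exact Or.inl (inv_mem hx)
        · refine Or.inr ?_
          have hinv : τ⁻¹ = τ := inv_eq_of_mul_eq_one_right hττ
          have := hconj _ (inv_mem hx)
          simpa only [mul_inv_rev, hinv, mul_assoc, hττ, mul_one] using this
    rintro x ⟨hx, hεx⟩
    rcases hall x hx with h1 | h1
    · exact h1
    · have hK : Subgroup.closure S ≤ ε.ker := by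
        rw [Subgroup.closure_le]
        rintro _ ((⟨-, hs⟩ | ⟨s, ⟨-, hs⟩, rfl⟩) | ⟨t, ⟨-, ht⟩, rfl⟩)
        · exact hs
        · show ε (τ * s * τ) = 1
          rw [map_mul, map_mul, hs, hετ']; simp
        · show ε (τ * t) = 1
          rw [map_mul, ht, hετ']; simp
      have h2 : ε (τ * x) = 1 := hK h1
      have h3 : ε x = 1 := hεx
      rw [map_mul, h3, mul_one] at h2
      exact absurd h2 hετ
  · rw [Subgroup.closure_le]
    have hτm : τ ∈ Subgroup.closure (T ∪ E) := Subgroup.subset_closure (Or.inl hτ)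
    rintro _ ((⟨hs, hεs⟩ | ⟨s, ⟨hs, hεs⟩, rfl⟩) | ⟨t, ⟨ht, hεt⟩, rfl⟩)
    · exact ⟨Subgroup.subset_closure hs, hεs⟩
    · refine ⟨mul_mem (mul_mem hτm (Subgroup.subset_closure hs)) hτm, ?_⟩
      show ε (τ * s * τ) = 1
      rw [map_mul, map_mul, hεs, hετ']; simp
    · refine ⟨mul_mem hτm (Subgroup.subset_closure (Or.inl ht)), ?_⟩
      show ε (τ * t) = 1
      rw [map_mul, hεt, hετ']; simp

end Cfsg.Agent.BlockCharsA.SymSylow
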