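import Mathlib
import Cfsg.Agent.Lib.CharTheory.ExtendChar
import Cfsg.Agent.Lib.CharTheory.Clifford
import Cfsg.Agent.Lib.CharTheory.Basics
import Cfsg.Agent.Lib.Blocks.Defect

/-!
A Tate-type criterion for an elementary abelian abelianisation of a Sylow 2-subgroup, through real
canonical extensions.
-/

set_option autoImplicit false
set_option linter.style.haveILetI false
set_option linter.unusedSectionVars false

namespace Cfsg.Agent.BlockCharsA.TateReal

open Cfsg.Agent.Characters Cfsg.Agent.CharTheory Cfsg.Agent.CharTheory.ExtendChar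
open scoped ComplexConjugate

universe u v

/-- An involution fixes an element of any finite type where the weights add up to an odd number. -/
theorem exists_fixed_odd {ι : Type v} [Fintype ι] (σ : ι → ι) (hσ : Function.Involutive σ)
    (a : ι → ℕ) (ha : ∀ i, a (σ i) = a i) {s : Finset ι} (hs : ∀ i ∈ s, σ i ∈ s)
    (hodd : Odd (∑ i ∈ s, a i)) : ∃ i ∈ s, σ i = i ∧ Odd (a i) := by
  classical
  by_contra hh
  push Not at hh
  have h0 : ((∑ i ∈ s, a i : ℕ) : ZMod 2) = 0 := by
    rw [Nat.cast_sum]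
    refine Finset.sum_involution (fun i _ => σ i) (fun i _ => ?_) (fun i hi hne h => ?_)
      (fun i hi => hs i hi) (fun i _ => hσ i)
    · rw [ha]; exact CharTwo.add_self_eq_zero _
    · exact hne ((ZMod.natCast_eq_zero_iff_even).mpr (Nat.not_odd_iff_even.mp (hh i hi h)))
  exact (Nat.not_odd_iff_even.mpr (ZMod.natCast_eq_zero_iff_even.mp h0)) hodd

variable {G : Type u} [Group G] [Fintype G]

theorem detChar_conj {χ : G → ℂ} (hχ : Cfsg.IsCharacter G χ) (hdet : ∀ g, Cfsg.detChar χ g = 1)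
    (g : G) : Cfsg.detChar (fun x => conj (χ x)) g = 1 := by
  have hc : Cfsg.IsCharacter G (fun x => conj (χ x)) := Basics.isCharacter_conj hχ
  haveI := Fintype.ofFinite (Subgroup.zpowers g)
  let m : Subgroup.zpowers g →* G :=
    { toFun := fun w => (w : G)⁻¹
      map_one' := by simp
      map_mul' := fun a b => by
        obtain ⟨i, hi⟩ := a.2
        obtain ⟨j, hj⟩ := b.2
        simp only at hi hj
        show ((a : G) * b)⁻¹ = _
        rw [mul_inv_rev, ← hi, ← hj]
        exact ((Commute.zpow_zpow_self g i j).inv_inv).eq.symm }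
  have h1 := congrFun (detChar_comp (Subgroup.zpowers g).subtype hc) ⟨g, Subgroup.mem_zpowers g⟩
  have h2 := congrFun (detChar_comp m hχ) ⟨g, Subgroup.mem_zpowers g⟩
  rw [show (fun x => conj (χ x)) ∘ (Subgroup.zpowers g).subtype = χ ∘ m from
    funext fun w => (char_inv hχ _).symm, h2] at h1
  refine h1.symm.trans ?_
  exact hdet _

variable (N : Subgroup G) [hN : N.Normal] (P : Subgroup G)

/-- A real linear character of `P` agreeing with `lam` on `P ⊓ N`. -/
theorem exists_real_extension (hP : IsPGroup 2 P) (htop : N ⊔ P = ⊤)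
    (hrel : Odd ((P ⊓ N).relIndex N)) (hab : Odd (Nat.card (Abelianization N)))
    (lam : P →* ℂˣ) (hsq : ∀ q : P, (q : G) ∈ N → lam q ^ 2 = 1) :
    ∃ μ : P →* ℂˣ, (∀ x, μ x ^ 2 = 1) ∧ ∀ q : P, (q : G) ∈ N → μ q = lam q := by
  classical
  haveI := Fintype.ofFinite N
  haveI := Fintype.ofFinite P
  haveI := Fintype.ofFinite (Cfsg.IrrCharacter N)
  haveI := Fintype.ofFinite (Cfsg.IrrCharacter P)
  set Q : Subgroup N := (P ⊓ N).subgroupOf N with hQ
  haveI := Fintype.ofFinite Q
  have hQP : ∀ q : Q, ((q : N) : G) ∈ P := fun q => (Subgroup.mem_subgroupOf.mp q.2).1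
  let toP : Q →* P :=
    { toFun := fun q => ⟨((q : N) : G), hQP q⟩
      map_one' := rfl
      map_mul' := fun _ _ => rfl }
  set lQ : Q →* ℂˣ := lam.comp toP with hlQ
  have hlQc : ∀ q : Q, conj (lQ q : ℂ) = (lQ q : ℂ) := by
    intro q
    have h : (lQ q : ℂ) ^ 2 = 1 := by
      rw [← Units.val_pow_eq_pow_val, show lQ q ^ 2 = 1 from hsq _ (q : N).2, Units.val_one]
    rcases sq_eq_one_iff.mp h with h | h <;> simp [h]
  set θ₀ : Q → ℂ := fun q => (lQ q : ℂ) with hθ₀
  have hθ₀c : Cfsg.IsCharacter Q θ₀ := isCharacter_linear lQ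
  set Φ := Cfsg.indFun Q θ₀ with hΦ
  have hΦc : Cfsg.IsCharacter N Φ := isCharacter_indFun Q hθ₀c
  choose n hn using fun θ : Cfsg.IrrCharacter N =>
    classInner_char_nat (isCharacter_restrict Q (irr_isCharacter θ)) hθ₀c
  set dg : Cfsg.IrrCharacter N → ℕ := fun θ => Cfsg.charDegree (θ : N → ℂ) with hdg
  have hnΦ : ∀ θ : Cfsg.IrrCharacter N, Cfsg.classInner Φ (θ : N → ℂ) = (n θ : ℂ) := fun θ => by
    rw [hΦ, frobenius_reciprocity Q θ₀ (irr_isClassFunction θ), classInner_conj_symm, hn,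
      Complex.conj_natCast]
  have htot : ∑ θ, n θ * dg θ = Q.index := by
    apply Nat.cast_injective (R := ℂ)
    have h := congrFun (classFun_eq_sum (char_isClassFunction hΦc)) 1
    simp only [Finset.sum_apply, Pi.smul_apply, smul_eq_mul, hnΦ] at h
    rw [Nat.cast_sum]
    simp only [Nat.cast_mul, hdg, Blocks.charDegree_cast]
    rw [← h, hΦ, indFun_one]
    simp [hθ₀]
  have hidx : Odd Q.index := hrel
  -- complex conjugation
  let cσ : Cfsg.IrrCharacter N → Cfsg.IrrCharacter N := fun θ =>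
    ⟨fun x => conj ((θ : N → ℂ) x), isIrrCharacter_conj θ.2⟩
  have hcσ : Function.Involutive cσ := fun θ => Subtype.ext (funext fun x => Complex.conj_conj _)
  have hnσ : ∀ θ, n (cσ θ) = n θ := by
    intro θ
    apply Nat.cast_injective (R := ℂ)
    rw [← hn, ← hn, classInner_def, classInner_def, eq_comm, ← Complex.conj_natCast (Nat.card Q)]
    have hr := congrArg conj (hn θ)
    rw [Complex.conj_natCast, ← hn θ, classInner_def, map_mul, map_inv₀, map_sum] at hr
    rw [Complex.conj_natCast] at hr ⊢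
    rw [← hr]
    congr 1
    refine Finset.sum_congr rfl fun q _ => ?_
    rw [map_mul, Complex.conj_conj, hθ₀]
    simp only
    rw [hlQc]
  have hdσ : ∀ θ, dg (cσ θ) = dg θ := fun θ => by
    simp [hdg, cσ, Cfsg.charDegree]
  have hR : Odd (Finset.univ.filter fun θ => cσ θ = θ ∧ Odd (n θ * dg θ)).card := by
    rw [← htot] at hidx
    by_contra hh
    rw [Nat.not_odd_iff_even] at hh
    have h1 : ((∑ θ, n θ * dg θ : ℕ) : ZMod 2) = 1 := ZMod.natCast_eq_one_iff_odd.mpr hidx
    rw [Nat.cast_sum,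
      ← Finset.sum_filter_add_sum_filter_not Finset.univ (fun θ => cσ θ = θ ∧ Odd (n θ * dg θ)),
      Finset.sum_congr rfl (g := fun _ => (1 : ZMod 2))
        (fun θ hθ => ZMod.natCast_eq_one_iff_odd.mpr (Finset.mem_filter.mp hθ).2.2),
      Finset.sum_const, nsmul_one, ZMod.natCast_eq_zero_iff_even.mpr hh, zero_add] at h1
    refine zero_ne_one (α := ZMod 2) (Eq.trans ?_ h1)
    symm
    refine Finset.sum_involution (fun θ _ => cσ θ) (fun θ _ => ?_) (fun θ hθ hne h => ?_)
      (fun θ hθ => ?_) (fun θ _ => hcσ θ)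
    · rw [hnσ, hdσ]; exact CharTwo.add_self_eq_zero _
    · refine hne (ZMod.natCast_eq_zero_iff_even.mpr (Nat.not_odd_iff_even.mp fun ho => ?_))
      exact (Finset.mem_filter.mp hθ).2 ⟨h, ho⟩
    · rw [Finset.mem_filter] at hθ ⊢
      refine ⟨Finset.mem_univ _, fun h => hθ.2 ⟨?_, ?_⟩⟩
      · exact (hcσ.injective h.1)
      · rw [← hnσ, ← hdσ]; exact h.2
  -- the action of `P`
  letI act : MulAction P (Cfsg.IrrCharacter N) :=
    { smul := fun x θ => ⟨Clifford.conjBy N ((x : G))⁻¹ (θ : N → ℂ),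
        Clifford.isIrrCharacter_conjBy N _ θ.2⟩
      one_smul := fun θ => Subtype.ext (by simp [HSMul.hSMul, SMul.smul, Clifford.conjBy_one])
      mul_smul := fun x y θ => Subtype.ext (funext fun m => by
        show (θ : N → ℂ) _ = (θ : N → ℂ) _
        exact congrArg (θ : N → ℂ) (Subtype.ext (by simp [mul_assoc]))) }
  have hsm : ∀ (x : P) (θ : Cfsg.IrrCharacter N) (m : N),
      ((x • θ : Cfsg.IrrCharacter N) : N → ℂ) m =
        Clifford.conjBy N ((x : G))⁻¹ (θ : N → ℂ) m := fun _ _ _ => rfl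
  have hnP : ∀ (x : P) θ, n (x • θ) = n θ := by
    intro x θ
    apply Nat.cast_injective (R := ℂ)
    rw [← hn, ← hn, classInner_def, classInner_def]
    congr 1
    have hxq : ∀ (w : P) (q : Q), (w : G) * ((q : N) : G) * (w : G)⁻¹ ∈ P ⊓ N := fun w q =>
      ⟨P.mul_mem (P.mul_mem w.2 (hQP q)) (P.inv_mem w.2), hN.conj_mem _ (q : N).2 _⟩
    let e : Q ≃ Q :=
      { toFun := fun q => ⟨⟨(x⁻¹ : P) * ((q : N) : G) * ((x⁻¹ : P) : G)⁻¹, (hxq x⁻¹ q).2⟩,
          Subgroup.mem_subgroupOf.mpr (hxq x⁻¹ q)⟩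
        invFun := fun q => ⟨⟨(x : P) * ((q : N) : G) * ((x : P) : G)⁻¹, (hxq x q).2⟩,
          Subgroup.mem_subgroupOf.mpr (hxq x q)⟩
        left_inv := fun q => by
          refine Subtype.ext (Subtype.ext ?_)
          simp [mul_assoc]
        right_inv := fun q => by
          refine Subtype.ext (Subtype.ext ?_)
          simp [mul_assoc] }
    refine Fintype.sum_equiv e _ _ fun q => ?_
    rw [hsm, Clifford.conjBy_apply]
    refine congrArg₂ (· * ·) (congrArg (θ : N → ℂ) (Subtype.ext ?_)) (congrArg conj ?_)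
    · show _ = ((x⁻¹ : P) : G) * ((q : N) : G) * ((x⁻¹ : P) : G)⁻¹
      simp
    · rw [hθ₀]
      show (lam (toP q) : ℂ) = (lam (toP (e q)) : ℂ)
      rw [show toP (e q) = x⁻¹ * toP q * x⁻¹⁻¹ from Subtype.ext (by simp [toP, e]), map_mul, map_mul,
        mul_comm (lam x⁻¹), mul_assoc, ← map_mul, mul_inv_cancel, map_one, mul_one]
  have hdP : ∀ (x : P) θ, dg (x • θ) = dg θ := fun x θ => by
    simp only [hdg, Cfsg.charDegree, hsm, Clifford.conjBy_at_one]
  have hcP : ∀ (x : P) θ, cσ (x • θ) = x • cσ θ := fun x θ => Subtype.ext (funext fun m => rfl)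
  obtain ⟨θ, hθR, hθfix⟩ : ∃ θ, (cσ θ = θ ∧ Odd (n θ * dg θ)) ∧ ∀ x : P, x • θ = θ := by
    let T := {θ : Cfsg.IrrCharacter N // cσ θ = θ ∧ Odd (n θ * dg θ)}
    letI : MulAction P T :=
      { smul := fun x θ => ⟨x • θ.1, by rw [hcP, θ.2.1], by rw [hnP, hdP]; exact θ.2.2⟩
        one_smul := fun θ => Subtype.ext (one_smul P θ.1)
        mul_smul := fun x y θ => Subtype.ext (mul_smul x y θ.1) }
    obtain ⟨θ, hθ⟩ := hP.nonempty_fixed_point_of_prime_not_dvd_card T (by
      rw [Nat.card_eq_fintype_card, Fintype.card_subtype]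
      exact fun h => (Nat.not_even_iff_odd.mpr hR) (even_iff_two_dvd.mpr h))
    exact ⟨θ.1, θ.2, fun x => congrArg Subtype.val (hθ x)⟩
  have hinv : ∀ g : G, Clifford.conjBy N g (θ : N → ℂ) = (θ : N → ℂ) := by
    intro g
    have hg : g ∈ N ⊔ P := htop ▸ Subgroup.mem_top g
    rw [Subgroup.mem_sup_of_normal_left] at hg
    obtain ⟨m, hm, y, hy, rfl⟩ := hg
    funext w
    have hy' := congrFun (congrArg Subtype.val (hθfix ⟨y, hy⟩⁻¹))
      ⟨y * (w : G) * y⁻¹, hN.conj_mem _ w.2 y⟩
    rw [hsm, Clifford.conjBy_apply] at hy'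
    have hy2 := congrFun (congrArg Subtype.val (hθfix (⟨y, hy⟩ : P)⁻¹)) w
    rw [hsm, Clifford.conjBy_apply] at hy2
    have hcl := irr_isClassFunction θ ⟨y * (w : G) * y⁻¹, hN.conj_mem _ w.2 y⟩ ⟨m, hm⟩
    rw [Clifford.conjBy_apply]
    refine Eq.trans ?_ (hcl.trans (Eq.trans ?_ hy2))
    · exact congrArg (θ : N → ℂ) (Subtype.ext (by simp [mul_assoc]))
    · exact congrArg (θ : N → ℂ) (Subtype.ext (by simp [mul_assoc]))
  -- the determinant
  have hθreal : ∀ x, conj ((θ : N → ℂ) x) = (θ : N → ℂ) x := fun x =>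
    congrFun (congrArg Subtype.val hθR.1) x
  have hθc := irr_isCharacter θ
  have hdet : ∀ m : N, Cfsg.detChar (θ : N → ℂ) m = 1 := by
    intro m
    obtain ⟨f, hf⟩ := exists_hom (detChar_isLinear hθc).1 (detChar_isLinear hθc).2
    have hsq' : f m ^ 2 = 1 := by
      haveI := Fintype.ofFinite (Subgroup.zpowers m)
      let inv' : Subgroup.zpowers m →* N :=
        { toFun := fun w => (w : N)⁻¹
          map_one' := by simp
          map_mul' := fun a b => by
            obtain ⟨i, hi⟩ := a.2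
            obtain ⟨j, hj⟩ := b.2
            simp only at hi hj
            show ((a : N) * b)⁻¹ = _
            rw [mul_inv_rev, ← hi, ← hj]
            exact ((Commute.zpow_zpow_self m i j).inv_inv).eq.symm }
      have h1 := congrFun (detChar_comp (Subgroup.zpowers m).subtype hθc) ⟨m, Subgroup.mem_zpowers m⟩
      have h2 := congrFun (detChar_comp inv' hθc) ⟨m, Subgroup.mem_zpowers m⟩
      rw [show (θ : N → ℂ) ∘ (Subgroup.zpowers m).subtype = (θ : N → ℂ) ∘ inv' from
        funext fun w => by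
          show (θ : N → ℂ) (w : N) = (θ : N → ℂ) (w : N)⁻¹
          rw [char_inv hθc, hθreal], h2] at h1
      have h3 : Cfsg.detChar (θ : N → ℂ) m⁻¹ = Cfsg.detChar (θ : N → ℂ) m := h1
      rw [← hf, ← hf, Units.val_inj, map_inv] at h3
      rw [pow_two]
      exact mul_eq_one_iff_eq_inv.mpr h3.symm
    have hord : f m ^ Nat.card (Abelianization N) = 1 := by
      have h4 : (Abelianization.of m) ^ Nat.card (Abelianization N) = 1 := pow_card_eq_one'
      have h5 := congrArg (Abelianization.lift f) h4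
      rw [map_pow, map_one, Abelianization.lift_apply_of] at h5
      exact h5
    have h1 : f m = 1 := orderOf_eq_one_iff.mp (Nat.eq_one_of_dvd_coprimes
      ((Nat.coprime_two_left).mpr hab) (orderOf_dvd_of_pow_eq_one hsq')
      (orderOf_dvd_of_pow_eq_one hord))
    rw [← hf, h1, Units.val_one]
  -- the extension
  have hodd2 := Nat.odd_mul.mp hθR.2
  obtain ⟨j, hj⟩ : ∃ j, N.index = 2 ^ j := by
    obtain ⟨j, hj⟩ := IsPGroup.iff_card.mp hP
    have hdvd : N.index ∣ Nat.card P := by
      rw [← Subgroup.relIndex_top_right, ← htop, sup_comm, Subgroup.relIndex_sup_right]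
      exact Subgroup.index_dvd_card _
    rw [hj] at hdvd
    obtain ⟨i, -, hi⟩ := (Nat.dvd_prime_pow Nat.prime_two).mp hdvd
    exact ⟨i, hi⟩
  have hcop : Nat.Coprime N.index (dg θ) := hj ▸ (Nat.coprime_two_left.mpr hodd2.2).pow_left j
  have hd : (θ : N → ℂ) 1 = ((dg θ : ℕ) : ℂ) := (Blocks.charDegree_cast θ).symm
  obtain ⟨η, hη, hηN⟩ := exists_extension_det N θ.2 hinv hd hcop 1 (fun m => by simp [hdet])
  obtain ⟨χ, ⟨hχ, hχN, hχdet⟩, hχu⟩ := existsUnique_extension_det N θ.2 hd hcop hη hηN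
    (μ := fun _ => 1) isCharacter_one rfl (fun m => (hdet m).symm)
  have hχc := isCharacter_of_isIrr hχ
  have hreal : ∀ g, conj (χ g) = χ g := by
    intro g
    have h := hχu (fun x => conj (χ x)) ⟨isIrrCharacter_conj hχ,
      fun m => (congrArg conj (hχN m)).trans (hθreal m),
      funext fun x => detChar_conj hχc (fun y => congrFun hχdet y) x⟩
    exact congrFun h g
  -- the linear constituents over `lam`
  set F : P → ℂ := fun x => χ x with hF
  have hFc : Cfsg.IsCharacter P F := isCharacter_restrict P hχc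
  choose b hb using fun η : Cfsg.IrrCharacter P => classInner_char_nat hFc (irr_isCharacter η)
  set c : Cfsg.IrrCharacter P → ℂ := fun η =>
    Cfsg.classInner (fun q : Q => (η : P → ℂ) (toP q)) θ₀ with hc
  choose cn hcn using fun η : Cfsg.IrrCharacter P => classInner_char_nat
    (isCharacter_comp toP (irr_isCharacter η)) hθ₀c
  have hsum : ∑ η, b η * cn η = n θ := by
    apply Nat.cast_injective (R := ℂ)
    rw [← hn θ, show (fun q : Q => (θ : N → ℂ) q) = fun q : Q => F (toP q) from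
      funext fun q => (hχN q).symm]
    rw [Nat.cast_sum]
    conv_rhs => rw [classFun_eq_sum (char_isClassFunction hFc)]
    rw [show (fun q : Q => (∑ η : Cfsg.IrrCharacter P, Cfsg.classInner F (η : P → ℂ) • (η : P → ℂ))
      (toP q)) = ∑ η : Cfsg.IrrCharacter P, Cfsg.classInner F (η : P → ℂ) •
        fun q : Q => (η : P → ℂ) (toP q) from funext fun q => by simp [Finset.sum_apply],
      classInner_sum_left]
    refine Finset.sum_congr rfl fun η _ => ?_
    rw [classInner_smul_left, hb, Nat.cast_mul]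
    exact congrArg _ (hcn η).symm
  let cP : Cfsg.IrrCharacter P → Cfsg.IrrCharacter P := fun η =>
    ⟨fun x => conj ((η : P → ℂ) x), isIrrCharacter_conj η.2⟩
  have hcP' : Function.Involutive cP := fun η => Subtype.ext (funext fun x => Complex.conj_conj _)
  have hbσ : ∀ η, b (cP η) = b η := by
    intro η
    apply Nat.cast_injective (R := ℂ)
    rw [← hb, ← Complex.conj_natCast (b η), ← hb, classInner_def, classInner_def, map_mul,
      map_inv₀, Complex.conj_natCast, map_sum]
    refine congrArg₂ (· * ·) rfl (Finset.sum_congr rfl fun x _ => ?_)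
    rw [map_mul, hF]
    simp only [cP, hreal]
  have hcσ' : ∀ η, cn (cP η) = cn η := by
    intro η
    apply Nat.cast_injective (R := ℂ)
    rw [← hcn, ← Complex.conj_natCast (cn η), ← hcn, classInner_def, classInner_def, map_mul,
      map_inv₀, Complex.conj_natCast, map_sum]
    refine congrArg₂ (· * ·) rfl (Finset.sum_congr rfl fun x _ => ?_)
    simp only [Function.comp_apply, map_mul, Complex.conj_conj, cP, hθ₀, hlQc]
  obtain ⟨η₁, -, hfix, hoddη⟩ := exists_fixed_odd cP hcP' (fun η => b η * cn η)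
    (fun η => by rw [hbσ, hcσ']) (s := Finset.univ) (fun _ _ => Finset.mem_univ _)
    (hsum ▸ hodd2.1)
  -- it is linear
  have hcodd := (Nat.odd_mul.mp hoddη).2
  set QP : Subgroup P := N.subgroupOf P with hQP'
  haveI := Fintype.ofFinite QP
  let eQ : QP ≃* Q :=
    { toFun := fun w => ⟨⟨((w : P) : G), Subgroup.mem_subgroupOf.mp w.2⟩,
        Subgroup.mem_subgroupOf.mpr ⟨(w : P).2, Subgroup.mem_subgroupOf.mp w.2⟩⟩
      invFun := fun q => ⟨toP q, Subgroup.mem_subgroupOf.mpr (q : N).2⟩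
      left_inv := fun w => rfl
      right_inv := fun q => rfl
      map_mul' := fun _ _ => rfl }
  set θ' : QP → ℂ := fun w => (lam (w : P) : ℂ) with hθ'
  have hθ'i : Cfsg.IsIrrCharacter QP θ' := isIrrCharacter_linear (lam.comp QP.subtype)
  have hcw : Cfsg.classInner (fun w : QP => (η₁ : P → ℂ) w) θ' = (cn η₁ : ℂ) := by
    rw [← hcn η₁, ← Basics.classInner_comp_equiv eQ]
    rfl
  have hc0 : cn η₁ ≠ 0 := fun h => by rw [h] at hcodd; exact (by decide : ¬ Odd 0) hcodd
  have hsmul := Clifford.restrict_eq_smul_of_invariant QP η₁.2 hθ'i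
    (by rw [hcw]; exact_mod_cast hc0) (fun g => funext fun w => by
      rw [Clifford.conjBy_apply, hθ']
      simp only [map_mul, map_inv]
      rw [mul_comm (lam g), mul_inv_cancel_right])
  rw [hcw] at hsmul
  obtain ⟨d, hd0, hd1⟩ := irr_one_pos η₁.2
  have hdc : d = cn η₁ := by
    have h := congrFun hsmul 1
    simp only [Pi.smul_apply, smul_eq_mul, hθ', OneMemClass.coe_one, map_one, Units.val_one,
      mul_one, hd1] at h
    exact_mod_cast h
  have hlin : (η₁ : P → ℂ) 1 = 1 := by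
    obtain ⟨i, hi⟩ := IsPGroup.iff_card.mp hP
    have hdvd : d ∣ 2 ^ i := by
      have h := Blocks.char_degree_dvd_card η₁
      rw [show Cfsg.charDegree (η₁ : P → ℂ) = d by simp [Cfsg.charDegree, hd1], hi] at h
      exact h
    obtain ⟨e, -, rfl⟩ := (Nat.dvd_prime_pow Nat.prime_two).mp hdvd
    rcases Nat.eq_zero_or_pos e with rfl | he
    · simpa using hd1
    · rw [← hdc] at hcodd
      exact absurd hcodd (Nat.not_odd_iff_even.mpr (Nat.even_pow.mpr ⟨even_two, he.ne'⟩))
  set μ := linearOfDegreeOne (irr_isCharacter η₁) hlin with hμ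
  have hμv : ∀ x, (μ x : ℂ) = (η₁ : P → ℂ) x := fun x => linearOfDegreeOne_apply _ _ x
  refine ⟨μ, fun x => Units.ext ?_, fun q hq => Units.ext ?_⟩
  · rw [Units.val_pow_eq_pow_val, Units.val_one, hμv, pow_two]
    have hx : conj ((η₁ : P → ℂ) x) = (η₁ : P → ℂ) x := congrFun (congrArg Subtype.val hfix) x
    conv_lhs => arg 2; rw [← hx]
    rw [← hμv, Complex.mul_conj, Complex.normSq_eq_norm_sq, linear_norm_eq_one]
    simp
  · have h := congrFun hsmul ⟨q, Subgroup.mem_subgroupOf.mpr hq⟩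
    simp only [Pi.smul_apply, smul_eq_mul, hθ'] at h
    rw [hμv, h, ← hdc]
    rw [hlin] at hd1
    rw [← hd1, one_mul]

end Cfsg.Agent.BlockCharsA.TateReal
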